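import Cfsg.Agent.Lib.Helper88.GammaOne
import Cfsg.Agent.Lib.Helper87.Lemma26

set_option autoImplicit false

namespace Cfsg.Agent.Lib.Helper88

open Cfsg Cfsg.FusionSystem Subgroup
open Cfsg.Agent.Lib.Helper85 (cj cj_apply mem_map_cj map_cj_map_cj map_cj_one card_map_cj)
open Cfsg.Agent.Lib.Helper87 (conjAut conjAut_coe conjAut_mem_autInducedBy autInducedBy_le_autGroup
  fc_fa_of_fullyNormalized isConj_refl)

variable {Ω : Type*} [Group Ω] {S : Subgroup Ω}

theorem mem_normalizer_of_conj_mem_finite {K : Subgroup Ω} [Finite K] {g : Ω}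
    (h : ∀ x ∈ K, g * x * g⁻¹ ∈ K) : g ∈ normalizer (K : Set Ω) := by
  have hle : K.map (cj g) ≤ K := by
    rintro _ ⟨x, hx, rfl⟩
    exact h x hx
  have heq : K.map (cj g) = K :=
    Subgroup.eq_of_le_of_card_ge hle (by rw [card_map_cj])
  rw [mem_normalizer_iff]
  intro x
  constructor
  · intro hx
    exact h x hx
  · intro hx
    rw [← heq, mem_map_cj] at hx
    have e : g⁻¹ * (g * x * g⁻¹) * g = x := by group
    rwa [e] at hx

theorem sylow_smul_eq_map_cj {X : Type*} [Group X] {p : ℕ} (x : X) (R : Sylow p X) :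
    ((x • R : Sylow p X) : Subgroup X) = (R : Subgroup X).map (cj x) := by
  rw [Sylow.coe_subgroup_smul]
  rfl

section

variable [Finite S] {p : ℕ} [Fact p.Prime] (F : FusionSystem S) (Q : Subgroup Ω)

local notation "𝔄" => FusionSystem.autGroup F Q
local notation "𝔑" => Subgroup.subgroupOf (Inn Q) (FusionSystem.autGroup F Q)

/-- The proper subgroup of `Aut_F(Q)` attached to an essential subgroup `Q`: it contains every
automorphism that transports the action of some element of `N_S(Q) \ Q` to the action of an element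
of `S`. -/
theorem exists_proper_aut_subgroup (hS : IsPGroup p S) (hF : F.IsSaturated p)
    (hQ : F.IsEssential p Q) :
    ∃ H : Subgroup (MulAut Q), H ≤ F.autGroup Q ∧ (∃ α ∈ F.autGroup Q, α ∉ H) ∧
      ∀ α ∈ F.autGroup Q, ∀ u ∈ normalizerIn S Q, u ∉ Q → ∀ s ∈ S,
        (∀ (x : Q) (hx : u * (x : Ω) * u⁻¹ ∈ Q),
          ((α ⟨u * x * u⁻¹, hx⟩ : Q) : Ω) = s * ((α x : Q) : Ω) * s⁻¹) → α ∈ H := by
  obtain ⟨hcen, hfn, hN, M, hdvd, hMtop, Pbar, hΓ⟩ := hQ
  have hQS : Q ≤ S := hfn.1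
  have hfinQ : Finite Q := Cfsg.Agent.Lib.Helper87.finite_of_le hQS
  obtain ⟨-, R, hR⟩ := (fc_fa_of_fullyNormalized hS F hF hfn).2
  have hπ : Function.Surjective (QuotientGroup.mk' 𝔑) := QuotientGroup.mk'_surjective 𝔑
  have hfinX : Finite (𝔄 ⧸ 𝔑) := Finite.of_surjective _ hπ
  set Rbar : Sylow p (𝔄 ⧸ 𝔑) := R.mapSurjective hπ with hRbar
  have hRbar_coe : (Rbar : Subgroup (𝔄 ⧸ 𝔑)) = (R : Subgroup 𝔄).map (QuotientGroup.mk' 𝔑) := rfl
  obtain ⟨x, hx⟩ := MulAction.exists_smul_eq (𝔄 ⧸ 𝔑) Rbar Pbar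
  have hPbar : (Pbar : Subgroup (𝔄 ⧸ 𝔑)) = (Rbar : Subgroup (𝔄 ⧸ 𝔑)).map (cj x) := by
    rw [← hx]
    exact sylow_smul_eq_map_cj x Rbar
  refine ⟨(M.comap ((cj x).comp (QuotientGroup.mk' 𝔑))).map (F.autGroup Q).subtype, Subgroup.map_subtype_le _,
    ?_, ?_⟩
  · -- properness
    obtain ⟨m, hm⟩ : ∃ m, m ∉ M := by
      by_contra hcon
      push Not at hcon
      exact hMtop (eq_top_iff.mpr fun m _ => hcon m)
    obtain ⟨a, ha⟩ := hπ (x⁻¹ * m * x)
    refine ⟨(a : MulAut Q), a.2, ?_⟩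
    rintro ⟨b, hb, hba⟩
    have hba' : b = a := Subtype.ext hba
    rw [hba'] at hb
    have hb' : (cj x) (QuotientGroup.mk' 𝔑 a) ∈ M := hb
    rw [ha, cj_apply] at hb'
    have e : x * (x⁻¹ * m * x) * x⁻¹ = m := by group
    rw [e] at hb'
    exact hm hb'
  · -- the key property
    intro α hα u hu huQ s hs hid
    have huN : u ∈ normalizer (Q : Set Ω) := hu.2
    have hsN : s ∈ normalizer (Q : Set Ω) := by
      apply mem_normalizer_of_conj_mem_finite
      intro y hy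
      obtain ⟨x0, hx0⟩ := α.surjective ⟨y, hy⟩
      have hmem : u * (x0 : Ω) * u⁻¹ ∈ Q := (mem_normalizer_iff.mp huN _).mp x0.2
      have h1 := hid x0 hmem
      rw [hx0] at h1
      rw [← h1]
      exact (α _).2
    set cu : MulAut Q := conjAut Q u huN with hcu
    set cs : MulAut Q := conjAut Q s hsN with hcs
    have hcuS : cu ∈ autInducedBy S Q := conjAut_mem_autInducedBy hu.1 huN
    have hcsS : cs ∈ autInducedBy S Q := conjAut_mem_autInducedBy hs hsN
    have hcuA : cu ∈ 𝔄 := autInducedBy_le_autGroup F hQS hcuS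
    have hcsA : cs ∈ 𝔄 := autInducedBy_le_autGroup F hQS hcsS
    have hrel : α * cu = cs * α := by
      ext x0
      show ((α (cu x0) : Q) : Ω) = ((cs (α x0) : Q) : Ω)
      rw [conjAut_coe]
      have hmem : u * (x0 : Ω) * u⁻¹ ∈ Q := (mem_normalizer_iff.mp huN _).mp x0.2
      have h1 := hid x0 hmem
      rw [← h1]
      rfl
    set a : 𝔄 := ⟨α, hα⟩ with ha
    set au : 𝔄 := ⟨cu, hcuA⟩ with hau
    set as : 𝔄 := ⟨cs, hcsA⟩ with has
    have hrelA : a * au = as * a := Subtype.ext hrel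
    set π := QuotientGroup.mk' 𝔑 with hπdef
    have hrelX : π a * π au * (π a)⁻¹ = π as := by
      rw [← map_mul, hrelA, map_mul, mul_inv_cancel_right]
    have hauR : au ∈ (R : Subgroup 𝔄) := by
      rw [hR]
      exact Subgroup.mem_subgroupOf.mpr hcuS
    have hasR : as ∈ (R : Subgroup 𝔄) := by
      rw [hR]
      exact Subgroup.mem_subgroupOf.mpr hcsS
    have huR : π au ∈ (Rbar : Subgroup (𝔄 ⧸ 𝔑)) := ⟨au, hauR, rfl⟩
    have hsR : π as ∈ (Rbar : Subgroup (𝔄 ⧸ 𝔑)) := ⟨as, hasR, rfl⟩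
    have hune : π au ≠ 1 := by
      intro h1
      have h2 : au ∈ 𝔑 := (QuotientGroup.eq_one_iff au).mp h1
      have h3 : cu ∈ Inn Q := Subgroup.mem_subgroupOf.mp h2
      obtain ⟨q, hq⟩ := h3
      apply huQ
      have hcent : (q : Ω)⁻¹ * u ∈ centralizerIn S Q := by
        refine ⟨S.mul_mem (S.inv_mem (hQS q.2)) hu.1, Subgroup.mem_centralizer_iff.mpr ?_⟩
        intro y hy
        have h4 : ((MulAut.conj q) ⟨y, hy⟩ : Q) = cu ⟨y, hy⟩ := by rw [hq]
        have h5 : (q : Ω) * y * (q : Ω)⁻¹ = u * y * u⁻¹ := by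
          have := congrArg Subtype.val h4
          rw [conjAut_coe] at this
          exact this
        have h6 : y = (q : Ω)⁻¹ * (u * y * u⁻¹) * q := by
          rw [← h5]; group
        calc y * ((q : Ω)⁻¹ * u) = (q : Ω)⁻¹ * (u * y * u⁻¹) * q * ((q : Ω)⁻¹ * u) := by rw [← h6]
          _ = (q : Ω)⁻¹ * u * y := by group
      have hmem := hcen.2 Q (isConj_refl F hQS) hcent
      have e : u = (q : Ω) * ((q : Ω)⁻¹ * u) := by group
      rw [e]
      exact Q.mul_mem q.2 hmem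
    -- apply the Alperin-type lemma
    set U := Subgroup.zpowers (π au) with hU
    have hUR : U ≤ (Rbar : Subgroup (𝔄 ⧸ 𝔑)) := (Subgroup.zpowers_le).mpr huR
    have hUne : U ≠ ⊥ := by
      intro h
      apply hune
      have : π au ∈ U := Subgroup.mem_zpowers _
      rw [h, Subgroup.mem_bot] at this
      exact this
    have hU'P : U.map (cj x) ≤ (Pbar : Subgroup (𝔄 ⧸ 𝔑)) := by
      rw [hPbar]
      exact Subgroup.map_mono hUR
    have hconj : (U.map (cj x)).map (cj ((cj x) (π a))) ≤ (Pbar : Subgroup (𝔄 ⧸ 𝔑)) := by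
      have e1 : (U.map (cj x)).map (cj ((cj x) (π a))) = (U.map (cj (π a))).map (cj x) := by
        rw [map_cj_map_cj, map_cj_map_cj]
        congr 2
        rw [cj_apply]
        group
      rw [e1, hPbar]
      apply Subgroup.map_mono
      rw [hU, MonoidHom.map_zpowers, cj_apply, hrelX]
      exact (Subgroup.zpowers_le).mpr hsR
    have hmem := mem_gamma_of_conj Pbar _ (U.map (cj x)) hU'P (map_cj_ne_bot hUne x) rfl
      ((cj x) (π a)) hconj
    exact ⟨a, hΓ hmem, rfl⟩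

end

/-- an essential subgroup is a proper subgroup of `S` -/
theorem essential_ne_top [Finite S] {p : ℕ} [Fact p.Prime] (hS : IsPGroup p S) (F : FusionSystem S)
    (hF : F.IsSaturated p) {Q : Subgroup Ω} (hQ : F.IsEssential p Q) : Q ≠ S := by
  intro hQS
  subst hQS
  obtain ⟨-, hfn, hN, M, hdvd, -, -, -⟩ := hQ
  obtain ⟨-, R, hR⟩ := (fc_fa_of_fullyNormalized hS F hF hfn).2
  have hle : (R : Subgroup (F.autGroup Q)) ≤ (Inn Q).subgroupOf (F.autGroup Q) := by
    rw [hR]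
    intro a ha
    exact Subgroup.mem_subgroupOf.mpr
      (Cfsg.Agent.Lib.Helper87.autInducedBy_top_le_inn (Subgroup.mem_subgroupOf.mp ha))
  have h1 : ((Inn Q).subgroupOf (F.autGroup Q)).index ∣ (R : Subgroup (F.autGroup Q)).index :=
    Subgroup.index_dvd_of_le hle
  rw [← Subgroup.index_eq_card] at hdvd
  exact R.not_dvd_index (hdvd.trans h1)

end Cfsg.Agent.Lib.Helper88
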