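import Cfsg.Prelude.Def_FusionSystem

set_option autoImplicit false

namespace Cfsg.Agent.Lib.Helper88

open Cfsg Cfsg.FusionSystem

variable {Ω : Type*} [Group Ω] {S : Subgroup Ω}

/-- the inclusion of `P` is a map of the system -/
theorem subtype_mem (F : FusionSystem S) {P : Subgroup Ω} (hP : P ≤ S) : P.subtype ∈ F.Hom P := by
  have h := F.conj_mem (g := 1) hP S.one_mem
  have : conjHom P (1 : Ω) = P.subtype := by
    ext x
    simp [conjHom]
  rwa [this] at h

/-- inverse of an automorphism lying in the system lies in the system -/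
theorem inv_aut_mem (F : FusionSystem S) {P : Subgroup Ω} (α : MulAut P)
    (hα : P.subtype.comp α.toMonoidHom ∈ F.Hom P) :
    P.subtype.comp (α⁻¹).toMonoidHom ∈ F.Hom P := by
  have hP : P ≤ S := (F.le_of_mem hα).1
  obtain ⟨ψ, hψ, hinv⟩ := F.inv_mem hα
  have hid := subtype_mem F hP
  have hval : ∀ x : P, P.subtype x ∈ (P.subtype.comp α.toMonoidHom).range := by
    intro x
    refine ⟨α⁻¹ x, ?_⟩
    simp
  have hcomp := F.comp_mem hid hψ hval
  have : ψ.comp (P.subtype.codRestrict _ hval) = P.subtype.comp (α⁻¹).toMonoidHom := by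
    ext x
    have h1 := hinv (α⁻¹ x)
    have h2 : (⟨(P.subtype.comp α.toMonoidHom) (α⁻¹ x), ⟨α⁻¹ x, rfl⟩⟩ :
        (P.subtype.comp α.toMonoidHom).range) = P.subtype.codRestrict _ hval x := by
      apply Subtype.ext
      show ((α (α⁻¹ x) : P) : Ω) = (x : Ω)
      rw [MulAut.apply_inv_self]
    rw [h2] at h1
    exact h1
  rwa [this] at hcomp

theorem mul_aut_mem (F : FusionSystem S) {P : Subgroup Ω} (α β : MulAut P)
    (hα : P.subtype.comp α.toMonoidHom ∈ F.Hom P) (hβ : P.subtype.comp β.toMonoidHom ∈ F.Hom P) :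
    P.subtype.comp (α * β).toMonoidHom ∈ F.Hom P := by
  have hval : ∀ x : P, (P.subtype.comp β.toMonoidHom) x ∈ P := fun x => (β x).2
  have hcomp := F.comp_mem hβ hα hval
  have : (P.subtype.comp α.toMonoidHom).comp ((P.subtype.comp β.toMonoidHom).codRestrict P hval) =
      P.subtype.comp (α * β).toMonoidHom := by
    ext x
    rfl
  rwa [this] at hcomp

/-- membership in `autGroup` without the closure, for `P ≤ S` -/
theorem mem_autGroup_iff (F : FusionSystem S) {P : Subgroup Ω} (hP : P ≤ S) (α : MulAut P) :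
    α ∈ F.autGroup P ↔ P.subtype.comp α.toMonoidHom ∈ F.Hom P := by
  constructor
  · intro h
    refine Subgroup.closure_induction (p := fun α _ => P.subtype.comp α.toMonoidHom ∈ F.Hom P)
      (fun x hx => hx) ?_ (fun x y _ _ hx hy => mul_aut_mem F x y hx hy)
      (fun x _ hx => inv_aut_mem F x hx) h
    exact subtype_mem F hP
  · intro h
    exact Subgroup.subset_closure h

/-- conjugacy in the system is symmetric -/
theorem isConj_symm (F : FusionSystem S) {P Q : Subgroup Ω} (h : F.IsConj P Q) : F.IsConj Q P := by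
  obtain ⟨φ, hφ, rfl⟩ := h
  obtain ⟨ψ, hψ, hinv⟩ := F.inv_mem hφ
  refine ⟨ψ, hψ, ?_⟩
  ext y
  constructor
  · rintro ⟨⟨_, x, rfl⟩, rfl⟩
    rw [hinv x]
    exact x.2
  · intro hy
    exact ⟨⟨φ ⟨y, hy⟩, ⟨⟨y, hy⟩, rfl⟩⟩, hinv ⟨y, hy⟩⟩

theorem isConj_le (F : FusionSystem S) {P Q : Subgroup Ω} (h : F.IsConj P Q) : P ≤ S ∧ Q ≤ S := by
  obtain ⟨φ, hφ, rfl⟩ := h
  refine ⟨(F.le_of_mem hφ).1, ?_⟩
  rintro _ ⟨x, rfl⟩
  exact (F.le_of_mem hφ).2 x

theorem isConj_card (F : FusionSystem S) {P Q : Subgroup Ω} (h : F.IsConj P Q) :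
    Nat.card P = Nat.card Q := by
  obtain ⟨φ, hφ, rfl⟩ := h
  exact Nat.card_congr (Equiv.ofInjective φ (F.injective_of_mem hφ))

end Cfsg.Agent.Lib.Helper88
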