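import Cfsg.Prelude.Def_LocalEven

set_option autoImplicit false

namespace Cfsg.Agent.Lib.Helper88

open Cfsg

universe u v w

/-- span formulation of `Involves` -/
def Spans (H : Type u) [Group H] (G : Type v) [Group G] : Prop :=
  ∃ (K : Type v) (_ : Group K) (i : K →* G) (f : K →* H), Function.Injective i ∧ Function.Surjective f

theorem spans_of_involves {H : Type u} [Group H] {G : Type v} [Group G] (h : Involves H G) :
    Spans H G := by
  obtain ⟨K, R, hn, ⟨e⟩⟩ := h
  exact ⟨K, inferInstance, K.subtype, e.toMonoidHom.comp (QuotientGroup.mk' (R.subgroupOf K)),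
    K.subtype_injective, e.surjective.comp (QuotientGroup.mk'_surjective _)⟩

theorem involves_of_spans {H : Type u} [Group H] {G : Type v} [Group G] (h : Spans H G) :
    Involves H G := by
  obtain ⟨K, _, i, f, hi, hf⟩ := h
  -- K' = range of i, R = image of the kernel
  let e0 : K ≃* i.range := MonoidHom.ofInjective hi
  let f' : i.range →* H := f.comp e0.symm.toMonoidHom
  have hf' : Function.Surjective f' := hf.comp e0.symm.surjective
  refine ⟨i.range, f'.ker.map i.range.subtype, ?_, ?_⟩
  · have : (f'.ker.map i.range.subtype).subgroupOf i.range = f'.ker := by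
      ext x
      rw [Subgroup.mem_subgroupOf]
      constructor
      · rintro ⟨y, hy, hyx⟩
        have : y = x := Subtype.ext hyx
        rwa [← this]
      · intro hx
        exact ⟨x, hx, rfl⟩
    rw [this]
    infer_instance
  · have heq : (f'.ker.map i.range.subtype).subgroupOf i.range = f'.ker := by
      ext x
      rw [Subgroup.mem_subgroupOf]
      constructor
      · rintro ⟨y, hy, hyx⟩
        have : y = x := Subtype.ext hyx
        rwa [← this]
      · intro hx
        exact ⟨x, hx, rfl⟩
    have : ((f'.ker.map i.range.subtype).subgroupOf i.range).Normal := by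
      rw [heq]; infer_instance
    exact ⟨(QuotientGroup.quotientMulEquivOfEq heq).trans
      (QuotientGroup.quotientKerEquivOfSurjective f' hf')⟩

/-- restriction of a span to a subgroup of the target -/
theorem Spans.of_subgroup {H : Type u} [Group H] {G : Type v} [Group G] (h : Spans H G)
    (Q : Subgroup H) : Spans Q G := by
  obtain ⟨K, _, i, f, hi, hf⟩ := h
  exact ⟨Q.comap f, inferInstance, i.comp (Q.comap f).subtype, f.subgroupComap Q,
    hi.comp (Subgroup.subtype_injective _), f.subgroupComap_surjective_of_surjective Q hf⟩

/-- a p-group spanned by a finite group is spanned by a Sylow p-subgroup source -/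
theorem Spans.exists_pgroup {H : Type u} [Group H] {G : Type v} [Group G] [Finite G] (p : ℕ)
    [Fact p.Prime] (hH : IsPGroup p H) (h : Spans H G) :
    ∃ (K : Type v) (_ : Group K) (i : K →* G) (f : K →* H),
      Function.Injective i ∧ Function.Surjective f ∧ IsPGroup p K := by
  obtain ⟨K, _, i, f, hi, hf⟩ := h
  have hKfin : Finite K := Finite.of_injective i hi
  obtain ⟨P⟩ := (inferInstance : Nonempty (Sylow p K))
  refine ⟨P, inferInstance, i.comp (P : Subgroup K).subtype, f.comp (P : Subgroup K).subtype,
    hi.comp (Subgroup.subtype_injective _), ?_, P.2⟩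
  -- surjectivity
  have hHfin : Finite H := Finite.of_surjective f hf
  have h1 : ((P : Subgroup K).map f).index ∣ (P : Subgroup K).index := Subgroup.index_map_dvd _ hf
  obtain ⟨n, hn⟩ := hH.index ((P : Subgroup K).map f)
  have h2 : ¬ p ∣ (P : Subgroup K).index := P.not_dvd_index
  have hn0 : n = 0 := by
    by_contra hne
    apply h2
    apply dvd_trans _ h1
    rw [hn]
    exact dvd_pow_self p hne
  rw [hn0, pow_zero] at hn
  have htop : (P : Subgroup K).map f = ⊤ := Subgroup.index_eq_one.mp hn
  intro y
  have hy : y ∈ (P : Subgroup K).map f := by rw [htop]; exact Subgroup.mem_top y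
  obtain ⟨x, hx, rfl⟩ := hy
  exact ⟨⟨x, hx⟩, rfl⟩

/-- a p-subgroup source can be moved into any Sylow p-subgroup given as the range of an injective map -/
theorem spans_of_sylow_range {H : Type u} [Group H] {L : Type v} [Group L] [Finite L] (p : ℕ)
    [Fact p.Prime] {N : Type w} [Group N] (ι : N →* L) (hι : Function.Injective ι)
    (T : Sylow p L) (hT : (T : Subgroup L) = ι.range)
    {K : Type v} [Group K] (i : K →* L) (f : K →* H) (hi : Function.Injective i)
    (hf : Function.Surjective f) (hK : IsPGroup p K) :
    ∃ (j : K →* N), Function.Injective j := by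
  have hKfin : Finite K := Finite.of_injective i hi
  have hpr : IsPGroup p i.range := hK.of_surjective i.rangeRestrict i.rangeRestrict_surjective
  obtain ⟨T', hT'⟩ := hpr.exists_le_sylow
  obtain ⟨g, hg⟩ := MulAction.exists_smul_eq L T' T
  -- g • T' = T : conjugating by g moves i.range into T
  have hmem : ∀ x : K, g * i x * g⁻¹ ∈ ι.range := by
    intro x
    rw [← hT, ← hg]
    have hx : i x ∈ (T' : Subgroup L) := hT' ⟨x, rfl⟩
    rw [Sylow.coe_subgroup_smul]
    have := Subgroup.smul_mem_pointwise_smul (i x) (MulAut.conj g) _ hx
    simpa using this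
  let e0 : N ≃* ι.range := MonoidHom.ofInjective hι
  let c : K →* ι.range :=
    { toFun := fun x => ⟨g * i x * g⁻¹, hmem x⟩
      map_one' := by
        apply Subtype.ext
        simp
      map_mul' := by
        intro x y
        apply Subtype.ext
        simp [mul_assoc] }
  refine ⟨e0.symm.toMonoidHom.comp c, ?_⟩
  apply e0.symm.injective.comp
  intro x y hxy
  have h1 : g * i x * g⁻¹ = g * i y * g⁻¹ := congrArg (fun z : ι.range => (z : L)) hxy
  exact hi (mul_left_cancel (mul_right_cancel h1))

end Cfsg.Agent.Lib.Helper88
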