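import Cfsg.Agent.Lib.Helper88.Centric

set_option autoImplicit false

namespace Cfsg.Agent.Lib.Helper88

open Cfsg Cfsg.FusionSystem Cfsg.Agent.Lib.Helper87

variable {Ω : Type*} [Group Ω] {S : Subgroup Ω}

/-- a map of a system sends the normalizer of a subgroup of its source into the normalizer of the image -/
theorem map_mem_normalizer {Q R : Subgroup Ω} (hQR : Q ≤ R) (hnorm : R ≤ Subgroup.normalizer (Q : Set Ω))
    (ψ : R →* Ω) (g : R) :
    ψ g ∈ Subgroup.normalizer ((ψ.comp (Subgroup.inclusion hQR)).range : Set Ω) := by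
  have key : ∀ (g : R) (v : Ω), v ∈ (ψ.comp (Subgroup.inclusion hQR)).range →
      ψ g * v * (ψ g)⁻¹ ∈ (ψ.comp (Subgroup.inclusion hQR)).range := by
    rintro g _ ⟨x, rfl⟩
    have hx : ((g * Subgroup.inclusion hQR x * g⁻¹ : R) : Ω) ∈ Q :=
      (Subgroup.mem_normalizer_iff.mp (hnorm g.2) _).mp x.2
    refine ⟨⟨_, hx⟩, ?_⟩
    show ψ (Subgroup.inclusion hQR ⟨_, hx⟩) = _
    have : Subgroup.inclusion hQR ⟨_, hx⟩ = g * Subgroup.inclusion hQR x * g⁻¹ := Subtype.ext rfl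
    rw [this, map_mul, map_mul, map_inv]
    rfl
  rw [Subgroup.mem_normalizer_iff]
  intro v
  constructor
  · exact key g v
  · intro hv
    have := key g⁻¹ _ hv
    rw [map_inv] at this
    have e : (ψ g)⁻¹ * (ψ g * v * (ψ g)⁻¹) * (ψ g)⁻¹⁻¹ = v := by group
    rwa [e] at this

variable [Finite S] {p : ℕ} [Fact p.Prime]

/-- (normal case) a map of `F` defined on `R` whose restriction to a normal `F`-centric subgroup lies in the
saturated subsystem `F'` lies in `F'`. -/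
theorem mem_of_restrict_mem_normal (hS : IsPGroup p S) (F F' : FusionSystem S) (hF : F.IsSaturated p)
    (hF' : F'.IsSaturated p) (hle : F' ≤ F) {Q R : Subgroup Ω} (hQR : Q ≤ R)
    (hnorm : R ≤ Subgroup.normalizer (Q : Set Ω)) (hQc : F.IsCentric Q) {ψ : R →* Ω}
    (hψ : ψ ∈ F.Hom R) (hψ₀ : ψ.comp (Subgroup.inclusion hQR) ∈ F'.Hom Q) : ψ ∈ F'.Hom R := by
  have hRS : R ≤ S := hom_le F hψ
  have hQS : Q ≤ S := hQR.trans hRS
  set ψ₀ := ψ.comp (Subgroup.inclusion hQR) with hψ₀def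
  have hQ'S : ψ₀.range ≤ S := range_le F' hψ₀
  obtain ⟨Q'', ⟨χ, hχ, hχr⟩, hfa, hrec⟩ := hF' ψ₀.range hQ'S
  obtain ⟨β, hβ, χt, hχt, hχtx⟩ := exists_extension_normalizer hS F' hχ hχr hfa hrec
  -- ψ maps R into N_S(Q')
  have hval : ∀ g : R, ψ g ∈ normalizerIn S ψ₀.range :=
    fun g => ⟨hom_mem_S F hψ g, map_mem_normalizer hQR hnorm ψ g⟩
  have hθ : χt.comp (ψ.codRestrict _ hval) ∈ F.Hom R := F.comp_mem hψ (hle _ hχt) hval
  set θ := χt.comp (ψ.codRestrict _ hval) with hθdef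
  have hval₀ : ∀ x : Q, ψ₀ x ∈ normalizerIn S ψ₀.range := fun x => hval (Subgroup.inclusion hQR x)
  have hμ : χt.comp (ψ₀.codRestrict _ hval₀) ∈ F'.Hom Q := F'.comp_mem hψ₀ hχt hval₀
  set μ := χt.comp (ψ₀.codRestrict _ hval₀) with hμdef
  have hμθ : ∀ x : Q, μ x = θ (Subgroup.inclusion hQR x) := fun x => rfl
  have hχQ : ∀ v : ψ₀.range, χ v ∈ Q'' := fun v => hχr ▸ ⟨v, rfl⟩
  have hμβ : ∀ x : Q, μ x = ((β ⟨χ ⟨ψ₀ x, ⟨x, rfl⟩⟩, hχQ _⟩ : Q'') : Ω) := by
    intro x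
    exact hχtx ⟨ψ₀ x, ⟨x, rfl⟩⟩ (hval₀ x) (hχQ _)
  have hμr : μ.range = Q'' := by
    apply le_antisymm
    · rintro _ ⟨x, rfl⟩
      rw [hμβ]
      exact (β _).2
    · intro q hq
      have h1 : ((β.symm ⟨q, hq⟩ : Q'') : Ω) ∈ χ.range := by rw [hχr]; exact (β.symm ⟨q, hq⟩).2
      obtain ⟨⟨_, x, rfl⟩, hv⟩ := h1
      refine ⟨x, ?_⟩
      rw [hμβ]
      have : (⟨χ ⟨ψ₀ x, ⟨x, rfl⟩⟩, hχQ _⟩ : Q'') = β.symm ⟨q, hq⟩ := Subtype.ext hv
      rw [this]
      simp
  -- R is contained in the extender of μ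
  have hRext : R ≤ extender S Q μ := by
    intro g hg
    apply Subgroup.subset_closure
    refine ⟨hRS hg, hnorm hg, θ ⟨g, hg⟩, hom_mem_S F hθ _, ?_⟩
    intro x hx
    rw [hμθ, hμθ]
    have : Subgroup.inclusion hQR ⟨g * (x : Ω) * g⁻¹, hx⟩ =
        (⟨g, hg⟩ : R) * Subgroup.inclusion hQR x * (⟨g, hg⟩ : R)⁻¹ := Subtype.ext rfl
    rw [this, map_mul, map_mul, map_inv]
  obtain ⟨μt, hμt, hμtx⟩ := hrec.2 Q μ hμ hμr
  have hθ' : μt.comp (Subgroup.inclusion hRext) ∈ F'.Hom R := restrict_mem F' hμt hRext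
  set θ' := μt.comp (Subgroup.inclusion hRext) with hθ'def
  have hagree : ∀ x : R, (x : Ω) ∈ Q → θ' x = θ x := by
    intro x hx
    have h1 : θ' x = μ ⟨x, hx⟩ := hμtx x hx (hRext x.2)
    rw [h1, hμθ]
    congr 1
  obtain ⟨z, hzQ, hz⟩ := eq_comp_conj_of_centric hS F hF hQR hnorm hQc (hle _ hθ') hθ hagree
  -- θ lies in F'
  have hθF' : θ ∈ F'.Hom R := by
    have hzR : ∀ g : R, conjHom R z g ∈ R := fun g =>
      R.mul_mem (R.mul_mem (hQR hzQ) g.2) (R.inv_mem (hQR hzQ))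
    have hc := F'.comp_mem (F'.conj_mem hRS (hQS hzQ)) hθ' hzR
    have : θ'.comp ((conjHom R z).codRestrict R hzR) = θ := by
      ext g
      exact (hz g (hzR g)).symm
    rwa [this] at hc
  -- ψ = χt⁻¹ ∘ θ
  obtain ⟨ρ, hρ, hρinv⟩ := F'.inv_mem hχt
  have hvalθ : ∀ g : R, θ g ∈ χt.range := fun g => ⟨_, rfl⟩
  have hc := F'.comp_mem hθF' hρ hvalθ
  have : ρ.comp (θ.codRestrict χt.range hvalθ) = ψ := by
    ext g
    exact hρinv (ψ.codRestrict _ hval g)
  rwa [this] at hc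

/-- a map of `F` defined on `R` whose restriction to an `F`-centric subgroup lies in the saturated
subsystem `F'` lies in `F'`. -/
theorem mem_of_restrict_mem (hS : IsPGroup p S) (F F' : FusionSystem S) (hF : F.IsSaturated p)
    (hF' : F'.IsSaturated p) (hle : F' ≤ F) :
    ∀ (n : ℕ) {Q R : Subgroup Ω} (hQR : Q ≤ R), Nat.card R - Nat.card Q = n → F.IsCentric Q →
      ∀ {ψ : R →* Ω}, ψ ∈ F.Hom R → ψ.comp (Subgroup.inclusion hQR) ∈ F'.Hom Q → ψ ∈ F'.Hom R := by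
  intro n
  induction n using Nat.strong_induction_on with
  | _ n ih =>
    intro Q R hQR hn hQc ψ hψ hψ₀
    have hRS : R ≤ S := hom_le F hψ
    by_cases hne : Q = R
    · subst hne
      have : ψ.comp (Subgroup.inclusion hQR) = ψ := by
        ext x
        rfl
      rwa [this] at hψ₀
    · have hRfin : Finite R := Finite.of_injective _ (Subgroup.inclusion_injective hRS)
      have hRp : IsPGroup p R := hS.to_le hRS
      have hlt := card_lt_card_normalizerIn hRp hQR hne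
      set N := normalizerIn R Q with hN
      have hQN : Q ≤ N := le_inf hQR Subgroup.le_normalizer
      have hNR : N ≤ R := inf_le_left
      have hNnorm : N ≤ Subgroup.normalizer (Q : Set Ω) := inf_le_right
      have h1 : ψ.comp (Subgroup.inclusion hNR) ∈ F.Hom N := restrict_mem F hψ hNR
      have h2 : (ψ.comp (Subgroup.inclusion hNR)).comp (Subgroup.inclusion hQN) ∈ F'.Hom Q := by
        have : (ψ.comp (Subgroup.inclusion hNR)).comp (Subgroup.inclusion hQN) =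
            ψ.comp (Subgroup.inclusion hQR) := by
          ext x
          rfl
        rwa [this]
      have h3 := mem_of_restrict_mem_normal hS F F' hF hF' hle hQN hNnorm hQc h1 h2
      have hNc : F.IsCentric N := isCentric_of_le F hQc hQN (hNR.trans hRS)
      have hcard : Nat.card N ≤ Nat.card R := Subgroup.card_le_of_le hNR
      exact ih (Nat.card R - Nat.card N) (by omega) hNR rfl hNc hψ h3

end Cfsg.Agent.Lib.Helper88
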