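import Cfsg.Agent.Lib.Helper22.CgDefs
import Cfsg.Agent.Lib.Helper67.UnionConj

/-! # Cg hive (S4257, helper22) : leaf CG4 (helper88).
A finite group is not the union of the conjugates of a proper subgroup
(from `Helper67.eq_top_of_forall_exists_conj_mem`). -/

set_option autoImplicit false

namespace Cfsg.Agent.Lib.Helper22.Cg

universe u

/-- CG4. A finite group is not the union of the conjugates of a proper subgroup. -/
theorem cg4 {G : Type u} [Group G] [Finite G] (D : Subgroup G)
    (h : ∀ g : G, ∃ k : G, k * g * k⁻¹ ∈ D) : D = ⊤ := by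
  apply Cfsg.Agent.Lib.Helper67.eq_top_of_forall_exists_conj_mem D
  intro y
  obtain ⟨k, hk⟩ := h y
  exact ⟨k⁻¹, by simpa using hk⟩

end Cfsg.Agent.Lib.Helper22.Cg
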