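import Cfsg.Agent.Lib.Helper41.PsDefs
import Cfsg.Agent.Lib.Helper88.CgCG4

/-! # Ps hive (S4321, helper41) : leaf PS15 (helper88).
Relative CG4: a subgroup `C` is not the union of the `C`-conjugates of a proper subgroup. -/

set_option autoImplicit false

namespace Cfsg.Agent.Lib.Helper41.Ps

open Subgroup
open Cfsg.Agent.Lib.Helper22.Cg

universe u

/-- PS15. relative CG4: a subgroup `C` is not the union of `C`-conjugates of a proper subgroup. -/
theorem ps_cg4rel {G : Type u} [Group G] [Finite G] (C L : Subgroup G) (hLC : L ≤ C)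
    (h : ∀ g ∈ C, ∃ k ∈ C, k * g * k⁻¹ ∈ L) : C ≤ L := by
  have htop : L.subgroupOf C = ⊤ := by
    apply cg4 (G := C) (L.subgroupOf C)
    intro g
    obtain ⟨k, hkC, hk⟩ := h g.1 g.2
    refine ⟨⟨k, hkC⟩, ?_⟩
    rw [Subgroup.mem_subgroupOf]
    simpa using hk
  exact Subgroup.subgroupOf_eq_top.mp htop

end Cfsg.Agent.Lib.Helper41.Ps
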