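import Mathlib

/-!
# Rt hive (helper12), leaf RT-KLEIN: a Klein four-group of automorphisms of a group of odd order whose
three involutions have the same fixed-point subgroup `A` fixes everything.
-/

set_option autoImplicit false

namespace Cfsg.Agent.Lib.Helper12.Rt

section

variable {N : Type*} [Group N]

/-- in a group of order `2 m + 1`, `x ^ (2 * (m + 1)) = x` -/
theorem klein_pow_eq {m : ℕ} (hm : Nat.card N = 2 * m + 1) (x : N) : x ^ (2 * (m + 1)) = x := by
  have h1 : x ^ (2 * m + 1) = 1 := by rw [← hm]; exact pow_card_eq_one'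
  rw [show 2 * (m + 1) = (2 * m + 1) + 1 by ring, pow_succ, h1, one_mul]

theorem klein_sq_eq_one {m : ℕ} (hm : Nat.card N = 2 * m + 1) {x : N} (hx : x * x = 1) : x = 1 := by
  have h1 := klein_pow_eq hm x
  rw [pow_mul, pow_two, hx, one_pow] at h1
  exact h1.symm

/-- an element inverted by conjugation in a group of odd order is trivial -/
theorem klein_inverted {m : ℕ} (hm : Nat.card N = 2 * m + 1) {x i : N} (h : i⁻¹ * x * i = x⁻¹) :
    x = 1 := by
  have h2 : Commute (i * i) x := by
    have h3 : (i * i)⁻¹ * x * (i * i) = x := by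
      have : (i * i)⁻¹ * x * (i * i) = i⁻¹ * (i⁻¹ * x * i) * i := by group
      rw [this, h]
      have : i⁻¹ * x⁻¹ * i = (i⁻¹ * x * i)⁻¹ := by group
      rw [this, h, inv_inv]
    show i * i * x = x * (i * i)
    calc i * i * x = i * i * ((i * i)⁻¹ * x * (i * i)) := by rw [h3]
      _ = x * (i * i) := by group
  have h4 : Commute i x := by
    have h5 := h2.pow_left (m + 1)
    rwa [← pow_two, ← pow_mul, klein_pow_eq hm] at h5
  have h6 : x = x⁻¹ := by
    rw [← h, mul_assoc, h4.eq.symm, ← mul_assoc, inv_mul_cancel, one_mul]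
  apply klein_sq_eq_one hm
  calc x * x = x * x⁻¹ := by rw [← h6]
    _ = 1 := mul_inv_cancel x

/-- decomposition `k = c * i` with `u c = c`, `u i = i⁻¹` for an involutory automorphism `u` -/
theorem klein_dec {m : ℕ} (hm : Nat.card N = 2 * m + 1) (u : MulAut N) (hu : u * u = 1) (k : N) :
    ∃ c i : N, k = c * i ∧ u c = c ∧ u i = i⁻¹ := by
  have huu : ∀ y : N, u (u y) = y := by
    intro y
    have := congrArg (fun f : MulAut N => f y) hu
    simpa using this
  set x : N := k⁻¹ * u k with hx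
  have hux : u x = x⁻¹ := by
    rw [hx, map_mul, map_inv, huu, mul_inv_rev, inv_inv]
  set s : N := x ^ (m + 1) with hs
  have hss : s * s = x := by
    rw [hs, ← pow_add, show m + 1 + (m + 1) = 2 * (m + 1) by ring, klein_pow_eq hm]
  have hus : u s = s⁻¹ := by
    rw [hs, map_pow, hux, inv_pow]
  have huk : u k = k * (s * s) := by
    rw [hss, hx, mul_inv_cancel_left]
  refine ⟨k * s, s⁻¹, ?_, ?_, ?_⟩
  · rw [mul_inv_cancel_right]
  · rw [map_mul, hus, huk]
    group
  · rw [map_inv, hus]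

end

/-- RT-KLEIN. -/
theorem klein_fixed_eq_top {N : Type*} [Group N] [Finite N] (hodd : Odd (Nat.card N))
    (t u : MulAut N) (ht : t * t = 1) (hu : u * u = 1) (htu : t * u = u * t) (A : Subgroup N)
    (hAt : ∀ k : N, t k = k ↔ k ∈ A) (hAu : ∀ k : N, u k = k ↔ k ∈ A) (hAtu : ∀ k : N, t (u k) = k ↔ k ∈ A) :
    A = ⊤ := by
  obtain ⟨m, hm⟩ := hodd
  have hcomm : ∀ y : N, t (u y) = u (t y) := by
    intro y
    have := congrArg (fun f : MulAut N => f y) htu
    simpa using this
  -- Claim 1: an element inverted by `t` is trivial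
  have claim1 : ∀ k : N, t k = k⁻¹ → k = 1 := by
    intro k hk
    obtain ⟨c, i, rfl, hc, hi⟩ := klein_dec hm u hu k
    have hcA : c ∈ A := (hAu c).mp hc
    have htc : t c = c := (hAt c).mpr hcA
    have hti : t i = c⁻¹ * i⁻¹ * c⁻¹ := by
      rw [map_mul, htc, mul_inv_rev] at hk
      calc t i = c⁻¹ * (c * t i) := by group
        _ = c⁻¹ * (i⁻¹ * c⁻¹) := by rw [hk]
        _ = c⁻¹ * i⁻¹ * c⁻¹ := by group
    have h1 : t (u i) = c * i * c := by
      rw [hi, map_inv, hti]
      group
    have h2 : u (t i) = c⁻¹ * i * c⁻¹ := by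
      rw [hti, map_mul, map_mul, map_inv, map_inv, hc, hi, inv_inv]
    have h3 : c * i * c = c⁻¹ * i * c⁻¹ := by rw [← h1, ← h2, hcomm]
    have h4 : i⁻¹ * (c * c) * i = (c * c)⁻¹ := by
      calc i⁻¹ * (c * c) * i = i⁻¹ * c * (c * i * c) * c⁻¹ := by group
        _ = i⁻¹ * c * (c⁻¹ * i * c⁻¹) * c⁻¹ := by rw [h3]
        _ = (c * c)⁻¹ := by group
    have hcc : c * c = 1 := klein_inverted hm h4
    have hc1 : c = 1 := klein_sq_eq_one hm hcc
    subst hc1
    rw [one_mul] at hk ⊢
    have h5 : t (u i) = i := by rw [hi, map_inv, hk, inv_inv]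
    have hiA : i ∈ A := (hAtu i).mp h5
    have h6 : t i = i := (hAt i).mpr hiA
    have h7 : i * i = 1 := by
      have : i = i⁻¹ := by rw [← hk, h6]
      calc i * i = i * i⁻¹ := by rw [← this]
        _ = 1 := mul_inv_cancel i
    exact klein_sq_eq_one hm h7
  rw [Subgroup.eq_top_iff']
  intro k
  obtain ⟨c, i, rfl, hc, hi⟩ := klein_dec hm t ht k
  have hi1 : i = 1 := claim1 i hi
  rw [hi1, mul_one]
  exact (hAt c).mp hc

end Cfsg.Agent.Lib.Helper12.Rt
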