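import Cfsg.Agent.Lib.Helper15.HsBasic

/-!
# Hs hive (S2536), leaf HS-CYC: a Hall `π`-subgroup of `Perm α` contains a `p`-cycle for every prime
`p ∈ π` with `p ≤ |α|`.
-/

set_option autoImplicit false

namespace Cfsg.Agent.Lib.Helper15.Hs

open Cfsg
open scoped Pointwise

section leaves

variable {α : Type*} [Fintype α] [DecidableEq α] (π : Set ℕ) (H : Subgroup (Equiv.Perm α))

/-- There is a cycle of every length `2 ≤ p ≤ |α|`. -/
theorem cyc_exists_cycle (p : ℕ) (h2 : 2 ≤ p) (hle : p ≤ Nat.card α) :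
    ∃ c : Equiv.Perm α, c.IsCycle ∧ c.support.card = p := by
  classical
  rw [Nat.card_eq_fintype_card, ← Finset.card_univ] at hle
  obtain ⟨s, -, hs⟩ := Finset.exists_subset_card_eq hle
  have hnd : s.toList.Nodup := s.nodup_toList
  have hlen : s.toList.length = p := by rw [Finset.length_toList, hs]
  refine ⟨s.toList.formPerm, ?_, ?_⟩
  · apply List.isCycle_formPerm hnd
    omega
  · have hne : ∀ x : α, s.toList ≠ [x] := by
      intro x hx
      have := congrArg List.length hx
      simp only [List.length_singleton] at this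
      omega
    rw [List.support_formPerm_of_nodup _ hnd hne, Finset.toList_toFinset, hs]

theorem exists_cycle_mem (hH : IsPiHall π H) (p : ℕ) (hp : p.Prime) (hpπ : p ∈ π)
    (hle : p ≤ Nat.card α) : ∃ g ∈ H, g.IsCycle ∧ g.support.card = p := by
  classical
  have : Fact p.Prime := ⟨hp⟩
  obtain ⟨c, hc, hcard⟩ := cyc_exists_cycle (α := α) p hp.two_le hle
  -- `⟨c⟩` is a `p`-group
  have hord : orderOf c = p := by rw [hc.orderOf, hcard]
  have hzp : IsPGroup p (Subgroup.zpowers c) := by
    apply IsPGroup.of_card (n := 1)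
    rw [Nat.card_zpowers, hord, pow_one]
  obtain ⟨Q, hQ⟩ := hzp.exists_le_sylow
  -- a Sylow `p`-subgroup of `H`, mapped into `Perm α`, is a Sylow `p`-subgroup of `Perm α`
  obtain ⟨P₀⟩ : Nonempty (Sylow p H) := inferInstance
  have hcardP : Nat.card ((P₀ : Subgroup H).map H.subtype) =
      p ^ (Nat.card (Equiv.Perm α)).factorization p := by
    rw [Subgroup.card_map_of_injective H.subtype_injective,
      P₀.card_eq_multiplicity, hall_factorization_eq hH hp hpπ]
  set P : Sylow p (Equiv.Perm α) := Sylow.ofCard _ hcardP with hP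
  have hPH : (P : Subgroup (Equiv.Perm α)) ≤ H := by
    rw [hP, Sylow.coe_ofCard]
    exact Subgroup.map_subtype_le _
  obtain ⟨g, hg⟩ := MulAction.exists_smul_eq (Equiv.Perm α) Q P
  refine ⟨g * c * g⁻¹, hPH ?_, hc.conj, ?_⟩
  · have h1 : (MulAut.conj g) • c ∈ (MulAut.conj g) • (Q : Subgroup (Equiv.Perm α)) :=
      Subgroup.smul_mem_pointwise_smul _ _ _ (hQ (Subgroup.mem_zpowers c))
    rw [← Sylow.pointwise_smul_def, ← Sylow.smul_def, hg] at h1
    simpa [MulAut.smul_def] using h1
  · rw [Equiv.Perm.card_support_conj, hcard]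

end leaves

end Cfsg.Agent.Lib.Helper15.Hs
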