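import Cfsg.Agent.Lib.Helper16.GagDefs

/-!
# Gag hive (S4561), leaf GAG-Q1: the centre of `T ⧸ M` and the partner property of `T ⧸ M`.
-/

set_option autoImplicit false
universe u v

namespace Cfsg.Agent.Lib.Helper16.Gag
open scoped IsMulCommutative

/-- Q1a -/
theorem quot_center {T : Type u} [Group T] (M Zh : Subgroup T) [M.Normal] (hle : M ≤ Zh)
    (hcomm : ∀ z ∈ Zh, ∀ g : T, g * z * g⁻¹ * z⁻¹ ∈ M)
    (hpart : ∀ h : T, h ∉ Zh → ∃ k : T, h * k * h⁻¹ * k⁻¹ ∈ Zh ∧ h * k * h⁻¹ * k⁻¹ ∉ M) :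
    Subgroup.center (T ⧸ M) = Zh.map (QuotientGroup.mk' M) := by
  apply le_antisymm
  · intro x hx
    obtain ⟨h, rfl⟩ := QuotientGroup.mk_surjective x
    refine ⟨h, ?_, rfl⟩
    by_contra hh
    obtain ⟨k, -, hk⟩ := hpart h hh
    apply hk
    rw [← QuotientGroup.eq_one_iff]
    rw [Subgroup.mem_center_iff] at hx
    have h1 := hx (k : T ⧸ M)
    simp only [QuotientGroup.mk_mul, QuotientGroup.mk_inv]
    calc (h : T ⧸ M) * (k : T ⧸ M) * (h : T ⧸ M)⁻¹ * (k : T ⧸ M)⁻¹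
        = (k : T ⧸ M) * (h : T ⧸ M) * (h : T ⧸ M)⁻¹ * (k : T ⧸ M)⁻¹ := by rw [h1]
      _ = 1 := by group
  · rintro _ ⟨z, hz, rfl⟩
    rw [Subgroup.mem_center_iff]
    intro x
    obtain ⟨g, rfl⟩ := QuotientGroup.mk_surjective x
    have h1 := hcomm z hz g
    rw [← QuotientGroup.eq_one_iff] at h1
    simp only [QuotientGroup.mk_mul, QuotientGroup.mk_inv] at h1
    simp only [QuotientGroup.mk'_apply]
    calc (g : T ⧸ M) * (z : T ⧸ M)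
        = ((g : T ⧸ M) * (z : T ⧸ M) * (g : T ⧸ M)⁻¹ * (z : T ⧸ M)⁻¹) * ((z : T ⧸ M) * (g : T ⧸ M)) := by
          group
      _ = (z : T ⧸ M) * (g : T ⧸ M) := by rw [h1, one_mul]

/-- Q1b -/
theorem quot_partner {T : Type u} [Group T] (M Zh : Subgroup T) [M.Normal] (hle : M ≤ Zh)
    (hcomm : ∀ z ∈ Zh, ∀ g : T, g * z * g⁻¹ * z⁻¹ ∈ M)
    (hpart : ∀ h : T, h ∉ Zh → ∃ k : T, h * k * h⁻¹ * k⁻¹ ∈ Zh ∧ h * k * h⁻¹ * k⁻¹ ∉ M) :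
    ∀ h : T ⧸ M, h ∉ Subgroup.center (T ⧸ M) →
      ∃ k : T ⧸ M, h * k * h⁻¹ * k⁻¹ ∈ Subgroup.center (T ⧸ M) ∧ h * k * h⁻¹ * k⁻¹ ≠ 1 := by
  have hc := quot_center M Zh hle hcomm hpart
  intro x hx
  obtain ⟨h, rfl⟩ := QuotientGroup.mk_surjective x
  have hh : h ∉ Zh := by
    intro hh
    apply hx
    rw [hc]
    exact ⟨h, hh, rfl⟩
  obtain ⟨k, hk1, hk2⟩ := hpart h hh
  refine ⟨(k : T ⧸ M), ?_, ?_⟩
  · rw [hc]
    exact ⟨h * k * h⁻¹ * k⁻¹, hk1, rfl⟩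
  · intro h1
    apply hk2
    rw [← QuotientGroup.eq_one_iff]
    simpa only [QuotientGroup.mk_mul, QuotientGroup.mk_inv] using h1

end Cfsg.Agent.Lib.Helper16.Gag
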