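import Cfsg.Agent.Lib.Helper16.GagDefs

/-!
# Gag hive (S4561), leaf GAG-T4b: an element of `Tw H p` with `a = 0` and a noncentral coordinate has a
partner.
-/

set_option autoImplicit false
universe u v

namespace Cfsg.Agent.Lib.Helper16.Gag
open scoped IsMulCommutative

/-- T4b -/
theorem Tw.partner_f {H : Type u} [Group H] {p : ℕ} [NeZero p]
    (ι : Multiplicative (ZMod p) →* Subgroup.center H)
    (hpart : ∀ h : H, h ∉ Subgroup.center H →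
      ∃ k : H, h * k * h⁻¹ * k⁻¹ ∈ Subgroup.center H ∧ h * k * h⁻¹ * k⁻¹ ≠ 1)
    (h : Tw H p) (ha : h.a = 0) (i₀ : ZMod p) (hf : h.f i₀ ∉ Subgroup.center H) :
    ∃ k : Tw H p, h * k * h⁻¹ * k⁻¹ ∈ Tw.Zhat H p ∧ h * k * h⁻¹ * k⁻¹ ∉ Tw.Mker ι := by
  classical
  obtain ⟨k0, hk1, hk2⟩ := hpart (h.f i₀) hf
  have hcomm : h * (⟨Pi.mulSingle i₀ k0, 0, 0, 0⟩ : Tw H p) * h⁻¹ *
      (⟨Pi.mulSingle i₀ k0, 0, 0, 0⟩ : Tw H p)⁻¹
      = ⟨Pi.mulSingle i₀ (h.f i₀ * k0 * (h.f i₀)⁻¹ * k0⁻¹), 0, 0, 0⟩ := by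
    apply Tw.ext
    · funext i
      by_cases hi : i = i₀
      · subst hi
        simp [ha]
      · simp [ha, Pi.mulSingle_eq_of_ne hi]
    · simp [ha]
    · simp
    · simp [ha]
  refine ⟨⟨Pi.mulSingle i₀ k0, 0, 0, 0⟩, ?_, ?_⟩
  · rw [hcomm]
    refine ⟨rfl, rfl, fun i => ?_⟩
    by_cases hi : i = i₀
    · subst hi
      simpa using hk1
    · simp only [Pi.mulSingle_eq_of_ne hi]
      exact Subgroup.one_mem _
  · rw [hcomm, Tw.mem_Mker]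
    rintro ⟨hz, hphi⟩
    rw [Tw.phi_apply] at hphi
    have h2 : (∏ i : ZMod p, (⟨(⟨(⟨Pi.mulSingle i₀ (h.f i₀ * k0 * (h.f i₀)⁻¹ * k0⁻¹), 0, 0, 0⟩ :
          Tw H p), hz⟩ : Tw.Zhat H p).1.f i,
        (⟨(⟨Pi.mulSingle i₀ (h.f i₀ * k0 * (h.f i₀)⁻¹ * k0⁻¹), 0, 0, 0⟩ : Tw H p), hz⟩ :
          Tw.Zhat H p).2.2.2 i⟩ : Subgroup.center H))
        = ⟨h.f i₀ * k0 * (h.f i₀)⁻¹ * k0⁻¹, hk1⟩ := by
      rw [Finset.prod_eq_single i₀]
      · apply Subtype.ext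
        simp
      · intro i _ hi
        apply Subtype.ext
        simp [Pi.mulSingle_eq_of_ne hi]
      · intro hi
        exact absurd (Finset.mem_univ _) hi
    rw [h2] at hphi
    have h3 : ι (Multiplicative.ofAdd (0 : ZMod p)) = 1 := by
      rw [ofAdd_zero, map_one]
    simp only [h3, mul_one] at hphi
    apply hk2
    exact congrArg Subtype.val hphi

end Cfsg.Agent.Lib.Helper16.Gag
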