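import Cfsg.Agent.Lib.Helper87.Saturation

set_option autoImplicit false

namespace Cfsg.Agent.Lib.Helper88

open Cfsg Cfsg.FusionSystem

variable {Ω : Type*} [Group Ω]

/-- a map that is elementwise conjugation by `g` is `conjHom` -/
theorem eq_conjHom {P : Subgroup Ω} {φ : P →* Ω} {g : Ω} (h : ∀ x : P, φ x = g * (x : Ω) * g⁻¹) :
    φ = conjHom P g := by
  ext x
  rw [h x]
  rfl

theorem inner_autGroup_le (Q P : Subgroup Ω) :
    (innerFusionSystem Q).autGroup P ≤ autInducedBy Q P := by
  apply (Subgroup.closure_le _).mpr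
  intro α hα
  obtain ⟨-, g, hg, h⟩ := hα
  exact Subgroup.subset_closure ⟨g, hg, fun x => h x⟩

/-- the inner fusion system of a `p`-group is saturated -/
theorem inner_saturated {Q : Subgroup Ω} {p : ℕ} [Fact p.Prime] (hQ : IsPGroup p Q) :
    (innerFusionSystem Q).IsSaturated p := by
  intro P hP
  refine ⟨P, Cfsg.Agent.Lib.Helper87.isConj_refl _ hP, ?_, ?_⟩
  · refine ⟨hP, ?_⟩
    have htop : (autInducedBy Q P).subgroupOf ((innerFusionSystem Q).autGroup P) = ⊤ := by
      rw [Subgroup.subgroupOf_eq_top]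
      exact inner_autGroup_le Q P
    have hp : IsPGroup p ((innerFusionSystem Q).autGroup P) := by
      have h1 := Cfsg.Agent.Lib.Helper87.autInducedBy_isPGroup hQ P
      exact h1.of_injective (Subgroup.inclusion (inner_autGroup_le Q P))
        (Subgroup.inclusion_injective _)
    refine ⟨⟨⊤, ?_, ?_⟩, ?_⟩
    · exact hp.of_injective (⊤ : Subgroup ((innerFusionSystem Q).autGroup P)).subtype
        (Subgroup.subtype_injective _)
    · intro R _ hR
      exact top_le_iff.mp hR
    · exact htop.symm
  · refine ⟨hP, ?_⟩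
    intro P' φ hφ _
    obtain ⟨hP', g, hg, h⟩ := hφ
    have hle : extender Q P' φ ≤ Q := by
      apply (Subgroup.closure_le _).mpr
      intro g hg
      exact hg.1
    refine ⟨conjHom (extender Q P' φ) g, (innerFusionSystem Q).conj_mem hle hg, ?_⟩
    intro x hx _
    rw [h ⟨x, hx⟩]
    rfl

end Cfsg.Agent.Lib.Helper88
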