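import Cfsg.Agent.Lib.Helper88.AovMain2

/-!
# AOV Lemma 1.26, part 3: the assembly
-/

set_option autoImplicit false

namespace Cfsg.Agent.Lib.Helper88.Aov

open Cfsg Cfsg.FusionSystem Cfsg.Agent.Lib.Helper88
open Cfsg.Agent.Lib.Helper87 (restrict_mem hom_le hom_mem_S subtype_mem autInducedBy_le_autGroup
  fc_fa_of_fullyNormalized)
open Cfsg.Agent.Lib.Helper85 (SylIn)

variable {Ω : Type*} [Group Ω] {S T : Subgroup Ω}

/-- the extension condition for a system over `S` itself -/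
theorem extension_top [Finite S] (F : FusionSystem S) {α : MulAut S} (hα : α ∈ F.autGroup S) :
    ∃ β ∈ F.autGroup (S ⊔ centralizerIn S S),
      (∀ x : S, ((β (Subgroup.inclusion le_sup_left x) : ↥(S ⊔ centralizerIn S S)) : Ω) =
        ((α x : S) : Ω)) ∧
      ∀ c : ↥(S ⊔ centralizerIn S S), (c : Ω) ∈ centralizerIn S S →
        (c : Ω)⁻¹ * ((β c : ↥(S ⊔ centralizerIn S S)) : Ω) ∈ S ⊓ Subgroup.centralizer (S : Set Ω) := by
  have hRS : S ⊔ centralizerIn S S = S := sup_eq_left.mpr inf_le_left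
  let e : ↥(S ⊔ centralizerIn S S) ≃* S := MulEquiv.subgroupCongr hRS
  let β : MulAut ↥(S ⊔ centralizerIn S S) := e.trans (α.trans e.symm)
  have hβc : ∀ c : ↥(S ⊔ centralizerIn S S),
      ((β c : ↥(S ⊔ centralizerIn S S)) : Ω) = ((α ⟨(c : Ω), hRS.le c.2⟩ : S) : Ω) := fun c => rfl
  refine ⟨β, ?_, fun x => ?_, fun c hc => ?_⟩
  · rw [Cfsg.Agent.Lib.Helper87.mem_autGroup_iff F hRS.le]
    have hφ := (Cfsg.Agent.Lib.Helper87.mem_autGroup_iff F le_rfl α).mp hα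
    obtain ⟨ψ, hψ, hψe⟩ := Cfsg.Agent.Lib.Helper84.exists_hom_of_eq F hφ hRS
    have : (S ⊔ centralizerIn S S).subtype.comp β.toMonoidHom = ψ := by
      ext c
      rw [hψe c c.2 (hRS.le c.2)]
      rfl
    rw [this]
    exact hψ
  · rw [hβc]
    rfl
  · rw [hβc]
    have hcS : (c : Ω) ∈ S := hc.1
    have hαc : ((α ⟨(c : Ω), hcS⟩ : S) : Ω) ∈ Subgroup.centralizer (S : Set Ω) := by
      rw [Subgroup.mem_centralizer_iff]
      intro y hy
      have h1 : (⟨y, hy⟩ : S) = α (α⁻¹ ⟨y, hy⟩) := by rw [MulAut.apply_inv_self]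
      have h2 : (α⁻¹ ⟨y, hy⟩ : S) * ⟨(c : Ω), hcS⟩ = ⟨(c : Ω), hcS⟩ * α⁻¹ ⟨y, hy⟩ := by
        apply Subtype.ext
        exact Subgroup.mem_centralizer_iff.mp hc.2 _ (α⁻¹ ⟨y, hy⟩).2
      have h3 := congrArg (fun z : S => ((α z : S) : Ω)) h2
      simp only [map_mul, MulAut.apply_inv_self, Subgroup.coe_mul] at h3
      exact h3
    refine ⟨S.mul_mem (S.inv_mem hcS) (α _).2, ?_⟩
    exact (Subgroup.centralizer (S : Set Ω)).mul_mem
      ((Subgroup.centralizer (S : Set Ω)).inv_mem hc.2) hαc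

variable [Finite S] {p : ℕ} [Fact p.Prime]

/-- the standing hypotheses from the data of the lemma -/
theorem setup_of_data (hS : IsPGroup p S) (F : FusionSystem S) (hF : F.IsSaturated p)
    (hTS : T ≤ S) (E : FusionSystem T) (hE : E.IsNormalIn F p) {Δ : Type*} [Group Δ] [Finite Δ]
    (hΔ : (Nat.card Δ).Coprime p) (χ : ↥(F.autGroup T) →* Δ)
    (hker : (E.autGroup T).subgroupOf (F.autGroup T) ≤ χ.ker) :
    Setup p F E (χ.ker.map (F.autGroup T).subtype) := by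
  obtain ⟨⟨hEsat, -, hsub, hT, hinv, hfrat⟩, -⟩ := hE
  have hTfin : Finite T := Finite.of_injective _ (Subgroup.inclusion_injective hTS)
  have hAfin : Finite (F.autGroup T) := inferInstance
  refine ⟨hS, hF, hEsat, hT, hsub, hinv, hfrat, ?_, ?_, ?_, ?_, ?_⟩
  · rintro _ ⟨a, -, rfl⟩
    exact a.2
  · intro α hα
    have hαF : α ∈ F.autGroup T := autGroup_le_of_hsub hsub T hα
    exact ⟨⟨α, hαF⟩, hker (Subgroup.mem_subgroupOf.mpr hα), rfl⟩
  · intro α hα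
    have hαF : α ∈ F.autGroup T := autInducedBy_le_autGroup F hTS hα
    have hfn : F.IsFullyNormalized T :=
      Cfsg.Agent.Lib.Helper85.fullyNormalized_of_stronglyClosed' F hT
    have hfa : SylIn p (autInducedBy S T) (F.autGroup T) :=
      (fc_fa_of_fullyNormalized hS F hF hfn).2.2
    have hpg : IsPGroup p (autInducedBy S T) := hfa.isPGroup (autInducedBy_le_autGroup F hTS)
    obtain ⟨k, hk⟩ := hpg ⟨α, hα⟩
    have hk' : α ^ p ^ k = 1 := congrArg (fun z : autInducedBy S T => (z : MulAut T)) hk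
    refine ⟨⟨α, hαF⟩, ?_, rfl⟩
    show (⟨α, hαF⟩ : F.autGroup T) ∈ χ.ker
    rw [MonoidHom.mem_ker]
    have h1 : (χ ⟨α, hαF⟩) ^ p ^ k = 1 := by
      rw [← map_pow]
      have : (⟨α, hαF⟩ : F.autGroup T) ^ p ^ k = 1 := Subtype.ext hk'
      rw [this, map_one]
    have h2 : (χ ⟨α, hαF⟩) ^ Nat.card Δ = 1 := pow_card_eq_one'
    have h3 : orderOf (χ ⟨α, hαF⟩) ∣ Nat.gcd (p ^ k) (Nat.card Δ) :=
      Nat.dvd_gcd (orderOf_dvd_of_pow_eq_one h1) (orderOf_dvd_of_pow_eq_one h2)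
    have h4 : Nat.gcd (p ^ k) (Nat.card Δ) = 1 :=
      Nat.Coprime.pow_left k hΔ.symm
    rw [h4, Nat.dvd_one] at h3
    exact orderOf_eq_one_iff.mp h3
  · rintro α hα _ ⟨b, hb, rfl⟩
    refine ⟨⟨α, hα⟩ * b * ⟨α, hα⟩⁻¹, ?_, rfl⟩
    exact (MonoidHom.normal_ker χ).conj_mem b hb ⟨α, hα⟩
  · refine ⟨Nat.card Δ, hΔ, Nat.card_pos, fun α hα => ?_⟩
    refine ⟨⟨α, hα⟩ ^ Nat.card Δ, ?_, rfl⟩
    show (⟨α, hα⟩ : F.autGroup T) ^ Nat.card Δ ∈ χ.ker
    rw [MonoidHom.mem_ker, map_pow]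
    exact pow_card_eq_one'

/-- AOV Lemma 1.26 -/
theorem aov_main (hS : IsPGroup p S) (F : FusionSystem S) (hF : F.IsSaturated p)
    (hTS : T ≤ S) (E : FusionSystem T) (hE : E.IsNormalIn F p) {Δ : Type*} [Group Δ] [Finite Δ]
    [Nontrivial Δ] (hΔ : (Nat.card Δ).Coprime p) (χ : ↥(F.autGroup T) →* Δ)
    (hχ : Function.Surjective χ) (hker : (E.autGroup T).subgroupOf (F.autGroup T) ≤ χ.ker) :
    ∃ F₀ : FusionSystem S, F₀.IsNormalIn F p ∧ ¬ (∀ P : Subgroup Ω, F₀.Hom P = F.Hom P) ∧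
      E.IsSubsystemOf F₀ ∧
      (∀ α : MulAut ↥S, α ∈ F₀.autGroup S ↔ α ∈ F.autGroup S ∧ ∃ β : ↥(F.autGroup T), χ β = 1 ∧
        ∀ t : ↥T, (((β : MulAut ↥T) t : ↥T) : Ω) = ((α ⟨(t : Ω), hTS t.2⟩ : ↥S) : Ω)) ∧
      ∀ R : FusionSystem S, F.IsPPrimeResidual p R → R.IsSubsystemOf F₀ := by
  have h := setup_of_data hS F hF hTS E hE hΔ χ hker
  have hfam := fam_of_setup h hTS
  have hsat := famRes_saturated hS hF hfam
  have hfacts := famRes_facts hS F hF hfam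
  have hext : ∀ α ∈ E.autGroup T, ∃ β ∈ F.autGroup (T ⊔ centralizerIn S T),
      ∀ x : T, ((β (Subgroup.inclusion le_sup_left x) : ↥(T ⊔ centralizerIn S T)) : Ω) =
        ((α x : T) : Ω) := by
    intro α hα
    obtain ⟨β, hβ, hβe, -⟩ := hE.2 α hα
    exact ⟨β, hβ, hβe⟩
  refine ⟨famRes p F (HH F E) (NK F (χ.ker.map (F.autGroup T).subtype) hTS), ?_, ?_, ?_, ?_, ?_⟩
  · refine ⟨⟨hsat, hF, famRes_le p F _ _, ⟨le_rfl, fun R _ φ hφ x => hom_mem_S F hφ x⟩,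
      famRes_invProp hfam, fun P _ φ hφ => famRes_frattini hS F hF hfam P φ hφ⟩, ?_⟩
    intro α hα
    exact extension_top F (autGroup_le_of_sub (famRes_le p F _ _) S hα)
  · intro heq
    have hK := autGroup_le_K_of_eq h hTS heq
    obtain ⟨δ, hδ⟩ := exists_ne (1 : Δ)
    obtain ⟨a, rfl⟩ := hχ δ
    apply hδ
    obtain ⟨b, hb, hba⟩ := hK a.2
    have : b = a := Subtype.ext hba
    rw [← this]
    exact hb
  · exact E_le_famRes hS hF h hTS hext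
  · intro α
    rw [autGroup_famRes_eq h hTS, mem_NK]
    constructor
    · rintro ⟨hα, β, ⟨b, hb, rfl⟩, hβe⟩
      exact ⟨hα, b, hb, hβe⟩
    · rintro ⟨hα, b, hb, hβe⟩
      exact ⟨hα, b, ⟨b, hb, rfl⟩, hβe⟩
  · intro R hR
    exact hR.2.2 _ hsat hfacts.1

end Cfsg.Agent.Lib.Helper88.Aov
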