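import Cfsg.Prelude.Def_FusionComponents
import Cfsg.Prelude.Def_Local

/-!
# Definitions for S5156 (terminating residual series iff constrained with `p`-solvable models)
-/

set_option autoImplicit false

namespace Cfsg.Agent.Lib.Helper88.Trs

open Cfsg Cfsg.FusionSystem

variable {Ω : Type*} [Group Ω] {S : Subgroup Ω}

/-- `F` has a normal centric subgroup whose automizer is `p`-solvable -/
def PS (p : ℕ) (F : FusionSystem S) : Prop :=
  ∃ Q : Subgroup Ω, F.IsNormal Q ∧ F.IsCentric Q ∧ IsPSolvable p ↥(F.autGroup Q)

end Cfsg.Agent.Lib.Helper88.Trs
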