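import Cfsg.Agent.Lib.Helper6.Ls.Defs

/-!
# Ls hive (S2334 + S2335), leaf AB-SUB
-/

set_option autoImplicit false

namespace Cfsg.Agent.Lib.Helper6.Ls

open Module Cfsg.Agent.Lib.Helper99

section abstract

variable {G : Type*} [Group G] [Finite G] {W : Type*} [AddCommGroup W] [Module ℂ W]
  [FiniteDimensional ℂ W]

/-- AB-SUB -/
theorem actsNontriv_subRep {H : Type*} [Group H] (ρ : Representation ℂ G W) (φ : H →* G)
    (U : Submodule ℂ W) (hU : ∀ h, Stable ρ (φ h) U) (Z' : Subgroup H)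
    (h : ActsNontriv ρ (Z'.map φ) U) : ActsNontriv (subRep ρ φ U hU) Z' ⊤ := by
  obtain ⟨z, ⟨z', hz', rfl⟩, w, hw, hne⟩ := h
  refine ⟨z', hz', ⟨w, hw⟩, Submodule.mem_top, fun heq => hne ?_⟩
  have := congrArg (fun u : U => (u : W)) heq
  simpa [subRep_apply] using this

end abstract

end Cfsg.Agent.Lib.Helper6.Ls
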