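import Mathlib
import Cfsg.Agent.Lib.Helper22.LBalS

/-!
# Lb hive (S1301), sub-leaf LB-J1Q of LB-J1 (helper86): quasisimplicity of `A / O_{p'}(A)` is inherited
along a surjection `A → B` with `p'`-kernel.
-/

set_option autoImplicit false

namespace Cfsg.Agent.Lib.Helper22.Lb

open Subgroup Cfsg
open scoped commutatorElement

/-- The kernel of `A → B → B / O_{p'}(B)` is `O_{p'}(A)` when `A → B` is onto with `p'`-kernel. -/
theorem lbj1q_ker_eq {A B : Type*} [Group A] [Group B] [Finite A] [Finite B] {p : ℕ}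
    [Fact p.Prime] (f : A →* B) (hf : Function.Surjective f)
    (hker : (Nat.card f.ker).Coprime p) :
    ((QuotientGroup.mk' (pPrimeCore p B)).comp f).ker = pPrimeCore p A := by
  apply le_antisymm
  · have hk : ((QuotientGroup.mk' (pPrimeCore p B)).comp f).ker = (pPrimeCore p B).comap f := by
      rw [← MonoidHom.comap_ker, QuotientGroup.ker_mk']
    rw [hk]
    have hSn : ((pPrimeCore p B).comap f).Normal := Subgroup.Normal.comap inferInstance f
    apply Cfsg.Agent.Lib.Helper30.le_pPrimeCore p ((pPrimeCore p B).comap f)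
    have hkS : f.ker ≤ (pPrimeCore p B).comap f := Subgroup.ker_le_comap f _
    have h1 := Cfsg.Agent.Lib.Helper30.card_mul_relIndex_eq hkS
    have h2 : f.ker.relIndex ((pPrimeCore p B).comap f) = Nat.card (pPrimeCore p B) := by
      rw [Subgroup.relIndex_ker, Subgroup.map_comap_eq_self_of_surjective hf]
    rw [← h1, h2]
    exact Nat.Coprime.mul_left hker (Cfsg.Agent.Lib.Helper30.pPrimeCore_card_coprime p)
  · have hmap : ((pPrimeCore p A).map f).Normal := Subgroup.Normal.map inferInstance f hf
    have hcard : (Nat.card ((pPrimeCore p A).map f)).Coprime p :=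
      Nat.Coprime.coprime_dvd_left (Subgroup.card_map_dvd (pPrimeCore p A) f)
        (Cfsg.Agent.Lib.Helper30.pPrimeCore_card_coprime p)
    have hle := Cfsg.Agent.Lib.Helper30.le_pPrimeCore p ((pPrimeCore p A).map f) hcard
    intro a ha
    rw [MonoidHom.mem_ker, MonoidHom.comp_apply, QuotientGroup.mk'_apply, QuotientGroup.eq_one_iff]
    exact hle (Subgroup.mem_map_of_mem f ha)

/-- LB-J1Q. -/
theorem lbj1_quasi_of_surj {A B : Type*} [Group A] [Group B] [Finite A] [Finite B] {p : ℕ} [Fact p.Prime] (f : A →* B) (hf : Function.Surjective f) (hker : (Nat.card f.ker).Coprime p) (hB : IsQuasisimple (B ⧸ pPrimeCore p B)) : IsQuasisimple (A ⧸ pPrimeCore p A) := by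
  have hπs : Function.Surjective ((QuotientGroup.mk' (pPrimeCore p B)).comp f) :=
    (QuotientGroup.mk'_surjective _).comp hf
  have hk := lbj1q_ker_eq f hf hker
  have e : A ⧸ pPrimeCore p A ≃* B ⧸ pPrimeCore p B :=
    (QuotientGroup.quotientMulEquivOfEq hk.symm).trans
      (QuotientGroup.quotientKerEquivOfSurjective _ hπs)
  exact Cfsg.Agent.Lib.Helper21.quasisimple_of_mulEquiv e.symm hB

end Cfsg.Agent.Lib.Helper22.Lb
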