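import Cfsg.Agent.Lib.Helper87.Alperin
import Cfsg.Agent.Lib.Helper88.CentricSub

set_option autoImplicit false

namespace Cfsg.Agent.Lib.Helper88

open Cfsg Cfsg.FusionSystem Cfsg.Agent.Lib.Helper87

variable {Ω : Type*} [Group Ω] {S : Subgroup Ω} [Finite S] {p : ℕ} [Fact p.Prime]

/-- fully automized and receptive implies fully normalized -/
theorem fullyNormalized_of_far (hS : IsPGroup p S) (F : FusionSystem S) {R : Subgroup Ω}
    (hfa : F.IsFullyAutomized p R) (hrec : F.IsReceptive R) : F.IsFullyNormalized R := by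
  refine ⟨hfa.1, fun Q hRQ => ?_⟩
  obtain ⟨φ, hφ, hφr⟩ := isConj_symm F hRQ
  have hQS : Q ≤ S := hom_le F hφ
  obtain ⟨β, hβ, ψ, hψ, hψx⟩ := exists_extension_normalizer hS F hφ hφr hfa hrec
  have hQN : Q ≤ normalizerIn S Q := le_normalizerIn hQS
  have hnorm : normalizerIn S Q ≤ Subgroup.normalizer (Q : Set Ω) := inf_le_right
  have hφR : ∀ x : Q, φ x ∈ R := fun x => hφr ▸ ⟨x, rfl⟩
  -- the image of Q under ψ is R
  have hrange : (ψ.comp (Subgroup.inclusion hQN)).range = R := by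
    apply le_antisymm
    · rintro _ ⟨x, rfl⟩
      show ψ (Subgroup.inclusion hQN x) ∈ R
      have := hψx x (hQN x.2) (hφR x)
      have e : Subgroup.inclusion hQN x = ⟨x, hQN x.2⟩ := rfl
      rw [e, this]
      exact (β _).2
    · intro r hr
      have h1 : ((β.symm ⟨r, hr⟩ : R) : Ω) ∈ φ.range := by rw [hφr]; exact (β.symm ⟨r, hr⟩).2
      obtain ⟨x, hx⟩ := h1
      refine ⟨x, ?_⟩
      show ψ (Subgroup.inclusion hQN x) = r
      have e : Subgroup.inclusion hQN x = ⟨x, hQN x.2⟩ := rfl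
      rw [e, hψx x (hQN x.2) (hφR x)]
      have : (⟨φ x, hφR x⟩ : R) = β.symm ⟨r, hr⟩ := Subtype.ext hx
      rw [this]
      simp
  have hval : ∀ g : normalizerIn S Q, ψ g ∈ normalizerIn S R := by
    intro g
    refine ⟨hom_mem_S F hψ g, ?_⟩
    have := map_mem_normalizer hQN hnorm ψ g
    rwa [hrange] at this
  have hfin : Finite (normalizerIn S R) :=
    Finite.of_injective _ (Subgroup.inclusion_injective (inf_le_left : normalizerIn S R ≤ S))
  apply Nat.card_le_card_of_injective (ψ.codRestrict _ hval)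
  intro a b hab
  apply F.injective_of_mem hψ
  exact congrArg (fun z : normalizerIn S R => (z : Ω)) hab

theorem IsAlperin.fullyNormalized (hS : IsPGroup p S) {F : FusionSystem S} {R : Subgroup Ω}
    (hR : IsAlperin F p R) : F.IsFullyNormalized R :=
  fullyNormalized_of_far hS F hR.1 hR.2.1

/-- If the automizer of a fully automized centric radical subgroup `R` has a normal Sylow
`p`-subgroup then `R = S`. -/
theorem eq_top_of_normal_sylow (hS : IsPGroup p S) (F : FusionSystem S) {R : Subgroup Ω}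
    (hfa : F.IsFullyAutomized p R) (hc : F.IsCentric R) (hrad : F.IsRadical p R)
    (hT : ∃ T : Sylow p (F.autGroup R), (T : Subgroup (F.autGroup R)).Normal) : R = S := by
  have hRS : R ≤ S := hfa.1
  obtain ⟨-, T₀, hT₀⟩ := hfa
  obtain ⟨T, hTn⟩ := hT
  have hRfin : Finite R := Finite.of_injective _ (Subgroup.inclusion_injective hRS)
  have hfinA : Finite (F.autGroup R) := inferInstance
  -- T₀ = T
  have hTT : T₀ = T := by
    obtain ⟨g, hg⟩ := MulAction.exists_smul_eq (F.autGroup R) T T₀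
    rw [← hg]
    haveI := hTn
    exact Sylow.smul_eq_of_normal
  have hnormal : ((autInducedBy S R).subgroupOf (F.autGroup R)).Normal := by
    rw [← hT₀, hTT]
    exact hTn
  have hpg : IsPGroup p ((autInducedBy S R).subgroupOf (F.autGroup R)) := by
    rw [← hT₀]
    exact T₀.2
  have hle := le_pCore hnormal hpg
  have hInn : autInducedBy S R ≤ Inn R := by
    rw [← hrad.2]
    intro α hα
    have hαF : α ∈ F.autGroup R := autInducedBy_le_autGroup F hRS hα
    exact ⟨⟨α, hαF⟩, hle (Subgroup.mem_subgroupOf.mpr hα), rfl⟩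
  -- N_S(R) ≤ R
  have hNR : normalizerIn S R ≤ R := by
    intro g hg
    have h1 : conjAut R g hg.2 ∈ Inn R := hInn (conjAut_mem_autInducedBy hg.1 hg.2)
    obtain ⟨r, hr⟩ := h1
    have hcent : (r : Ω)⁻¹ * g ∈ centralizerIn S R := by
      refine ⟨S.mul_mem (S.inv_mem (hRS r.2)) hg.1, Subgroup.mem_centralizer_iff.mpr ?_⟩
      intro x hx
      have h2 := congrArg (fun a : MulAut R => ((a ⟨x, hx⟩ : R) : Ω)) hr
      simp only [conjAut_coe] at h2
      have h3 : (r : Ω) * x * (r : Ω)⁻¹ = g * x * g⁻¹ := h2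
      calc x * ((r : Ω)⁻¹ * g) = (r : Ω)⁻¹ * ((r : Ω) * x * (r : Ω)⁻¹) * g := by group
        _ = (r : Ω)⁻¹ * (g * x * g⁻¹) * g := by rw [h3]
        _ = (r : Ω)⁻¹ * g * x := by group
    have h4 := hc.2 R (isConj_refl F hRS) hcent
    have : g = r * ((r : Ω)⁻¹ * g) := by group
    rw [this]
    exact R.mul_mem r.2 h4
  by_contra hne
  have hlt := card_lt_card_normalizerIn hS hRS hne
  have hfinN : Finite (normalizerIn S R) :=
    Finite.of_injective _ (Subgroup.inclusion_injective (inf_le_left : normalizerIn S R ≤ S))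
  have := Subgroup.card_le_of_le hNR
  omega

/-- If `S` is the only Alperin subgroup then every map extends to an automorphism of `S`. -/
theorem extends_to_top_of_alperin_eq_top (hS : IsPGroup p S) (F : FusionSystem S)
    (hF : F.IsSaturated p) (hA : ∀ R : Subgroup Ω, IsAlperin F p R → R = S)
    {P : Subgroup Ω} {φ : P →* Ω} (hφ : φ ∈ F.Hom P) :
    ∃ α ∈ F.autGroup S, ∀ (x : P) (hx : (x : Ω) ∈ S), φ x = ((α ⟨x, hx⟩ : S) : Ω) := by
  have h := alperin hS F hF P φ hφ
  induction h with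
  | @aut P R hR α hα hPR =>
    have := hA R hR
    subst this
    exact ⟨α, hα, fun x hx => rfl⟩
  | @comp P Q φ ψ h1 h2 h ih1 ih2 =>
    obtain ⟨α, hα, hαx⟩ := ih1 h1.mem_hom
    obtain ⟨β, hβ, hβx⟩ := ih2 h2.mem_hom
    refine ⟨β * α, (F.autGroup S).mul_mem hβ hα, fun x hx => ?_⟩
    show ψ ⟨φ x, h x⟩ = _
    have hφS : φ x ∈ S := hom_mem_S F h1.mem_hom x
    rw [hβx ⟨φ x, h x⟩ hφS, MulAut.mul_apply]
    congr 2
    apply Subtype.ext
    exact hαx x hx

/-- `S` is normal in `F` as soon as every map extends to an automorphism of `S`. -/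
theorem isNormal_top_of_extends (F : FusionSystem S)
    (hext : ∀ (P : Subgroup Ω) (φ : P →* Ω), φ ∈ F.Hom P →
      ∃ α ∈ F.autGroup S, ∀ (x : P) (hx : (x : Ω) ∈ S), φ x = ((α ⟨x, hx⟩ : S) : Ω)) :
    F.IsNormal S := by
  refine ⟨le_rfl, fun P φ hφ => ?_⟩
  have hPS : P ≤ S := hom_le F hφ
  obtain ⟨α, hα, hαx⟩ := hext P φ hφ
  have hle : P ⊔ S ≤ S := sup_le hPS le_rfl
  have hαF := (mem_autGroup_iff F le_rfl α).mp hα
  refine ⟨(S.subtype.comp α.toMonoidHom).comp (Subgroup.inclusion hle), restrict_mem F hαF hle, ?_, ?_⟩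
  · intro x
    exact (hαx x (hPS x.2)).symm
  · ext y
    constructor
    · rintro ⟨x, -, rfl⟩
      exact (α _).2
    · intro hy
      refine ⟨⟨((α.symm ⟨y, hy⟩ : S) : Ω), ?_⟩, ?_, ?_⟩
      · exact Subgroup.mem_sup_right (α.symm ⟨y, hy⟩).2
      · rw [SetLike.mem_coe, Subgroup.mem_subgroupOf]
        exact (α.symm ⟨y, hy⟩).2
      · show ((α (Subgroup.inclusion hle ⟨((α.symm ⟨y, hy⟩ : S) : Ω), _⟩) : S) : Ω) = y
        have : Subgroup.inclusion hle ⟨((α.symm ⟨y, hy⟩ : S) : Ω),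
            Subgroup.mem_sup_right (α.symm ⟨y, hy⟩).2⟩ = α.symm ⟨y, hy⟩ := Subtype.ext rfl
        rw [this]
        simp

end Cfsg.Agent.Lib.Helper88
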