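import Cfsg.Agent.Lib.Helper88.Marks

set_option autoImplicit false

/-!
# Equivariant permutations moving a point to a point with the same stabilizer
-/

namespace Cfsg.Agent.Lib.Helper88

open MulAction

variable {K : Type*} [Group K]

/-- gluing equivariant bijections on an orbit and on its complement, keeping track of the values on the
orbit -/
theorem exists_glue' {Y Y' : Type*} [MulAction K Y] [MulAction K Y'] (y₀ : Y) (y₀' : Y')
    (g : orbitSub (K := K) y₀ ≃ orbitSub (K := K) y₀')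
    (hg : ∀ (k : K) (a : orbitSub (K := K) y₀), g (k • a) = k • g a)
    (h : complSub (K := K) y₀ ≃ complSub (K := K) y₀')
    (hh : ∀ (k : K) (a : complSub (K := K) y₀), h (k • a) = k • h a) :
    ∃ f : Y ≃ Y', (∀ (k : K) (y : Y), f (k • y) = k • f y) ∧
      ∀ a : orbitSub (K := K) y₀, f a = g a := by
  classical
  let F : Y → Y' := fun y => if hy : y ∈ orbitSub (K := K) y₀ then (g ⟨y, hy⟩ : Y') else
    (h ⟨y, hy⟩ : Y')
  let F' : Y' → Y := fun y => if hy : y ∈ orbitSub (K := K) y₀' then (g.symm ⟨y, hy⟩ : Y) else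
    (h.symm ⟨y, hy⟩ : Y)
  have hF1 : ∀ y (hy : y ∈ orbitSub (K := K) y₀), F y = g ⟨y, hy⟩ := fun y hy => dif_pos hy
  have hF2 : ∀ y (hy : y ∉ orbitSub (K := K) y₀), F y = h ⟨y, hy⟩ := fun y hy => dif_neg hy
  have hF'1 : ∀ y (hy : y ∈ orbitSub (K := K) y₀'), F' y = g.symm ⟨y, hy⟩ := fun y hy => dif_pos hy
  have hF'2 : ∀ y (hy : y ∉ orbitSub (K := K) y₀'), F' y = h.symm ⟨y, hy⟩ := fun y hy => dif_neg hy
  refine ⟨⟨F, F', fun y => ?_, fun y => ?_⟩, fun k y => ?_, fun a => ?_⟩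
  · by_cases hy : y ∈ orbitSub (K := K) y₀
    · rw [hF1 y hy, hF'1 _ (g ⟨y, hy⟩).2]
      simp
    · rw [hF2 y hy, hF'2 _ (h ⟨y, hy⟩).2]
      simp
  · by_cases hy : y ∈ orbitSub (K := K) y₀'
    · rw [hF'1 y hy, hF1 _ (g.symm ⟨y, hy⟩).2]
      simp
    · rw [hF'2 y hy, hF2 _ (h.symm ⟨y, hy⟩).2]
      simp
  · show F (k • y) = k • F y
    by_cases hy : y ∈ orbitSub (K := K) y₀
    · have hky : k • y ∈ orbitSub (K := K) y₀ := (orbitSub y₀).smul_mem k hy
      rw [hF1 y hy, hF1 _ hky]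
      have := hg k ⟨y, hy⟩
      exact congrArg Subtype.val this
    · have hky : k • y ∉ orbitSub (K := K) y₀ := (complSub y₀).smul_mem k hy
      rw [hF2 y hy, hF2 _ hky]
      have := hh k ⟨y, hy⟩
      exact congrArg Subtype.val this
  · show F a = g a
    rw [hF1 a a.2]

/-- an equivariant bijection between the orbits of two points with the same stabilizer, mapping the first
point to the second -/
theorem exists_orbit_equiv' {Y Y' : Type*} [MulAction K Y] [MulAction K Y'] {y₀ : Y} {y₀' : Y'}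
    (hst : stabilizer K y₀ = stabilizer K y₀') :
    ∃ g : orbitSub (K := K) y₀ ≃ orbitSub (K := K) y₀',
      (∀ (k : K) (a : orbitSub (K := K) y₀), g (k • a) = k • g a) ∧
      ∀ h : y₀ ∈ orbitSub (K := K) y₀, (g ⟨y₀, h⟩ : Y') = y₀' := by
  have h1 : ∀ a, orbMap (K := K) y₀' y₀ (orbMap (K := K) y₀ y₀' a) = a := by
    intro a
    obtain ⟨k, hk⟩ := mem_orbitSub.mp a.2
    have e : a = ⟨k • y₀, smul_mem_orbitSub y₀ k⟩ := Subtype.ext hk.symm
    rw [e, orbMap_apply' hst, orbMap_apply' hst.symm]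
  have h2 : ∀ a, orbMap (K := K) y₀ y₀' (orbMap (K := K) y₀' y₀ a) = a := by
    intro a
    obtain ⟨k, hk⟩ := mem_orbitSub.mp a.2
    have e : a = ⟨k • y₀', smul_mem_orbitSub y₀' k⟩ := Subtype.ext hk.symm
    rw [e, orbMap_apply' hst.symm, orbMap_apply' hst]
  refine ⟨⟨orbMap (K := K) y₀ y₀', orbMap (K := K) y₀' y₀, h1, h2⟩, ?_, ?_⟩
  · intro g a
    obtain ⟨k, hk⟩ := mem_orbitSub.mp a.2
    have e : a = ⟨k • y₀, smul_mem_orbitSub y₀ k⟩ := Subtype.ext hk.symm
    have e1 : g • (⟨k • y₀, smul_mem_orbitSub y₀ k⟩ : orbitSub (K := K) y₀) =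
        ⟨(g * k) • y₀, smul_mem_orbitSub y₀ (g * k)⟩ :=
      Subtype.ext (mul_smul g k y₀).symm
    show orbMap (K := K) y₀ y₀' (g • a) = g • orbMap (K := K) y₀ y₀' a
    rw [e, e1, orbMap_apply' hst, orbMap_apply' hst]
    exact Subtype.ext (mul_smul g k y₀')
  · intro h
    show (orbMap (K := K) y₀ y₀' ⟨y₀, h⟩ : Y') = y₀'
    have e : (⟨y₀, h⟩ : orbitSub (K := K) y₀) = ⟨(1 : K) • y₀, smul_mem_orbitSub y₀ 1⟩ :=
      Subtype.ext (one_smul K y₀).symm
    rw [e, orbMap_apply' hst]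
    exact one_smul K y₀'

/-- a finite `K`-set has an equivariant permutation moving a point to any point with the same
stabilizer -/
theorem exists_equiv_map_point [Finite K] {Y : Type*} [MulAction K Y] [Finite Y] {y₀ y₀' : Y}
    (hst : stabilizer K y₀ = stabilizer K y₀') :
    ∃ f : Y ≃ Y, (∀ (k : K) (y : Y), f (k • y) = k • f y) ∧ f y₀ = y₀' := by
  obtain ⟨g, hg, hg0⟩ := exists_orbit_equiv' hst
  have hmk' : ∀ V : Subgroup K,
      mkCount V (complSub (K := K) y₀) = mkCount V (complSub (K := K) y₀') := by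
    intro V
    have h1 := mkCount_split y₀ V
    have h2 := mkCount_split y₀' V
    have h3 := mkCount_congr g hg V
    omega
  obtain ⟨h, hh⟩ := exists_equiv_of_mkCount_eq (K := K) _ rfl hmk'
  obtain ⟨f, hf, hfg⟩ := exists_glue' y₀ y₀' g hg h hh
  refine ⟨f, hf, ?_⟩
  have hmem : y₀ ∈ orbitSub (K := K) y₀ := mem_orbitSub.mpr ⟨1, one_smul K y₀⟩
  have := hfg ⟨y₀, hmem⟩
  rw [hg0 hmem] at this
  exact this

end Cfsg.Agent.Lib.Helper88
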