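import Cfsg.Agent.Lib.Helper88.ParkGroup
import Cfsg.Agent.Lib.Helper88.Transitive

set_option autoImplicit false

/-!
# The transfer of a biset

For a biset `X` generated by a fusion system over `S` and a homomorphism `lam` from `S` to a commutative
group, the transfer `S → A`, defined as the transfer of Park's group to the stabilizer of a right orbit.
-/

namespace Cfsg.Agent.Lib.Helper88

open Cfsg Cfsg.FusionSystem MulAction
open Cfsg.Agent.Lib.Helper87 (restrict_mem hom_le hom_mem_S isConj_refl isConj_symm isConj_trans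
  card_eq_of_isConj subtype_mem inv_exists)

variable {Ω : Type*} [Group Ω] {S : Subgroup Ω}

/-- the right action of `S` on a generated biset is free -/
theorem right_free {F : FusionSystem S} {m : Subgroup (S × S) → ℕ} (hgen : Gen F m)
    (x : OrbSum m) {b : S} (h : (((1 : S), b) : S × S) • x = x) : b = 1 := by
  obtain ⟨Q, ψ, hψ, hD⟩ := inTw_stabilizer hgen x
  obtain ⟨q, hq1, hq2⟩ := (hD _).mp (mem_stabilizer_iff.mpr h)
  have e : q = 1 := Subtype.ext hq1
  rw [e, map_one] at hq2
  exact Subtype.ext hq2.symm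

theorem right_cancel {F : FusionSystem S} {m : Subgroup (S × S) → ℕ} (hgen : Gen F m)
    (x : OrbSum m) {b c : S} (h : (((1 : S), b) : S × S) • x = (((1 : S), c) : S × S) • x) :
    b = c := by
  have h1 : (((1 : S), c⁻¹ * b) : S × S) • x = x := by
    have e : (((1 : S), c⁻¹ * b) : S × S) = ((1 : S), c)⁻¹ * ((1 : S), b) := by
      ext <;> simp
    rw [e, mul_smul, h, inv_smul_smul]
  have := right_free hgen x h1
  exact (inv_mul_eq_one.mp this).symm

/-- Park's group is transitive on the biset -/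
theorem park_transitive [Finite S] {F : FusionSystem S} {m : Subgroup (S × S) → ℕ}
    (hgen : Gen F m) (x y : OrbSum m) :
    ∃ g : ParkGroup m, (g : Equiv.Perm (OrbSum m)) x = y := by
  have hst : ∀ z : Pull (MonoidHom.inr S S) (OrbSum m), stabilizer S z = ⊥ := by
    intro z
    rw [eq_bot_iff]
    intro b hb
    rw [mem_stabilizer_iff, Pull.smul_def] at hb
    rw [Subgroup.mem_bot]
    exact right_free hgen z hb
  have key : ∃ f : OrbSum m ≃ OrbSum m,
      (∀ (b : S) (z : OrbSum m), f ((((1 : S), b) : S × S) • z) = (((1 : S), b) : S × S) • f z) ∧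
        f x = y := by
    obtain ⟨f, hf, hfxy⟩ := exists_equiv_map_point (K := S)
      (Y := Pull (MonoidHom.inr S S) (OrbSum m)) (y₀ := x) (y₀' := y) ((hst x).trans (hst y).symm)
    exact ⟨f, hf, hfxy⟩
  obtain ⟨f, hf, hfxy⟩ := key
  have hfmem : f ∈ ParkGroup m := by
    rw [mem_parkGroup]
    intro b z
    exact hf b z
  exact ⟨⟨f, hfmem⟩, hfxy⟩

/-- the stabilizer of the right orbit of `x₀` in Park's group -/
def parkStab (m : Subgroup (S × S) → ℕ) (x₀ : OrbSum m) : Subgroup (ParkGroup m) where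
  carrier := {g | ∃ b : S, (g : Equiv.Perm (OrbSum m)) x₀ = (((1 : S), b) : S × S) • x₀}
  one_mem' := ⟨1, by
    have e : (((1 : S), (1 : S)) : S × S) = 1 := rfl
    rw [e, one_smul]
    rfl⟩
  mul_mem' := by
    rintro g h ⟨b, hb⟩ ⟨c, hc⟩
    refine ⟨c * b, ?_⟩
    show g.1 (h.1 x₀) = _
    rw [hc, mem_parkGroup.mp g.2, hb, smul_smul]
    congr 1
    ext <;> simp
  inv_mem' := by
    rintro g ⟨b, hb⟩
    refine ⟨b⁻¹, ?_⟩
    show g.1⁻¹ x₀ = _
    rw [Equiv.Perm.inv_def, Equiv.symm_apply_eq, mem_parkGroup.mp g.2, hb, smul_smul]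
    have e : (((1 : S), b⁻¹) : S × S) * ((1 : S), b) = 1 := by
      ext <;> simp
    rw [e, one_smul]

theorem mem_parkStab {m : Subgroup (S × S) → ℕ} {x₀ : OrbSum m} {g : ParkGroup m} :
    g ∈ parkStab m x₀ ↔
      ∃ b : S, (g : Equiv.Perm (OrbSum m)) x₀ = (((1 : S), b) : S × S) • x₀ := Iff.rfl

/-- the element of `S` by which an element of the stabilizer of the right orbit moves the base point -/
noncomputable def rtElt {m : Subgroup (S × S) → ℕ} {x₀ : OrbSum m} (g : parkStab m x₀) : S :=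
  Classical.choose g.2

theorem rtElt_spec {m : Subgroup (S × S) → ℕ} {x₀ : OrbSum m} (g : parkStab m x₀) :
    ((g : ParkGroup m) : Equiv.Perm (OrbSum m)) x₀ = (((1 : S), rtElt g) : S × S) • x₀ :=
  Classical.choose_spec g.2

theorem rtElt_eq {F : FusionSystem S} {m : Subgroup (S × S) → ℕ} (hgen : Gen F m) {x₀ : OrbSum m}
    (g : parkStab m x₀) {b : S}
    (h : ((g : ParkGroup m) : Equiv.Perm (OrbSum m)) x₀ = (((1 : S), b) : S × S) • x₀) :
    rtElt g = b :=
  right_cancel hgen x₀ ((rtElt_spec g).symm.trans h)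

/-- the homomorphism from the stabilizer of the right orbit -/
noncomputable def parkϕ {F : FusionSystem S} {m : Subgroup (S × S) → ℕ} (hgen : Gen F m)
    (x₀ : OrbSum m) {A : Type*} [CommGroup A] (lam : S →* A) : parkStab m x₀ →* A where
  toFun g := (lam (rtElt g))⁻¹
  map_one' := by
    have : rtElt (1 : parkStab m x₀) = 1 := by
      apply rtElt_eq hgen
      have e : (((1 : S), (1 : S)) : S × S) = 1 := rfl
      rw [e, one_smul]
      rfl
    rw [this, map_one, inv_one]
  map_mul' := by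
    intro g h
    have : rtElt (g * h) = rtElt h * rtElt g := by
      apply rtElt_eq hgen
      show g.1.1 (h.1.1 x₀) = _
      rw [rtElt_spec h, mem_parkGroup.mp g.1.2, rtElt_spec g, smul_smul]
      congr 1
      ext <;> simp
    rw [this, map_mul, mul_inv, mul_comm]

theorem parkϕ_apply {F : FusionSystem S} {m : Subgroup (S × S) → ℕ} (hgen : Gen F m)
    (x₀ : OrbSum m) {A : Type*} [CommGroup A] (lam : S →* A) (g : parkStab m x₀) :
    parkϕ hgen x₀ lam g = (lam (rtElt g))⁻¹ := rfl

/-- the value of `parkϕ` on a conjugate of an element of `S` -/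
theorem parkϕ_conj {F : FusionSystem S} {m : Subgroup (S × S) → ℕ} (hgen : Gen F m)
    (x₀ : OrbSum m) {A : Type*} [CommGroup A] (lam : S →* A) (k : ParkGroup m) (v : S)
    (hmem : k⁻¹ * parkι m v * k ∈ parkStab m x₀) :
    ∃ s : S, ((v, s) : S × S) ∈ stabilizer (S × S) ((k : Equiv.Perm (OrbSum m)) x₀) ∧
      parkϕ hgen x₀ lam ⟨_, hmem⟩ = lam s := by
  refine ⟨(rtElt ⟨_, hmem⟩)⁻¹, ?_, ?_⟩
  · have h1 := rtElt_spec (⟨_, hmem⟩ : parkStab m x₀)
    have h2 : ((k⁻¹ * parkι m v * k : ParkGroup m) : Equiv.Perm (OrbSum m)) x₀ =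
        k.1⁻¹ (((v, (1 : S)) : S × S) • (k.1 x₀)) := rfl
    rw [h2, Equiv.Perm.inv_def, Equiv.symm_apply_eq, mem_parkGroup.mp k.2] at h1
    rw [mem_stabilizer_iff]
    have e : ((v, (rtElt (⟨_, hmem⟩ : parkStab m x₀))⁻¹) : S × S) =
        ((1 : S), rtElt (⟨_, hmem⟩ : parkStab m x₀))⁻¹ * (v, (1 : S)) := by
      ext <;> simp
    rw [e, mul_smul, h1, inv_smul_smul]
  · rw [parkϕ_apply, map_inv]

/-- the index of the stabilizer of a right orbit -/
theorem index_parkStab [Finite S] {F : FusionSystem S} {m : Subgroup (S × S) → ℕ}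
    (hgen : Gen F m) (x₀ : OrbSum m) :
    (parkStab m x₀).index * Nat.card S = Nat.card (OrbSum m) := by
  rw [Subgroup.index_eq_card, ← Nat.card_prod]
  let Φ : (ParkGroup m ⧸ parkStab m x₀) × S → OrbSum m := fun a =>
    (((1 : S), a.2) : S × S) • ((a.1.out : ParkGroup m) : Equiv.Perm (OrbSum m)) x₀
  have hΦ : Function.Bijective Φ := by
    constructor
    · rintro ⟨q, b⟩ ⟨q', b'⟩ h
      have h0 : (((1 : S), b) : S × S) • (q.out.1 x₀) = (((1 : S), b') : S × S) • (q'.out.1 x₀) := h
      have h1 : q.out.1 x₀ = (((1 : S), b⁻¹ * b') : S × S) • (q'.out.1 x₀) := by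
        have e : (((1 : S), b⁻¹ * b') : S × S) = ((1 : S), b)⁻¹ * ((1 : S), b') := by
          ext <;> simp
        rw [e, mul_smul, ← h0, inv_smul_smul]
      have h2 : q'.out⁻¹ * q.out ∈ parkStab m x₀ := by
        refine ⟨b⁻¹ * b', ?_⟩
        show q'.out.1⁻¹ (q.out.1 x₀) = _
        rw [Equiv.Perm.inv_def, Equiv.symm_apply_eq, mem_parkGroup.mp q'.out.2]
        exact h1
      have h3 : q' = q := by
        rw [← QuotientGroup.out_eq' q', ← QuotientGroup.out_eq' q]
        exact QuotientGroup.eq.mpr h2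
      subst h3
      have h4 := right_cancel hgen _ h0
      rw [h4]
    · intro x
      obtain ⟨g, hg⟩ := park_transitive hgen x₀ x
      obtain ⟨h, hh⟩ := QuotientGroup.mk_out_eq_mul (parkStab m x₀) g
      obtain ⟨c, hc⟩ := h.2
      refine ⟨(QuotientGroup.mk g, c⁻¹), ?_⟩
      show (((1 : S), c⁻¹) : S × S) •
        (((QuotientGroup.mk g : ParkGroup m ⧸ parkStab m x₀).out : ParkGroup m) :
          Equiv.Perm (OrbSum m)) x₀ = x
      rw [hh]
      show (((1 : S), c⁻¹) : S × S) • g.1 (h.1.1 x₀) = x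
      rw [hc, mem_parkGroup.mp g.2, hg, smul_smul]
      have e : (((1 : S), c⁻¹) : S × S) * ((1 : S), c) = 1 := by
        ext <;> simp
      rw [e, one_smul]
  exact Nat.card_congr (Equiv.ofBijective Φ hΦ)

/-- the transfer of the biset -/
noncomputable def bisetTransfer [Finite S] {F : FusionSystem S} {m : Subgroup (S × S) → ℕ}
    (hgen : Gen F m) (x₀ : OrbSum m) {A : Type*} [CommGroup A] (lam : S →* A) : S →* A :=
  (MonoidHom.transfer (parkϕ hgen x₀ lam)).comp (parkι m)

/-- the transfer of a stable biset is invariant under the maps of the system -/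
theorem bisetTransfer_map [Finite S] (F : FusionSystem S) {m : Subgroup (S × S) → ℕ}
    (hgen : Gen F m) (hstab : StabGe F m 0) (x₀ : OrbSum m) {A : Type*} [CommGroup A]
    (lam : S →* A) {P : Subgroup Ω} (hP : P ≤ S) {φ : P →* Ω} (hφ : φ ∈ F.Hom P) (u : P) :
    bisetTransfer hgen x₀ lam ⟨φ u, hom_mem_S F hφ u⟩ = bisetTransfer hgen x₀ lam ⟨u, hP u.2⟩ := by
  obtain ⟨g, hg⟩ := park_conj_of_mem F m hgen hstab hP hφ
  unfold bisetTransfer
  rw [MonoidHom.comp_apply, MonoidHom.comp_apply, hg u, map_mul, map_mul, map_inv,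
    mul_comm, inv_mul_cancel_left]

/-- the value of the transfer on an element all of whose powers are fixed by the maps of the stabilizers -/
theorem bisetTransfer_eq_pow [Finite S] {F : FusionSystem S} {m : Subgroup (S × S) → ℕ}
    (hgen : Gen F m) (x₀ : OrbSum m) {A : Type*} [CommGroup A] (lam : S →* A) (z : S)
    (hz : ∀ (y : OrbSum m) (n : ℕ) (s : S), ((z ^ n, s) : S × S) ∈ stabilizer (S × S) y →
      s = z ^ n) :
    bisetTransfer hgen x₀ lam z = lam z ^ (parkStab m x₀).index := by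
  classical
  have : Fintype (Quotient (MulAction.orbitRel (Subgroup.zpowers (parkι m z))
      (ParkGroup m ⧸ parkStab m x₀))) := Fintype.ofFinite _
  unfold bisetTransfer
  rw [MonoidHom.comp_apply, Subgroup.index_eq_sum_minimalPeriod (parkStab m x₀) (parkι m z),
    ← Finset.prod_pow_eq_pow_sum, MonoidHom.transfer_eq_prod_quotient_orbitRel_zpowers_quot]
  apply Finset.prod_congr rfl
  intro q _
  have hmem := QuotientGroup.out_conj_pow_minimalPeriod_mem (parkStab m x₀) (parkι m z) q.out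
  rw [← map_pow] at hmem
  obtain ⟨s, hs1, hs2⟩ := parkϕ_conj hgen x₀ lam q.out.out
    (z ^ Function.minimalPeriod (parkι m z • ·) q.out) hmem
  have hs3 := hz _ _ _ hs1
  rw [hs3] at hs2
  have e : lam (z ^ Function.minimalPeriod (parkι m z • ·) q.out) =
      lam z ^ Function.minimalPeriod (parkι m z • ·) q.out := map_pow _ _ _
  rw [e] at hs2
  rw [← hs2]
  congr 1
  apply Subtype.ext
  show _ = q.out.out⁻¹ * parkι m (z ^ Function.minimalPeriod (parkι m z • ·) q.out) * q.out.out
  rw [map_pow]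

end Cfsg.Agent.Lib.Helper88
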