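import Cfsg.Agent.Lib.Helper88.ParkBiset

set_option autoImplicit false

/-!
# Park's group

For a biset `X` (a finite `S × S`-set) the group of permutations of `X` commuting with the right action
of `S`, with `S` embedded by its left action.  For a biset generated by a fusion system `F`, stable, and
containing the orbit `S`, the fusion system induced on `S` is `F`.
-/

namespace Cfsg.Agent.Lib.Helper88

open Cfsg Cfsg.FusionSystem MulAction
open Cfsg.Agent.Lib.Helper87 (restrict_mem hom_le hom_mem_S isConj_refl isConj_symm isConj_trans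
  card_eq_of_isConj subtype_mem inv_exists)

variable {Ω : Type*} [Group Ω] {S : Subgroup Ω}

/-- the permutation of the biset given by an element of `S × S` -/
noncomputable def tp (m : Subgroup (S × S) → ℕ) : (S × S) →* Equiv.Perm (OrbSum m) :=
  MulAction.toPermHom (S × S) (OrbSum m)

theorem tp_apply (m : Subgroup (S × S) → ℕ) (g : S × S) (x : OrbSum m) : tp m g x = g • x := rfl

/-- the permutations of the biset commuting with the right action of `S` -/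
def ParkGroup (m : Subgroup (S × S) → ℕ) : Subgroup (Equiv.Perm (OrbSum m)) :=
  Subgroup.centralizer (Set.range fun b : S => tp m (1, b))

theorem mem_parkGroup {m : Subgroup (S × S) → ℕ} {f : Equiv.Perm (OrbSum m)} :
    f ∈ ParkGroup m ↔ ∀ (b : S) (x : OrbSum m), f (((1 : S), b) • x) = ((1 : S), b) • f x := by
  unfold ParkGroup
  rw [Subgroup.mem_centralizer_iff]
  constructor
  · intro h b x
    have h1 := h _ ⟨b, rfl⟩
    have h2 := congrArg (fun e : Equiv.Perm (OrbSum m) => e x) h1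
    exact h2.symm
  · rintro h _ ⟨b, rfl⟩
    ext x
    exact (h b x).symm

/-- the left action of `S` -/
noncomputable def parkι (m : Subgroup (S × S) → ℕ) : S →* ParkGroup m :=
  ((tp m).comp (MonoidHom.inl S S)).codRestrict _ (by
    intro a
    rw [mem_parkGroup]
    intro b x
    show ((a, (1 : S)) : S × S) • (((1 : S), b) • x) = ((1 : S), b) • (((a, (1 : S)) : S × S) • x)
    rw [smul_smul, smul_smul]
    congr 1
    simp)

theorem parkι_apply (m : Subgroup (S × S) → ℕ) (a : S) (x : OrbSum m) :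
    ((parkι m a : ParkGroup m) : Equiv.Perm (OrbSum m)) x = ((a, (1 : S)) : S × S) • x := rfl

/-- the point stabilizers of a generated biset are graphs -/
theorem inTw_stabilizer {F : FusionSystem S} {m : Subgroup (S × S) → ℕ} (hgen : Gen F m)
    (x : OrbSum m) : InTw F (stabilizer (S × S) x) := by
  rw [OrbSum.stabilizer_eq]
  have hm : m x.H ≠ 0 := by
    intro h0
    have := x.i
    rw [h0] at this
    exact this.elim0
  induction x.q using QuotientGroup.induction_on with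
  | H g =>
    rw [stabilizer_mk]
    exact ((hgen _ hm).conj g).1

theorem parkι_injective {F : FusionSystem S} {m : Subgroup (S × S) → ℕ} (hgen : Gen F m)
    (x₀ : OrbSum m) : Function.Injective (parkι m) := by
  rw [injective_iff_map_eq_one]
  intro a ha
  have h1 : ((a, (1 : S)) : S × S) • x₀ = x₀ := by
    rw [← parkι_apply, ha]
    rfl
  obtain ⟨Q, ψ, hψ, hD⟩ := inTw_stabilizer hgen x₀
  obtain ⟨q, hq1, hq2⟩ := (hD _).mp (mem_stabilizer_iff.mpr h1)
  have h2 : ψ q = ψ 1 := by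
    rw [map_one]
    exact hq2
  have h3 : q = 1 := F.injective_of_mem hψ h2
  apply Subtype.ext
  rw [← hq1, h3]
  rfl

/-- maps of the system are induced by conjugation in Park's group -/
theorem park_conj_of_mem [Finite S] (F : FusionSystem S) (m : Subgroup (S × S) → ℕ)
    (hgen : Gen F m) (hstab : StabGe F m 0) {P : Subgroup Ω} (hP : P ≤ S) {φ : P →* Ω}
    (hφ : φ ∈ F.Hom P) :
    ∃ g : ParkGroup m, ∀ x : P,
      parkι m ⟨φ x, hom_mem_S F hφ x⟩ = g * parkι m ⟨x, hP x.2⟩ * g⁻¹ := by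
  have hφS := hom_mem_S F hφ
  -- the two homomorphisms `P × S → S × S`
  let φ' : ↥(P.subgroupOf S) →* ↥S :=
    (φ.comp (Subgroup.subgroupOfEquivOfLe hP).toMonoidHom).codRestrict S (fun a => hφS _)
  let j₁ : ↥(P.subgroupOf S) × ↥S →* ↥S × ↥S := (P.subgroupOf S).subtype.prodMap (MonoidHom.id S)
  let j₂ : ↥(P.subgroupOf S) × ↥S →* ↥S × ↥S := φ'.prodMap (MonoidHom.id S)
  have hφ' : ∀ a : ↥(P.subgroupOf S), ((φ' a : S) : Ω) = φ ⟨a.1.1, a.2⟩ := fun a => rfl
  have hj₁ : ∀ k : ↥(P.subgroupOf S) × ↥S, j₁ k = (k.1.1, k.2) := fun k => rfl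
  have hj₂ : ∀ k : ↥(P.subgroupOf S) × ↥S, j₂ k = (φ' k.1, k.2) := fun k => rfl
  have hA : ∀ V : Subgroup (↥(P.subgroupOf S) × ↥S), InTw F (V.map j₁) →
      InTw F (V.map j₂) ∧ F.IsConj (pr1 (V.map j₁)) (pr1 (V.map j₂)) := by
    rintro V ⟨Q, ψ, hψ, hD⟩
    have hQP : Q ≤ P := by
      intro q hq
      obtain ⟨k, -, hk⟩ := (hD (⟨q, hom_le F hψ hq⟩, ⟨ψ ⟨q, hq⟩, hom_mem_S F hψ _⟩)).mpr
        ⟨⟨q, hq⟩, rfl, rfl⟩
      have : (k.1.1 : Ω) = q := by
        have := congrArg (fun g : S × S => (g.1 : Ω)) hk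
        exact this
      rw [← this]
      exact k.1.2
    refine InTw.transport F hψ hD hφ (subtype_mem F (le_refl S)) hQP (hom_mem_S F hψ) fun g' => ?_
    constructor
    · rintro ⟨k, hk, rfl⟩
      obtain ⟨q, hq1, hq2⟩ := (hD _).mp ⟨k, hk, rfl⟩
      refine ⟨q, ?_, hq2⟩
      show φ ⟨q, _⟩ = φ ⟨k.1.1, k.1.2⟩
      congr 1
      exact Subtype.ext hq1
    · rintro ⟨q, h1, h2⟩
      obtain ⟨k, hk, hk2⟩ := (hD (⟨q, hom_le F hψ q.2⟩, ⟨ψ q, hom_mem_S F hψ q⟩)).mpr ⟨q, rfl, rfl⟩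
      refine ⟨k, hk, ?_⟩
      have e1 : (k.1.1 : Ω) = q := congrArg (fun g : S × S => (g.1 : Ω)) hk2
      have e2 : (k.2 : Ω) = ψ q := congrArg (fun g : S × S => (g.2 : Ω)) hk2
      apply Prod.ext
      · apply Subtype.ext
        rw [← h1]
        show φ ⟨k.1.1, k.1.2⟩ = φ ⟨q, _⟩
        congr 1
        exact Subtype.ext e1
      · apply Subtype.ext
        rw [← h2]
        exact e2
  have hB : ∀ V : Subgroup (↥(P.subgroupOf S) × ↥S), InTw F (V.map j₂) → InTw F (V.map j₁) := by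
    rintro V ⟨Q, ψ, hψ, hD⟩
    obtain ⟨ρ, hρ, hρinv, -⟩ := inv_exists F hφ rfl
    have hQR : Q ≤ φ.range := by
      intro q hq
      obtain ⟨k, -, hk⟩ := (hD (⟨q, hom_le F hψ hq⟩, ⟨ψ ⟨q, hq⟩, hom_mem_S F hψ _⟩)).mpr
        ⟨⟨q, hq⟩, rfl, rfl⟩
      have : ((φ' k.1 : S) : Ω) = q := congrArg (fun g : S × S => (g.1 : Ω)) hk
      rw [← this]
      exact ⟨_, rfl⟩
    refine (InTw.transport F hψ hD hρ (subtype_mem F (le_refl S)) hQR (hom_mem_S F hψ)
      fun g' => ?_).1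
    constructor
    · rintro ⟨k, hk, rfl⟩
      obtain ⟨q, hq1, hq2⟩ := (hD _).mp ⟨k, hk, rfl⟩
      refine ⟨q, ?_, hq2⟩
      have e : (⟨q, hQR q.2⟩ : φ.range) = ⟨φ ⟨k.1.1, k.1.2⟩, ⟨_, rfl⟩⟩ := Subtype.ext hq1
      have e' := hρinv ⟨(k.1.1 : Ω), k.1.2⟩ ⟨_, rfl⟩
      rw [e]
      exact e'
    · rintro ⟨q, h1, h2⟩
      obtain ⟨k, hk, hk2⟩ := (hD (⟨q, hom_le F hψ q.2⟩, ⟨ψ q, hom_mem_S F hψ q⟩)).mpr ⟨q, rfl, rfl⟩
      refine ⟨k, hk, ?_⟩
      have e1 : φ ⟨k.1.1, k.1.2⟩ = q := congrArg (fun g : S × S => (g.1 : Ω)) hk2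
      have e2 : (k.2 : Ω) = ψ q := congrArg (fun g : S × S => (g.2 : Ω)) hk2
      apply Prod.ext
      · apply Subtype.ext
        rw [← h1]
        have e : (⟨q, hQR q.2⟩ : φ.range) = ⟨φ ⟨k.1.1, k.1.2⟩, ⟨_, rfl⟩⟩ := Subtype.ext e1.symm
        have e' := hρinv ⟨(k.1.1 : Ω), k.1.2⟩ ⟨_, rfl⟩
        rw [e]
        exact e'.symm
      · apply Subtype.ext
        rw [← h2]
        exact e2
  have hmarks : ∀ V : Subgroup (↥(P.subgroupOf S) × ↥S),
      mkCount (V.map j₁) (OrbSum m) = mkCount (V.map j₂) (OrbSum m) := by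
    intro V
    by_cases h1 : InTw F (V.map j₁)
    · obtain ⟨h2, h3⟩ := hA V h1
      exact hstab _ _ h1 h2 (Nat.zero_le _) h3
    · have h2 : ¬ InTw F (V.map j₂) := fun h2 => h1 (hB V h2)
      have e1 : mark m (V.map j₁) = 0 := by
        by_contra hne
        exact h1 (inTw_of_mark_ne_zero hgen hne)
      have e2 : mark m (V.map j₂) = 0 := by
        by_contra hne
        exact h2 (inTw_of_mark_ne_zero hgen hne)
      exact e1.trans e2.symm
  obtain ⟨f, hf⟩ := exists_equiv_of_hom j₁ j₂ hmarks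
  have hfmem : f ∈ ParkGroup m := by
    rw [mem_parkGroup]
    intro b x
    have := hf (1, b) x
    rw [hj₁, hj₂] at this
    have e : φ' (1 : ↥(P.subgroupOf S)) = 1 := map_one φ'
    rw [e] at this
    exact this
  refine ⟨⟨f, hfmem⟩, fun x => ?_⟩
  apply Subtype.ext
  apply Equiv.ext
  intro y
  show (((⟨φ x, hφS x⟩ : S), (1 : S)) : S × S) • y =
    f ((((⟨x, hP x.2⟩ : S), (1 : S)) : S × S) • (f.symm y))
  have := hf ((⟨⟨x, hP x.2⟩, x.2⟩ : ↥(P.subgroupOf S)), (1 : S)) (f.symm y)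
  rw [hj₁, hj₂] at this
  rw [this, Equiv.apply_symm_apply]
  rfl

/-- the base point of the orbit `S` -/
def basePt (m : Subgroup (S × S) → ℕ) (hdiag : 1 ≤ m (diagS S)) : OrbSum m :=
  ⟨diagS S, ⟨0, hdiag⟩, ((1 : S × S) : (S × S) ⧸ diagS S)⟩

theorem stabilizer_basePt (m : Subgroup (S × S) → ℕ) (hdiag : 1 ≤ m (diagS S)) :
    stabilizer (S × S) (basePt m hdiag) = diagS S := by
  rw [OrbSum.stabilizer_eq]
  exact stabilizer_quotient (diagS S)

theorem mem_diagS {g : S × S} : g ∈ diagS S ↔ g.1 = g.2 := by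
  have h : g ∈ diagS S ↔ ∃ q : S, (q : Ω) = g.1 ∧ S.subtype q = g.2 :=
    isGraphOf_tw S.subtype (le_refl S) (fun x => x.2) g
  rw [h]
  constructor
  · rintro ⟨q, h1, h2⟩
    apply Subtype.ext
    rw [← h1, ← h2]
    rfl
  · intro h
    exact ⟨g.1, rfl, congrArg (fun s : S => (s : Ω)) h⟩

/-- homomorphisms induced by conjugation in Park's group are maps of the system -/
theorem park_mem_of_conj (F : FusionSystem S) (m : Subgroup (S × S) → ℕ)
    (hgen : Gen F m) (hdiag : 1 ≤ m (diagS S)) {P : Subgroup Ω} (hP : P ≤ S) {φ : P →* Ω}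
    (hφS : ∀ x, φ x ∈ S) (g : ParkGroup m)
    (hg : ∀ x : P, parkι m ⟨φ x, hφS x⟩ = g * parkι m ⟨x, hP x.2⟩ * g⁻¹) : φ ∈ F.Hom P := by
  obtain ⟨Q, ψ, hψ, hD⟩ := inTw_stabilizer hgen (g.1 (basePt m hdiag))
  have key : ∀ u : P, ∃ h : φ u ∈ Q, ψ ⟨φ u, h⟩ = u := by
    intro u
    have h1 : (((⟨φ u, hφS u⟩ : S), (1 : S)) : S × S) • (g.1 (basePt m hdiag)) =
        g.1 ((((⟨u, hP u.2⟩ : S), (1 : S)) : S × S) • basePt m hdiag) := by
      have h0 := congrArg (fun e : ParkGroup m => (e : Equiv.Perm (OrbSum m)) (g.1 (basePt m hdiag)))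
        (hg u)
      have e2 : ((g * parkι m ⟨u, hP u.2⟩ * g⁻¹ : ParkGroup m) : Equiv.Perm (OrbSum m))
          (g.1 (basePt m hdiag)) = g.1 ((parkι m ⟨u, hP u.2⟩).1 (basePt m hdiag)) := by
        show g.1 ((parkι m ⟨u, hP u.2⟩).1 (g.1⁻¹ (g.1 (basePt m hdiag)))) = _
        rw [Equiv.Perm.inv_def, Equiv.symm_apply_apply]
      exact h0.trans e2
    have h2 : (((⟨u, hP u.2⟩ : S), (⟨u, hP u.2⟩ : S)) : S × S) • basePt m hdiag = basePt m hdiag := by
      rw [← mem_stabilizer_iff, stabilizer_basePt, mem_diagS]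
    have h3 : (((⟨u, hP u.2⟩ : S), (1 : S)) : S × S) • basePt m hdiag =
        (((1 : S), (⟨u, hP u.2⟩ : S)⁻¹) : S × S) • basePt m hdiag := by
      conv_rhs => rw [← h2, smul_smul]
      congr 1
      simp
    have h4 := (mem_parkGroup.mp g.2) (⟨u, hP u.2⟩ : S)⁻¹ (basePt m hdiag)
    rw [h3, h4] at h1
    have h5 : (((⟨φ u, hφS u⟩ : S), (⟨u, hP u.2⟩ : S)) : S × S) ∈
        stabilizer (S × S) (g.1 (basePt m hdiag)) := by
      rw [mem_stabilizer_iff]
      have e : (((⟨φ u, hφS u⟩ : S), (⟨u, hP u.2⟩ : S)) : S × S) =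
          ((1 : S), (⟨u, hP u.2⟩ : S)) * ((⟨φ u, hφS u⟩ : S), (1 : S)) := by simp
      rw [e, mul_smul, h1, smul_smul]
      have e3 : ((1 : S), (⟨u, hP u.2⟩ : S)) * ((1 : S), (⟨u, hP u.2⟩ : S)⁻¹) = (1 : S × S) := by
        ext <;> simp
      rw [e3, one_smul]
    obtain ⟨q, hq1, hq2⟩ := (hD _).mp h5
    have hmem : φ u ∈ Q := by
      have : (q : Ω) = φ u := hq1
      rw [← this]
      exact q.2
    refine ⟨hmem, ?_⟩
    have e : (⟨φ u, hmem⟩ : Q) = q := Subtype.ext hq1.symm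
    rw [e]
    exact hq2
  have hRQ : φ.range ≤ Q := by
    rintro _ ⟨u, rfl⟩
    exact (key u).1
  have hψR : ψ.comp (Subgroup.inclusion hRQ) ∈ F.Hom φ.range := restrict_mem F hψ hRQ
  have hval : ∀ u : P, (ψ.comp (Subgroup.inclusion hRQ)) ⟨φ u, ⟨u, rfl⟩⟩ = u := by
    intro u
    exact (key u).2
  have hr : (ψ.comp (Subgroup.inclusion hRQ)).range = P := by
    ext x
    constructor
    · rintro ⟨⟨_, u, rfl⟩, rfl⟩
      rw [hval]
      exact u.2
    · intro hx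
      exact ⟨⟨φ ⟨x, hx⟩, ⟨_, rfl⟩⟩, hval ⟨x, hx⟩⟩
  obtain ⟨χ, hχ, hχinv, -⟩ := inv_exists F hψR hr
  have e : χ = φ := by
    ext u
    have h1 := hχinv ⟨φ u, ⟨u, rfl⟩⟩ (by rw [hval]; exact u.2)
    have e2 : (⟨(ψ.comp (Subgroup.inclusion hRQ)) ⟨φ u, ⟨u, rfl⟩⟩, by rw [hval]; exact u.2⟩ : P) = u :=
      Subtype.ext (hval u)
    rw [e2] at h1
    exact h1
  rw [← e]
  exact hχ

end Cfsg.Agent.Lib.Helper88
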