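import Cfsg.Agent.Lib.Helper88.CharBiset
import Cfsg.Agent.Lib.Helper88.ParkGroup

set_option autoImplicit false

/-!
# The characteristic biset, with a base point

The characteristic biset of a saturated fusion system contains a point whose stabilizer is the diagonal,
and maps induced by Park's group are maps of the system (with an arbitrary such base point).
-/

namespace Cfsg.Agent.Lib.Helper88

open Cfsg Cfsg.FusionSystem MulAction
open Cfsg.Agent.Lib.Helper87 (restrict_mem hom_le hom_mem_S isConj_refl isConj_symm isConj_trans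
  card_eq_of_isConj subtype_mem mem_autGroup_iff mem_autInducedBy_iff inv_exists)

variable {Ω : Type*} [Group Ω] {S : Subgroup Ω}

theorem card_diagS [Finite S] : Nat.card (diagS S) = Nat.card S :=
  (isGraphOf_tw S.subtype (le_refl S) (fun x => x.2)).card_eq (le_refl S) (fun x => x.2)

/-- **The characteristic biset, with a base point.** -/
theorem exists_char_biset_pt [Finite S] {p : ℕ} [Fact p.Prime] (hS : IsPGroup p S)
    (F : FusionSystem S) (hF : F.IsSaturated p) :
    ∃ m : Subgroup (S × S) → ℕ, Gen F m ∧ StabGe F m 0 ∧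
      (∃ n : ℕ, Nat.card (OrbSum m) = n * Nat.card S ∧ ¬ p ∣ n) ∧
      ∃ x₀ : OrbSum m, stabilizer (S × S) x₀ = diagS S := by
  classical
  have := Fintype.ofFinite (Subgroup (S × S))
  obtain ⟨m, hgen, hstab, htop⟩ :=
    exists_sat_stable hS F hF (topOrb F) (gen_topOrb F) (stabGe_topOrb F)
  refine ⟨m, hgen, hstab, ⟨∑ H : Subgroup (S × S), m H * (Nat.card S / Nat.card H), ?_, ?_⟩, ?_⟩
  · rw [card_orbSum, Finset.sum_mul]
    refine Finset.sum_congr rfl fun H _ => ?_
    by_cases h0 : m H = 0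
    · rw [h0, zero_mul, zero_mul, zero_mul]
    · have hdvd := (hgen H h0).card_dvd
      rw [Nat.card_prod, Nat.mul_div_assoc _ hdvd, mul_assoc, mul_comm (Nat.card S)]
  · obtain ⟨-, R, hR⟩ := (top_automized_receptive F p hF).1
    have hidx : ¬ p ∣ ((autInducedBy S S).subgroupOf (F.autGroup S)).index := by
      rw [← hR]
      exact R.not_dvd_index
    have hp : p.Prime := Fact.out
    obtain ⟨a, ha⟩ := IsPGroup.exists_card_eq hS
    have hmod : ∑ H : Subgroup (S × S), m H * (Nat.card S / Nat.card H) ≡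
        ∑ H : Subgroup (S × S), topOrb F H [MOD p] := by
      apply Nat.ModEq.sum
      intro H _
      by_cases hc : Nat.card H = Nat.card S
      · rw [htop H hc.ge, hc, Nat.div_self Nat.card_pos, mul_one]
      · have ht : topOrb F H = 0 := by
          by_contra hne
          exact hc (topOrb_ne_zero hne).2.1
        rw [ht]
        by_cases h0 : m H = 0
        · rw [h0, zero_mul]
        · have hdvd := (hgen H h0).card_dvd
          rw [ha] at hdvd
          obtain ⟨b, hb, hbe⟩ := (Nat.dvd_prime_pow hp).mp hdvd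
          have hne : b ≠ a := by
            intro h
            apply hc
            rw [hbe, ha, h]
          have hlt : b < a := lt_of_le_of_ne hb hne
          rw [ha, hbe, Nat.pow_div hb hp.pos]
          apply Nat.modEq_zero_iff_dvd.mpr
          apply Dvd.dvd.mul_left
          exact dvd_pow_self p (by omega)
    rw [sum_topOrb] at hmod
    intro hdvd
    apply hidx
    exact (Nat.modEq_zero_iff_dvd.mp (hmod.symm.trans (Nat.modEq_zero_iff_dvd.mpr hdvd)))
  · -- the base point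
    obtain ⟨g, hg⟩ := rep_spec (diagS S)
    have hrepeq : rep (diagS S) = cjs g⁻¹ (diagS S) := by
      conv_rhs => rw [hg]
      rw [← cjs_mul, inv_mul_cancel, cjs_one]
    have hin : InTw F (rep (diagS S)) := by
      rw [hrepeq]
      exact ((inTw_diagS F).conj g⁻¹).1
    have hcard : Nat.card (rep (diagS S)) = Nat.card S := by
      rw [card_rep, card_diagS]
    have hm : m (rep (diagS S)) = 1 := by
      rw [htop _ hcard.ge]
      exact topOrb_eq_one ⟨hin, hcard, rep_rep _⟩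
    refine ⟨⟨rep (diagS S), ⟨0, by rw [hm]; exact Nat.one_pos⟩,
      ((g : S × S) : (S × S) ⧸ rep (diagS S))⟩, ?_⟩
    rw [OrbSum.stabilizer_eq]
    show stabilizer (S × S) ((g : S × S) : (S × S) ⧸ rep (diagS S)) = diagS S
    rw [stabilizer_mk, ← hg]

/-- homomorphisms induced by conjugation in Park's group are maps of the system -/
theorem park_mem_of_conj' (F : FusionSystem S) (m : Subgroup (S × S) → ℕ)
    (hgen : Gen F m) (x₀ : OrbSum m) (hx₀ : stabilizer (S × S) x₀ = diagS S)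
    {P : Subgroup Ω} (hP : P ≤ S) {φ : P →* Ω}
    (hφS : ∀ x, φ x ∈ S) (g : ParkGroup m)
    (hg : ∀ x : P, parkι m ⟨φ x, hφS x⟩ = g * parkι m ⟨x, hP x.2⟩ * g⁻¹) : φ ∈ F.Hom P := by
  obtain ⟨Q, ψ, hψ, hD⟩ := inTw_stabilizer hgen (g.1 x₀)
  have key : ∀ u : P, ∃ h : φ u ∈ Q, ψ ⟨φ u, h⟩ = u := by
    intro u
    have h1 : (((⟨φ u, hφS u⟩ : S), (1 : S)) : S × S) • (g.1 x₀) =
        g.1 ((((⟨u, hP u.2⟩ : S), (1 : S)) : S × S) • x₀) := by
      have h0 := congrArg (fun e : ParkGroup m => (e : Equiv.Perm (OrbSum m)) (g.1 x₀))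
        (hg u)
      have e2 : ((g * parkι m ⟨u, hP u.2⟩ * g⁻¹ : ParkGroup m) : Equiv.Perm (OrbSum m))
          (g.1 x₀) = g.1 ((parkι m ⟨u, hP u.2⟩).1 x₀) := by
        show g.1 ((parkι m ⟨u, hP u.2⟩).1 (g.1⁻¹ (g.1 x₀))) = _
        rw [Equiv.Perm.inv_def, Equiv.symm_apply_apply]
      exact h0.trans e2
    have h2 : (((⟨u, hP u.2⟩ : S), (⟨u, hP u.2⟩ : S)) : S × S) • x₀ = x₀ := by
      rw [← mem_stabilizer_iff, hx₀, mem_diagS]
    have h3 : (((⟨u, hP u.2⟩ : S), (1 : S)) : S × S) • x₀ =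
        (((1 : S), (⟨u, hP u.2⟩ : S)⁻¹) : S × S) • x₀ := by
      conv_rhs => rw [← h2, smul_smul]
      congr 1
      simp
    have h4 := (mem_parkGroup.mp g.2) (⟨u, hP u.2⟩ : S)⁻¹ x₀
    rw [h3, h4] at h1
    have h5 : (((⟨φ u, hφS u⟩ : S), (⟨u, hP u.2⟩ : S)) : S × S) ∈
        stabilizer (S × S) (g.1 x₀) := by
      rw [mem_stabilizer_iff]
      have e : (((⟨φ u, hφS u⟩ : S), (⟨u, hP u.2⟩ : S)) : S × S) =
          ((1 : S), (⟨u, hP u.2⟩ : S)) * ((⟨φ u, hφS u⟩ : S), (1 : S)) := by simp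
      rw [e, mul_smul, h1, smul_smul]
      have e3 : ((1 : S), (⟨u, hP u.2⟩ : S)) * ((1 : S), (⟨u, hP u.2⟩ : S)⁻¹) = (1 : S × S) := by
        ext <;> simp
      rw [e3, one_smul]
    obtain ⟨q, hq1, hq2⟩ := (hD _).mp h5
    have hmem : φ u ∈ Q := by
      have : (q : Ω) = φ u := hq1
      rw [← this]
      exact q.2
    refine ⟨hmem, ?_⟩
    have e : (⟨φ u, hmem⟩ : Q) = q := Subtype.ext hq1.symm
    rw [e]
    exact hq2
  have hRQ : φ.range ≤ Q := by
    rintro _ ⟨u, rfl⟩
    exact (key u).1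
  have hψR : ψ.comp (Subgroup.inclusion hRQ) ∈ F.Hom φ.range :=
    Cfsg.Agent.Lib.Helper87.restrict_mem F hψ hRQ
  have hval : ∀ u : P, (ψ.comp (Subgroup.inclusion hRQ)) ⟨φ u, ⟨u, rfl⟩⟩ = u := by
    intro u
    exact (key u).2
  have hr : (ψ.comp (Subgroup.inclusion hRQ)).range = P := by
    ext x
    constructor
    · rintro ⟨⟨_, u, rfl⟩, rfl⟩
      rw [hval]
      exact u.2
    · intro hx
      exact ⟨⟨φ ⟨x, hx⟩, ⟨_, rfl⟩⟩, hval ⟨x, hx⟩⟩
  obtain ⟨χ, hχ, hχinv, -⟩ := inv_exists F hψR hr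
  have e : χ = φ := by
    ext u
    have h1 := hχinv ⟨φ u, ⟨u, rfl⟩⟩ (by rw [hval]; exact u.2)
    have e2 : (⟨(ψ.comp (Subgroup.inclusion hRQ)) ⟨φ u, ⟨u, rfl⟩⟩, by rw [hval]; exact u.2⟩ : P) = u :=
      Subtype.ext (hval u)
    rw [e2] at h1
    exact h1
  rw [← e]
  exact hχ

end Cfsg.Agent.Lib.Helper88
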