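import Mathlib
import Cfsg.Statements.S2924
import Cfsg.Agent.Lib.Helper22.CharP2
import Cfsg.Agent.Lib.Helper22.FStar
import Cfsg.Agent.Lib.Helper22.OcDefs

/-!
# Oc hive (S2924, helper22), leaf OC3b: if `z` inverts `N ⊴ H` and a component `K` of `H/N` commutes with the image
of `C_H(N)`, then the image of `z` centralizes `K` (three subgroups lemma + `K` perfect).
-/

set_option autoImplicit false
open Cfsg Subgroup

namespace Cfsg.Agent.Lib.Helper22.Oc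

universe u

/-- if `z` inverts the normal subgroup `N`, so does `z⁻¹` -/
theorem oc3b_inv_inverts {H : Type u} [Group H] (N : Subgroup H) [N.Normal]
    (z : H) (hinv : ∀ n ∈ N, z * n * z⁻¹ = n⁻¹) : ∀ n ∈ N, z⁻¹ * n * z⁻¹⁻¹ = n⁻¹ := by
  intro n hn
  rw [inv_inv]
  have hm : z⁻¹ * n * z ∈ N := by
    have := ‹N.Normal›.conj_mem n hn z⁻¹
    simpa using this
  have h1 := hinv _ hm
  have h2 : z * (z⁻¹ * n * z) * z⁻¹ = n := by group
  rw [h2] at h1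
  calc z⁻¹ * n * z = ((z⁻¹ * n * z)⁻¹)⁻¹ := (inv_inv _).symm
    _ = n⁻¹ := by rw [← h1]

/-- `⁅h, z⁆` centralizes `N` when `z` inverts the normal subgroup `N`. -/
theorem oc3b_comm_mem {H : Type u} [Group H] (N : Subgroup H) [N.Normal]
    (z : H) (hinv : ∀ n ∈ N, z * n * z⁻¹ = n⁻¹) (h : H) :
    h * z * h⁻¹ * z⁻¹ ∈ centralizer (N : Set H) := by
  have hinv' : ∀ n ∈ N, z⁻¹ * n * z = n⁻¹ := by
    intro n hn
    have := oc3b_inv_inverts N z hinv n hn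
    rwa [inv_inv] at this
  rw [mem_centralizer_iff]
  intro n hn
  have hn' : n ∈ N := hn
  have h1 : z⁻¹ * n * z = n⁻¹ := hinv' n hn'
  have hm : h⁻¹ * n⁻¹ * h ∈ N := by
    have := ‹N.Normal›.conj_mem n⁻¹ (N.inv_mem hn') h⁻¹
    simpa using this
  have h2 : z * (h⁻¹ * n⁻¹ * h) * z⁻¹ = (h⁻¹ * n⁻¹ * h)⁻¹ := hinv _ hm
  have key : (h * z * h⁻¹ * z⁻¹) * n * (h * z * h⁻¹ * z⁻¹)⁻¹ = n := by
    calc (h * z * h⁻¹ * z⁻¹) * n * (h * z * h⁻¹ * z⁻¹)⁻¹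
        = h * (z * (h⁻¹ * (z⁻¹ * n * z) * h) * z⁻¹) * h⁻¹ := by group
      _ = h * (z * (h⁻¹ * n⁻¹ * h) * z⁻¹) * h⁻¹ := by rw [h1]
      _ = h * (h⁻¹ * n⁻¹ * h)⁻¹ * h⁻¹ := by rw [h2]
      _ = n := by group
  calc n * (h * z * h⁻¹ * z⁻¹)
      = ((h * z * h⁻¹ * z⁻¹) * n * (h * z * h⁻¹ * z⁻¹)⁻¹) * (h * z * h⁻¹ * z⁻¹) := by rw [key]
    _ = (h * z * h⁻¹ * z⁻¹) * n := by group

/-- the form needed for the quotient: `(h z)⁻¹ (z h)` centralizes `N` -/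
theorem oc3b_comm_mem' {H : Type u} [Group H] (N : Subgroup H) [N.Normal]
    (z : H) (hinv : ∀ n ∈ N, z * n * z⁻¹ = n⁻¹) (h : H) :
    (h * z)⁻¹ * (z * h) ∈ centralizer (N : Set H) := by
  have h1 := oc3b_comm_mem N z⁻¹ (oc3b_inv_inverts N z hinv) h⁻¹
  have h2 := (centralizer (N : Set H)).inv_mem h1
  have e : (h⁻¹ * z⁻¹ * h⁻¹⁻¹ * z⁻¹⁻¹)⁻¹ = (h * z)⁻¹ * (z * h) := by group
  rwa [e] at h2

/-- OC3b. If `z` inverts `N ⊴ H` and a component `K` of `H/N` commutes with the image of `C_H(N)`,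
then the image of `z` centralizes `K`. -/
theorem oc3b {H : Type u} [Group H] [Finite H] (N : Subgroup H) [N.Normal]
    (z : H) (hinv : ∀ n ∈ N, z * n * z⁻¹ = n⁻¹)
    (K : Subgroup (H ⧸ N)) (hK : IsComponent K)
    (hKC : ∀ k ∈ K, ∀ c ∈ centralizer (N : Set H),
      k * (QuotientGroup.mk c : H ⧸ N) = (QuotientGroup.mk c : H ⧸ N) * k) :
    K ≤ centralizer ({(QuotientGroup.mk z : H ⧸ N)} : Set (H ⧸ N)) := by
  classical
  -- the image of `C_H(N)`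
  set Cb : Subgroup (H ⧸ N) := (centralizer (N : Set H)).map (QuotientGroup.mk' N) with hCb
  have hCbn : Cb.Normal :=
    Subgroup.Normal.map inferInstance (QuotientGroup.mk' N) (QuotientGroup.mk'_surjective N)
  -- `B` : elements central modulo `Cb`
  set B : Subgroup (H ⧸ N) := (center ((H ⧸ N) ⧸ Cb)).comap (QuotientGroup.mk' Cb) with hB
  have hzB : (QuotientGroup.mk z : H ⧸ N) ∈ B := by
    rw [hB, mem_comap, mem_center_iff]
    intro x
    obtain ⟨q, rfl⟩ := QuotientGroup.mk'_surjective Cb x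
    obtain ⟨h, rfl⟩ := QuotientGroup.mk'_surjective N q
    rw [← map_mul, ← map_mul]
    apply (QuotientGroup.eq (s := Cb)).2
    -- `(h z)⁻¹ (z h) ∈ Cb`
    have hmem := oc3b_comm_mem' N z hinv h
    refine ⟨(h * z)⁻¹ * (z * h), hmem, ?_⟩
    simp only [QuotientGroup.mk'_apply, QuotientGroup.mk_mul, QuotientGroup.mk_inv]
  -- `⁅K, B⁆ ≤ Cb`
  have hKB : ⁅K, B⁆ ≤ Cb := by
    rw [commutator_le]
    intro a _ b hb
    rw [hB, mem_comap, mem_center_iff] at hb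
    have h1 := hb (QuotientGroup.mk' Cb a)
    rw [← QuotientGroup.eq_one_iff (N := Cb), commutatorElement_def]
    have : ((a * b * a⁻¹ * b⁻¹ : H ⧸ N) : (H ⧸ N) ⧸ Cb) =
        (QuotientGroup.mk' Cb a) * (QuotientGroup.mk' Cb b) * (QuotientGroup.mk' Cb a)⁻¹ *
          (QuotientGroup.mk' Cb b)⁻¹ := by
      simp only [QuotientGroup.mk'_apply, QuotientGroup.mk_mul, QuotientGroup.mk_inv]
    rw [this, h1]
    group
  -- `⁅Cb, K⁆ = ⊥`
  have hCK : ⁅Cb, K⁆ = ⊥ := by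
    rw [commutator_eq_bot_iff_le_centralizer]
    intro c hc
    rw [hCb, mem_map] at hc
    obtain ⟨c0, hc0, rfl⟩ := hc
    rw [mem_centralizer_iff]
    intro k hk
    exact hKC k hk c0 hc0
  have h1 : ⁅⁅K, B⁆, K⁆ = ⊥ := by
    rw [eq_bot_iff, ← hCK]
    exact commutator_mono hKB le_rfl
  have h2 : ⁅⁅B, K⁆, K⁆ = ⊥ := by
    rw [commutator_comm B K]; exact h1
  have h3 : ⁅⁅K, K⁆, B⁆ = ⊥ := commutator_commutator_eq_bot_of_rotate h1 h2
  rw [Cfsg.Agent.Lib.Helper22.component_perfect hK, commutator_eq_bot_iff_le_centralizer] at h3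
  intro k hk
  have h4 := h3 hk
  rw [mem_centralizer_iff] at h4 ⊢
  intro y hy
  rw [Set.mem_singleton_iff] at hy
  subst hy
  exact h4 _ hzB

end Cfsg.Agent.Lib.Helper22.Oc
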