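import Cfsg.Agent.Lib.Helper37.GtDefs
import Cfsg.Agent.Lib.Helper37.GtDefs2

/-!
# Gt hive (S2734, helper37), leaf GT-YGL: the map `e : EE F → D₄(F)`, `X r t ↦ x_r(t)` sends `Yn s t` to `yGL F s t`.
-/

set_option autoImplicit false
set_option linter.unusedSectionVars false
set_option linter.unusedVariables false

namespace Cfsg.Agent.Lib.Helper37.Gt

open Matrix Module QuadraticMap
open Cfsg Cfsg.Lie Cfsg.Agent.Lib.Helper36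
open Cfsg.Agent.Lib.Helper8 Cfsg.Agent.Lib.Helper13 Cfsg.Agent.Lib.Helper37 Cfsg.Agent.Lib.Helper37.D4O8

variable {F : Type*} [Field F]

/-- a single root element -/
theorem ygl_one (e : ↥(EE F) →* ↥(chevD4.group F))
    (he : ∀ (r : Fin 24) (t : F), ((e ⟨X r t, X_mem_EE r t⟩ : ↥(chevD4.group F)) : GL chevD4.Idx F) = xGL chevD4 hD4 F r t)
    (g : OG F) (hg : g ∈ EE F) (r : Fin 24) (a : F) (h : g = X r a) :
    ((e ⟨g, hg⟩ : ↥(chevD4.group F)) : GL chevD4.Idx F) = xGL chevD4 hD4 F r a := by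
  subst h
  exact he r a

/-- a product of three root elements -/
theorem ygl_three (e : ↥(EE F) →* ↥(chevD4.group F))
    (he : ∀ (r : Fin 24) (t : F), ((e ⟨X r t, X_mem_EE r t⟩ : ↥(chevD4.group F)) : GL chevD4.Idx F) = xGL chevD4 hD4 F r t)
    (g : OG F) (hg : g ∈ EE F) (r₁ r₂ r₃ : Fin 24) (a₁ a₂ a₃ : F) (h : g = X r₁ a₁ * X r₂ a₂ * X r₃ a₃) :
    ((e ⟨g, hg⟩ : ↥(chevD4.group F)) : GL chevD4.Idx F) =
      xGL chevD4 hD4 F r₁ a₁ * xGL chevD4 hD4 F r₂ a₂ * xGL chevD4 hD4 F r₃ a₃ := by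
  subst h
  have h3 : (⟨X r₁ a₁ * X r₂ a₂ * X r₃ a₃, hg⟩ : ↥(EE F)) =
      ⟨X r₁ a₁, X_mem_EE r₁ a₁⟩ * ⟨X r₂ a₂, X_mem_EE r₂ a₂⟩ * ⟨X r₃ a₃, X_mem_EE r₃ a₃⟩ := rfl
  rw [h3, map_mul, map_mul, Subgroup.coe_mul, Subgroup.coe_mul, he, he, he]

/-- GT-YGL. -/
theorem e_Yn (e : ↥(EE F) →* ↥(chevD4.group F))
    (he : ∀ (r : Fin 24) (t : F), ((e ⟨X r t, X_mem_EE r t⟩ : ↥(chevD4.group F)) : GL chevD4.Idx F) = xGL chevD4 hD4 F r t)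
    (s : ℕ) (hs : s < 12) (t : F) :
    ((e ⟨Yn s t, Yn_mem_EE s t⟩ : ↥(chevD4.group F)) : GL chevD4.Idx F) = yGL F s t := by
  interval_cases s
  · rw [ygl_one e he _ _ 0 (-t) (Yn_0 t)]
    simp [yGL, yWord, gtTab, wordGL]
  · rw [ygl_one e he _ _ 1 (-t) (Yn_1 t)]
    simp [yGL, yWord, gtTab, wordGL]
  · rw [ygl_three e he _ _ 2 6 3 (-t) t (-t) (Yn_2 t)]
    simp [yGL, yWord, gtTab, wordGL, mul_assoc]
  · rw [ygl_three e he _ _ 4 7 8 t (-t) (-t) (Yn_3 t)]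
    simp [yGL, yWord, gtTab, wordGL, mul_assoc]
  · rw [ygl_three e he _ _ 5 10 11 t t t (Yn_4 t)]
    simp [yGL, yWord, gtTab, wordGL, mul_assoc]
  · rw [ygl_one e he _ _ 9 t (Yn_5 t)]
    simp [yGL, yWord, gtTab, wordGL]
  · rw [ygl_one e he _ _ 14 t (Yn_6 t)]
    simp [yGL, yWord, gtTab, wordGL]
  · rw [ygl_three e he _ _ 12 18 13 t t t (Yn_7 t)]
    simp [yGL, yWord, gtTab, wordGL, mul_assoc]
  · rw [ygl_three e he _ _ 15 19 16 (-t) t (-t) (Yn_8 t)]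
    simp [yGL, yWord, gtTab, wordGL, mul_assoc]
  · rw [ygl_three e he _ _ 17 20 21 t (-t) (-t) (Yn_9 t)]
    simp [yGL, yWord, gtTab, wordGL, mul_assoc]
  · rw [ygl_one e he _ _ 22 (-t) (Yn_10 t)]
    simp [yGL, yWord, gtTab, wordGL]
  · rw [ygl_one e he _ _ 23 (-t) (Yn_11 t)]
    simp [yGL, yWord, gtTab, wordGL]

end Cfsg.Agent.Lib.Helper37.Gt
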