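import Mathlib
import Cfsg.Agent.Lib.Helper38.RhDefs

/-! Rh hive (helper38), leaf RH-T8 `torus_conj_of_prime` (helper88); self-contained (own copy `t8_cent_eq` of RH-T1). -/

set_option autoImplicit false

namespace Cfsg.Agent.Lib.Helper38.Rh

section abstract
variable {G : Type*} [Group G] [Finite G] {N : ℕ}

/-- centraliser of a conjugate element -/
theorem t8_centralizer_conj (g x : G) :
    Subgroup.centralizer ({g * x * g⁻¹} : Set G) =
      (Subgroup.centralizer ({x} : Set G)).map (MulAut.conj g).toMonoidHom := by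
  ext y
  rw [Subgroup.mem_map]
  simp only [Subgroup.mem_centralizer_iff, Set.mem_singleton_iff, forall_eq, MulEquiv.coe_toMonoidHom,
    MulAut.conj_apply]
  constructor
  · intro hy
    refine ⟨g⁻¹ * y * g, ?_, by group⟩
    have : g⁻¹ * (g * x * g⁻¹ * y) * g = g⁻¹ * (y * (g * x * g⁻¹)) * g := by rw [hy]
    calc x * (g⁻¹ * y * g) = g⁻¹ * (g * x * g⁻¹ * y) * g := by group
      _ = g⁻¹ * (y * (g * x * g⁻¹)) * g := this
      _ = g⁻¹ * y * g * x := by group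
  · rintro ⟨c, hc, rfl⟩
    calc g * x * g⁻¹ * (g * c * g⁻¹) = g * (x * c) * g⁻¹ := by group
      _ = g * (c * x) * g⁻¹ := by rw [hc]
      _ = g * c * g⁻¹ * (g * x * g⁻¹) := by group

/-- an element of order `p` in a subgroup of order divisible by `p` -/
theorem t8_exists_order (T : Subgroup G) {p : ℕ} (hp : p.Prime) (h1 : p ∣ Nat.card ↥T) :
    ∃ x : G, x ∈ T ∧ orderOf x = p := by
  have : Fact p.Prime := ⟨hp⟩
  obtain ⟨x, hx⟩ := exists_prime_orderOf_dvd_card' (G := ↥T) p h1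
  exact ⟨(x : G), x.2, by rw [Subgroup.orderOf_coe]; exact hx⟩

/-- membership in the centraliser of a singleton -/
theorem t8_mem_cent (x c : G) : c ∈ Subgroup.centralizer ({x} : Set G) ↔ x * c = c * x := by
  simp only [Subgroup.mem_centralizer_iff, Set.mem_singleton_iff, forall_eq]

/-- elements of a cyclic subgroup commute -/
theorem t8_comm_of_cyclic (K : Subgroup G) [IsCyclic ↥K] {a b : G} (ha : a ∈ K) (hb : b ∈ K) :
    a * b = b * a := by
  have comm : ∀ a b : ↥K, a * b = b * a := by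
    letI := IsCyclic.commGroup (α := ↥K)
    exact fun a b => mul_comm a b
  exact congrArg Subtype.val (comm ⟨a, ha⟩ ⟨b, hb⟩)

/-- own copy of RH-T1 (so that this file is self-contained): `C(y) = T` for `1 ≠ y ∈ T`. -/
theorem t8_cent_eq (h : TorusHyp G N) {T : Subgroup G} (hT : IsTorus N T) {y : G} (hy : y ∈ T)
    (hy1 : y ≠ 1) : Subgroup.centralizer ({y} : Set G) = T := by
  obtain ⟨x, p₀, hp₀, hp₀N, hx, rfl⟩ := hT
  obtain ⟨hcyc, hdvd, -⟩ := h x p₀ hp₀ hp₀N hx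
  haveI := hcyc
  have hyN : orderOf y ∣ N := (Subgroup.orderOf_dvd_natCard _ hy).trans hdvd
  have hoy1 : orderOf y ≠ 1 := fun h0 => hy1 (orderOf_eq_one_iff.mp h0)
  obtain ⟨p', hp', hp'y⟩ := Nat.exists_prime_and_dvd hoy1
  have hoy0 : orderOf y ≠ 0 := (orderOf_pos y).ne'
  set x' : G := y ^ (orderOf y / p') with hx'
  have hx'ord : orderOf x' = p' := orderOf_pow_orderOf_div hoy0 hp'y
  obtain ⟨hcyc', -, -⟩ := h x' p' hp' (hp'y.trans hyN) hx'ord
  haveI := hcyc'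
  have hxy : x * y = y * x := (t8_mem_cent x y).mp hy
  have hxx' : x' * x = x * x' := by
    have : Commute x y := hxy
    exact ((this.pow_right (orderOf y / p')).eq).symm
  have hxmem : x ∈ Subgroup.centralizer ({x'} : Set G) := (t8_mem_cent x' x).mpr hxx'
  apply le_antisymm
  · intro c hc
    have hcy : y * c = c * y := (t8_mem_cent y c).mp hc
    have hcx' : x' * c = c * x' := by
      have : Commute c y := hcy.symm
      exact ((this.pow_right (orderOf y / p')).eq).symm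
    have hcmem : c ∈ Subgroup.centralizer ({x'} : Set G) := (t8_mem_cent x' c).mpr hcx'
    exact (t8_mem_cent x c).mpr (t8_comm_of_cyclic _ hxmem hcmem)
  · intro c hc
    exact (t8_mem_cent y c).mpr (t8_comm_of_cyclic _ hy hc)

/-- RH-T8 core: RH-T1 as a hypothesis. -/
theorem t8_core (h : TorusHyp G N)
    (hT1 : ∀ {T : Subgroup G}, IsTorus N T → ∀ {y : G}, y ∈ T → y ≠ 1 →
      Subgroup.centralizer ({y} : Set G) = T)
    {T₁ T₂ : Subgroup G} (hT₁ : IsTorus N T₁) (hT₂ : IsTorus N T₂) {p : ℕ}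
    (hp : p.Prime) (h1 : p ∣ Nat.card ↥T₁) (h2 : p ∣ Nat.card ↥T₂) :
    ∃ g : G, T₂ = T₁.map (MulAut.conj g).toMonoidHom := by
  haveI : Fact p.Prime := ⟨hp⟩
  -- `p ∣ N`
  have hpN : p ∣ N := by
    obtain ⟨x₀, p₀, hp₀, hp₀N, hx₀, rfl⟩ := hT₁
    exact h1.trans (h x₀ p₀ hp₀ hp₀N hx₀).2.1
  obtain ⟨x₁, hx₁T, hx₁⟩ := t8_exists_order T₁ hp h1
  obtain ⟨x₂, hx₂T, hx₂⟩ := t8_exists_order T₂ hp h2
  have hx₁1 : x₁ ≠ 1 := by
    intro h0; rw [h0, orderOf_one] at hx₁; exact hp.one_lt.ne hx₁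
  have hx₂1 : x₂ ≠ 1 := by
    intro h0; rw [h0, orderOf_one] at hx₂; exact hp.one_lt.ne hx₂
  have hC₁ : Subgroup.centralizer ({x₁} : Set G) = T₁ := hT1 hT₁ hx₁T hx₁1
  have hC₂ : Subgroup.centralizer ({x₂} : Set G) = T₂ := hT1 hT₂ hx₂T hx₂1
  -- Sylow subgroups
  have hpg₁ : IsPGroup p ↥(Subgroup.zpowers x₁) :=
    IsPGroup.of_card (n := 1) (by rw [Nat.card_zpowers, hx₁, pow_one])
  have hpg₂ : IsPGroup p ↥(Subgroup.zpowers x₂) :=
    IsPGroup.of_card (n := 1) (by rw [Nat.card_zpowers, hx₂, pow_one])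
  obtain ⟨P, hP⟩ := hpg₁.exists_le_sylow
  obtain ⟨P₂, hP₂⟩ := hpg₂.exists_le_sylow
  obtain ⟨g, hg⟩ := MulAction.exists_smul_eq G P₂ P
  have hx₁P : x₁ ∈ (P : Subgroup G) := hP (Subgroup.mem_zpowers x₁)
  have hx₂P : g * x₂ * g⁻¹ ∈ (P : Subgroup G) := by
    have hx : x₂ ∈ (P₂ : Subgroup G) := hP₂ (Subgroup.mem_zpowers x₂)
    have : g * x₂ * g⁻¹ ∈ ((g • P₂ : Sylow p G) : Subgroup G) := by
      rw [Sylow.coe_subgroup_smul]
      exact ⟨x₂, hx, rfl⟩
    rwa [hg] at this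
  -- a central element of order `p` of `P`
  haveI : Nontrivial ↥(P : Subgroup G) := ⟨⟨⟨x₁, hx₁P⟩, 1, fun h0 => hx₁1 (congrArg Subtype.val h0)⟩⟩
  have hPp : IsPGroup p ↥(P : Subgroup G) := P.isPGroup'
  haveI : Nontrivial ↥(Subgroup.center ↥(P : Subgroup G)) := hPp.center_nontrivial
  have hZp : IsPGroup p ↥(Subgroup.center ↥(P : Subgroup G)) := hPp.to_subgroup _
  have hZdvd : p ∣ Nat.card ↥(Subgroup.center ↥(P : Subgroup G)) := by
    rcases hZp.card_eq_or_dvd with h0 | h0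
    · exfalso
      have := Finite.one_lt_card_iff_nontrivial.mpr
        (inferInstance : Nontrivial ↥(Subgroup.center ↥(P : Subgroup G)))
      omega
    · exact h0
  obtain ⟨z, hz⟩ := exists_prime_orderOf_dvd_card' (G := ↥(Subgroup.center ↥(P : Subgroup G))) p hZdvd
  set zG : G := ((z : ↥(P : Subgroup G)) : G) with hzG
  have hzG_ord : orderOf zG = p := by
    rw [hzG, Subgroup.orderOf_coe, Subgroup.orderOf_coe]; exact hz
  have hzG1 : zG ≠ 1 := by
    intro h0; rw [h0, orderOf_one] at hzG_ord; exact hp.one_lt.ne hzG_ord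
  -- `P ≤ C(z)`
  have hPle : (P : Subgroup G) ≤ Subgroup.centralizer ({zG} : Set G) := by
    intro y hy
    rw [Subgroup.mem_centralizer_iff]
    intro c hc
    rw [Set.mem_singleton_iff] at hc
    subst hc
    have hzc := Subgroup.mem_center_iff.mp z.2 ⟨y, hy⟩
    have := congrArg Subtype.val hzc
    simpa using this.symm
  have hTz : IsTorus N (Subgroup.centralizer ({zG} : Set G)) := ⟨zG, p, hp, hpN, hzG_ord, rfl⟩
  have e₁ : Subgroup.centralizer ({x₁} : Set G) = Subgroup.centralizer ({zG} : Set G) :=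
    hT1 hTz (hPle hx₁P) hx₁1
  have hx₂c1 : g * x₂ * g⁻¹ ≠ 1 := by
    intro h0
    apply hx₂1
    have : x₂ = g⁻¹ * (g * x₂ * g⁻¹) * g := by group
    rw [this, h0]; group
  have e₂ : Subgroup.centralizer ({g * x₂ * g⁻¹} : Set G) = Subgroup.centralizer ({zG} : Set G) :=
    hT1 hTz (hPle hx₂P) hx₂c1
  rw [t8_centralizer_conj, hC₂] at e₂
  rw [hC₁] at e₁
  -- `T₂.map (conj g) = T₁`
  refine ⟨g⁻¹, ?_⟩
  rw [e₁, ← e₂, Subgroup.map_map]
  have : (MulAut.conj g⁻¹).toMonoidHom.comp (MulAut.conj g).toMonoidHom = MonoidHom.id G := by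
    ext y
    simp [MulAut.conj_apply, mul_assoc]
  rw [this, Subgroup.map_id]

/-- RH-T8.  Two tori whose orders are divisible by the same prime are conjugate.
(`xᵢ ∈ Tᵢ` of order `p`; a Sylow `p`-subgroup `P ≥ ⟨x₁⟩` lies in `C(z)`, `z ∈ Z(P)` of order `p` [`p ∣ |T₁| ∣ N`], so `P` is cyclic
and has a unique subgroup of order `p`; by Sylow `g ⟨x₂⟩ g⁻¹ = ⟨x₁⟩` for some `g`; then `g T₂ g⁻¹ = C(g x₂ g⁻¹) = T₁` by RH-T1.) -/
theorem torus_conj_of_prime (h : TorusHyp G N) {T₁ T₂ : Subgroup G} (hT₁ : IsTorus N T₁) (hT₂ : IsTorus N T₂) {p : ℕ}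
    (hp : p.Prime) (h1 : p ∣ Nat.card ↥T₁) (h2 : p ∣ Nat.card ↥T₂) :
    ∃ g : G, T₂ = T₁.map (MulAut.conj g).toMonoidHom :=
  t8_core h (fun hT _ hy hy1 => t8_cent_eq h hT hy hy1) hT₁ hT₂ hp h1 h2

end abstract

end Cfsg.Agent.Lib.Helper38.Rh
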