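import Cfsg.Agent.Lib.Helper88.RhK1core
import Cfsg.Agent.Lib.Helper38.RhK1EX

/-! Rh hive (helper38), PART B, leaf RH-K1 `hall_k1` (helper88): wrapper of `k1_core` with RH-K1EX (Helper38.RhK1EX). -/

set_option autoImplicit false

namespace Cfsg.Agent.Lib.Helper38.Rh

open Cfsg.Agent.Lib.Helper12.Rt

section partB
variable {K : Type*} [Field K] [Fintype K] {G : Type*} [Group G] {m : ℕ} (D : RtData K G m)

include D

/-- RH-K1.  The case `(q + 1) / 4` of S1158. -/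
theorem hall_k1 (hm : 1 ≤ m)
    (h6 : ∀ C : Subgroup G, IsC1 m C → Nat.card ↥(Subgroup.normalizer (C : Set G)) = 6 * (qq m + 1)) :
    ∃ A : Subgroup G, IsCyclic ↥A ∧ Nat.card ↥A = (qq m + 1) / 4 ∧
      Nat.card ↥(Subgroup.normalizer (A : Set G)) = 6 * (qq m + 1) ∧
      ∀ A₀ : Subgroup G, A₀ ≤ A → A₀ ≠ ⊥ →
        Subgroup.normalizer (A₀ : Set G) = Subgroup.normalizer (A : Set G) :=
  k1_core D hm h6 (exists_cyclic_k1 D hm)

end partB

end Cfsg.Agent.Lib.Helper38.Rh
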