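import Cfsg.Agent.Lib.Helper39.SmDefs
import Cfsg.Agent.Lib.Helper80.Stn_BASIC
import Cfsg.Agent.Lib.Helper24.Sm_GCM

/-! Sm hive (S2086, owner helper39): leaf M-MAP `map_sm` (helper88); M-ADD `sm_add` is in Helper53.Sm_MADD. -/

set_option autoImplicit false

namespace Cfsg.Agent.Lib.Helper39.Sm

open Cfsg.Agent.Lib.Helper41.Stn
open scoped commutatorElement

variable {K : Type*} [Field K] {n : ℕ} {Y : Type*} [Group Y] (φ : Y →* St K n)
  (hφ : Function.Surjective φ)

/-- M-MAP. `map_cm` + `xx_comm3`. -/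
theorem map_sm {i j h : Fin n} (hij : i ≠ j) (hhi : h ≠ i) (hhj : h ≠ j) (t : K) :
    φ (sm φ hφ i j h t) = xx i j t := by
  unfold sm
  rw [map_cm, commutatorElement_def, xx_comm3 (Ne.symm hhi) hhj hij 1 t, one_mul]

end Cfsg.Agent.Lib.Helper39.Sm
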