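import Cfsg.Prelude.Def_FusionSystem
import Cfsg.Agent.Lib.Helper88.Basic

set_option autoImplicit false

namespace Cfsg.Agent.Lib.Helper88

open Cfsg Cfsg.FusionSystem

variable {Ω : Type*} [Group Ω] {S : Subgroup Ω}

/-- restriction of a map of the system to a smaller subgroup -/
theorem restrict_mem (F : FusionSystem S) {P Q : Subgroup Ω} (h : P ≤ Q) {φ : Q →* Ω}
    (hφ : φ ∈ F.Hom Q) : φ.comp (Subgroup.inclusion h) ∈ F.Hom P := by
  have hP : P ≤ S := h.trans (F.le_of_mem hφ).1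
  have hval : ∀ x : P, P.subtype x ∈ Q := fun x => h x.2
  have := F.comp_mem (subtype_mem F hP) hφ hval
  have h2 : P.subtype.codRestrict Q hval = Subgroup.inclusion h := by
    ext x
    rfl
  rwa [h2] at this

/-- transport of a map of the system along an equality of subgroups -/
theorem hom_cast (F : FusionSystem S) {P Q : Subgroup Ω} (h : P = Q) {ψ : P →* Ω} (hψ : ψ ∈ F.Hom P) :
    ∃ ψ' ∈ F.Hom Q, ∀ (x : Ω) (hP : x ∈ P) (hQ : x ∈ Q), ψ' ⟨x, hQ⟩ = ψ ⟨x, hP⟩ := by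
  subst h
  exact ⟨ψ, hψ, fun _ _ _ => rfl⟩

/-- a map of the system defined on all of `S` (finite) is an automorphism of `S` -/
theorem aut_of_hom_top [Finite S] (F : FusionSystem S) {ψ : S →* Ω} (hψ : ψ ∈ F.Hom S) :
    ∃ α : MulAut S, S.subtype.comp α.toMonoidHom = ψ := by
  have hval : ∀ x : S, ψ x ∈ S := (F.le_of_mem hψ).2
  have hinj : Function.Injective (ψ.codRestrict S hval) := by
    intro a b hab
    apply F.injective_of_mem hψ
    exact congrArg (fun z : S => (z : Ω)) hab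
  have hbij : Function.Bijective (ψ.codRestrict S hval) := Finite.injective_iff_bijective.mp hinj
  refine ⟨MulEquiv.ofBijective (ψ.codRestrict S hval) hbij, ?_⟩
  ext x
  rfl

/-- `S` is only conjugate to itself -/
theorem isConj_top [Finite S] (F : FusionSystem S) {Q : Subgroup Ω} (h : F.IsConj S Q) : Q = S := by
  obtain ⟨φ, hφ, rfl⟩ := h
  obtain ⟨α, rfl⟩ := aut_of_hom_top F hφ
  ext y
  constructor
  · rintro ⟨x, rfl⟩
    exact (α x).2
  · intro hy
    refine ⟨α.symm ⟨y, hy⟩, ?_⟩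
    simp

theorem top_automized_receptive [Finite S] (F : FusionSystem S) (p : ℕ) (hF : F.IsSaturated p) :
    F.IsFullyAutomized p S ∧ F.IsReceptive S := by
  obtain ⟨Q, hQ, h1, h2⟩ := hF S le_rfl
  have := isConj_top F hQ
  subst this
  exact ⟨h1, h2⟩

section abelian

variable (hab : ∀ x ∈ S, ∀ y ∈ S, x * y = y * x)

include hab in
theorem extender_eq_top {P : Subgroup Ω} (hP : P ≤ S) (θ : P →* Ω) : extender S P θ = S := by
  apply le_antisymm
  · apply (Subgroup.closure_le _).mpr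
    intro g hg
    exact hg.1
  · intro g hg
    apply Subgroup.subset_closure
    have hconj : ∀ x : P, g * (x : Ω) * g⁻¹ = x := by
      intro x
      rw [hab g hg x (hP x.2), mul_inv_cancel_right]
    refine ⟨hg, ?_, 1, S.one_mem, ?_⟩
    · intro x
      constructor
      · intro hx
        have := hconj ⟨x, hx⟩
        simp only at this
        rw [this]
        exact hx
      · intro hx
        have h1 : x = g⁻¹ * (g * x * g⁻¹) * g := by group
        have hx' : g * x * g⁻¹ ∈ S := hP hx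
        have h2 : g⁻¹ * (g * x * g⁻¹) * g = g * x * g⁻¹ := by
          rw [mul_assoc, hab _ hx' g hg, inv_mul_cancel_left]
        rw [h1, h2]
        exact hx
    · intro x hx
      have : (⟨g * (x : Ω) * g⁻¹, hx⟩ : P) = x := Subtype.ext (hconj x)
      rw [this]
      simp

include hab in
/-- `S` abelian, `F` saturated: every map with receptive image extends to all of `S` -/
theorem extend_to_top_of_receptive (F : FusionSystem S) {P Q : Subgroup Ω} {θ : P →* Ω}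
    (hθ : θ ∈ F.Hom P) (hr : θ.range = Q) (hQ : F.IsReceptive Q) :
    ∃ ψ ∈ F.Hom S, ∀ (x : Ω) (hP : x ∈ P) (hS : x ∈ S), ψ ⟨x, hS⟩ = θ ⟨x, hP⟩ := by
  have hPS : P ≤ S := (F.le_of_mem hθ).1
  obtain ⟨ψ, hψ, hext⟩ := hQ.2 P θ hθ hr
  obtain ⟨ψ', hψ', hc⟩ := hom_cast F (extender_eq_top hab hPS θ) hψ
  refine ⟨ψ', hψ', fun x hP hS => ?_⟩
  have hN : x ∈ extender S P θ := by rw [extender_eq_top hab hPS θ]; exact hS
  rw [hc x hN hS, hext x hP hN]

include hab in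
/-- `S` abelian, `F` saturated: every map of the system extends to an automorphism of `S` in the system -/
theorem extend_to_aut [Finite S] (F : FusionSystem S) (p : ℕ) (hF : F.IsSaturated p) {P : Subgroup Ω}
    {φ : P →* Ω} (hφ : φ ∈ F.Hom P) :
    ∃ α : MulAut S, α ∈ F.autGroup S ∧ ∀ (x : P) (hS : (x : Ω) ∈ S), ((α ⟨x, hS⟩ : S) : Ω) = φ x := by
  have hPS : P ≤ S := (F.le_of_mem hφ).1
  have hQS : φ.range ≤ S := by
    rintro _ ⟨x, rfl⟩
    exact (F.le_of_mem hφ).2 x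
  obtain ⟨Q', ⟨χ, hχ, hχr⟩, -, hrec⟩ := hF φ.range hQS
  -- θ = χ ∘ φ
  have hval : ∀ x : P, φ x ∈ φ.range := fun x => ⟨x, rfl⟩
  have hθ := F.comp_mem hφ hχ hval
  have hθr : (χ.comp (φ.codRestrict φ.range hval)).range = Q' := by
    rw [← hχr]
    ext y
    constructor
    · rintro ⟨x, rfl⟩
      exact ⟨_, rfl⟩
    · rintro ⟨⟨_, x, rfl⟩, rfl⟩
      exact ⟨x, rfl⟩
  obtain ⟨ψ₁, hψ₁, h1⟩ := extend_to_top_of_receptive hab F hθ hθr hrec
  obtain ⟨χ₁, hχ₁, h2⟩ := extend_to_top_of_receptive hab F hχ hχr hrec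
  obtain ⟨a, ha⟩ := aut_of_hom_top F hψ₁
  obtain ⟨b, hb⟩ := aut_of_hom_top F hχ₁
  have haF : a ∈ F.autGroup S := (mem_autGroup_iff F le_rfl a).mpr (by rw [ha]; exact hψ₁)
  have hbF : b ∈ F.autGroup S := (mem_autGroup_iff F le_rfl b).mpr (by rw [hb]; exact hχ₁)
  refine ⟨b⁻¹ * a, (F.autGroup S).mul_mem ((F.autGroup S).inv_mem hbF) haF, ?_⟩
  intro x hS
  -- b (φ x) = χ (φ x) = ψ₁ x = a x
  have hφS : φ x ∈ S := (F.le_of_mem hφ).2 x
  have e1 : ((a ⟨x, hS⟩ : S) : Ω) = ψ₁ ⟨x, hS⟩ := by rw [← ha]; rfl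
  have e2 : ((b ⟨φ x, hφS⟩ : S) : Ω) = χ₁ ⟨φ x, hφS⟩ := by rw [← hb]; rfl
  have e3 : ψ₁ ⟨x, hS⟩ = χ ⟨φ x, hval x⟩ := by
    rw [h1 x x.2 hS]
    rfl
  have e4 : χ₁ ⟨φ x, hφS⟩ = χ ⟨φ x, hval x⟩ := h2 (φ x) (hval x) hφS
  have e5 : b ⟨φ x, hφS⟩ = a ⟨x, hS⟩ := by
    apply Subtype.ext
    rw [e1, e2, e3, e4]
  show (((b⁻¹ * a) ⟨x, hS⟩ : S) : Ω) = φ x
  rw [MulAut.mul_apply, ← e5, MulAut.inv_apply_self]

end abelian

end Cfsg.Agent.Lib.Helper88
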