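import Cfsg.Prelude.Def_EvenType
import Cfsg.Agent.Lib.Helper84.StronglyEmbedded
import Cfsg.Agent.Lib.Helper85.Sylow
import Cfsg.Agent.Lib.Helper87.Inner

set_option autoImplicit false

namespace Cfsg.Agent.Lib.Helper88

open Cfsg Cfsg.FusionSystem Subgroup
open Cfsg.Agent.Lib.Helper85 (cj cj_apply mem_map_cj map_cj_map_cj map_cj_one card_map_cj SylIn
  sylIn_top sylow_map_subtype_sylIn)

variable {X : Type*} [Group X]

theorem mem_normalizer_of_map_cj_le [Finite X] {K : Subgroup X} {g : X}
    (h : K.map (cj g) ≤ K) : g ∈ normalizer (K : Set X) := by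
  have heq : K.map (cj g) = K :=
    Subgroup.eq_of_le_of_card_ge h (by rw [card_map_cj])
  rw [mem_normalizer_iff]
  intro x
  constructor
  · intro hx
    rw [← heq]
    exact ⟨x, hx, rfl⟩
  · intro hx
    rw [← heq, mem_map_cj] at hx
    have e : g⁻¹ * (g * x * g⁻¹) * g = x := by group
    rwa [e] at hx

theorem map_cj_normalizer_le (U : Subgroup X) (y : X) :
    (normalizer (U : Set X)).map (cj y) ≤ normalizer ((U.map (cj y) : Subgroup X) : Set X) := by
  rintro _ ⟨a, ha, rfl⟩
  have ha' : a ∈ normalizer (U : Set X) := ha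
  rw [mem_normalizer_iff] at ha'
  rw [mem_normalizer_iff]
  intro x
  rw [mem_map_cj, mem_map_cj, cj_apply]
  have e : y⁻¹ * (y * a * y⁻¹ * x * (y * a * y⁻¹)⁻¹) * y = a * (y⁻¹ * x * y) * a⁻¹ := by group
  rw [e]
  exact ha' _

theorem normalizer_le_gamma [Finite X] {p : ℕ} [Fact p.Prime] (P : Sylow p X)
    {V : Subgroup X} (hVP : V ≤ P) (hV : V ≠ ⊥) :
    normalizer (V : Set X) ≤ kGeneratedCore p 1 (P : Subgroup X) := by
  have hVp : IsPGroup p V := P.2.to_le hVP
  have hnt : Nontrivial V := (Subgroup.nontrivial_iff_ne_bot V).mpr hV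
  have hr : ¬ PRankLE p (1 - 1) V := Cfsg.Agent.Lib.Helper84.not_pRankLE_zero hVp hnt
  exact le_iSup (fun Q : {Q : Subgroup X // Q ≤ (P : Subgroup X) ∧ ¬ PRankLE p (1 - 1) Q} =>
    normalizer ((Q : Subgroup X) : Set X)) ⟨V, hVP, hr⟩

theorem map_cj_ne_bot {U : Subgroup X} (hU : U ≠ ⊥) (y : X) : U.map (cj y) ≠ ⊥ := by
  intro h
  apply hU
  rwa [Subgroup.map_eq_bot_iff_of_injective _ (Cfsg.Agent.Lib.Helper85.cj_injective y)] at h

/-- Alperin-type lemma: an element conjugating a nontrivial subgroup of the Sylow `p`-subgroup `P`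
into `P` lies in `Γ_{P,1}(X)`. -/
theorem mem_gamma_of_conj [Finite X] {p : ℕ} [Fact p.Prime] (P : Sylow p X) :
    ∀ (n : ℕ) (U : Subgroup X), U ≤ (P : Subgroup X) → U ≠ ⊥ →
      Nat.card (P : Subgroup X) - Nat.card U = n →
      ∀ y : X, U.map (cj y) ≤ (P : Subgroup X) → y ∈ kGeneratedCore p 1 (P : Subgroup X) := by
  intro n
  induction n using Nat.strong_induction_on with
  | _ n ih =>
  intro U hUP hU hn y hy
  have hVne : U.map (cj y) ≠ ⊥ := map_cj_ne_bot hU y
  have hVcard : Nat.card (U.map (cj y)) = Nat.card U := card_map_cj y U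
  by_cases hUeq : U = (P : Subgroup X)
  · subst hUeq
    exact normalizer_le_gamma P le_rfl hU (mem_normalizer_of_map_cj_le hy)
  · have hPp : IsPGroup p (P : Subgroup X) := P.2
    have hlt1 := Cfsg.Agent.Lib.Helper87.card_lt_card_normalizerIn (S := (P : Subgroup X)) hPp hUP hUeq
    have hVeq : U.map (cj y) ≠ (P : Subgroup X) := by
      intro h
      apply hUeq
      apply Subgroup.eq_of_le_of_card_ge hUP
      rw [← hVcard, h]
    have hlt2 := Cfsg.Agent.Lib.Helper87.card_lt_card_normalizerIn (S := (P : Subgroup X)) hPp hy hVeq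
    set V := U.map (cj y) with hVdef
    set NU := normalizerIn (P : Subgroup X) U with hNU
    set NV := normalizerIn (P : Subgroup X) V with hNV
    have hNUP : NU ≤ (P : Subgroup X) := inf_le_left
    have hNVP : NV ≤ (P : Subgroup X) := inf_le_left
    have hUNU : U ≤ NU := le_inf hUP le_normalizer
    -- the group W = N_X(V)
    set W := normalizer (V : Set X) with hW
    have hNVW : NV ≤ W := inf_le_right
    have hAW : NU.map (cj y) ≤ W := by
      refine le_trans (Subgroup.map_mono (inf_le_right : NU ≤ normalizer (U : Set X))) ?_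
      exact map_cj_normalizer_le U y
    have hAp : IsPGroup p (NU.map (cj y)) := (hPp.to_le hNUP).map _
    have hNVp : IsPGroup p NV := hPp.to_le hNVP
    -- Sylow subgroup of W containing NV
    have hNVp' : IsPGroup p (NV.subgroupOf W) := hNVp.comap_subtype
    obtain ⟨T, hT⟩ := hNVp'.exists_le_sylow
    have hK := sylow_map_subtype_sylIn T
    set K := (T : Subgroup W).map W.subtype with hKdef
    have hKW : K ≤ W := by
      rintro _ ⟨w, -, rfl⟩
      exact w.2
    have hNVK : NV ≤ K := by
      intro x hx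
      exact ⟨⟨x, hNVW hx⟩, hT (Subgroup.mem_subgroupOf.mpr hx), rfl⟩
    have hKp : IsPGroup p K := T.2.map _
    obtain ⟨m, hmW, hm⟩ := SylIn.exists_conj_le hK hAW hAp
    obtain ⟨z, -, hz⟩ := SylIn.exists_conj_le (sylIn_top P) (le_top : K ≤ ⊤) hKp
    have hUcard_lt : Nat.card U < Nat.card (P : Subgroup X) :=
      lt_of_lt_of_le hlt1 (Subgroup.card_le_of_le hNUP)
    -- first induction: z⁻¹
    have h1 : z⁻¹ ∈ kGeneratedCore p 1 (P : Subgroup X) := by
      have hU1P : NV.map (cj z) ≤ (P : Subgroup X) := le_trans (Subgroup.map_mono hNVK) hz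
      have hNVne : NV ≠ ⊥ := by
        intro h
        have : V ≤ NV := le_inf hy le_normalizer
        rw [h, le_bot_iff] at this
        exact hVne this
      have hc : Nat.card (NV.map (cj z)) = Nat.card NV := card_map_cj z NV
      refine ih (Nat.card (P : Subgroup X) - Nat.card (NV.map (cj z))) ?_ (NV.map (cj z)) hU1P
        (map_cj_ne_bot hNVne z) rfl z⁻¹ ?_
      · have hle : Nat.card NV ≤ Nat.card (P : Subgroup X) := Subgroup.card_le_of_le hNVP
        rw [hc]
        omega
      · rw [map_cj_map_cj, inv_mul_cancel, map_cj_one]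
        exact hNVP
    -- second induction: z * m * y
    have h2 : z * m * y ∈ kGeneratedCore p 1 (P : Subgroup X) := by
      have hNUne : NU ≠ ⊥ := by
        intro h
        rw [h, le_bot_iff] at hUNU
        exact hU hUNU
      refine ih (Nat.card (P : Subgroup X) - Nat.card NU) ?_ NU hNUP hNUne rfl (z * m * y) ?_
      · have hle : Nat.card NU ≤ Nat.card (P : Subgroup X) := Subgroup.card_le_of_le hNUP
        omega
      · have e : NU.map (cj (z * m * y)) = ((NU.map (cj y)).map (cj m)).map (cj z) := by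
          rw [map_cj_map_cj, map_cj_map_cj, mul_assoc]
        rw [e]
        exact le_trans (Subgroup.map_mono hm) hz
    have h3 : m ∈ kGeneratedCore p 1 (P : Subgroup X) := normalizer_le_gamma P hy hVne hmW
    have e : y = m⁻¹ * (z⁻¹ * (z * m * y)) := by group
    rw [e]
    exact Subgroup.mul_mem _ (Subgroup.inv_mem _ h3) (Subgroup.mul_mem _ h1 h2)

end Cfsg.Agent.Lib.Helper88
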