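import Cfsg.Agent.Lib.Helper88.AlperinUse

set_option autoImplicit false

namespace Cfsg.Agent.Lib.Helper88

open Cfsg Cfsg.FusionSystem Cfsg.Agent.Lib.Helper87

variable {Ω : Type*} [Group Ω] {S : Subgroup Ω} [Finite S] {p : ℕ} [Fact p.Prime]

/-- an automorphism of a receptive `R` normalizing `Aut_S(R)` extends to `N_S(R)` -/
theorem extend_of_normalizes_autS (F : FusionSystem S) {R : Subgroup Ω} (hrec : F.IsReceptive R)
    (n : MulAut R) (hn : n ∈ F.autGroup R)
    (hnorm : ∀ t ∈ autInducedBy S R, n * t * n⁻¹ ∈ autInducedBy S R) :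
    ∃ ψ ∈ F.Hom (normalizerIn S R), ∀ (x : R) (hx : (x : Ω) ∈ normalizerIn S R),
      ψ ⟨x, hx⟩ = ((n x : R) : Ω) := by
  have hRS : R ≤ S := hrec.1
  have hnF := (mem_autGroup_iff F hRS n).mp hn
  have hr : (R.subtype.comp n.toMonoidHom).range = R := by
    ext y
    constructor
    · rintro ⟨x, rfl⟩
      exact (n x).2
    · intro hy
      exact ⟨n.symm ⟨y, hy⟩, by simp⟩
  apply extend_to_normalizer F hnF hr hrec
  intro g hg
  have h1 := hnorm _ (conjAut_mem_autInducedBy hg.1 hg.2)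
  obtain ⟨h, hh, hconj⟩ := (mem_autInducedBy_iff S R _).mp h1
  refine ⟨h, hh, fun x hx => ?_⟩
  have h2 := hconj (n x)
  rw [MulAut.mul_apply, MulAut.mul_apply, MulAut.inv_apply_self] at h2
  show ((n ⟨g * (x : Ω) * g⁻¹, hx⟩ : R) : Ω) = h * ((n x : R) : Ω) * h⁻¹
  rw [← h2]
  congr 2

/-- Frattini-type lemma: for `R` fully automized and receptive in `F`, `F' ≤ F` a subsystem whose automizer
of `R` is normal in that of `F`, if all maps of `F` on the strictly larger subgroup `N_S(R)` lie in `F'`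
then `Aut_F(R) ≤ Aut_{F'}(R)`. -/
theorem autGroup_le_of_frattini (hS : IsPGroup p S) (F F' : FusionSystem S) (hle : F' ≤ F)
    {R : Subgroup Ω} (hfa : F.IsFullyAutomized p R) (hrec : F.IsReceptive R)
    (hnormal : ∀ α ∈ F.autGroup R, ∀ β ∈ F'.autGroup R, α * β * α⁻¹ ∈ F'.autGroup R)
    (hbig : F.Hom (normalizerIn S R) ⊆ F'.Hom (normalizerIn S R)) :
    F.autGroup R ≤ F'.autGroup R := by
  have hRS : R ≤ S := hfa.1
  have hRfin : Finite R := Finite.of_injective _ (Subgroup.inclusion_injective hRS)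
  have hA'A : F'.autGroup R ≤ F.autGroup R := by
    intro α hα
    rw [mem_autGroup_iff F hRS]
    exact hle _ ((mem_autGroup_iff F' hRS α).mp hα)
  obtain ⟨-, T₀, hT₀⟩ := hfa
  set N : Subgroup (F.autGroup R) := (F'.autGroup R).subgroupOf (F.autGroup R) with hN
  have hNnormal : N.Normal := by
    constructor
    intro b hb a
    rw [hN, Subgroup.mem_subgroupOf] at hb ⊢
    exact hnormal a a.2 b hb
  have hTN : (T₀ : Subgroup (F.autGroup R)) ≤ N := by
    rw [hT₀]
    intro t ht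
    rw [Subgroup.mem_subgroupOf] at ht
    rw [hN, Subgroup.mem_subgroupOf]
    exact autInducedBy_le_autGroup F' hRS ht
  have hfr := Sylow.normalizer_sup_eq_top' T₀ hTN
  intro α hα
  have hmem : (⟨α, hα⟩ : F.autGroup R) ∈ (⊤ : Subgroup (F.autGroup R)) := Subgroup.mem_top _
  rw [← hfr] at hmem
  rw [← SetLike.mem_coe, Subgroup.mul_normal] at hmem
  obtain ⟨n, hn, b, hb, hnb⟩ := Set.mem_mul.mp hmem
  -- n normalizes Aut_S(R)
  have hnnorm : ∀ t ∈ autInducedBy S R, (n : MulAut R) * t * (n : MulAut R)⁻¹ ∈ autInducedBy S R := by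
    intro t ht
    have htA : t ∈ F.autGroup R := autInducedBy_le_autGroup F hRS ht
    have h1 : (⟨t, htA⟩ : F.autGroup R) ∈ (T₀ : Subgroup (F.autGroup R)) := by
      rw [hT₀, Subgroup.mem_subgroupOf]; exact ht
    have h2 := (Subgroup.mem_normalizer_iff.mp hn ⟨t, htA⟩).mp h1
    rw [hT₀, Subgroup.mem_subgroupOf] at h2
    exact h2
  obtain ⟨ψ, hψ, hψx⟩ := extend_of_normalizes_autS F hrec n n.2 hnnorm
  have hψ' : ψ ∈ F'.Hom (normalizerIn S R) := hbig hψ
  have hRN : R ≤ normalizerIn S R := le_normalizerIn hRS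
  have hnF' : (n : MulAut R) ∈ F'.autGroup R := by
    rw [mem_autGroup_iff F' hRS]
    have := restrict_mem F' hψ' hRN
    have e : ψ.comp (Subgroup.inclusion hRN) = R.subtype.comp (n : MulAut R).toMonoidHom := by
      ext x
      exact hψx x (hRN x.2)
    rwa [e] at this
  have hbF' : (b : MulAut R) ∈ F'.autGroup R := by
    rw [hN, SetLike.mem_coe, Subgroup.mem_subgroupOf] at hb
    exact hb
  have : α = (n : MulAut R) * (b : MulAut R) := by
    have := congrArg (fun z : F.autGroup R => (z : MulAut R)) hnb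
    exact this.symm
  rw [this]
  exact (F'.autGroup R).mul_mem hnF' hbF'

end Cfsg.Agent.Lib.Helper88
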