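import Cfsg.Agent.Lib.Helper41.StnDefs
import Cfsg.Agent.Lib.Helper43.Stn_HMAT

/-!
# Stn hive (S2401), leaf STN-BUP: the image of the "Borel subgroup" `B = U H` of `St_n(K)` under a standard
homomorphism consists of upper triangular matrices.
-/

set_option autoImplicit false

namespace Cfsg.Agent.Lib.Helper41.Stn

open Matrix

variable {K : Type*} [Field K] {n : ℕ}

/-- the subgroup of upper triangular matrices of `SL_n(K)` -/
def bup_upper (K : Type*) [Field K] (n : ℕ) : Subgroup (SpecialLinearGroup (Fin n) K) where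
  carrier := {A | Matrix.BlockTriangular A.1 (id : Fin n → Fin n)}
  one_mem' := Matrix.blockTriangular_one
  mul_mem' := by
    intro A B hA hB
    exact Matrix.BlockTriangular.mul hA hB
  inv_mem' := by
    intro A hA
    have hinv : (A.1)⁻¹ = (A⁻¹).1 := by
      apply Matrix.inv_eq_left_inv
      have h1 : (A⁻¹ * A).1 = 1 := by rw [inv_mul_cancel]; rfl
      exact h1
    have hdet : IsUnit A.1.det := by rw [A.2]; exact isUnit_one
    have : Invertible A.1 := Matrix.invertibleOfIsUnitDet _ hdet
    have h2 := Matrix.blockTriangular_inv_of_blockTriangular hA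
    rw [hinv] at h2
    exact h2

theorem bup_mem_upper {A : SpecialLinearGroup (Fin n) K} :
    A ∈ bup_upper K n ↔ ∀ i j : Fin n, j < i → A.1 i j = 0 :=
  ⟨fun h _ _ hij => h hij, fun h i j hij => h i j hij⟩

/-- STN-BUP. -/
theorem std_BB_upper (φ : St K n →* SpecialLinearGroup (Fin n) K) (hφ : IsStd φ) {b : St K n}
    (hb : b ∈ BB K n) : ∀ i j : Fin n, j < i → (φ b).1 i j = 0 := by
  have hU : UU K n ≤ (bup_upper K n).comap φ := by
    unfold UU
    rw [Subgroup.closure_le]
    rintro _ ⟨i, j, t, hij, rfl⟩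
    show Matrix.BlockTriangular (φ (xx i j t)).1 id
    have hne : i ≠ j := ne_of_lt hij
    have h1 : (φ (xx i j t)).1 = Matrix.transvection i j t := by
      unfold xx
      rw [dif_pos hne]
      exact hφ ⟨(i, j), hne⟩ t
    rw [h1]
    exact Matrix.blockTriangular_transvection (le_of_lt hij) t
  have hH : HH K n ≤ (bup_upper K n).comap φ := by
    unfold HH
    rw [Subgroup.closure_le]
    rintro _ ⟨i, j, t, hij, ht, rfl⟩
    show Matrix.BlockTriangular (φ (hh i j t)).1 id
    rw [std_hh φ hφ hij ht]
    exact Matrix.blockTriangular_diagonal _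
  have hB : BB K n ≤ (bup_upper K n).comap φ := sup_le hU hH
  exact bup_mem_upper.mp (hB hb)

end Cfsg.Agent.Lib.Helper41.Stn
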