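import Cfsg.Agent.Lib.Helper41.StnDefs

/-!
# Stn hive (S2401), leaf STN-PHI: the standard homomorphism `St_n(K) → SL_n(K)` exists.
-/

set_option autoImplicit false

namespace Cfsg.Agent.Lib.Helper41.Stn

open Matrix

variable {K : Type*} [Field K] {n : ℕ}

/-- the transvection `1 + t E_ij` as an element of `SL_n(K)` -/
noncomputable def phi_gen (x : Idx n × K) : SpecialLinearGroup (Fin n) K :=
  ⟨Matrix.transvection x.1.1.1 x.1.1.2 x.2, Matrix.det_transvection_of_ne _ _ x.1.2 x.2⟩

theorem phi_gen_coe (x : Idx n × K) :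
    ((phi_gen x : SpecialLinearGroup (Fin n) K) : Matrix (Fin n) (Fin n) K) =
      Matrix.transvection x.1.1.1 x.1.1.2 x.2 := rfl

/-- (R2) for transvection matrices -/
theorem phi_comm {i j k l : Fin n} (hil : i ≠ l) (hjk : j ≠ k) (t u : K) :
    Matrix.transvection i j t * Matrix.transvection k l u =
      Matrix.transvection k l u * Matrix.transvection i j t := by
  have h1 : ∀ a b : K, Matrix.single i j a * Matrix.single k l b = (0 : Matrix (Fin n) (Fin n) K) :=
    fun a b => Matrix.single_mul_single_of_ne (h := hjk) ..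
  have h2 : ∀ a b : K, Matrix.single k l a * Matrix.single i j b = (0 : Matrix (Fin n) (Fin n) K) :=
    fun a b => Matrix.single_mul_single_of_ne (h := hil.symm) ..
  simp only [Matrix.transvection, Matrix.add_mul, Matrix.mul_add, Matrix.one_mul, Matrix.mul_one,
    h1, h2]
  abel

/-- (R3) for transvection matrices -/
theorem phi_comm3 {i j l : Fin n} (hjl : j ≠ l) (hil : i ≠ l) (t u : K) :
    Matrix.transvection i j t * Matrix.transvection j l u =
      Matrix.transvection i l (t * u) * Matrix.transvection j l u * Matrix.transvection i j t := by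
  have h1 : ∀ a b : K, Matrix.single i l a * Matrix.single j l b = (0 : Matrix (Fin n) (Fin n) K) :=
    fun a b => Matrix.single_mul_single_of_ne (h := hjl.symm) ..
  have h2 : ∀ a b : K, Matrix.single i l a * Matrix.single i j b = (0 : Matrix (Fin n) (Fin n) K) :=
    fun a b => Matrix.single_mul_single_of_ne (h := hil.symm) ..
  have h3 : ∀ a b : K, Matrix.single j l a * Matrix.single i j b = (0 : Matrix (Fin n) (Fin n) K) :=
    fun a b => Matrix.single_mul_single_of_ne (h := hil.symm) ..
  simp only [Matrix.transvection, Matrix.add_mul, Matrix.mul_add, Matrix.one_mul, Matrix.mul_one,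
    Matrix.single_mul_single_same, h1, h2, h3, add_zero]
  abel

theorem phi_rels : ∀ r ∈ rels K n, FreeGroup.lift (phi_gen (K := K) (n := n)) r = 1 := by
  intro r hr
  rcases hr with (hr | hr) | hr
  · obtain ⟨a, t, u, rfl⟩ := hr
    simp only [map_mul, map_inv, FreeGroup.lift_apply_of]
    rw [mul_inv_eq_one]
    apply Subtype.ext
    show Matrix.transvection a.1.1 a.1.2 t * Matrix.transvection a.1.1 a.1.2 u =
      Matrix.transvection a.1.1 a.1.2 (t + u)
    exact Matrix.transvection_mul_transvection_same (h := a.2) ..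
  · obtain ⟨a, b, t, u, h1, h2, rfl⟩ := hr
    simp only [map_mul, map_inv, FreeGroup.lift_apply_of]
    have h : phi_gen (a, t) * phi_gen (b, u) = phi_gen (b, u) * phi_gen (a, t) := by
      apply Subtype.ext
      show Matrix.transvection a.1.1 a.1.2 t * Matrix.transvection b.1.1 b.1.2 u =
        Matrix.transvection b.1.1 b.1.2 u * Matrix.transvection a.1.1 a.1.2 t
      exact phi_comm h1 h2 t u
    rw [h]
    group
  · obtain ⟨a, b, h, t, u, h1, rfl⟩ := hr
    simp only [map_mul, map_inv, FreeGroup.lift_apply_of]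
    have hb : b.1.1 ≠ b.1.2 := b.2
    have hc : phi_gen (a, t) * phi_gen (b, u) =
        phi_gen (⟨(a.1.1, b.1.2), h⟩, t * u) * phi_gen (b, u) * phi_gen (a, t) := by
      apply Subtype.ext
      show Matrix.transvection a.1.1 a.1.2 t * Matrix.transvection b.1.1 b.1.2 u =
        Matrix.transvection a.1.1 b.1.2 (t * u) * Matrix.transvection b.1.1 b.1.2 u *
          Matrix.transvection a.1.1 a.1.2 t
      rw [h1]
      exact phi_comm3 hb h t u
    rw [hc]
    group

/-- STN-PHI. -/
theorem exists_std : ∃ φ : St K n →* SpecialLinearGroup (Fin n) K, IsStd φ := by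
  refine ⟨PresentedGroup.toGroup (phi_rels (K := K) (n := n)), ?_⟩
  intro a t
  rw [PresentedGroup.toGroup.of]
  rfl

end Cfsg.Agent.Lib.Helper41.Stn
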