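import Mathlib
import Cfsg.Agent.Lib.Helper69.RtSYLCONJ

/-!
# Rs hive (helper45, S2361), leaf RS-ODD: a group normalizing a non-trivial `l`-subgroup normalizes a conjugate of
`A`, when `A` contains a Sylow `l`-subgroup and all non-trivial subgroups of `A` have the normalizer of `A`.
-/

set_option autoImplicit false

namespace Cfsg.Agent.Lib.Helper45.Rs

theorem odd_mem_map_conj {G : Type*} [Group G] (H : Subgroup G) (g h : G) :
    h ∈ H.map (MulAut.conj g).toMonoidHom ↔ g⁻¹ * h * g ∈ H := by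
  constructor
  · rintro ⟨y, hy, rfl⟩
    have : g⁻¹ * ((MulAut.conj g).toMonoidHom y) * g = y := by
      show g⁻¹ * (MulAut.conj g y) * g = y
      rw [MulAut.conj_apply]
      group
    rw [this]
    exact hy
  · intro hmem
    refine ⟨g⁻¹ * h * g, hmem, ?_⟩
    show MulAut.conj g (g⁻¹ * h * g) = h
    rw [MulAut.conj_apply]
    group

theorem odd_conj_mem_normalizer {G : Type*} [Group G] (H : Subgroup G) (g : G) {s : G}
    (hs : s ∈ Subgroup.normalizer (H : Set G)) :
    g * s * g⁻¹ ∈ Subgroup.normalizer ((H.map (MulAut.conj g).toMonoidHom : Subgroup G) : Set G) := by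
  rw [Subgroup.mem_normalizer_iff]
  intro h
  rw [odd_mem_map_conj, odd_mem_map_conj]
  have h1 := Subgroup.mem_normalizer_iff.mp hs (g⁻¹ * h * g)
  have h2 : g⁻¹ * (g * s * g⁻¹ * h * (g * s * g⁻¹)⁻¹) * g = s * (g⁻¹ * h * g) * s⁻¹ := by group
  rw [h2]
  exact h1

/-- RS-ODD (Mathlib). -/
theorem le_normalizer_conj {G : Type*} [Group G] [Finite G] (l : ℕ) (hl : l.Prime) (A : Subgroup G)
    (hfac : (Nat.card A).factorization l = (Nat.card G).factorization l)
    (hN : ∀ A₀ : Subgroup G, A₀ ≤ A → A₀ ≠ ⊥ →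
      Subgroup.normalizer (A₀ : Set G) = Subgroup.normalizer (A : Set G))
    (S B : Subgroup G) (hB : IsPGroup l B) (hBne : B ≠ ⊥) (hSB : S ≤ Subgroup.normalizer (B : Set G)) :
    ∃ g : G, S ≤ Subgroup.normalizer ((A.map (MulAut.conj g).toMonoidHom : Subgroup G) : Set G) := by
  have : Fact l.Prime := ⟨hl⟩
  obtain ⟨g, hg⟩ := Cfsg.Agent.Lib.Helper12.Rt.exists_conj_le_of_factorization A l hfac B hB
  have hle : B.map (MulAut.conj g).toMonoidHom ≤ A := by
    rintro _ ⟨y, hy, rfl⟩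
    show MulAut.conj g y ∈ A
    rw [MulAut.conj_apply]
    exact hg y hy
  have hne : B.map (MulAut.conj g).toMonoidHom ≠ ⊥ := by
    intro h
    apply hBne
    exact (Subgroup.map_eq_bot_iff_of_injective B (MulAut.conj g).injective).mp h
  have hNB := hN _ hle hne
  refine ⟨g⁻¹, fun s hs => ?_⟩
  have h1 : g * s * g⁻¹ ∈ Subgroup.normalizer ((B.map (MulAut.conj g).toMonoidHom : Subgroup G) : Set G) :=
    odd_conj_mem_normalizer B g (hSB hs)
  rw [hNB] at h1
  have h2 := odd_conj_mem_normalizer A g⁻¹ h1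
  have h3 : g⁻¹ * (g * s * g⁻¹) * g⁻¹⁻¹ = s := by group
  rwa [h3] at h2

end Cfsg.Agent.Lib.Helper45.Rs
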