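import Mathlib

/-!
# Rs hive (helper45, S2361), leaf RS-UNIQ: the normalizer of `C` normalizes the unique subgroup of prime order `l`
of `C`.
-/

set_option autoImplicit false

namespace Cfsg.Agent.Lib.Helper45.Rs

/-- conjugation by an element normalizing `C` maps `X` into `X` -/
theorem uniq_conj_mem {G : Type*} [Group G] (l : ℕ) (hl : l.Prime) (C X : Subgroup G) (hXC : X ≤ C)
    (hX : Nat.card X = l) (huniq : ∀ x ∈ C, orderOf x = l → x ∈ X) {g : G}
    (hg : g ∈ Subgroup.normalizer (C : Set G)) {x : G} (hx : x ∈ X) : g * x * g⁻¹ ∈ X := by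
  by_cases hx1 : x = 1
  · rw [hx1, mul_one, mul_inv_cancel]
    exact X.one_mem
  · have hfin : Finite X := Nat.finite_of_card_ne_zero (by rw [hX]; exact hl.ne_zero)
    have hord : orderOf x = l := by
      have h1 : orderOf (⟨x, hx⟩ : X) ∣ l := by
        rw [← hX]
        exact orderOf_dvd_natCard _
      have h2 : orderOf (⟨x, hx⟩ : X) = orderOf x := Subgroup.orderOf_mk x hx
      rw [h2] at h1
      rcases (Nat.dvd_prime hl).mp h1 with h3 | h3
      · exact absurd (orderOf_eq_one_iff.mp h3) hx1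
      · exact h3
    have hmem : g * x * g⁻¹ ∈ C := (Subgroup.mem_normalizer_iff.mp hg x).mp (hXC hx)
    apply huniq _ hmem
    have := (MulAut.conj g).orderOf_eq x
    rw [MulAut.conj_apply] at this
    rw [this, hord]

/-- RS-UNIQ (Mathlib). -/
theorem normalizer_le_of_unique {G : Type*} [Group G] (l : ℕ) (hl : l.Prime) (C X : Subgroup G) (hXC : X ≤ C)
    (hX : Nat.card X = l) (huniq : ∀ x ∈ C, orderOf x = l → x ∈ X) :
    Subgroup.normalizer (C : Set G) ≤ Subgroup.normalizer (X : Set G) := by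
  intro g hg
  rw [Subgroup.mem_normalizer_iff]
  intro x
  constructor
  · intro hx
    exact uniq_conj_mem l hl C X hXC hX huniq hg hx
  · intro hx
    have hg' : g⁻¹ ∈ Subgroup.normalizer (C : Set G) := Subgroup.inv_mem _ hg
    have h1 := uniq_conj_mem l hl C X hXC hX huniq hg' hx
    have h2 : g⁻¹ * (g * x * g⁻¹) * g⁻¹⁻¹ = x := by group
    rwa [h2] at h1

end Cfsg.Agent.Lib.Helper45.Rs
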