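import Mathlib
import Cfsg.Agent.Lib.Helper47.G42Defs
import Cfsg.Agent.Lib.Helper3.Burnside

/-! G42 hive (S2553, owner helper47): leaf G42-X1344 `not_radFree_of_card_1344` (helper88). -/

set_option autoImplicit false

namespace Cfsg.Agent.Lib.Helper47.G42

open Matrix

/-- the permutation representation of `GL₄(2)` on vectors -/
def x1344_rho : GL (Fin 4) (ZMod 2) →* Equiv.Perm (Fin 4 → ZMod 2) where
  toFun g :=
    { toFun := fun w => (g : Matrix (Fin 4) (Fin 4) (ZMod 2)) *ᵥ w
      invFun := fun w => ((g⁻¹ : GL (Fin 4) (ZMod 2)) : Matrix (Fin 4) (Fin 4) (ZMod 2)) *ᵥ w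
      left_inv := by
        intro w
        dsimp only
        rw [Matrix.mulVec_mulVec, ← Units.val_mul, inv_mul_cancel, Units.val_one, Matrix.one_mulVec]
      right_inv := by
        intro w
        dsimp only
        rw [Matrix.mulVec_mulVec, ← Units.val_mul, mul_inv_cancel, Units.val_one, Matrix.one_mulVec] }
  map_one' := by
    apply Equiv.ext
    intro w
    show ((1 : GL (Fin 4) (ZMod 2)) : Matrix (Fin 4) (Fin 4) (ZMod 2)) *ᵥ w = w
    rw [Units.val_one, Matrix.one_mulVec]
  map_mul' := by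
    intro g h
    apply Equiv.ext
    intro w
    show ((g * h : GL (Fin 4) (ZMod 2)) : Matrix (Fin 4) (Fin 4) (ZMod 2)) *ᵥ w =
      (g : Matrix (Fin 4) (Fin 4) (ZMod 2)) *ᵥ ((h : Matrix (Fin 4) (Fin 4) (ZMod 2)) *ᵥ w)
    rw [Units.val_mul, Matrix.mulVec_mulVec]

theorem x1344_divisors : ∀ d ∈ Nat.divisors 192, ∃ a ∈ Finset.range 7, ∃ b ∈ Finset.range 2,
    d = 2 ^ a * 3 ^ b := by decide

/-- a group of order `1344` acting transitively on `3` or `7` points has a non-trivial solvable normal subgroup -/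
theorem x1344_of_action {H : Type*} [Group H] [Finite H] (hc : Nat.card H = 1344) {O : Type*} [Finite O]
    [MulAction H O] [MulAction.IsPretransitive H O] (hO : Nat.card O = 3 ∨ Nat.card O = 7) :
    ¬ RadFree H := by
  intro hR
  set K : Subgroup H := (MulAction.toPermHom H O).ker with hK
  have hKn : K.Normal := MonoidHom.normal_ker _
  have hmul : Nat.card K * K.index = 1344 := by rw [← hc]; exact Subgroup.card_mul_index K
  have hidx : K.index ∣ (Nat.card O).factorial := by
    rw [hK, Subgroup.index_ker]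
    have := Subgroup.card_subgroup_dvd_card (MulAction.toPermHom H O).range
    rwa [Nat.card_perm] at this
  have hO' : Nat.card O ∣ K.index := by
    have hne : Nonempty O := by
      have : 0 < Nat.card O := by rcases hO with h | h <;> omega
      exact (Nat.card_pos_iff.mp this).1
    obtain ⟨o⟩ := hne
    have h1 : (MulAction.stabilizer H o).index = Nat.card O :=
      MulAction.index_stabilizer_of_transitive H o
    have h2 : K ≤ MulAction.stabilizer H o := by
      intro k hk
      rw [MulAction.mem_stabilizer_iff]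
      have h3 : MulAction.toPermHom H O k = 1 := hk
      have h4 := congrArg (fun σ : Equiv.Perm O => σ o) h3
      simpa using h4
    rw [← h1]
    exact Subgroup.index_dvd_of_le h2
  have hKsol : Group.IsSolvable K ∧ Nat.card K ≠ 1 := by
    rcases hO with h | h
    · rw [h] at hidx hO'
      have h6 : K.index ∣ 6 := by simpa [Nat.factorial] using hidx
      have hle := Nat.le_of_dvd (by norm_num) h6
      have hi : K.index = 3 ∨ K.index = 6 := by
        obtain ⟨r, hr⟩ := hO'
        have hr6 : 3 * r ≤ 6 := hr ▸ hle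
        have hr0 : r ≠ 0 := by
          rintro rfl
          rw [mul_zero] at hr
          rw [hr, mul_zero] at hmul
          omega
        omega
      rcases hi with hi | hi
      · rw [hi] at hmul
        have h448 : Nat.card K = 448 := by omega
        exact ⟨Cfsg.Agent.Lib.Helper3.isSolvable_of_card_eq_prime_pow_mul 2 7 6 1 (by norm_num)
          (by norm_num) (by rw [h448]; norm_num), by omega⟩
      · rw [hi] at hmul
        have h224 : Nat.card K = 224 := by omega
        exact ⟨Cfsg.Agent.Lib.Helper3.isSolvable_of_card_eq_prime_pow_mul 2 7 5 1 (by norm_num)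
          (by norm_num) (by rw [h224]; norm_num), by omega⟩
    · rw [h] at hidx hO'
      obtain ⟨r, hr⟩ := hO'
      have hk192 : Nat.card K * r = 192 := by
        rw [hr] at hmul
        have : 7 * (Nat.card K * r) = 1344 := by rw [← hmul]; ring
        omega
      have hdvd : Nat.card K ∣ 192 := Dvd.intro _ hk192
      have hne : Nat.card K ≠ 1 := by
        intro h1
        rw [h1, one_mul] at hmul
        rw [hmul] at hidx
        norm_num [Nat.factorial] at hidx
      obtain ⟨a, -, b, -, hab⟩ := x1344_divisors _ (Nat.mem_divisors.mpr ⟨hdvd, by norm_num⟩)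
      exact ⟨Cfsg.Agent.Lib.Helper3.isSolvable_of_card_eq_prime_pow_mul 2 3 a b (by norm_num)
        (by norm_num) hab, hne⟩
  have hbot := hR K hKn hKsol.1
  rw [hbot] at hKsol
  exact hKsol.2 Subgroup.card_bot

/-- the case where `H` fixes a non-zero vector `v`: the elements acting trivially on `V / ⟨v⟩` form a
non-trivial abelian normal subgroup -/
theorem x1344_fixed (H : Subgroup (GL (Fin 4) (ZMod 2))) (h : Nat.card H = 1344)
    (v : Fin 4 → ZMod 2) (hv : v ≠ 0)
    (hfix : ∀ g ∈ H, (g : Matrix (Fin 4) (Fin 4) (ZMod 2)) *ᵥ v = v) : ¬ RadFree H := by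
  intro hR
  let K' : Subgroup H :=
    { carrier := {k | ∀ w : Fin 4 → ZMod 2, ∃ c : ZMod 2,
        ((k : GL (Fin 4) (ZMod 2)) : Matrix (Fin 4) (Fin 4) (ZMod 2)) *ᵥ w = w + c • v}
      mul_mem' := by
        intro k k' hk hk' w
        obtain ⟨c', hc'⟩ := hk' w
        obtain ⟨c, hc⟩ := hk w
        refine ⟨c + c', ?_⟩
        rw [Subgroup.coe_mul, Units.val_mul, ← Matrix.mulVec_mulVec, hc', Matrix.mulVec_add,
          Matrix.mulVec_smul, hfix _ k.2, hc, add_smul, add_assoc]
      one_mem' := by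
        intro w
        refine ⟨0, ?_⟩
        rw [Subgroup.coe_one, Units.val_one, Matrix.one_mulVec, zero_smul, add_zero]
      inv_mem' := by
        intro k hk w
        obtain ⟨c, hc⟩ := hk ((((k⁻¹ : H) : GL (Fin 4) (ZMod 2)) : Matrix (Fin 4) (Fin 4) (ZMod 2)) *ᵥ w)
        refine ⟨-c, ?_⟩
        rw [Matrix.mulVec_mulVec, ← Units.val_mul, ← Subgroup.coe_mul, mul_inv_cancel, Subgroup.coe_one,
          Units.val_one, Matrix.one_mulVec] at hc
        rw [neg_smul, ← sub_eq_add_neg, eq_sub_iff_add_eq]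
        exact hc.symm }
  have hmemK' : ∀ k : H, k ∈ K' ↔ ∀ w : Fin 4 → ZMod 2, ∃ c : ZMod 2,
      ((k : GL (Fin 4) (ZMod 2)) : Matrix (Fin 4) (Fin 4) (ZMod 2)) *ᵥ w = w + c • v := fun k => Iff.rfl
  have hn : K'.Normal := by
    constructor
    intro n hn g
    rw [hmemK']
    intro w
    obtain ⟨c, hc⟩ := (hmemK' n).mp hn ((((g⁻¹ : H) : GL (Fin 4) (ZMod 2)) : Matrix (Fin 4) (Fin 4) (ZMod 2)) *ᵥ w)
    refine ⟨c, ?_⟩
    rw [Subgroup.coe_mul, Subgroup.coe_mul, Units.val_mul, Units.val_mul, ← Matrix.mulVec_mulVec,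
      ← Matrix.mulVec_mulVec, hc, Matrix.mulVec_add, Matrix.mulVec_smul, hfix _ g.2,
      Matrix.mulVec_mulVec, ← Units.val_mul, ← Subgroup.coe_mul, mul_inv_cancel, Subgroup.coe_one,
      Units.val_one, Matrix.one_mulVec]
  have hcomm : ∀ a b : K', a * b = b * a := by
    intro a b
    apply Subtype.ext
    apply Subtype.ext
    apply Units.ext
    apply Matrix.mulVec_injective
    funext w
    obtain ⟨ca, hca⟩ := (hmemK' a.1).mp a.2 w
    obtain ⟨cb, hcb⟩ := (hmemK' b.1).mp b.2 w
    show ((((a * b : K') : H) : GL (Fin 4) (ZMod 2)) : Matrix (Fin 4) (Fin 4) (ZMod 2)) *ᵥ w =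
      ((((b * a : K') : H) : GL (Fin 4) (ZMod 2)) : Matrix (Fin 4) (Fin 4) (ZMod 2)) *ᵥ w
    rw [Subgroup.coe_mul, Subgroup.coe_mul, Units.val_mul, Subgroup.coe_mul, Subgroup.coe_mul, Units.val_mul,
      ← Matrix.mulVec_mulVec, ← Matrix.mulVec_mulVec, hcb, hca, Matrix.mulVec_add, Matrix.mulVec_add,
      Matrix.mulVec_smul, Matrix.mulVec_smul, hfix _ a.1.2, hfix _ b.1.2, hca, hcb]
    abel
  have hsol : Group.IsSolvable K' := Group.isSolvable_of_comm hcomm
  -- non-triviality by the pigeonhole principle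
  set P : Submodule (ZMod 2) (Fin 4 → ZMod 2) := Submodule.span (ZMod 2) {v} with hPdef
  have hP : ∀ g : H, P ≤ P.comap (Matrix.toLin' ((g : GL (Fin 4) (ZMod 2)) : Matrix (Fin 4) (Fin 4) (ZMod 2))) := by
    intro g
    rw [hPdef, Submodule.span_singleton_le_iff_mem, Submodule.mem_comap, Matrix.toLin'_apply, hfix _ g.2]
    exact Submodule.mem_span_singleton_self v
  let Φ : H → ((Fin 4 → ZMod 2) ⧸ P) →ₗ[ZMod 2] ((Fin 4 → ZMod 2) ⧸ P) := fun g =>
    P.mapQ P (Matrix.toLin' ((g : GL (Fin 4) (ZMod 2)) : Matrix (Fin 4) (Fin 4) (ZMod 2))) (hP g)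
  have hfr : Module.finrank (ZMod 2) ((Fin 4 → ZMod 2) ⧸ P) = 3 := by
    have h1 := P.finrank_quotient_add_finrank
    rw [hPdef, finrank_span_singleton hv, Module.finrank_fin_fun] at h1
    rw [hPdef]
    omega
  have hcardE : Nat.card (((Fin 4 → ZMod 2) ⧸ P) →ₗ[ZMod 2] ((Fin 4 → ZMod 2) ⧸ P)) = 512 := by
    rw [Module.natCard_eq_pow_finrank (K := ZMod 2), Module.finrank_linearMap, hfr, Nat.card_zmod]
    norm_num
  have hni : ¬ Function.Injective Φ := by
    intro hinj
    haveI : Finite (((Fin 4 → ZMod 2) ⧸ P) →ₗ[ZMod 2] ((Fin 4 → ZMod 2) ⧸ P)) :=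
      Nat.finite_of_card_ne_zero (by rw [hcardE]; norm_num)
    have := Nat.card_le_card_of_injective Φ hinj
    rw [h, hcardE] at this
    omega
  obtain ⟨g, g', hΦ, hgg'⟩ := Function.not_injective_iff.mp hni
  have key : ∀ w : Fin 4 → ZMod 2, ∃ c : ZMod 2,
      ((g : GL (Fin 4) (ZMod 2)) : Matrix (Fin 4) (Fin 4) (ZMod 2)) *ᵥ w =
        ((g' : GL (Fin 4) (ZMod 2)) : Matrix (Fin 4) (Fin 4) (ZMod 2)) *ᵥ w + c • v := by
    intro w
    have h1 := LinearMap.congr_fun hΦ (Submodule.Quotient.mk w)
    simp only [Φ, Submodule.mapQ_apply, Matrix.toLin'_apply] at h1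
    rw [Submodule.Quotient.eq, hPdef, Submodule.mem_span_singleton] at h1
    obtain ⟨c, hc⟩ := h1
    exact ⟨c, by rw [hc]; abel⟩
  have hk : g'⁻¹ * g ∈ K' := by
    rw [hmemK']
    intro w
    obtain ⟨c, hc⟩ := key w
    refine ⟨c, ?_⟩
    rw [Subgroup.coe_mul, Units.val_mul, ← Matrix.mulVec_mulVec, hc, Matrix.mulVec_add, Matrix.mulVec_smul,
      hfix _ (g'⁻¹).2, Matrix.mulVec_mulVec, ← Units.val_mul, ← Subgroup.coe_mul, inv_mul_cancel,
      Subgroup.coe_one, Units.val_one, Matrix.one_mulVec]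
  have hbot := hR K' hn hsol
  rw [hbot, Subgroup.mem_bot] at hk
  apply hgg'
  have : g = g' * (g'⁻¹ * g) := by group
  rw [this, hk, mul_one]

/-- abstract orbit analysis: a group of order `1344` acting on `16` points with a fixed point `z` either fixes a
second point or is not `RadFree` -/
theorem x1344_abstract {H : Type*} [Group H] [Finite H] (hc : Nat.card H = 1344) {V : Type*} [Finite V]
    [MulAction H V] (h16 : Nat.card V = 16) (z : V) (hz : ∀ g : H, g • z = z) :
    (∃ v : V, v ≠ z ∧ ∀ g : H, g • v = v) ∨ ¬ RadFree H := by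
  classical
  haveI : Fact (Nat.Prime 2) := ⟨Nat.prime_two⟩
  let S : Sylow 2 H := default
  have h64 : 64 ∣ Nat.card S := by
    have := S.pow_dvd_card_of_pow_dvd_card (n := 6) (by rw [hc]; norm_num)
    simpa using this
  have h0 : z ∈ MulAction.fixedPoints S V := by
    intro s
    exact hz (s : H)
  have h2 : 2 ∣ Nat.card V := by rw [h16]; norm_num
  obtain ⟨v, hvfix, hv0⟩ :=
    S.isPGroup'.exists_fixed_point_of_prime_dvd_card_of_fixed_point V h2 h0
  have hSle : (S : Subgroup H) ≤ MulAction.stabilizer H v := by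
    intro s hs
    rw [MulAction.mem_stabilizer_iff]
    exact hvfix ⟨s, hs⟩
  have hstab : 64 ∣ Nat.card (MulAction.stabilizer H v) := h64.trans (Subgroup.card_dvd_of_le hSle)
  have hmul := Subgroup.card_mul_index (MulAction.stabilizer H v)
  rw [hc] at hmul
  have hidx : (MulAction.stabilizer H v).index = (MulAction.orbit H v).ncard :=
    MulAction.index_stabilizer H v
  have hle : (MulAction.orbit H v).ncard ≤ 16 := by
    have := Set.ncard_le_card (MulAction.orbit H v)
    rwa [h16] at this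
  have hcases : (MulAction.orbit H v).ncard = 1 ∨ (MulAction.orbit H v).ncard = 3 ∨
      (MulAction.orbit H v).ncard = 7 := by
    rw [← hidx] at hle ⊢
    obtain ⟨m, hm⟩ := hstab
    rw [hm] at hmul
    have h21 : m * (MulAction.stabilizer H v).index = 21 := by
      have : 64 * (m * (MulAction.stabilizer H v).index) = 1344 := by rw [← hmul]; ring
      omega
    have hd : (MulAction.stabilizer H v).index ∣ 21 := Dvd.intro_left _ h21
    have hmem : (MulAction.stabilizer H v).index ∈ Nat.divisors 21 :=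
      Nat.mem_divisors.mpr ⟨hd, by norm_num⟩
    have hdiv : Nat.divisors 21 = {1, 3, 7, 21} := by decide
    rw [hdiv] at hmem
    simp only [Finset.mem_insert, Finset.mem_singleton] at hmem
    rcases hmem with h1 | h1 | h1 | h1
    · exact Or.inl h1
    · exact Or.inr (Or.inl h1)
    · exact Or.inr (Or.inr h1)
    · omega
  rcases hcases with h1 | h3 | h7
  · -- `H` fixes `v`
    left
    obtain ⟨a, ha⟩ := Set.ncard_eq_one.mp h1
    have hva : v = a := by
      have h5 : v ∈ MulAction.orbit H v := MulAction.mem_orbit_self v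
      rw [ha] at h5
      exact h5
    refine ⟨v, Ne.symm hv0, fun g => ?_⟩
    have h5 : g • v ∈ MulAction.orbit H v := MulAction.mem_orbit v g
    rw [ha, Set.mem_singleton_iff, ← hva] at h5
    exact h5
  · right
    have hO : Nat.card (MulAction.orbit H v) = 3 := by rw [Nat.card_coe_set_eq]; exact h3
    exact x1344_of_action hc (O := MulAction.orbit H v) (Or.inl hO)
  · right
    have hO : Nat.card (MulAction.orbit H v) = 7 := by rw [Nat.card_coe_set_eq]; exact h7
    exact x1344_of_action hc (O := MulAction.orbit H v) (Or.inr hO)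

/-- LEAF G42-X1344 (inside GL4(2), linear algebra). -/
theorem not_radFree_of_card_1344 (H : Subgroup (GL (Fin 4) (ZMod 2))) (h : Nat.card H = 1344) :
    ¬ RadFree H := by
  haveI : Finite H := Nat.finite_of_card_ne_zero (by rw [h]; norm_num)
  have h16 : Nat.card (Fin 4 → ZMod 2) = 16 := by
    rw [Nat.card_eq_fintype_card, Fintype.card_fun, ZMod.card, Fintype.card_fin]
    norm_num
  have key := @x1344_abstract H _ _ h (Fin 4 → ZMod 2) _
    (MulAction.compHom _ (x1344_rho.comp H.subtype)) h16 0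
    (fun g => Matrix.mulVec_zero ((g : GL (Fin 4) (ZMod 2)) : Matrix (Fin 4) (Fin 4) (ZMod 2)))
  rcases key with ⟨v, hv, hfix⟩ | hno
  · exact x1344_fixed H h v hv (fun g hg => hfix ⟨g, hg⟩)
  · exact hno

end Cfsg.Agent.Lib.Helper47.G42
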