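import Cfsg.Agent.S5118

set_option autoImplicit false

namespace Cfsg.Agent.Lib.Helper88

open Cfsg Subgroup
open Cfsg.Agent.Lib.Helper85 (cj cj_apply SylIn sylIn_top mem_sup_of_le_normalizer le_normalizer_inf
  normalizer_le_normalizer_centralizer)

/-- The group-theoretic core of the extension condition for `F_{S ∩ H}(H) ⊴ F_S(G)`:
an element `h ∈ H` normalizing `T = S ∩ H` can be corrected by an element of `C_H(T)` so as to
normalize `C_S(T)` too. -/
theorem exists_ext_elt {G : Type*} [Group G] [Finite G] {p : ℕ} [Fact p.Prime] (S : Sylow p G)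
    (H : Subgroup G) [hHn : H.Normal] (h : G) (hhH : h ∈ H)
    (hhN : h ∈ normalizer ((((S : Subgroup G) ⊓ H : Subgroup G)) : Set G)) :
    ∃ g ∈ H, (∀ t ∈ (S : Subgroup G) ⊓ H, g * t * g⁻¹ = h * t * h⁻¹) ∧
      ∀ c ∈ (S : Subgroup G) ⊓ centralizer ((((S : Subgroup G) ⊓ H : Subgroup G)) : Set G),
        g * c * g⁻¹ ∈ (S : Subgroup G) ⊓
          centralizer ((((S : Subgroup G) ⊓ H : Subgroup G)) : Set G) := by
  have hNH : (⊤ : Subgroup G) ≤ normalizer (H : Set G) :=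
    Cfsg.Agent.S5118.normalizer_top_of_normal H
  set T := (S : Subgroup G) ⊓ H with hTdef
  have hTS : T ≤ (S : Subgroup G) := inf_le_left
  have hSNT : (S : Subgroup G) ≤ normalizer (T : Set G) :=
    le_normalizer_inf le_normalizer (le_top.trans hNH)
  have hconjH : ∀ (g x : G), x ∈ H → g * x * g⁻¹ ∈ H := fun g x hx => hHn.conj_mem x hx g
  set CG := centralizer (T : Set G) with hCG
  set C := (S : Subgroup G) ⊓ CG with hCdef
  set CH := H ⊓ CG with hCH
  have hCS : C ≤ (S : Subgroup G) := inf_le_left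
  have hCCG : C ≤ CG := inf_le_right
  have hNTCG : normalizer (T : Set G) ≤ normalizer (CG : Set G) :=
    normalizer_le_normalizer_centralizer _
  have hSyl2 : SylIn p (S : Subgroup G) (normalizer (T : Set G)) :=
    (sylIn_top S).of_le hSNT le_top
  have hSyl3 : SylIn p C CG :=
    hSyl2.inf_normal hSNT (centralizer_le_normalizer _) hNTCG
  have hCHCG : CH ≤ CG := inf_le_right
  have hSyl4 : SylIn p C (CH ⊔ C) := hSyl3.of_le le_sup_right (sup_le hCHCG hCCG)
  have hCp : IsPGroup p C := S.isPGroup'.to_le hCS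
  have hL : C.map (cj h) ≤ CH ⊔ C := by
    rintro _ ⟨c, hc, rfl⟩
    have e : cj h c = (h * c * h⁻¹ * c⁻¹) * c := by rw [cj_apply]; group
    rw [e]
    refine mul_mem_sup ⟨?_, ?_⟩ hc
    · have : h * c * h⁻¹ * c⁻¹ = h * (c * h⁻¹ * c⁻¹) := by group
      rw [this]
      exact H.mul_mem hhH (hconjH c _ (H.inv_mem hhH))
    · exact CG.mul_mem ((mem_normalizer_iff.mp (hNTCG hhN) c).mp (hCCG hc)) (CG.inv_mem (hCCG hc))
  obtain ⟨y, hyM, hy⟩ := hSyl4.exists_conj_le hL (hCp.map _)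
  have hCnCH : C ≤ normalizer (CH : Set G) :=
    le_normalizer_inf (le_top.trans hNH) ((hCS.trans hSNT).trans hNTCG)
  rw [sup_comm] at hyM
  obtain ⟨a, ha, d, hd, rfl⟩ := mem_sup_of_le_normalizer hCnCH hyM
  have hgC : ∀ c ∈ C, (d * h) * c * (d * h)⁻¹ ∈ C := by
    intro c hc
    have h1 : cj (a * d) (cj h c) ∈ C := hy ⟨cj h c, ⟨c, hc, rfl⟩, rfl⟩
    have h2 : a⁻¹ * cj (a * d) (cj h c) * a ∈ C := C.mul_mem (C.mul_mem (C.inv_mem ha) h1) ha
    have e : a⁻¹ * cj (a * d) (cj h c) * a = (d * h) * c * (d * h)⁻¹ := by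
      simp only [cj_apply]; group
    rwa [e] at h2
  have hgH : d * h ∈ H := H.mul_mem hd.1 hhH
  have hgT : ∀ t ∈ T, (d * h) * t * (d * h)⁻¹ = h * t * h⁻¹ := by
    intro t ht
    have h1 : h * t * h⁻¹ ∈ T := (mem_normalizer_iff.mp hhN t).mp ht
    have h2 := mem_centralizer_iff.mp hd.2 _ h1
    calc (d * h) * t * (d * h)⁻¹ = d * (h * t * h⁻¹) * d⁻¹ := by group
      _ = (h * t * h⁻¹) * d * d⁻¹ := by rw [← h2]
      _ = h * t * h⁻¹ := by group
  exact ⟨d * h, hgH, hgT, hgC⟩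

end Cfsg.Agent.Lib.Helper88
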