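import Cfsg.Agent.S5145
import Cfsg.Agent.Lib.Helper87.NormalChain

set_option autoImplicit false

namespace Cfsg.Agent.Lib.Helper88

open Cfsg Cfsg.FusionSystem
open Cfsg.Agent.Lib.Helper87 (restrict_mem map_subgroupOf_eq_iff finite_of_le)

variable {Ω : Type*} [Group Ω] {S T : Subgroup Ω}

/-- image of `P` under an automorphism of `T` (in the form used by `IsInvariantIn`) -/
def img (α : MulAut T) (P : Subgroup Ω) : Subgroup Ω :=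
  (P.subgroupOf T).map (T.subtype.comp α.toMonoidHom)

theorem mem_img {α : MulAut T} {P : Subgroup Ω} {x : Ω} :
    x ∈ img α P ↔ ∃ y : T, (y : Ω) ∈ P ∧ ((α y : T) : Ω) = x := by
  constructor
  · rintro ⟨y, hy, rfl⟩
    exact ⟨y, Subgroup.mem_subgroupOf.mp hy, rfl⟩
  · rintro ⟨y, hy, rfl⟩
    exact ⟨y, Subgroup.mem_subgroupOf.mpr hy, rfl⟩

theorem img_le (α : MulAut T) (P : Subgroup Ω) : img α P ≤ T := by
  intro x hx
  obtain ⟨y, -, rfl⟩ := mem_img.mp hx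
  exact (α y).2

theorem img_mono (α : MulAut T) {P P' : Subgroup Ω} (h : P ≤ P') : img α P ≤ img α P' := by
  intro x hx
  obtain ⟨y, hy, rfl⟩ := mem_img.mp hx
  exact mem_img.mpr ⟨y, h hy, rfl⟩

theorem img_sup (α : MulAut T) {A B : Subgroup Ω} (hA : A ≤ T) (hB : B ≤ T) :
    img α (A ⊔ B) = img α A ⊔ img α B := by
  apply le_antisymm
  · unfold img
    rw [Subgroup.subgroupOf_sup hA hB, Subgroup.map_sup]
  · exact sup_le (img_mono α le_sup_left) (img_mono α le_sup_right)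

theorem img_img (α β : MulAut T) (P : Subgroup Ω) : img α (img β P) = img (α * β) P := by
  ext x
  rw [mem_img, mem_img]
  constructor
  · rintro ⟨y, hy, rfl⟩
    obtain ⟨w, hw, hwy⟩ := mem_img.mp hy
    refine ⟨w, hw, ?_⟩
    have : β w = y := Subtype.ext hwy
    rw [MulAut.mul_apply, this]
  · rintro ⟨w, hw, rfl⟩
    exact ⟨β w, mem_img.mpr ⟨w, hw, rfl⟩, rfl⟩

theorem img_one {P : Subgroup Ω} (hP : P ≤ T) : img (1 : MulAut T) P = P := by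
  ext x
  rw [mem_img]
  constructor
  · rintro ⟨y, hy, rfl⟩
    exact hy
  · intro hx
    exact ⟨⟨x, hP hx⟩, hx, rfl⟩

/-- the sup of a family of subgroups normal in the system is normal in the system -/
theorem isNormal_sSup [Finite T] (E : FusionSystem T) (𝒜 : Set (Subgroup Ω))
    (h : ∀ N ∈ 𝒜, E.IsNormal N) : E.IsNormal (sSup 𝒜) := by
  classical
  let X : Set ℕ := {n | ∃ Q : Subgroup Ω, E.IsNormal Q ∧ Q ≤ sSup 𝒜 ∧ n = Nat.card Q}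
  have hX : X.Nonempty := ⟨_, ⊥, Cfsg.Agent.S5145.isNormal_bot E, bot_le, rfl⟩
  have hXb : BddAbove X :=
    ⟨Nat.card T, by rintro n ⟨Q, hQ, -, rfl⟩; exact Subgroup.card_le_of_le hQ.1⟩
  obtain ⟨Q, hQ, hQle, hQm⟩ := Nat.sSup_mem hX hXb
  have hmax : ∀ N ∈ 𝒜, N ≤ Q := by
    intro N hN
    have hsup := Cfsg.Agent.S5145.isNormal_sup E hQ (h N hN)
    have hfin : Finite ↥(Q ⊔ N) :=
      Finite.of_injective (Subgroup.inclusion hsup.1) (Subgroup.inclusion_injective _)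
    have hcard : Nat.card ↥(Q ⊔ N) ≤ Nat.card Q := by
      rw [← hQm]
      exact le_csSup hXb ⟨_, hsup, sup_le hQle (le_sSup hN), rfl⟩
    have heq : Q = Q ⊔ N := Subgroup.eq_of_le_of_card_ge le_sup_left hcard
    rw [heq]
    exact le_sup_right
  have : sSup 𝒜 = Q := le_antisymm (sSup_le hmax) hQle
  rw [this]
  exact hQ

/-- the invariance part of `IsInvariantIn` -/
def InvProp (E : FusionSystem T) (F : FusionSystem S) : Prop :=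
  ∀ (P : Subgroup Ω) (hPT : P ≤ T) (φ : P →* Ω), φ ∈ E.Hom P → ∀ α ∈ F.autGroup T,
    ∃ χ ∈ E.Hom ((P.subgroupOf T).map (T.subtype.comp α.toMonoidHom)),
      ∀ (x : P) (hφx : φ x ∈ T)
        (hαx : ((α ⟨x, hPT x.2⟩ : T) : Ω) ∈ (P.subgroupOf T).map (T.subtype.comp α.toMonoidHom)),
        χ ⟨(α ⟨x, hPT x.2⟩ : T), hαx⟩ = ((α ⟨φ x, hφx⟩ : T) : Ω)

/-- the Frattini part of `IsInvariantIn` -/
def FratProp (E : FusionSystem T) (F : FusionSystem S) : Prop :=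
  ∀ (P : Subgroup Ω), P ≤ T → ∀ (φ : P →* Ω), φ ∈ F.Hom P →
    ∃ α ∈ F.autGroup T, ∃ φ₀ ∈ E.Hom P, ∀ (x : P) (hx : φ₀ x ∈ T), φ x = ((α ⟨φ₀ x, hx⟩ : T) : Ω)

theorem transport_hom {E : FusionSystem T} {F : FusionSystem S} (hinv : InvProp E F)
    {P : Subgroup Ω} (hPT : P ≤ T) {φ : P →* Ω} (hφ : φ ∈ E.Hom P) {α : MulAut T}
    (hα : α ∈ F.autGroup T) {P' : Subgroup Ω} (hP' : P' = img α P) :
    ∃ χ ∈ E.Hom P', ∀ (x : P) (hφx : φ x ∈ T) (hx : ((α ⟨x, hPT x.2⟩ : T) : Ω) ∈ P'),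
      χ ⟨_, hx⟩ = ((α ⟨φ x, hφx⟩ : T) : Ω) := by
  subst hP'
  exact hinv P hPT φ hφ α hα

/-- the image of a subgroup normal in `E` under an element of `Aut_F(T)` is normal in `E` -/
theorem isNormal_img {E : FusionSystem T} {F : FusionSystem S} (hinv : InvProp E F)
    {R : Subgroup Ω} (hR : E.IsNormal R) {α : MulAut T} (hα : α ∈ F.autGroup T) :
    E.IsNormal (img α R) := by
  have hRT := hR.1
  refine ⟨img_le α R, fun P φ hφ => ?_⟩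
  have hPT : P ≤ T := (E.le_of_mem hφ).1
  have hφT : ∀ x : P, φ x ∈ T := (E.le_of_mem hφ).2
  have hα' : α⁻¹ ∈ F.autGroup T := inv_mem hα
  obtain ⟨χ₁, hχ₁, hχ₁e⟩ := transport_hom hinv hPT hφ hα' (P' := img α⁻¹ P) rfl
  obtain ⟨ψ₁, hψ₁, hψ₁e, hψ₁R⟩ := hR.2 _ χ₁ hχ₁
  rw [map_subgroupOf_eq_iff] at hψ₁R
  have hP₁T : img α⁻¹ P ⊔ R ≤ T := sup_le (img_le _ _) hRT
  have hψ₁T : ∀ y, ψ₁ y ∈ T := (E.le_of_mem hψ₁).2
  have hP' : P ⊔ img α R = img α (img α⁻¹ P ⊔ R) := by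
    rw [img_sup α (img_le _ _) hRT, img_img, mul_inv_cancel, img_one hPT]
  obtain ⟨χ₂, hχ₂, hχ₂e⟩ := transport_hom hinv hP₁T hψ₁ hα hP'
  refine ⟨χ₂, hχ₂, ?_, ?_⟩
  · intro x
    have hyP₁ : ((α⁻¹ ⟨x, hPT x.2⟩ : T) : Ω) ∈ img α⁻¹ P := mem_img.mpr ⟨⟨x, hPT x.2⟩, x.2, rfl⟩
    have hyP₁R : ((α⁻¹ ⟨x, hPT x.2⟩ : T) : Ω) ∈ img α⁻¹ P ⊔ R :=
      (le_sup_left : img α⁻¹ P ≤ img α⁻¹ P ⊔ R) hyP₁
    have hαy : α (α⁻¹ ⟨x, hPT x.2⟩) = ⟨x, hPT x.2⟩ := MulAut.apply_inv_self _ _ _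
    have hmem : ((α ⟨((α⁻¹ ⟨x, hPT x.2⟩ : T) : Ω), hP₁T hyP₁R⟩ : T) : Ω) ∈ P ⊔ img α R := by
      have : (⟨((α⁻¹ ⟨x, hPT x.2⟩ : T) : Ω), hP₁T hyP₁R⟩ : T) = α⁻¹ ⟨x, hPT x.2⟩ := rfl
      rw [this, hαy]
      exact (le_sup_left : P ≤ P ⊔ img α R) x.2
    have h1 := hχ₂e ⟨_, hyP₁R⟩ (hψ₁T _) hmem
    have h2 : ψ₁ ⟨_, hyP₁R⟩ = χ₁ ⟨_, hyP₁⟩ := hψ₁e ⟨_, hyP₁⟩
    have h3 := hχ₁e x (hφT x) hyP₁
    have e1 : (Subgroup.inclusion (le_sup_left : P ≤ P ⊔ img α R) x) =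
        ⟨((α ⟨((α⁻¹ ⟨x, hPT x.2⟩ : T) : Ω), hP₁T hyP₁R⟩ : T) : Ω), hmem⟩ := by
      apply Subtype.ext
      show (x : Ω) = ((α (α⁻¹ ⟨x, hPT x.2⟩) : T) : Ω)
      rw [hαy]
    rw [e1, h1]
    have e2 : (⟨ψ₁ ⟨_, hyP₁R⟩, hψ₁T _⟩ : T) = α⁻¹ ⟨φ x, hφT x⟩ := by
      apply Subtype.ext
      show ψ₁ ⟨_, hyP₁R⟩ = _
      rw [h2, h3]
    rw [e2, MulAut.apply_inv_self]
  · rw [map_subgroupOf_eq_iff]
    refine ⟨fun y hy => ?_, fun q hq => ?_⟩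
    · obtain ⟨r, hr, hry⟩ := mem_img.mp hy
      have hrR : (r : Ω) ∈ img α⁻¹ P ⊔ R := (le_sup_right : R ≤ img α⁻¹ P ⊔ R) hr
      have hmem : ((α ⟨(r : Ω), hP₁T hrR⟩ : T) : Ω) ∈ P ⊔ img α R := by
        have : (⟨(r : Ω), hP₁T hrR⟩ : T) = r := rfl
        rw [this, hry]
        exact y.2
      have h1 := hχ₂e ⟨r, hrR⟩ (hψ₁T _) hmem
      have e1 : y = ⟨((α ⟨(r : Ω), hP₁T hrR⟩ : T) : Ω), hmem⟩ := Subtype.ext hry.symm
      rw [e1, h1]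
      exact mem_img.mpr ⟨⟨ψ₁ ⟨r, hrR⟩, hψ₁T _⟩, hψ₁R.1 ⟨r, hrR⟩ hr, rfl⟩
    · obtain ⟨r', hr', rfl⟩ := mem_img.mp hq
      obtain ⟨y₀, hy₀, hy₀r⟩ := hψ₁R.2 r' hr'
      have hmem : ((α ⟨(y₀ : Ω), hP₁T y₀.2⟩ : T) : Ω) ∈ P ⊔ img α R :=
        (le_sup_right : img α R ≤ P ⊔ img α R) (mem_img.mpr ⟨⟨y₀, hP₁T y₀.2⟩, hy₀, rfl⟩)
      refine ⟨⟨_, hmem⟩, mem_img.mpr ⟨⟨y₀, hP₁T y₀.2⟩, hy₀, rfl⟩, ?_⟩
      have h1 := hχ₂e y₀ (hψ₁T _) hmem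
      rw [h1]
      congr 2
      exact Subtype.ext hy₀r

/-- characteristic subgroups of an `Aut_F(T)`-invariant subgroup normal in `E` are strongly
closed in `F`, when `E` has the Frattini property in `F` -/
theorem stronglyClosed_char_of_frattini {E : FusionSystem T} {F : FusionSystem S} (hTS : T ≤ S)
    (hfr : FratProp E F) {N : Subgroup Ω} (hNE : E.IsNormal N)
    (hNinv : ∀ α ∈ F.autGroup T, ∀ x : T, (x : Ω) ∈ N → ((α x : T) : Ω) ∈ N)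
    (K : Subgroup N) [hK : K.Characteristic] : F.StronglyClosed (K.map N.subtype) := by
  have hNT : N ≤ T := hNE.1
  have hKN : K.map N.subtype ≤ N := by
    rintro _ ⟨z, -, rfl⟩
    exact z.2
  have hEsc := Cfsg.Agent.Lib.Helper87.stronglyClosed_of_char E hNE K
  refine ⟨(hKN.trans hNT).trans hTS, fun P hP φ hφ x => ?_⟩
  obtain ⟨α, hα, φ₀, hφ₀, hx⟩ := hfr P ((hP.trans hKN).trans hNT) φ hφ
  have hφ₀T : φ₀ x ∈ T := (E.le_of_mem hφ₀).2 x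
  rw [hx x hφ₀T]
  have h1 : φ₀ x ∈ K.map N.subtype := hEsc.2 P hP φ₀ hφ₀ x
  let θh : N →* N :=
    { toFun := fun n => ⟨α ⟨n, hNT n.2⟩, hNinv α hα ⟨n, hNT n.2⟩ n.2⟩
      map_one' := by
        apply Subtype.ext
        show ((α 1 : T) : Ω) = 1
        rw [map_one]; rfl
      map_mul' := by
        intro a b
        apply Subtype.ext
        show ((α (⟨a, hNT a.2⟩ * ⟨b, hNT b.2⟩) : T) : Ω) = _
        rw [map_mul]; rfl }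
  have hθinj : Function.Injective θh := by
    intro a b hab
    have h1' : ((θh a : N) : Ω) = ((θh b : N) : Ω) := congrArg (fun n : N => (n : Ω)) hab
    have h2 : α ⟨a, hNT a.2⟩ = α ⟨b, hNT b.2⟩ := Subtype.ext h1'
    have h3 := α.injective h2
    have h4 : (a : Ω) = (b : Ω) := congrArg (fun t : T => (t : Ω)) h3
    exact Subtype.ext h4
  have hθsurj : Function.Surjective θh := by
    intro n
    have hmem := hNinv α⁻¹ (inv_mem hα) ⟨n, hNT n.2⟩ n.2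
    refine ⟨⟨_, hmem⟩, Subtype.ext ?_⟩
    show ((α ⟨((α⁻¹ ⟨n, hNT n.2⟩ : T) : Ω), _⟩ : T) : Ω) = n
    have : (⟨((α⁻¹ ⟨n, hNT n.2⟩ : T) : Ω), hNT hmem⟩ : T) = α⁻¹ ⟨n, hNT n.2⟩ := rfl
    rw [this, MulAut.apply_inv_self]
  let θ : N ≃* N := MulEquiv.ofBijective θh ⟨hθinj, hθsurj⟩
  have hchar : K.map θ.toMonoidHom = K := Subgroup.characteristic_iff_map_eq.mp hK θ
  obtain ⟨z, hz, hzx⟩ := h1
  have h3 : θ z ∈ K := by
    rw [← hchar]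
    exact ⟨z, hz, rfl⟩
  refine ⟨θ z, h3, ?_⟩
  show ((α ⟨z, hNT z.2⟩ : T) : Ω) = ((α ⟨φ₀ x, hφ₀T⟩ : T) : Ω)
  congr 2
  exact Subtype.ext hzx

end Cfsg.Agent.Lib.Helper88
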