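import Cfsg.Agent.Lib.Helper88.RealizedSub
import Cfsg.Agent.Lib.Helper88.ExtElt
import Cfsg.Agent.Lib.Helper88.NormalTransport

set_option autoImplicit false

namespace Cfsg.Agent.Lib.Helper88

open Cfsg Cfsg.FusionSystem
open Cfsg.Agent.Lib.Helper85 (cj cj_apply SylIn sylIn_top mem_sup_of_le_normalizer)
open Cfsg.Agent.Lib.Helper87 (hom_mem_S hom_le)

variable {Ω G : Type*} [Group Ω] [Group G] {S : Subgroup Ω}

section lift

variable (ι : S →* G) (hinj : Function.Injective ι)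

/-- the map on `P ≤ S` which, read through `ι`, is conjugation by `g` -/
noncomputable def liftConj {P : Subgroup Ω} (hP : P ≤ S) (g : G)
    (hg : ∀ x : P, g * ι ⟨x, hP x.2⟩ * g⁻¹ ∈ ι.range) : P →* Ω :=
  S.subtype.comp ((MonoidHom.ofInjective hinj).symm.toMonoidHom.comp
    (MonoidHom.codRestrict ((MulAut.conj g).toMonoidHom.comp (ι.comp (Subgroup.inclusion hP)))
      ι.range hg))

theorem liftConj_mem {P : Subgroup Ω} (hP : P ≤ S) (g : G)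
    (hg : ∀ x : P, g * ι ⟨x, hP x.2⟩ * g⁻¹ ∈ ι.range) (x : P) :
    liftConj ι hinj hP g hg x ∈ S := SetLike.coe_mem _

theorem ι_liftConj {P : Subgroup Ω} (hP : P ≤ S) (g : G)
    (hg : ∀ x : P, g * ι ⟨x, hP x.2⟩ * g⁻¹ ∈ ι.range) (x : P)
    (h : liftConj ι hinj hP g hg x ∈ S) :
    ι ⟨liftConj ι hinj hP g hg x, h⟩ = g * ι ⟨x, hP x.2⟩ * g⁻¹ := by
  have : (⟨liftConj ι hinj hP g hg x, h⟩ : S) =
      (MonoidHom.ofInjective hinj).symm ⟨g * ι ⟨x, hP x.2⟩ * g⁻¹, hg x⟩ := Subtype.ext rfl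
  rw [this, MonoidHom.apply_ofInjective_symm]

include hinj in
theorem ι_eq {a b : Ω} {ha : a ∈ S} {hb : b ∈ S} (h : ι ⟨a, ha⟩ = ι ⟨b, hb⟩) : a = b :=
  congrArg (fun s : S => (s : Ω)) (hinj h)

include hinj in
/-- an automorphism of `Q ≤ S` which, read through `ι`, is conjugation by `h` -/
theorem exists_aut_of_conj {Q : Subgroup Ω} [Finite Q] (hQ : Q ≤ S) (h : G)
    (hh : ∀ x : Q, ∃ y : Q, ι ⟨y, hQ y.2⟩ = h * ι ⟨x, hQ x.2⟩ * h⁻¹) :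
    ∃ α : MulAut Q, ∀ x : Q, ι ⟨(α x : Q), hQ (α x).2⟩ = h * ι ⟨x, hQ x.2⟩ * h⁻¹ := by
  have hh' : ∀ x : Q, h * ι ⟨x, hQ x.2⟩ * h⁻¹ ∈ ι.range := by
    intro x
    obtain ⟨y, hy⟩ := hh x
    exact ⟨_, hy⟩
  have hmem : ∀ x : Q, liftConj ι hinj hQ h hh' x ∈ Q := by
    intro x
    obtain ⟨y, hy⟩ := hh x
    have h1 := ι_liftConj ι hinj hQ h hh' x (liftConj_mem ι hinj hQ h hh' x)
    rw [← hy] at h1
    rw [ι_eq ι hinj h1]
    exact y.2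
  let f : Q →* Q := (liftConj ι hinj hQ h hh').codRestrict Q hmem
  have hf : ∀ x : Q, ι ⟨(f x : Q), hQ (f x).2⟩ = h * ι ⟨x, hQ x.2⟩ * h⁻¹ := fun x =>
    ι_liftConj ι hinj hQ h hh' x _
  have hfinj : Function.Injective f := by
    intro a b hab
    have ha := hf a
    have hb := hf b
    rw [hab, hb] at ha
    have h2 : ι ⟨a, hQ a.2⟩ = ι ⟨b, hQ b.2⟩ := (mul_left_cancel (mul_right_cancel ha)).symm
    exact Subtype.ext (ι_eq ι hinj h2)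
  exact ⟨MulEquiv.ofBijective f (Finite.injective_iff_bijective.mp hfinj), hf⟩

end lift

section normal

variable {p : ℕ} [Fact p.Prime] [Finite S] [Finite G] {F : FusionSystem S} {ι : S →* G}

omit [Finite S] [Finite G] in
theorem realSub_isSubsystemOf (hR : F.IsRealizedBy ι) (N : Subgroup G) :
    (realSub ι hR.1 N).IsSubsystemOf F := by
  rintro P φ ⟨hP, hφT, n, -, hn⟩
  exact (hR.2 P (hP.trans (preN_le ι N)) φ (fun x => preN_le ι N (hφT x))).mpr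
    ⟨n, fun x => hn x _ _⟩

omit [Finite S] [Finite G] in
theorem stronglyClosed_preN (hR : F.IsRealizedBy ι) (N : Subgroup G) [hN : N.Normal] :
    F.StronglyClosed (preN ι N) := by
  refine ⟨preN_le ι N, fun R hRT φ hφ x => ?_⟩
  obtain ⟨g, hg⟩ := (hR.2 R (hRT.trans (preN_le ι N)) φ (hom_mem_S F hφ)).mp hφ
  refine mem_preN.mpr ⟨hom_mem_S F hφ x, ?_⟩
  rw [hg x]
  exact hN.conj_mem _ (preN_mem ι N (hRT x.2)) g

omit [Finite S] [Finite G] in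
/-- elements of `Aut_F(Q)` are, read through `ι`, conjugations -/
theorem exists_conj_of_mem_autGroup (hR : F.IsRealizedBy ι) {Q : Subgroup Ω} (hQ : Q ≤ S)
    {α : MulAut Q} (hα : α ∈ F.autGroup Q) :
    ∃ g : G, ∀ x : Q, ι ⟨(α x : Q), hQ (α x).2⟩ = g * ι ⟨x, hQ x.2⟩ * g⁻¹ := by
  have h1 := (Cfsg.Agent.Lib.Helper87.mem_autGroup_iff F hQ α).mp hα
  exact (hR.2 Q hQ _ (fun x => hQ (α x).2)).mp h1

omit [Finite S] [Finite G] in
theorem mem_autGroup_of_conj (hR : F.IsRealizedBy ι) {Q : Subgroup Ω} (hQ : Q ≤ S)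
    {α : MulAut Q} (g : G)
    (hg : ∀ x : Q, ι ⟨(α x : Q), hQ (α x).2⟩ = g * ι ⟨x, hQ x.2⟩ * g⁻¹) :
    α ∈ F.autGroup Q :=
  (Cfsg.Agent.Lib.Helper87.mem_autGroup_iff F hQ α).mpr
    ((hR.2 Q hQ _ (fun x => hQ (α x).2)).mpr ⟨g, hg⟩)

omit [Finite S] [Finite G] in
theorem realSub_invProp (hR : F.IsRealizedBy ι) (N : Subgroup G) [hN : N.Normal] :
    InvProp (realSub ι hR.1 N) F := by
  have hTS := preN_le ι N
  rintro P hPT φ ⟨-, hφT, n, hnN, hn⟩ α hα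
  obtain ⟨g, hg⟩ := exists_conj_of_mem_autGroup hR hTS hα
  have hP'T : (P.subgroupOf (preN ι N)).map ((preN ι N).subtype.comp α.toMonoidHom) ≤ preN ι N :=
    img_le α P
  have hkN : g * n * g⁻¹ ∈ N := hN.conj_mem n hnN g
  have key : ∀ (x : P) (h1 : ((α ⟨x, hPT x.2⟩ : preN ι N) : Ω) ∈ S)
      (h2 : ((α ⟨φ x, hφT x⟩ : preN ι N) : Ω) ∈ S),
      (g * n * g⁻¹) * ι ⟨(α ⟨x, hPT x.2⟩ : preN ι N), h1⟩ * (g * n * g⁻¹)⁻¹ =
        ι ⟨(α ⟨φ x, hφT x⟩ : preN ι N), h2⟩ := by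
    intro x h1 h2
    have e1 := hg ⟨x, hPT x.2⟩
    have e2 := hg ⟨φ x, hφT x⟩
    have e3 := hn x (hTS (hPT x.2)) (hTS (hφT x))
    rw [e1, e2, e3]
    group
  have hk : ∀ y : ↥((P.subgroupOf (preN ι N)).map ((preN ι N).subtype.comp α.toMonoidHom)),
      (g * n * g⁻¹) * ι ⟨y, hTS (hP'T y.2)⟩ * (g * n * g⁻¹)⁻¹ ∈ ι.range := by
    rintro ⟨_, x, hx, rfl⟩
    have := key ⟨x, Subgroup.mem_subgroupOf.mp hx⟩ (hTS (α _).2) (hTS (α _).2)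
    exact ⟨_, this.symm⟩
  refine ⟨liftConj ι hR.1 (hP'T.trans hTS) (g * n * g⁻¹) hk, ⟨hP'T, fun y => ?_, g * n * g⁻¹,
    hkN, fun y hy hχ => ι_liftConj ι hR.1 _ _ hk y hχ⟩, ?_⟩
  · refine mem_preN.mpr ⟨liftConj_mem ι hR.1 _ _ hk y, ?_⟩
    rw [ι_liftConj]
    exact hN.conj_mem _ (preN_mem ι N (hP'T y.2)) _
  · intro x hφx hαx
    have h1 := ι_liftConj ι hR.1 (hP'T.trans hTS) (g * n * g⁻¹) hk ⟨_, hαx⟩
      (liftConj_mem ι hR.1 _ _ hk _)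
    have h2 := key x (hTS (α _).2) (hTS (α _).2)
    exact ι_eq ι hR.1 (h1.trans h2)

omit [Finite S] [Finite G] in
theorem ι_mem_inf_of_mem_preN (N : Subgroup G) {x : Ω} (hx : x ∈ preN ι N) :
    ι ⟨x, preN_le ι N hx⟩ ∈ ι.range ⊓ N := ⟨⟨_, rfl⟩, preN_mem ι N hx⟩

omit [Finite S] [Finite G] in
theorem exists_of_mem_inf (N : Subgroup G) {y : G} (hy : y ∈ ι.range ⊓ N) :
    ∃ (x : Ω) (hx : x ∈ preN ι N), ι ⟨x, preN_le ι N hx⟩ = y := by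
  obtain ⟨⟨s, rfl⟩, hyN⟩ := hy
  exact ⟨s, mem_preN.mpr ⟨s.2, hyN⟩, rfl⟩

theorem realSub_fratProp (hR : F.IsRealizedBy ι) (Tsyl : Sylow p G)
    (hT : (Tsyl : Subgroup G) = ι.range) (N : Subgroup G) [hN : N.Normal] :
    FratProp (realSub ι hR.1 N) F := by
  have hTS := preN_le ι N
  have hNH : (⊤ : Subgroup G) ≤ Subgroup.normalizer (N : Set G) :=
    Cfsg.Agent.S5118.normalizer_top_of_normal N
  have hsc := stronglyClosed_preN hR N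
  rintro P hPT φ hφ
  have hPS := hPT.trans hTS
  obtain ⟨g, hg⟩ := (hR.2 P hPS φ (hom_mem_S F hφ)).mp hφ
  have hSyl : SylIn p (ι.range ⊓ N) N := by
    have h1 : SylIn p ι.range ⊤ := hT ▸ sylIn_top Tsyl
    exact h1.inf_normal le_top le_top hNH
  obtain ⟨R, hRR⟩ := hSyl
  have hfrat := Sylow.normalizer_sup_eq_top R
  have hRT : (R : Subgroup N).map N.subtype = ι.range ⊓ N := by
    rw [hRR]
    ext x
    constructor
    · rintro ⟨y, hy, rfl⟩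
      exact Subgroup.mem_subgroupOf.mp hy
    · intro hx
      exact ⟨⟨x, hx.2⟩, Subgroup.mem_subgroupOf.mpr hx, rfl⟩
  have hgmem : g ∈ Subgroup.normalizer
      (((R : Subgroup N).map N.subtype : Subgroup G) : Set G) ⊔ N := by
    rw [hfrat]; exact Subgroup.mem_top g
  rw [hRT] at hgmem
  obtain ⟨h, hhN, n, hnN, rfl⟩ := mem_sup_of_le_normalizer (le_top.trans hNH) hgmem
  have hTfin : Finite (preN ι N) :=
    Finite.of_injective _ (Subgroup.inclusion_injective hTS)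
  obtain ⟨α, hα⟩ := exists_aut_of_conj ι hR.1 hTS h (fun x => by
    have h1 := ι_mem_inf_of_mem_preN N x.2
    have h2 := (Subgroup.mem_normalizer_iff.mp hhN _).mp h1
    obtain ⟨y, hy, hy'⟩ := exists_of_mem_inf N h2
    exact ⟨⟨y, hy⟩, hy'⟩)
  have hαF : α ∈ F.autGroup (preN ι N) := mem_autGroup_of_conj hR hTS h hα
  have hφT : ∀ x : P, φ x ∈ preN ι N := fun x => hsc.2 P hPT φ hφ x
  have hnx : ∀ x : P, n * ι ⟨x, hPS x.2⟩ * n⁻¹ ∈ ι.range ⊓ N := by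
    intro x
    have h1 := ι_mem_inf_of_mem_preN N (hφT x)
    have h2 := (Subgroup.mem_normalizer_iff.mp (Subgroup.inv_mem _ hhN) _).mp h1
    have e : h⁻¹ * ι ⟨φ x, preN_le ι N (hφT x)⟩ * h⁻¹⁻¹ = n * ι ⟨x, hPS x.2⟩ * n⁻¹ := by
      rw [hg x]; group
    rwa [e] at h2
  have hnx' : ∀ x : P, n * ι ⟨x, hPS x.2⟩ * n⁻¹ ∈ ι.range := fun x => (hnx x).1
  refine ⟨α, hαF, liftConj ι hR.1 hPS n hnx', ⟨hPT, fun x => ?_, n, hnN,
    fun x hx hχ => ι_liftConj ι hR.1 _ _ hnx' x hχ⟩, ?_⟩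
  · refine mem_preN.mpr ⟨liftConj_mem ι hR.1 _ _ hnx' x, ?_⟩
    rw [ι_liftConj]
    exact (hnx x).2
  · intro x hx
    have h1 := hα ⟨_, hx⟩
    have h2 := ι_liftConj ι hR.1 hPS n hnx' x (hTS hx)
    have h3 : ι ⟨((α ⟨liftConj ι hR.1 hPS n hnx' x, hx⟩ : preN ι N) : Ω), hTS (α _).2⟩ =
        ι ⟨φ x, hom_mem_S F hφ x⟩ := by
      rw [h1, hg x]
      show h * ι ⟨liftConj ι hR.1 hPS n hnx' x, hTS hx⟩ * h⁻¹ = _
      rw [h2]
      group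
    exact (ι_eq ι hR.1 h3).symm

omit [Finite S] [Finite G] in
theorem ι_mem_of_mem_centralizerIn (hR : F.IsRealizedBy ι) (N : Subgroup G) {c : Ω}
    (hc : c ∈ centralizerIn S (preN ι N)) :
    ι ⟨c, hc.1⟩ ∈ ι.range ⊓ Subgroup.centralizer ((ι.range ⊓ N : Subgroup G) : Set G) := by
  refine ⟨⟨_, rfl⟩, Subgroup.mem_centralizer_iff.mpr (fun y hy => ?_)⟩
  obtain ⟨t, ht, rfl⟩ := exists_of_mem_inf N hy
  rw [← map_mul, ← map_mul]
  congr 1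
  exact Subtype.ext (Subgroup.mem_centralizer_iff.mp hc.2 t ht)

omit [Finite S] [Finite G] in
theorem exists_of_mem_centralizer (hR : F.IsRealizedBy ι) (N : Subgroup G) {y : G}
    (hy : y ∈ ι.range ⊓ Subgroup.centralizer ((ι.range ⊓ N : Subgroup G) : Set G)) :
    ∃ (c : Ω) (hc : c ∈ centralizerIn S (preN ι N)), ι ⟨c, hc.1⟩ = y := by
  obtain ⟨⟨s, rfl⟩, hyc⟩ := hy
  refine ⟨s, ⟨s.2, Subgroup.mem_centralizer_iff.mpr (fun t ht => ?_)⟩, rfl⟩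
  have h1 := Subgroup.mem_centralizer_iff.mp hyc _ (ι_mem_inf_of_mem_preN N ht)
  rw [← map_mul, ← map_mul] at h1
  exact congrArg (fun s : S => (s : Ω)) (hR.1 h1)

theorem realSub_ext (hR : F.IsRealizedBy ι) (Tsyl : Sylow p G)
    (hT : (Tsyl : Subgroup G) = ι.range) (N : Subgroup G) [hN : N.Normal] :
    ∀ α ∈ (realSub ι hR.1 N).autGroup (preN ι N),
      ∃ β ∈ F.autGroup (preN ι N ⊔ centralizerIn S (preN ι N)),
      (∀ x : preN ι N, ((β (Subgroup.inclusion le_sup_left x) :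
        ↥(preN ι N ⊔ centralizerIn S (preN ι N))) : Ω) = ((α x : preN ι N) : Ω)) ∧
      ∀ c : ↥(preN ι N ⊔ centralizerIn S (preN ι N)), (c : Ω) ∈ centralizerIn S (preN ι N) →
        (c : Ω)⁻¹ * ((β c : ↥(preN ι N ⊔ centralizerIn S (preN ι N))) : Ω) ∈
          preN ι N ⊓ Subgroup.centralizer (preN ι N : Set Ω) := by
  intro α hα
  have hTS := preN_le ι N
  have h1 := (Cfsg.Agent.Lib.Helper87.mem_autGroup_iff (realSub ι hR.1 N) le_rfl α).mp hα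
  obtain ⟨-, -, n, hnN, hn⟩ := h1
  have hn' : ∀ x : preN ι N, ι ⟨(α x : preN ι N), hTS (α x).2⟩ = n * ι ⟨x, hTS x.2⟩ * n⁻¹ :=
    fun x => hn x _ _
  have hnorm : n ∈ Subgroup.normalizer ((ι.range ⊓ N : Subgroup G) : Set G) := by
    apply Cfsg.Agent.S5118.mem_normalizer_of_map_le
    rintro _ ⟨y, hy, rfl⟩
    obtain ⟨x, hx, rfl⟩ := exists_of_mem_inf N hy
    rw [cj_apply, ← hn' ⟨x, hx⟩]
    exact ι_mem_inf_of_mem_preN N (α _).2
  obtain ⟨g, hgN, hgT, hgC⟩ := exists_ext_elt Tsyl N n hnN (by rw [hT]; exact hnorm)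
  rw [hT] at hgT hgC
  have hCS : centralizerIn S (preN ι N) ≤ S := inf_le_left
  have hDS : preN ι N ⊔ centralizerIn S (preN ι N) ≤ S := sup_le hTS hCS
  have hDfin : Finite ↥(preN ι N ⊔ centralizerIn S (preN ι N)) :=
    Finite.of_injective _ (Subgroup.inclusion_injective hDS)
  have hCnT : centralizerIn S (preN ι N) ≤ Subgroup.normalizer (preN ι N : Set Ω) :=
    inf_le_right.trans (Subgroup.centralizer_le_normalizer _)
  -- images of elements of T and C under conjugation by g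
  have hgt : ∀ t : preN ι N, g * ι ⟨t, hTS t.2⟩ * g⁻¹ = ι ⟨(α t : preN ι N), hTS (α t).2⟩ := by
    intro t
    rw [hgT _ (ι_mem_inf_of_mem_preN N t.2), hn' t]
  have hgc : ∀ (c : Ω) (hc : c ∈ centralizerIn S (preN ι N)),
      ∃ (c' : Ω) (hc' : c' ∈ centralizerIn S (preN ι N)), ι ⟨c', hc'.1⟩ = g * ι ⟨c, hc.1⟩ * g⁻¹ :=
    fun c hc => exists_of_mem_centralizer hR N (hgC _ (ι_mem_of_mem_centralizerIn hR N hc))
  obtain ⟨β, hβ⟩ := exists_aut_of_conj ι hR.1 hDS g (fun x => by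
    have hx : (x : Ω) ∈ centralizerIn S (preN ι N) ⊔ preN ι N := by
      rw [sup_comm]; exact x.2
    obtain ⟨a, ha, t, ht, hxat⟩ := mem_sup_of_le_normalizer hCnT hx
    obtain ⟨a', ha', hea⟩ := hgc a ha
    refine ⟨⟨a' * (α ⟨t, ht⟩ : preN ι N), Subgroup.mul_mem _ (Subgroup.mem_sup_right ha')
      (Subgroup.mem_sup_left (α _).2)⟩, ?_⟩
    have e1 : (⟨a' * ((α ⟨t, ht⟩ : preN ι N) : Ω), hDS (Subgroup.mul_mem _
        (Subgroup.mem_sup_right ha') (Subgroup.mem_sup_left (α ⟨t, ht⟩).2))⟩ : S) =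
        ⟨a', ha'.1⟩ * ⟨(α ⟨t, ht⟩ : preN ι N), hTS (α _).2⟩ := rfl
    have e2 : (⟨(x : Ω), hDS x.2⟩ : S) = ⟨a, ha.1⟩ * ⟨t, hTS ht⟩ := Subtype.ext hxat
    show ι ⟨a' * ((α ⟨t, ht⟩ : preN ι N) : Ω), _⟩ = _
    rw [e1, e2, map_mul, map_mul, hea, ← hgt ⟨t, ht⟩]
    group)
  refine ⟨β, mem_autGroup_of_conj hR hDS g hβ, fun x => ?_, fun c hc => ?_⟩
  · have h2 := hβ (Subgroup.inclusion le_sup_left x)
    have h3 := hgt x
    exact ι_eq ι hR.1 (h2.trans h3)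
  · obtain ⟨c', hc', hec⟩ := hgc c hc
    have h2 := hβ c
    have h3 : ((β c : ↥(preN ι N ⊔ centralizerIn S (preN ι N))) : Ω) = c' :=
      ι_eq ι hR.1 (h2.trans hec.symm)
    rw [h3]
    refine ⟨mem_preN.mpr ⟨Subgroup.mul_mem _ (Subgroup.inv_mem _ hc.1) hc'.1, ?_⟩, ?_⟩
    · have e1 : (⟨(c : Ω)⁻¹ * c', Subgroup.mul_mem _ (Subgroup.inv_mem _ hc.1) hc'.1⟩ : S) =
          (⟨c, hc.1⟩ : S)⁻¹ * ⟨c', hc'.1⟩ := rfl
      rw [e1, map_mul, map_inv, hec]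
      have e2 : (ι ⟨c, hc.1⟩)⁻¹ * (g * ι ⟨c, hc.1⟩ * g⁻¹) =
          ((ι ⟨c, hc.1⟩)⁻¹ * g * (ι ⟨c, hc.1⟩)⁻¹⁻¹) * g⁻¹ := by group
      rw [e2]
      exact N.mul_mem (hN.conj_mem g hgN _) (N.inv_mem hgN)
    · exact Subgroup.mul_mem _ (Subgroup.inv_mem _ hc.2) hc'.2

theorem realSub_isNormalIn (hR : F.IsRealizedBy ι) (Tsyl : Sylow p G)
    (hT : (Tsyl : Subgroup G) = ι.range) (hF : F.IsSaturated p) (N : Subgroup G) [hN : N.Normal] :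
    (realSub ι hR.1 N).IsNormalIn F p :=
  ⟨⟨realSub_isSaturated ι hR.1 Tsyl hT N, hF, realSub_isSubsystemOf hR N, stronglyClosed_preN hR N,
    realSub_invProp hR N, realSub_fratProp hR Tsyl hT N⟩, realSub_ext hR Tsyl hT N⟩

end normal

end Cfsg.Agent.Lib.Helper88
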