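import Cfsg.Agent.Lib.Helper88.ModelIndex
import Cfsg.Agent.Lib.Helper87.ConstrainedNormal

set_option autoImplicit false

/-!
# The model theorem: existence

A constrained saturated fusion system has a model: a quotient of the normalizer of `O_p(F)` in Park's
group of the characteristic biset.
-/

namespace Cfsg.Agent.Lib.Helper88

open Cfsg Cfsg.FusionSystem MulAction

universe u

variable {Ω : Type u} [Group Ω] {S : Subgroup Ω}

/-- a model attached to a normal subgroup containing its centralizer -/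
theorem exists_model_of_normal_centric [Finite S] {p : ℕ} [Fact p.Prime] (hS : IsPGroup p S)
    (F : FusionSystem S) (hF : F.IsSaturated p) {Q : Subgroup Ω} (hQn : F.IsNormal Q)
    (hQc : centralizerIn S Q ≤ Q) :
    ∃ (G : Type u) (_ : Group G) (ι : S →* G), F.IsModel p G ι := by
  obtain ⟨m, hgen, hstab, hcard, x₀, hx₀⟩ := exists_char_biset_pt hS F hF
  have hSN : S ≤ Subgroup.normalizer (Q : Set Ω) :=
    Cfsg.Agent.Lib.Helper87.stronglyClosed_le_normalizer F
      (Cfsg.Agent.Lib.Helper87.stronglyClosed_of_isNormal F hQn)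
  have hfinX : Finite (OrbSum m) := by
    obtain ⟨n, hn, hpn⟩ := hcard
    apply Nat.finite_of_card_ne_zero
    rw [hn]
    intro h0
    rcases Nat.mul_eq_zero.mp h0 with h | h
    · rw [h] at hpn
      exact hpn (dvd_zero p)
    · exact Nat.card_pos.ne' h
  have hfinG : Finite (ParkGroup m) := inferInstance
  have hreal := park_isRealizedBy F hgen hstab hx₀ hQn hSN
  let N₀ : Subgroup (parkN m Q) := (parkStab m x₀).subgroupOf (parkN m Q)
  let ϕ : N₀ →* S := (parkRet hgen x₀).comp
    (((parkN m Q).subtype.comp N₀.subtype).codRestrict (parkStab m x₀)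
      (fun x => Subgroup.mem_subgroupOf.mp x.2))
  have hιN₀ : ∀ s : S, parkιN m hSN s ∈ N₀ := fun s =>
    Subgroup.mem_subgroupOf.mpr (parkι_mem_parkStab hx₀ s)
  have hϕι : ∀ s : S, ϕ ⟨parkιN m hSN s, hιN₀ s⟩ = s := fun s => parkRet_ι hgen hx₀ s
  have hidx : ¬ p ∣ N₀.index := parkN_index hS F hgen hstab hx₀ hQn hcard
  obtain ⟨K, hK, hmodel⟩ := exists_model_of_retraction hS F hF hQn hQc (parkιN m hSN) hreal
    (parkN_conj m hSN) N₀ ϕ hιN₀ hϕι hidx
  exact ⟨parkN m Q ⧸ K, inferInstance, _, hmodel⟩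

/-- **The model theorem, existence.** -/
theorem exists_model [Finite S] {p : ℕ} [Fact p.Prime] (hS : IsPGroup p S)
    (F : FusionSystem S) (hF : F.IsConstrained p) :
    ∃ (G : Type u) (_ : Group G) (ι : S →* G), F.IsModel p G ι := by
  obtain ⟨hsat, Q, hQn, hQc⟩ := hF
  exact exists_model_of_normal_centric hS F hsat hQn
    (hQc.2 Q (Cfsg.Agent.Lib.Helper87.isConj_refl F hQc.1))

end Cfsg.Agent.Lib.Helper88
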