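import Cfsg.Agent.Lib.Helper87.Saturation
import Cfsg.Agent.Lib.Helper87.Inner

set_option autoImplicit false

namespace Cfsg.Agent.Lib.Helper88

open Cfsg Cfsg.FusionSystem Cfsg.Agent.Lib.Helper87

variable {Ω : Type*} [Group Ω] {S : Subgroup Ω}

/-- the image of a subgroup `Q ≤ R` under a map with source `R` is conjugate to `Q` -/
theorem isConj_image (F : FusionSystem S) {Q R : Subgroup Ω} (hQR : Q ≤ R) {θ : R →* Ω}
    (hθ : θ ∈ F.Hom R) : F.IsConj Q (θ.comp (Subgroup.inclusion hQR)).range :=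
  ⟨_, restrict_mem F hθ hQR, rfl⟩

/-- overgroups (inside `S`) of centric subgroups are centric -/
theorem isCentric_of_le (F : FusionSystem S) {P Q : Subgroup Ω} (hP : F.IsCentric P) (hPQ : P ≤ Q)
    (hQ : Q ≤ S) : F.IsCentric Q := by
  refine ⟨hQ, ?_⟩
  rintro Q' ⟨θ, hθ, rfl⟩
  have h1 := hP.2 _ (isConj_image F hPQ hθ)
  intro c hc
  have hc' : c ∈ centralizerIn S (θ.comp (Subgroup.inclusion hPQ)).range := by
    refine ⟨hc.1, Subgroup.mem_centralizer_iff.mpr ?_⟩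
    rintro _ ⟨x, rfl⟩
    have := Subgroup.mem_centralizer_iff.mp hc.2 (θ (Subgroup.inclusion hPQ x)) ⟨_, rfl⟩
    exact this
  obtain ⟨x, hx⟩ := h1 hc'
  exact ⟨Subgroup.inclusion hPQ x, hx⟩

/-- centric is invariant under conjugacy -/
theorem isCentric_of_isConj (F : FusionSystem S) {P Q : Subgroup Ω} (hP : F.IsCentric P)
    (h : F.IsConj P Q) : F.IsCentric Q :=
  ⟨isConj_le_right F h, fun Q' hQ' => hP.2 Q' (isConj_trans F h hQ')⟩

section uniqueness

variable [Finite S] {p : ℕ} [Fact p.Prime]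

/-- first step: two extensions of the same map on a normal centric subgroup differ by central elements -/
theorem ext_step (F : FusionSystem S) {Q R : Subgroup Ω} (hQR : Q ≤ R)
    (hnorm : R ≤ Subgroup.normalizer (Q : Set Ω)) (hQc : F.IsCentric Q)
    {θ θ' : R →* Ω} (hθ : θ ∈ F.Hom R) (hθ' : θ' ∈ F.Hom R)
    (hagree : ∀ x : R, (x : Ω) ∈ Q → θ x = θ' x) (g : R) :
    ∃ y : R, (y : Ω) ∈ Q ∧ θ' g = θ (g * y) := by
  have hcent := hQc.2 _ (isConj_image F hQR hθ)
  set w : Ω := (θ g)⁻¹ * θ' g with hw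
  have hwS : w ∈ S := S.mul_mem (S.inv_mem (hom_mem_S F hθ g)) (hom_mem_S F hθ' g)
  have hwC : w ∈ centralizerIn S (θ.comp (Subgroup.inclusion hQR)).range := by
    refine ⟨hwS, Subgroup.mem_centralizer_iff.mpr ?_⟩
    rintro _ ⟨x, rfl⟩
    -- x : Q
    show θ (Subgroup.inclusion hQR x) * w = w * θ (Subgroup.inclusion hQR x)
    set x' : R := Subgroup.inclusion hQR x with hx'
    have hxQ : (x' : Ω) ∈ Q := x.2
    have hgx : ((g * x' * g⁻¹ : R) : Ω) ∈ Q := by
      have := (Subgroup.mem_normalizer_iff.mp (hnorm g.2) (x' : Ω)).mp hxQ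
      exact this
    have e1 : θ (g * x' * g⁻¹) = θ' (g * x' * g⁻¹) := hagree _ hgx
    have e2 : θ x' = θ' x' := hagree _ hxQ
    rw [map_mul, map_mul, map_mul, map_mul, map_inv, map_inv, ← e2] at e1
    -- e1 : θ g * θ x' * (θ g)⁻¹ = θ' g * θ x' * (θ' g)⁻¹
    rw [hw]
    calc θ x' * ((θ g)⁻¹ * θ' g) = (θ g)⁻¹ * (θ g * θ x' * (θ g)⁻¹) * θ' g := by group
      _ = (θ g)⁻¹ * (θ' g * θ x' * (θ' g)⁻¹) * θ' g := by rw [e1]
      _ = (θ g)⁻¹ * θ' g * θ x' := by group
  obtain ⟨y, hy⟩ := hcent hwC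
  refine ⟨Subgroup.inclusion hQR y, y.2, ?_⟩
  rw [map_mul]
  have : θ (Subgroup.inclusion hQR y) = w := hy
  rw [this, hw, mul_inv_cancel_left]

theorem range_eq_of_agree (F : FusionSystem S) {Q R : Subgroup Ω} (hQR : Q ≤ R)
    (hnorm : R ≤ Subgroup.normalizer (Q : Set Ω)) (hQc : F.IsCentric Q)
    {θ θ' : R →* Ω} (hθ : θ ∈ F.Hom R) (hθ' : θ' ∈ F.Hom R)
    (hagree : ∀ x : R, (x : Ω) ∈ Q → θ x = θ' x) : θ'.range = θ.range := by
  apply le_antisymm
  · rintro _ ⟨g, rfl⟩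
    obtain ⟨y, -, hy⟩ := ext_step F hQR hnorm hQc hθ hθ' hagree g
    exact ⟨g * y, hy.symm⟩
  · rintro _ ⟨g, rfl⟩
    obtain ⟨y, -, hy⟩ := ext_step F hQR hnorm hQc hθ' hθ (fun x hx => (hagree x hx).symm) g
    exact ⟨g * y, hy.symm⟩

/-- Uniqueness of extensions from a normal centric subgroup, up to conjugation by an element of it. -/
theorem eq_comp_conj_of_centric (hS : IsPGroup p S) (F : FusionSystem S) (hF : F.IsSaturated p)
    {Q R : Subgroup Ω} (hQR : Q ≤ R) (hnorm : R ≤ Subgroup.normalizer (Q : Set Ω))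
    (hQc : F.IsCentric Q) {θ θ' : R →* Ω} (hθ : θ ∈ F.Hom R) (hθ' : θ' ∈ F.Hom R)
    (hagree : ∀ x : R, (x : Ω) ∈ Q → θ x = θ' x) :
    ∃ z ∈ Q, ∀ (g : R) (h : z * (g : Ω) * z⁻¹ ∈ R), θ' g = θ ⟨z * g * z⁻¹, h⟩ := by
  have hRS : R ≤ S := hom_le F hθ
  have hQS : Q ≤ S := hQR.trans hRS
  have hθinj := F.injective_of_mem hθ
  have hθ'inj := F.injective_of_mem hθ'
  have hrange := range_eq_of_agree F hQR hnorm hQc hθ hθ' hagree
  -- the automorphism α = θ⁻¹ θ'
  let e : R ≃* θ.range := isoOfHom θ hθinj rfl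
  let e' : R ≃* θ.range := isoOfHom θ' hθ'inj hrange
  let α : MulAut R := e'.trans e.symm
  have hα : ∀ g : R, θ (α g) = θ' g := by
    intro g
    have h1 : ((e (α g) : θ.range) : Ω) = θ (α g) := rfl
    have h2 : e (α g) = e' g := by
      show e (e.symm (e' g)) = e' g
      simp
    rw [← h1, h2]
    rfl
  -- α is in Aut_F(R)
  have hαF : α ∈ F.autGroup R := by
    rw [mem_autGroup_iff F hRS]
    obtain ⟨ψ, hψ, hinv⟩ := F.inv_mem hθ
    have hval : ∀ x : R, θ' x ∈ θ.range := fun x => by rw [← hrange]; exact ⟨x, rfl⟩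
    have hc := F.comp_mem hθ' hψ hval
    have : ψ.comp (θ'.codRestrict θ.range hval) = R.subtype.comp α.toMonoidHom := by
      ext x
      have h3 : (θ'.codRestrict θ.range hval x) = ⟨θ (α x), ⟨α x, rfl⟩⟩ := by
        apply Subtype.ext
        exact (hα x).symm
      show ψ (θ'.codRestrict θ.range hval x) = _
      rw [h3, hinv]
      rfl
    rwa [this] at hc
  -- structure of α
  have hstep : ∀ g : R, ∃ y : R, (y : Ω) ∈ Q ∧ α g = g * y := by
    intro g
    obtain ⟨y, hyQ, hy⟩ := ext_step F hQR hnorm hQc hθ hθ' hagree g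
    refine ⟨y, hyQ, ?_⟩
    apply hθinj
    rw [hα, hy]
  have hfix : ∀ x : R, (x : Ω) ∈ Q → α x = x := by
    intro x hx
    apply hθinj
    rw [hα, hagree x hx]
  have hQfin : Finite Q := Finite.of_injective _ (Subgroup.inclusion_injective hQS)
  have hpowQ : ∀ y : R, (y : Ω) ∈ Q → y ^ Nat.card Q = 1 := by
    intro y hy
    have h1 : (⟨(y : Ω), hy⟩ : Q) ^ Nat.card Q = 1 := pow_card_eq_one'
    have h2 : ((⟨(y : Ω), hy⟩ : Q) : Ω) ^ Nat.card Q = 1 := by
      rw [← Subgroup.coe_pow, h1]; rfl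
    apply Subtype.ext
    rw [Subgroup.coe_pow]
    exact h2
  have hαpow : α ^ Nat.card Q = 1 := by
    ext g
    obtain ⟨y, hyQ, hy⟩ := hstep g
    have hn : ∀ n : ℕ, (α ^ n) g = g * y ^ n := by
      intro n
      induction n with
      | zero => simp
      | succ n ih =>
        rw [pow_succ', MulAut.mul_apply, ih, map_mul, hy, map_pow, hfix y hyQ, pow_succ', mul_assoc]
    rw [hn, hpowQ y hyQ, mul_one]
    rfl
  -- saturation: a fully automized conjugate of R
  obtain ⟨R', ⟨ν, hν, hνr⟩, hfa, -⟩ := hF R hRS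
  let eν : R ≃* R' := isoOfHom ν (F.injective_of_mem hν) hνr
  have heν : ∀ x : R, ((eν x : R') : Ω) = ν x := fun x => rfl
  have hα' : MulAut.congr eν α ∈ F.autGroup R' := autGroup_congr_mem F hν hνr eν heν hαF
  set T : Subgroup (MulAut R') := Subgroup.zpowers (MulAut.congr eν α) with hT
  have hTle : T ≤ F.autGroup R' := by
    rw [hT, Subgroup.zpowers_le]
    exact hα'
  have hTp : IsPGroup p T := by
    have hpow' : (MulAut.congr eν α) ^ Nat.card Q = 1 := by
      rw [← map_pow, hαpow, map_one]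
    obtain ⟨k, hk⟩ := IsPGroup.iff_card.mp (hS.to_le hQS)
    have hdvd : orderOf (MulAut.congr eν α) ∣ p ^ k := by
      rw [← hk]
      exact orderOf_dvd_of_pow_eq_one hpow'
    obtain ⟨j, -, hj⟩ := (Nat.dvd_prime_pow (Fact.out : p.Prime)).mp hdvd
    apply IsPGroup.of_card (n := j)
    rw [hT, Nat.card_zpowers, hj]
  obtain ⟨β, hβ, hβT⟩ := exists_conj_into_autS F hfa T hTle hTp
  have hR'S : R' ≤ S := hfa.1
  obtain ⟨s, hsS, hs⟩ := (mem_autInducedBy_iff S R' _).mp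
    (hβT _ (Subgroup.mem_zpowers (MulAut.congr eν α)))
  -- κ = β ∘ eν as a map of F
  have hβ' := (mem_autGroup_iff F hR'S β).mp hβ
  have hνval : ∀ x : R, ν x ∈ R' := fun x => hνr ▸ ⟨x, rfl⟩
  have hκ := F.comp_mem hν hβ' hνval
  set κ : R →* Ω := (R'.subtype.comp β.toMonoidHom).comp (ν.codRestrict R' hνval) with hκdef
  have hκx : ∀ x : R, κ x = ((β (eν x) : R') : Ω) := fun x => rfl
  have hκinj := F.injective_of_mem hκ
  -- the conjugation formula : κ (α g) = s κ g s⁻¹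
  have hconj : ∀ g : R, κ (α g) = s * κ g * s⁻¹ := by
    intro g
    have h1 := hs (β (eν g))
    rw [← hκx g] at h1
    rw [← h1, hκx]
    congr 1
    show β (eν (α g)) = (β * MulAut.congr eν α * β⁻¹) (β (eν g))
    rw [MulAut.mul_apply, MulAut.mul_apply, MulAut.inv_apply_self]
    congr 1
    simp [MulAut.congr]
  -- s centralizes κ(Q)
  have hcent := hQc.2 _ (isConj_image F hQR hκ)
  have hsC : s ∈ centralizerIn S (κ.comp (Subgroup.inclusion hQR)).range := by
    refine ⟨hsS, Subgroup.mem_centralizer_iff.mpr ?_⟩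
    rintro _ ⟨x, rfl⟩
    show κ (Subgroup.inclusion hQR x) * s = s * κ (Subgroup.inclusion hQR x)
    have h1 := hconj (Subgroup.inclusion hQR x)
    rw [hfix _ x.2] at h1
    calc κ (Subgroup.inclusion hQR x) * s = s * κ (Subgroup.inclusion hQR x) * s⁻¹ * s := by rw [← h1]
      _ = s * κ (Subgroup.inclusion hQR x) := by group
  obtain ⟨z, hz⟩ := hcent hsC
  refine ⟨z, z.2, ?_⟩
  intro g h
  rw [← hα g]
  congr 1
  apply hκinj
  rw [hconj]
  have hz' : κ (Subgroup.inclusion hQR z) = s := hz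
  have : (⟨(z : Ω) * g * (z : Ω)⁻¹, h⟩ : R) = Subgroup.inclusion hQR z * g * (Subgroup.inclusion hQR z)⁻¹ :=
    Subtype.ext rfl
  rw [this, map_mul, map_mul, map_inv, hz']

end uniqueness

end Cfsg.Agent.Lib.Helper88
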