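import Cfsg.Agent.Lib.Helper88.SectionFreeRadical
import Cfsg.Agent.Lib.Helper87.NormalChain

set_option autoImplicit false

/-!
# Normalizer systems of free fusion systems are free
-/

namespace Cfsg.Agent.Lib.Helper88

open Cfsg Cfsg.FusionSystem
open Cfsg.Agent.Lib.Helper87 (hom_le hom_mem_S subtype_mem restrict_mem finite_of_le isConj_refl
  card_eq_of_isConj mem_autGroup_iff comp_mem')

universe u

variable {Ω : Type u} [Group Ω] {S : Subgroup Ω}

/-- a subgroup between `Q` and `N_S(Q)` that is centric in `N_F(Q)`, for `Q` fully normalized, is centric in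
`F` -/
theorem isCentric_of_isCentric_normalizerSystem [Finite S] {p : ℕ} [Fact p.Prime] (hS : IsPGroup p S)
    (F : FusionSystem S) (hF : F.IsSaturated p) {Q : Subgroup Ω} (hfn : F.IsFullyNormalized Q)
    (N : FusionSystem (normalizerIn S Q)) (hN : F.IsNormalizerSystem Q N) {R : Subgroup Ω}
    (hQR : Q ≤ R) (hRc : N.IsCentric R) : F.IsCentric R := by
  have hRT : R ≤ normalizerIn S Q := hRc.1
  have hRS : R ≤ S := hRT.trans inf_le_left
  have hQS : Q ≤ S := hfn.1
  refine ⟨hRS, ?_⟩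
  rintro R' ⟨θ, hθ, rfl⟩
  have hθS : ∀ x : R, θ x ∈ S := hom_mem_S F hθ
  have hθinj : Function.Injective θ := F.injective_of_mem hθ
  -- the image of `Q`
  set θQ := θ.comp (Subgroup.inclusion hQR) with hθQ
  have hθQF : θQ ∈ F.Hom Q := Cfsg.Agent.Lib.Helper87.restrict_mem F hθ hQR
  have hconj : F.IsConj θQ.range Q :=
    Cfsg.Agent.Lib.Helper87.isConj_symm F ⟨θQ, hθQF, rfl⟩
  obtain ⟨χ, hχ, hχN, hχQ, hχsurj⟩ :=
    Cfsg.Agent.Lib.Helper85.exists_hom_normalizer_of_fullyNormalized hS F hF hfn hconj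
  have hχinj : Function.Injective χ := F.injective_of_mem hχ
  -- `θ(R)` normalizes `θ(Q)`
  have hθRN : ∀ x : R, θ x ∈ normalizerIn S θQ.range := by
    intro x
    refine ⟨hθS x, ?_⟩
    show θ x ∈ Subgroup.normalizer (θQ.range : Set Ω)
    have hxN : (x : Ω) ∈ Subgroup.normalizer (Q : Set Ω) := (hRT x.2).2
    have key : ∀ (r : R), (r : Ω) ∈ Subgroup.normalizer (Q : Set Ω) → ∀ y ∈ θQ.range,
        θ r * y * (θ r)⁻¹ ∈ θQ.range := by
      rintro r hr _ ⟨q, rfl⟩
      have h1 : (r : Ω) * q * (r : Ω)⁻¹ ∈ Q := (Subgroup.mem_normalizer_iff.mp hr q).mp q.2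
      refine ⟨⟨(r : Ω) * q * (r : Ω)⁻¹, h1⟩, ?_⟩
      show θ ⟨(r : Ω) * q * (r : Ω)⁻¹, _⟩ = θ r * θ ⟨q, hQR q.2⟩ * (θ r)⁻¹
      rw [← map_inv, ← map_mul, ← map_mul]
      rfl
    rw [Subgroup.mem_normalizer_iff]
    intro y
    constructor
    · exact key x hxN y
    · intro hy
      have hxinv : ((x⁻¹ : R) : Ω) ∈ Subgroup.normalizer (Q : Set Ω) := by
        rw [Subgroup.coe_inv]
        exact Subgroup.inv_mem _ hxN
      have h1 := key x⁻¹ hxinv _ hy
      rw [map_inv] at h1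
      have e : (θ x)⁻¹ * (θ x * y * (θ x)⁻¹) * (θ x)⁻¹⁻¹ = y := by group
      rwa [e] at h1
  -- the composite `χ ∘ θ`
  obtain ⟨ζ, hζ, hζv⟩ := comp_mem' F hθ hχ hθRN
  have hζN : ζ ∈ N.Hom R := by
    rw [hN R]
    apply mem_normalizerHom_of_le F hQR hRT hζ
    · intro y
      rw [hζv]
      exact hχN _
    · intro y hy
      rw [hζv]
      apply hχQ
      exact ⟨⟨y, hy⟩, rfl⟩
  have hζc : centralizerIn (normalizerIn S Q) ζ.range ≤ ζ.range := hRc.2 _ ⟨ζ, hζN, rfl⟩
  -- the centralizer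
  intro c hc
  have hcS : c ∈ S := hc.1
  have hcC : c ∈ Subgroup.centralizer (θ.range : Set Ω) := hc.2
  have hcN : c ∈ normalizerIn S θQ.range := by
    refine ⟨hcS, ?_⟩
    show c ∈ Subgroup.normalizer (θQ.range : Set Ω)
    have hcen : c ∈ Subgroup.centralizer (θQ.range : Set Ω) := by
      rw [Subgroup.mem_centralizer_iff] at hcC ⊢
      rintro _ ⟨q, rfl⟩
      exact hcC _ ⟨Subgroup.inclusion hQR q, rfl⟩
    exact Subgroup.centralizer_le_normalizer _ hcen
  have h1 : χ ⟨c, hcN⟩ ∈ centralizerIn (normalizerIn S Q) ζ.range := by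
    refine ⟨hχN _, ?_⟩
    show χ ⟨c, hcN⟩ ∈ Subgroup.centralizer (ζ.range : Set Ω)
    rw [Subgroup.mem_centralizer_iff]
    rintro _ ⟨x, rfl⟩
    rw [hζv, ← map_mul, ← map_mul]
    congr 1
    apply Subtype.ext
    show θ x * c = c * θ x
    rw [Subgroup.mem_centralizer_iff] at hcC
    exact hcC _ ⟨x, rfl⟩
  obtain ⟨x, hx⟩ := hζc h1
  rw [hζv] at hx
  have h2 := hχinj hx
  exact ⟨x, congrArg (fun z : normalizerIn S θQ.range => (z : Ω)) h2⟩

/-- **Normalizer systems of free systems are free.** -/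
theorem isSectionFree_normalizerSystem [Finite S] {p : ℕ} [Fact p.Prime] (hS : IsPGroup p S)
    (F : FusionSystem S) (hF : F.IsSaturated p) (H : Type*) [Group H]
    (hfree : F.IsSectionFree p H) {Q : Subgroup Ω} (hfn : F.IsFullyNormalized Q)
    (N : FusionSystem (normalizerIn S Q)) (hN : F.IsNormalizerSystem Q N) :
    N.IsSectionFree p H := by
  have hQS : Q ≤ S := hfn.1
  have hfinT : Finite (normalizerIn S Q) := finite_of_le inf_le_left
  have hTp : IsPGroup p (normalizerIn S Q) := hS.to_le inf_le_left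
  have hNsat : N.IsSaturated p :=
    Cfsg.Agent.Lib.Helper84.KN.normalizerSystem_isSaturated hS F hF hfn hN
  have hQn : N.IsNormal Q := Cfsg.Agent.Lib.Helper87.normalizerSystem_isNormal F hQS hN
  apply isSectionFree_of_radical hTp N hNsat H
  intro R hRfn hRcen hRrad M hM L _ ι hL
  have hQR : Q ≤ R := Cfsg.Agent.Lib.Helper87.isNormal_le_centric_radical hTp N hQn hRcen hRrad
  have hRT : R ≤ normalizerIn S Q := hRcen.1
  have hRS : R ≤ S := hRT.trans inf_le_left
  have hRF : F.IsCentric R := isCentric_of_isCentric_normalizerSystem hS F hF hfn N hN hQR hRcen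
  obtain ⟨X, hconj, hXfn⟩ := Cfsg.Agent.Lib.Helper87.exists_fullyNormalized_conj F hRS
  have hXcen : F.IsCentric X := isCentric_of_isConj F hRF hconj
  have hXS : X ≤ S := hXfn.1
  have hXc : centralizerIn S X ≤ X := hXcen.2 X (isConj_refl F hXS)
  let NX := Cfsg.Agent.Lib.Helper84.normalizerSystem F X hXS
  have hNX : F.IsNormalizerSystem X NX := Cfsg.Agent.Lib.Helper84.normalizerSystem_spec F X hXS
  obtain ⟨LX, _, ιX, hLX⟩ := exists_model_normalizerSystem hS F hF hXfn hXcen NX hNX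
  have hLXfree : ¬ Involves H LX := hfree X hXfn hXcen NX hNX LX ιX hLX
  have hsub : ∀ A : Subgroup Ω, M.Hom A ⊆ F.Hom A := by
    intro A φ hφ
    rw [hM A] at hφ
    have h1 := hφ.1
    rw [hN A] at h1
    exact h1.1
  have hRn : M.IsNormal R := Cfsg.Agent.Lib.Helper87.normalizerSystem_isNormal N hRT hM
  have hRc : centralizerIn (normalizerIn (normalizerIn S Q) R) R ≤ R := by
    intro x hx
    exact hRcen.2 R (isConj_refl N hRT) ⟨hx.1.1, hx.2⟩
  have hT₀N : normalizerIn (normalizerIn S Q) R ≤ normalizerIn S R := by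
    intro x hx
    exact ⟨hx.1.1, hx.2⟩
  obtain ⟨Φ, hΦ⟩ := exists_model_embedding hS F hF M hsub hRn hRc hT₀N hXfn hXc hconj NX hNX
    ιX hLX ι hL
  exact fun hinv => hLXfree (involves_of_injective Φ hΦ hinv)

end Cfsg.Agent.Lib.Helper88
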