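import Cfsg.Agent.Lib.Helper88.PowerTrick
import Cfsg.Agent.Lib.Helper87.Inner
import Cfsg.Agent.Lib.Helper87.NormalizerConstrained
import Cfsg.Agent.Lib.Helper84.KSatMain

set_option autoImplicit false

/-!
# Fusion systems without automorphisms of order prime to `p`
-/

namespace Cfsg.Agent.Lib.Helper88

open Cfsg Cfsg.FusionSystem
open Cfsg.Agent.Lib.Helper87 (hom_le hom_mem_S subtype_mem inv_exists mem_autGroup_iff finite_of_le)

variable {Ω : Type*} [Group Ω] {S : Subgroup Ω}

/-- all automorphisms of order prime to `p` in the system are trivial -/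
def PFree (F : FusionSystem S) (p : ℕ) : Prop :=
  ∀ P : Subgroup Ω, P ≤ S → ∀ α ∈ F.autGroup P, (orderOf α).Coprime p → α = 1

/-- all automorphisms of order prime to `p` of subgroups of `N_S(W)` containing `W`, normalizing `W`, are
trivial -/
def NFree (F : FusionSystem S) (p : ℕ) (W : Subgroup Ω) : Prop :=
  ∀ P : Subgroup Ω, W ≤ P → P ≤ normalizerIn S W → ∀ α ∈ F.autGroup P,
    (∀ x : P, (x : Ω) ∈ W → ((α x : P) : Ω) ∈ W) → (orderOf α).Coprime p → α = 1

theorem autGroup_mono {T : Subgroup Ω} {E : FusionSystem T} {F : FusionSystem S}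
    (h : ∀ P : Subgroup Ω, E.Hom P ⊆ F.Hom P) (P : Subgroup Ω) : E.autGroup P ≤ F.autGroup P := by
  unfold autGroup
  apply Subgroup.closure_mono
  intro α hα
  exact h P hα

theorem isPGroup_autGroup_of_pFree [Finite S] {p : ℕ} [Fact p.Prime] {F : FusionSystem S}
    (hF : PFree F p) {P : Subgroup Ω} (hP : P ≤ S) : IsPGroup p (F.autGroup P) := by
  have hp : p.Prime := Fact.out
  have : Finite P := finite_of_le hP
  intro g
  have hn : orderOf (g : MulAut P) ≠ 0 := (orderOf_pos (g : MulAut P)).ne'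
  obtain ⟨a, m, hm, hnm⟩ := Nat.exists_eq_pow_mul_and_not_dvd hn p hp.ne_one
  refine ⟨a, ?_⟩
  have h1 : ((g : MulAut P) ^ p ^ a) ^ m = 1 := by
    rw [← pow_mul, ← hnm, pow_orderOf_eq_one]
  have h2 : orderOf ((g : MulAut P) ^ p ^ a) ∣ m := orderOf_dvd_of_pow_eq_one h1
  have h3 : m.Coprime p := ((Nat.Prime.coprime_iff_not_dvd hp).mpr hm).symm
  have h4 := hF P hP _ ((F.autGroup P).pow_mem g.2 (p ^ a)) (Nat.Coprime.coprime_dvd_left h2 h3)
  exact Subtype.ext h4

theorem eq_inner_of_pFree [Finite S] {p : ℕ} [Fact p.Prime] (hS : IsPGroup p S)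
    (F : FusionSystem S) (hF : F.IsSaturated p) (h : PFree F p) :
    ∀ P : Subgroup Ω, F.Hom P = (innerFusionSystem S).Hom P :=
  Cfsg.Agent.Lib.Helper87.eq_inner_of_autGroups_pGroups hS F hF
    (fun _ hP => isPGroup_autGroup_of_pFree h hP)

/-- the inner system has no automorphisms of order prime to `p` -/
theorem pFree_of_eq_inner [Finite S] {p : ℕ} [Fact p.Prime] (hS : IsPGroup p S)
    (F : FusionSystem S) (h : ∀ P : Subgroup Ω, F.Hom P = (innerFusionSystem S).Hom P) :
    PFree F p := by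
  intro P hP α hα hcop
  rw [mem_autGroup_iff F hP, h P] at hα
  obtain ⟨-, g, hg, hgα⟩ := hα
  -- `α` is conjugation by `g`, of `p`-power order
  obtain ⟨k, hk⟩ := hS ⟨g, hg⟩
  have hk' : g ^ p ^ k = 1 := congrArg Subtype.val hk
  have hpow : ∀ n : ℕ, ∀ x : P, (((α ^ n) x : P) : Ω) = g ^ n * x * (g ^ n)⁻¹ := by
    intro n
    induction n with
    | zero => intro x; simp
    | succ n ih =>
      intro x
      rw [pow_succ', MulAut.mul_apply]
      have h1 : ((α ((α ^ n) x) : P) : Ω) = g * (((α ^ n) x : P) : Ω) * g⁻¹ := hgα _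
      rw [h1, ih x, pow_succ']
      group
  apply eq_one_of_pow_of_coprime (p := p) (k := k) _ hcop
  ext x
  rw [hpow, hk']
  simp

theorem isNormal_bot (F : FusionSystem S) : F.IsNormal (⊥ : Subgroup Ω) := by
  refine ⟨bot_le, fun P φ hφ => ?_⟩
  have hle : P ⊔ ⊥ ≤ P := by rw [sup_bot_eq]
  refine ⟨φ.comp (Subgroup.inclusion hle), Cfsg.Agent.Lib.Helper87.restrict_mem F hφ hle,
    fun x => ?_, ?_⟩
  · show φ _ = φ x
    congr 1
  · rw [Cfsg.Agent.Lib.Helper87.map_subgroupOf_eq_iff]
    constructor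
    · intro y hy
      rw [Subgroup.mem_bot] at hy
      have : y = 1 := Subtype.ext hy
      rw [this, map_one]
      exact Subgroup.one_mem _
    · intro q hq
      rw [Subgroup.mem_bot] at hq
      exact ⟨1, Subgroup.one_mem _, by rw [map_one, hq]⟩

/-- automorphisms in the normalizer system are automorphisms in the system -/
theorem autGroup_normalizerSystem_le (F : FusionSystem S) {U : Subgroup Ω}
    {E : FusionSystem (normalizerIn S U)} (hE : F.IsNormalizerSystem U E) (P : Subgroup Ω) :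
    E.autGroup P ≤ F.autGroup P := by
  apply autGroup_mono
  intro P φ hφ
  rw [hE P] at hφ
  exact hφ.1

/-- automorphisms normalizing `U` are automorphisms in the normalizer system -/
theorem mem_autGroup_normalizerSystem [Finite S] (F : FusionSystem S) {U : Subgroup Ω}
    {E : FusionSystem (normalizerIn S U)} (hE : F.IsNormalizerSystem U E) {P : Subgroup Ω}
    (hUP : U ≤ P) (hPN : P ≤ normalizerIn S U) {α : MulAut P} (hα : α ∈ F.autGroup P)
    (hαU : ∀ x : P, (x : Ω) ∈ U → ((α x : P) : Ω) ∈ U) : α ∈ E.autGroup P := by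
  have hPS : P ≤ S := hPN.trans inf_le_left
  have : Finite P := finite_of_le hPS
  rw [mem_autGroup_iff E hPN, hE P]
  have hφ := (mem_autGroup_iff F hPS α).mp hα
  have hle : P ⊔ U ≤ P := sup_le le_rfl hUP
  refine ⟨hφ, hPN, fun x => hPN (α x).2, (P.subtype.comp α.toMonoidHom).comp (Subgroup.inclusion hle),
    Cfsg.Agent.Lib.Helper87.restrict_mem F hφ hle, fun x => ?_, ?_⟩
  · show ((α _ : P) : Ω) = ((α x : P) : Ω)
    congr 2
  · rw [Cfsg.Agent.Lib.Helper87.map_subgroupOf_eq_iff]
    constructor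
    · intro y hy
      exact hαU _ hy
    · intro q hq
      -- `α` restricted to `U` is a bijection of `U`
      have hfinU : Finite U := finite_of_le (hUP.trans hPS)
      let f : U → U := fun u => ⟨((α ⟨u, hUP u.2⟩ : P) : Ω), hαU _ u.2⟩
      have hinj : Function.Injective f := by
        intro a b hab
        have h1 : ((α ⟨a, hUP a.2⟩ : P) : Ω) = ((α ⟨b, hUP b.2⟩ : P) : Ω) :=
          congrArg (fun z : U => (z : Ω)) hab
        have h2 : (⟨(a : Ω), hUP a.2⟩ : P) = ⟨(b : Ω), hUP b.2⟩ := α.injective (Subtype.ext h1)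
        exact Subtype.ext (congrArg (fun z : P => (z : Ω)) h2)
      obtain ⟨u, hu⟩ := (Finite.injective_iff_surjective.mp hinj) ⟨q, hq⟩
      refine ⟨⟨u, (le_sup_right : U ≤ P ⊔ U) u.2⟩, u.2, ?_⟩
      exact congrArg (fun z : U => (z : Ω)) hu

end Cfsg.Agent.Lib.Helper88
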