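import Cfsg.Agent.Lib.Helper88.ModelEmbed
import Cfsg.Agent.Lib.Helper88.ModelExists
import Cfsg.Agent.Lib.Helper88.Centric
import Cfsg.Agent.Lib.Helper88.PFree
import Cfsg.Agent.Lib.Helper88.Involves
import Cfsg.Agent.Lib.Helper84.NormalizerSystem
import Cfsg.Prelude.Def_FusionReduction
import Cfsg.Agent.Lib.Helper87.Alperin
import Cfsg.Agent.Lib.Helper87.Lemma26
import Cfsg.Agent.Lib.Helper84.KSatMain
import Cfsg.Agent.S5145

set_option autoImplicit false

/-!
# Freeness of a fusion system is decided at the centric radical subgroups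
-/

namespace Cfsg.Agent.Lib.Helper88

open Cfsg Cfsg.FusionSystem
open Cfsg.Agent.Lib.Helper87 (hom_le hom_mem_S subtype_mem restrict_mem finite_of_le isConj_refl
  card_eq_of_isConj mem_autGroup_iff)

universe u

/-- a group receiving an injective homomorphism from a group which maps onto `H` involves `H` -/
theorem involves_of_hom {H : Type*} [Group H] {G : Type*} [Group G] {K : Type*} [Group K]
    (i : K →* G) (f : K →* H) (hi : Function.Injective i) (hf : Function.Surjective f) :
    Involves H G := by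
  let e0 : K ≃* i.range := MonoidHom.ofInjective hi
  let f' : i.range →* H := f.comp e0.symm.toMonoidHom
  have hf' : Function.Surjective f' := hf.comp e0.symm.surjective
  have heq : (f'.ker.map i.range.subtype).subgroupOf i.range = f'.ker := by
    ext x
    rw [Subgroup.mem_subgroupOf]
    constructor
    · rintro ⟨y, hy, hyx⟩
      have : y = x := Subtype.ext hyx
      rwa [← this]
    · intro hx
      exact ⟨x, hx, rfl⟩
  have hn : ((f'.ker.map i.range.subtype).subgroupOf i.range).Normal := by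
    rw [heq]; infer_instance
  exact ⟨i.range, f'.ker.map i.range.subtype, hn,
    ⟨(QuotientGroup.quotientMulEquivOfEq heq).trans
      (QuotientGroup.quotientKerEquivOfSurjective f' hf')⟩⟩

/-- involvement passes to a group containing an isomorphic copy -/
theorem involves_of_injective {H : Type*} [Group H] {L : Type*} [Group L] {L' : Type*} [Group L']
    (Φ : L →* L') (hΦ : Function.Injective Φ) (h : Involves H L) : Involves H L' := by
  obtain ⟨K, R, hn, ⟨e⟩⟩ := h
  exact involves_of_hom (Φ.comp K.subtype)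
    (e.toMonoidHom.comp (QuotientGroup.mk' (R.subgroupOf K)))
    (hΦ.comp K.subtype_injective) (e.surjective.comp (QuotientGroup.mk'_surjective _))

/-- involvement passes from a quotient to the group -/
theorem involves_of_surjective {H : Type*} [Group H] {L : Type*} [Group L] {L' : Type*} [Group L']
    (Φ : L →* L') (hΦ : Function.Surjective Φ) (h : Involves H L') : Involves H L := by
  obtain ⟨K, R, hn, ⟨e⟩⟩ := h
  -- the preimage of `K`
  let K₀ : Subgroup L := K.comap Φ
  let f : K₀ →* H := (e.toMonoidHom.comp (QuotientGroup.mk' (R.subgroupOf K))).comp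
    (Φ.subgroupComap K)
  refine involves_of_hom K₀.subtype f K₀.subtype_injective ?_
  exact (e.surjective.comp (QuotientGroup.mk'_surjective _)).comp
    (Φ.subgroupComap_surjective_of_surjective K hΦ)

variable {Ω : Type*} [Group Ω] {S : Subgroup Ω}

/-- If the largest normal subgroup of `N_F(Q)` is `Q` (for `Q` centric and fully normalized), then `Q` is
radical. -/
theorem isRadical_of_core_le [Finite S] {p : ℕ} [Fact p.Prime] (hS : IsPGroup p S)
    (F : FusionSystem S) (hF : F.IsSaturated p) {Q : Subgroup Ω} (hfn : F.IsFullyNormalized Q)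
    (hc : F.IsCentric Q) (N : FusionSystem (normalizerIn S Q)) (hN : F.IsNormalizerSystem Q N)
    {L : Type*} [Group L] (ι : normalizerIn S Q →* L) (hL : N.IsModel p L ι)
    (hcore : N.core ≤ Q) : F.IsRadical p Q := by
  classical
  obtain ⟨hfin, hR, ⟨Tsyl, hTsyl⟩, hcen⟩ := id hL
  have hinj : Function.Injective ι := hR.1
  have hQS : Q ≤ S := hfn.1
  have hfinT : Finite (normalizerIn S Q) := finite_of_le inf_le_left
  have hTp : IsPGroup p (normalizerIn S Q) := hS.to_le inf_le_left
  have hQn : N.IsNormal Q := Cfsg.Agent.Lib.Helper87.normalizerSystem_isNormal F hQS hN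
  have hQT : Q ≤ normalizerIn S Q := hQn.1
  have hQcN : centralizerIn (normalizerIn S Q) Q ≤ Q :=
    fun x hx => hc.2 Q (isConj_refl F hQS) ⟨hx.1.1, hx.2⟩
  set QL : Subgroup L := (Q.subgroupOf (normalizerIn S Q)).map ι with hQL
  have hQLn : QL.Normal := Cfsg.Agent.Lib.Helper87.model_map_normal hL hQn
  have hcQL : Subgroup.centralizer (QL : Set L) ≤ QL := model_centralizer_le hTp N ι hL hQn hQcN
  have hQLp : IsPGroup p QL := (hTp.to_subgroup _).map ι
  have hfinQ : Finite Q := finite_of_le hQS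
  have hmemQL : ∀ x : Q, ι ⟨x, hQT x.2⟩ ∈ QL := fun x =>
    ⟨⟨x, hQT x.2⟩, Subgroup.mem_subgroupOf.mpr x.2, rfl⟩
  -- automorphisms of `Q` realized in `L` lie in `Aut_F(Q)`
  have haut : ∀ (g : L) (γ : MulAut Q),
      (∀ x : Q, ι ⟨(γ x : Q), hQT (γ x).2⟩ = g * ι ⟨x, hQT x.2⟩ * g⁻¹) → γ ∈ F.autGroup Q := by
    intro g γ hγ
    have h1 : γ ∈ N.autGroup Q := mem_autGroup_of_conj hR hQT g hγ
    exact autGroup_normalizerSystem_le F hN Q h1
  -- the subgroup of `L` inducing on `Q` automorphisms in `O_p(Aut_F(Q))`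
  let P₀ : Subgroup L :=
    { carrier := {g | ∃ b : F.autGroup Q, b ∈ pCore p (F.autGroup Q) ∧
        ∀ x : Q, ι ⟨((b : MulAut Q) x : Q), hQT ((b : MulAut Q) x).2⟩ = g * ι ⟨x, hQT x.2⟩ * g⁻¹}
      one_mem' := ⟨1, Subgroup.one_mem _, fun x => by simp⟩
      mul_mem' := by
        rintro g₁ g₂ ⟨b₁, hb₁, h₁⟩ ⟨b₂, hb₂, h₂⟩
        refine ⟨b₁ * b₂, Subgroup.mul_mem _ hb₁ hb₂, fun x => ?_⟩
        have e : (((b₁ * b₂ : F.autGroup Q) : MulAut Q) x) = (b₁ : MulAut Q) ((b₂ : MulAut Q) x) := rfl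
        rw [e, h₁, h₂]
        group
      inv_mem' := by
        rintro g ⟨b, hb, h⟩
        refine ⟨b⁻¹, Subgroup.inv_mem _ hb, fun x => ?_⟩
        have h1 := h (((b⁻¹ : F.autGroup Q) : MulAut Q) x)
        have e : (b : MulAut Q) (((b⁻¹ : F.autGroup Q) : MulAut Q) x) = x := by
          have : ((b⁻¹ : F.autGroup Q) : MulAut Q) = (b : MulAut Q)⁻¹ := rfl
          rw [this]
          exact MulAut.apply_inv_self _ _ _
        have h2 : ι ⟨x, hQT x.2⟩ = g * ι ⟨(((b⁻¹ : F.autGroup Q) : MulAut Q) x : Q),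
            hQT (((b⁻¹ : F.autGroup Q) : MulAut Q) x).2⟩ * g⁻¹ := by
          rw [← h1]
          congr 2
          exact (congrArg (fun z : Q => (z : Ω)) e).symm
        rw [h2]
        group }
  have hP₀mem : ∀ g : L, g ∈ P₀ ↔ ∃ b : F.autGroup Q, b ∈ pCore p (F.autGroup Q) ∧
      ∀ x : Q, ι ⟨((b : MulAut Q) x : Q), hQT ((b : MulAut Q) x).2⟩ = g * ι ⟨x, hQT x.2⟩ * g⁻¹ :=
    fun g => Iff.rfl
  have hpcn : (pCore p (F.autGroup Q)).Normal := Cfsg.Agent.Lib.Helper84.pCore_normal p _
  have hP₀n : P₀.Normal := by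
    constructor
    intro g hg h
    obtain ⟨b, hb, hbg⟩ := (hP₀mem g).mp hg
    -- the automorphism induced by `h`
    obtain ⟨γ, hγ⟩ := exists_aut_of_conj ι hinj hQT h (by
      intro x
      obtain ⟨y, hy, hyx⟩ := hQLn.conj_mem _ (hmemQL x) h
      exact ⟨⟨y, Subgroup.mem_subgroupOf.mp hy⟩, hyx⟩)
    have hγF : γ ∈ F.autGroup Q := haut h γ hγ
    refine (hP₀mem _).mpr ⟨⟨γ, hγF⟩ * b * ⟨γ, hγF⟩⁻¹, hpcn.conj_mem b hb ⟨γ, hγF⟩, fun x => ?_⟩
    have e : (((⟨γ, hγF⟩ * b * ⟨γ, hγF⟩⁻¹ : F.autGroup Q) : MulAut Q) x) =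
        γ ((b : MulAut Q) (γ⁻¹ x)) := rfl
    rw [e, hγ, hbg]
    have h3 := hγ (γ⁻¹ x)
    have e2 : γ (γ⁻¹ x) = x := MulAut.apply_inv_self _ _ _
    have h4 : ι ⟨x, hQT x.2⟩ = h * ι ⟨(γ⁻¹ x : Q), hQT (γ⁻¹ x).2⟩ * h⁻¹ := by
      rw [← h3]
      congr 2
      exact (congrArg (fun z : Q => (z : Ω)) e2).symm
    rw [h4]
    group
  have hpcp : IsPGroup p (pCore p (F.autGroup Q)) := Cfsg.Agent.Lib.Helper84.pCore_isPGroup p _
  have hP₀p : IsPGroup p P₀ := by
    rintro ⟨g, hg⟩
    obtain ⟨b, hb, hbg⟩ := (hP₀mem g).mp hg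
    obtain ⟨k, hk⟩ := hpcp ⟨b, hb⟩
    have hk' : b ^ p ^ k = 1 := congrArg (fun z : pCore p (F.autGroup Q) => (z : F.autGroup Q)) hk
    -- powers
    have hpow : ∀ n : ℕ, ∀ x : Q, ι ⟨(((b ^ n : F.autGroup Q) : MulAut Q) x : Q),
        hQT (((b ^ n : F.autGroup Q) : MulAut Q) x).2⟩ = g ^ n * ι ⟨x, hQT x.2⟩ * (g ^ n)⁻¹ := by
      intro n
      induction n with
      | zero => intro x; simp
      | succ n ih =>
        intro x
        have e : (((b ^ (n + 1) : F.autGroup Q) : MulAut Q) x) =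
            ((b ^ n : F.autGroup Q) : MulAut Q) ((b : MulAut Q) x) := by
          rw [pow_succ]
          rfl
        rw [e, ih, hbg, pow_succ]
        group
    have h1 : g ^ p ^ k ∈ Subgroup.centralizer (QL : Set L) := by
      rw [Subgroup.mem_centralizer_iff]
      rintro _ ⟨y, hy, rfl⟩
      have hyQ : (y : Ω) ∈ Q := Subgroup.mem_subgroupOf.mp hy
      have h2 := hpow (p ^ k) ⟨y, hyQ⟩
      rw [hk'] at h2
      have h3 : ι y = g ^ p ^ k * ι y * (g ^ p ^ k)⁻¹ := h2
      calc ι y * g ^ p ^ k = g ^ p ^ k * ι y * (g ^ p ^ k)⁻¹ * g ^ p ^ k := by rw [← h3]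
        _ = g ^ p ^ k * ι y := by group
    obtain ⟨m, hm⟩ := hQLp ⟨g ^ p ^ k, hcQL h1⟩
    have hm' : (g ^ p ^ k) ^ p ^ m = 1 := congrArg (fun z : QL => (z : L)) hm
    refine ⟨k + m, Subtype.ext ?_⟩
    show g ^ p ^ (k + m) = 1
    rw [pow_add, pow_mul]
    exact hm'
  have hP₀le : P₀ ≤ pCore p L := Cfsg.Agent.Lib.Helper84.le_pCore hP₀n hP₀p
  -- the radical condition
  refine ⟨hQS, le_antisymm ?_ (Cfsg.Agent.Lib.Helper87.inn_le_pCore hS F hQS)⟩
  rintro _ ⟨a, ha, rfl⟩
  have hfa := (Cfsg.Agent.Lib.Helper87.fc_fa_of_fullyNormalized hS F hF hfn).2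
  have h1 : ((F.autGroup Q).subtype a) ∈ autInducedBy S Q :=
    Cfsg.Agent.Lib.Helper87.pCore_le_autS F hfa ⟨a, ha, rfl⟩
  obtain ⟨s, hsS, hs⟩ := (Cfsg.Agent.Lib.Helper87.mem_autInducedBy_iff S Q _).mp h1
  have hsN : s ∈ normalizerIn S Q := by
    refine ⟨hsS, ?_⟩
    show s ∈ Subgroup.normalizer (Q : Set Ω)
    rw [Subgroup.mem_normalizer_iff]
    intro y
    constructor
    · intro hy
      rw [← hs ⟨y, hy⟩]
      exact SetLike.coe_mem _
    · intro hy
      have h2 := hs (((F.autGroup Q).subtype a)⁻¹ ⟨s * y * s⁻¹, hy⟩)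
      rw [MulAut.apply_inv_self] at h2
      have h3 : y = ((((F.autGroup Q).subtype a)⁻¹ ⟨s * y * s⁻¹, hy⟩ : Q) : Ω) := by
        have h4 : s * y * s⁻¹ = s * ((((F.autGroup Q).subtype a)⁻¹ ⟨s * y * s⁻¹, hy⟩ : Q) : Ω) * s⁻¹ := h2
        exact mul_left_cancel (mul_right_cancel h4)
      rw [h3]
      exact SetLike.coe_mem _
  have hιs : ι ⟨s, hsN⟩ ∈ P₀ := by
    refine (hP₀mem _).mpr ⟨a, ha, fun x => ?_⟩
    rw [← map_inv, ← map_mul, ← map_mul]
    congr 1
    apply Subtype.ext
    exact hs x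
  have hsQ : s ∈ Q := by
    apply hcore
    rw [Cfsg.Agent.Lib.Helper85.Rz.core_eq_of_isModel hL]
    exact mem_preN.mpr ⟨hsN, hP₀le hιs⟩
  refine ⟨⟨s, hsQ⟩, ?_⟩
  ext x
  rw [MulAut.conj_apply]
  exact (hs x).symm

end Cfsg.Agent.Lib.Helper88

namespace Cfsg.Agent.Lib.Helper88

open Cfsg Cfsg.FusionSystem
open Cfsg.Agent.Lib.Helper87 (hom_le hom_mem_S subtype_mem restrict_mem finite_of_le isConj_refl
  card_eq_of_isConj mem_autGroup_iff)

universe u

variable {Ω : Type u} [Group Ω] {S : Subgroup Ω}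

/-- a model of the normalizer system of a fully normalized centric subgroup -/
theorem exists_model_normalizerSystem [Finite S] {p : ℕ} [Fact p.Prime] (hS : IsPGroup p S)
    (F : FusionSystem S) (hF : F.IsSaturated p) {X : Subgroup Ω} (hXfn : F.IsFullyNormalized X)
    (hXc : F.IsCentric X) (NX : FusionSystem (normalizerIn S X)) (hNX : F.IsNormalizerSystem X NX) :
    ∃ (LX : Type u) (_ : Group LX) (ιX : normalizerIn S X →* LX), NX.IsModel p LX ιX := by
  have hXS : X ≤ S := hXfn.1
  have hfinN : Finite (normalizerIn S X) := finite_of_le inf_le_left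
  have hNp : IsPGroup p (normalizerIn S X) := hS.to_le inf_le_left
  have hcon : NX.IsConstrained p :=
    ⟨Cfsg.Agent.Lib.Helper84.KN.normalizerSystem_isSaturated hS F hF hXfn hNX, X,
      Cfsg.Agent.Lib.Helper87.normalizerSystem_isNormal F hXS hNX,
      Cfsg.Agent.Lib.Helper87.normalizerSystem_isCentric F hXc hNX⟩
  exact exists_model hNp NX hcon

theorem not_involves_of_radical [Finite S] {p : ℕ} [Fact p.Prime] (hS : IsPGroup p S)
    (F : FusionSystem S) (hF : F.IsSaturated p) (H : Type*) [Group H]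
    (h : ∀ Q : Subgroup Ω, F.IsFullyNormalized Q → F.IsCentric Q → F.IsRadical p Q →
      ∀ N : FusionSystem (normalizerIn S Q), F.IsNormalizerSystem Q N →
        ∀ (L : Type u) [Group L] (ι : normalizerIn S Q →* L), N.IsModel p L ι → ¬ Involves H L) :
    ∀ k : ℕ, ∀ Q : Subgroup Ω, F.IsFullyNormalized Q → F.IsCentric Q →
      Nat.card S - Nat.card Q = k →
      ∀ N : FusionSystem (normalizerIn S Q), F.IsNormalizerSystem Q N →
        ∀ (L : Type u) [Group L] (ι : normalizerIn S Q →* L), N.IsModel p L ι → ¬ Involves H L := by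
  intro k
  induction k using Nat.strong_induction_on with
  | _ k ih =>
    intro Q hfn hc hk N hN L _ ι hL
    by_cases hrad : F.IsRadical p Q
    · exact h Q hfn hc hrad N hN L ι hL
    · have hQS : Q ≤ S := hfn.1
      have hfinT : Finite (normalizerIn S Q) := finite_of_le inf_le_left
      have hTp : IsPGroup p (normalizerIn S Q) := hS.to_le inf_le_left
      have hQn : N.IsNormal Q := Cfsg.Agent.Lib.Helper87.normalizerSystem_isNormal F hQS hN
      have hRn : N.IsNormal N.core := Cfsg.Agent.S5145.result N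
      have hQR : Q ≤ N.core := le_sSup hQn
      have hRQ : ¬ N.core ≤ Q := fun hle => hrad (isRadical_of_core_le hS F hF hfn hc N hN ι hL hle)
      have hRT : N.core ≤ normalizerIn S Q := hRn.1
      have hRS : N.core ≤ S := hRT.trans inf_le_left
      have hRc : centralizerIn (normalizerIn S Q) N.core ≤ N.core := by
        intro x hx
        apply hQR
        apply hc.2 Q (isConj_refl F hQS)
        exact ⟨hx.1.1, Subgroup.centralizer_le (by exact_mod_cast hQR) hx.2⟩
      have hTN : normalizerIn S Q ≤ normalizerIn S N.core := by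
        intro x hx
        exact ⟨hx.1, Cfsg.Agent.Lib.Helper87.stronglyClosed_le_normalizer N
          (Cfsg.Agent.Lib.Helper87.stronglyClosed_of_isNormal N hRn) hx⟩
      have hsub : ∀ A : Subgroup Ω, N.Hom A ⊆ F.Hom A := by
        intro A φ hφ
        rw [hN A] at hφ
        exact hφ.1
      obtain ⟨X, hconj, hXfn⟩ := Cfsg.Agent.Lib.Helper87.exists_fullyNormalized_conj F hRS
      have hRcen : F.IsCentric N.core := isCentric_of_le F hc hQR hRS
      have hXcen : F.IsCentric X := isCentric_of_isConj F hRcen hconj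
      have hXS : X ≤ S := hXfn.1
      have hXc : centralizerIn S X ≤ X := hXcen.2 X (isConj_refl F hXS)
      let NX := Cfsg.Agent.Lib.Helper84.normalizerSystem F X hXS
      have hNX : F.IsNormalizerSystem X NX := Cfsg.Agent.Lib.Helper84.normalizerSystem_spec F X hXS
      obtain ⟨LX, _, ιX, hLX⟩ := exists_model_normalizerSystem hS F hF hXfn hXcen NX hNX
      -- the induction hypothesis
      have hcard : Nat.card S - Nat.card X < k := by
        have h1 : Nat.card X = Nat.card N.core := card_eq_of_isConj F hconj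
        have hfinR : Finite N.core := finite_of_le hRS
        have h2 : Nat.card Q < Nat.card N.core := by
          rcases Nat.lt_or_ge (Nat.card Q) (Nat.card N.core) with h | h
          · exact h
          · exact absurd (Subgroup.eq_of_le_of_card_ge hQR h).ge hRQ
        have h3 : Nat.card N.core ≤ Nat.card S := Subgroup.card_le_of_le hRS
        omega
      have hfree : ¬ Involves H LX := ih _ hcard X hXfn hXcen rfl NX hNX LX ιX hLX
      obtain ⟨Φ, hΦ⟩ := exists_model_embedding hS F hF N hsub hRn hRc hTN hXfn hXc hconj NX hNX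
        ιX hLX ι hL
      exact fun hinv => hfree (involves_of_injective Φ hΦ hinv)

/-- **Freeness is decided at the centric radical subgroups.** -/
theorem isSectionFree_of_radical [Finite S] {p : ℕ} [Fact p.Prime] (hS : IsPGroup p S)
    (F : FusionSystem S) (hF : F.IsSaturated p) (H : Type*) [Group H]
    (h : ∀ Q : Subgroup Ω, F.IsFullyNormalized Q → F.IsCentric Q → F.IsRadical p Q →
      ∀ N : FusionSystem (normalizerIn S Q), F.IsNormalizerSystem Q N →
        ∀ (L : Type u) [Group L] (ι : normalizerIn S Q →* L), N.IsModel p L ι → ¬ Involves H L) :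
    F.IsSectionFree p H :=
  fun Q hfn hc N hN L _ ι hL => not_involves_of_radical hS F hF H h _ Q hfn hc rfl N hN L ι hL

end Cfsg.Agent.Lib.Helper88
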