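import Cfsg.Prelude.Def_FusionComponents
import Cfsg.Agent.Lib.Helper87.FusionBasic
import Cfsg.Agent.Lib.Helper84.FusionBasic

set_option autoImplicit false

namespace Cfsg.Agent.Lib.Helper88

open Cfsg Cfsg.FusionSystem
open Cfsg.Agent.Lib.Helper87 (restrict_mem hom_le hom_mem_S subtype_mem)

variable {Ω Ω' : Type*} [Group Ω] [Group Ω'] {S : Subgroup Ω}

theorem mem_preimageAlong {θ : S →* Ω'} {P' : Subgroup Ω'} {x : Ω} :
    x ∈ preimageAlong θ P' ↔ ∃ hx : x ∈ S, θ ⟨x, hx⟩ ∈ P' := by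
  constructor
  · rintro ⟨s, hs, rfl⟩
    exact ⟨s.2, hs⟩
  · rintro ⟨hx, h⟩
    exact ⟨⟨x, hx⟩, h, rfl⟩

theorem preimageAlong_le (θ : S →* Ω') (P' : Subgroup Ω') : preimageAlong θ P' ≤ S :=
  fun _ hx => (mem_preimageAlong.mp hx).1

theorem preimageAlong_mem (θ : S →* Ω') (P' : Subgroup Ω') {x : Ω}
    (hx : x ∈ preimageAlong θ P') : θ ⟨x, preimageAlong_le θ P' hx⟩ ∈ P' :=
  (mem_preimageAlong.mp hx).2

/-- every element of `P' ≤ θ(S)` is the image of an element of the full preimage of `P'` -/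
theorem exists_preimage {θ : S →* Ω'} {P' : Subgroup Ω'} (hP' : P' ≤ θ.range) (y : P') :
    ∃ x : preimageAlong θ P', θ ⟨x, preimageAlong_le θ P' x.2⟩ = y := by
  obtain ⟨s, hs⟩ := hP' y.2
  exact ⟨⟨s, mem_preimageAlong.mpr ⟨s.2, by rw [hs]; exact y.2⟩⟩, hs⟩

/-- the homomorphism induced on the image by a map defined on a full preimage and compatible with
the kernel -/
theorem exists_induced {θ : S →* Ω'} {P' : Subgroup Ω'} (hP' : P' ≤ θ.range)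
    (φ : preimageAlong θ P' →* Ω) (hφ : ∀ x, φ x ∈ S)
    (hk : ∀ x : preimageAlong θ P', θ ⟨x, preimageAlong_le θ P' x.2⟩ = 1 → θ ⟨φ x, hφ x⟩ = 1) :
    ∃ φ' : P' →* Ω', InducedAlong θ φ φ' := by
  let f : preimageAlong θ P' →* P' :=
    (θ.comp (Subgroup.inclusion (preimageAlong_le θ P'))).codRestrict P'
      (fun x => preimageAlong_mem θ P' x.2)
  have hf : Function.Surjective f := by
    intro y
    obtain ⟨x, hx⟩ := exists_preimage hP' y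
    exact ⟨x, Subtype.ext hx⟩
  let g : preimageAlong θ P' →* Ω' := θ.comp (φ.codRestrict S hφ)
  have hg : f.ker ≤ g.ker := by
    intro x hx
    rw [MonoidHom.mem_ker] at hx ⊢
    have h1 : θ ⟨x, preimageAlong_le θ P' x.2⟩ = 1 := congrArg (fun z : P' => (z : Ω')) hx
    exact hk x h1
  refine ⟨MonoidHom.liftOfSurjective f hf ⟨g, hg⟩, preimageAlong_le θ P', hφ,
    fun x => preimageAlong_mem θ P' x.2, fun x => ?_⟩
  exact MonoidHom.liftOfRightInverse_comp_apply f _ (Function.rightInverse_surjInv hf) ⟨g, hg⟩ x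

/-- The factor system of `F` modulo `T`, read through `θ : S →* Ω'` with kernel `T`, for a subgroup
`T` preserved (in both directions) by all maps of `F`. -/
def factorSystem (F : FusionSystem S) (T : Subgroup Ω) {S' : Subgroup Ω'} (θ : S →* Ω')
    (hker : ∀ s : S, θ s = 1 ↔ (s : Ω) ∈ T) (hrange : θ.range = S')
    (H : ∀ (P : Subgroup Ω) (φ : P →* Ω), φ ∈ F.Hom P → ∀ x : P, ((x : Ω) ∈ T ↔ φ x ∈ T))
    (H2 : ∀ (P : Subgroup Ω) (φ : P →* Ω), φ ∈ F.Hom P → T ⊓ S ≤ P → T ⊓ S ≤ φ.range) :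
    FusionSystem S' where
  Hom P' := {φ' | P' ≤ S' ∧ ∃ φ ∈ F.Hom (preimageAlong θ P'), InducedAlong θ φ φ'}
  le_of_mem := by
    rintro P' φ' ⟨hP', φ, hφ, hP, hφS, hPP', he⟩
    refine ⟨hP', fun y => ?_⟩
    obtain ⟨x, hx⟩ := exists_preimage (hrange ▸ hP') y
    have : y = ⟨θ ⟨x, hP x.2⟩, hPP' x⟩ := Subtype.ext hx.symm
    rw [this, he x, ← hrange]
    exact ⟨_, rfl⟩
  injective_of_mem := by
    rintro P' φ' ⟨hP', φ, hφ, hP, hφS, hPP', he⟩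
    rw [injective_iff_map_eq_one]
    intro y hy
    obtain ⟨x, hx⟩ := exists_preimage (hrange ▸ hP') y
    have e1 : y = ⟨θ ⟨x, hP x.2⟩, hPP' x⟩ := Subtype.ext hx.symm
    rw [e1, he x] at hy
    have h1 : φ x ∈ T := (hker _).mp hy
    have h2 : (x : Ω) ∈ T := (H _ φ hφ x).mpr h1
    have h3 : θ ⟨x, hP x.2⟩ = 1 := (hker _).mpr h2
    apply Subtype.ext
    rw [← hx]
    exact h3
  conj_mem := by
    intro P' g' hP' hg'
    rw [← hrange] at hg'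
    obtain ⟨g, rfl⟩ := hg'
    refine ⟨hP', conjHom (preimageAlong θ P') g, F.conj_mem (preimageAlong_le θ P') g.2,
      preimageAlong_le θ P', ?_, fun x => preimageAlong_mem θ P' x.2, fun x => ?_⟩
    · intro x
      exact S.mul_mem (S.mul_mem g.2 (preimageAlong_le θ P' x.2)) (S.inv_mem g.2)
    · show θ g * θ ⟨x, _⟩ * (θ g)⁻¹ = _
      rw [← map_inv, ← map_mul, ← map_mul]
      rfl
  comp_mem := by
    rintro P' Q' φ' ψ' ⟨hP', φ, hφ, hP, hφS, hPP', he⟩ ⟨hQ', ψ, hψ, hQ, hψS, hQQ', he'⟩ h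
    have hφQ : ∀ x : preimageAlong θ P', φ x ∈ preimageAlong θ Q' := by
      intro x
      refine mem_preimageAlong.mpr ⟨hφS x, ?_⟩
      rw [← he x]
      exact h _
    refine ⟨hP', ψ.comp (φ.codRestrict _ hφQ), F.comp_mem hφ hψ hφQ, hP, fun x => hψS _, hPP',
      fun x => ?_⟩
    show ψ' ⟨φ' ⟨θ ⟨x, hP x.2⟩, hPP' x⟩, h _⟩ = θ ⟨ψ ⟨φ x, hφQ x⟩, hψS _⟩
    have e1 : (⟨φ' ⟨θ ⟨x, hP x.2⟩, hPP' x⟩, h _⟩ : Q') =
        ⟨θ ⟨((⟨φ x, hφQ x⟩ : preimageAlong θ Q') : Ω), hQ (hφQ x)⟩, hQQ' ⟨φ x, hφQ x⟩⟩ :=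
      Subtype.ext (he x)
    rw [e1]
    exact he' ⟨φ x, hφQ x⟩
  inv_mem := by
    rintro P' φ' ⟨hP', φ, hφ, hP, hφS, hPP', he⟩
    have hP'r : P' ≤ θ.range := hrange ▸ hP'
    have hTP : T ⊓ S ≤ preimageAlong θ P' := by
      intro t ht
      refine mem_preimageAlong.mpr ⟨ht.2, ?_⟩
      rw [(hker ⟨t, ht.2⟩).mpr ht.1]
      exact P'.one_mem
    have hR'S' : φ'.range ≤ S' := by
      rintro _ ⟨y, rfl⟩
      obtain ⟨x, hx⟩ := exists_preimage hP'r y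
      have : y = ⟨θ ⟨x, hP x.2⟩, hPP' x⟩ := Subtype.ext hx.symm
      rw [this, he x, ← hrange]
      exact ⟨_, rfl⟩
    have hR : preimageAlong θ φ'.range = φ.range := by
      ext r
      constructor
      · intro hr
        obtain ⟨hrS, ⟨y, hy⟩⟩ := mem_preimageAlong.mp hr
        obtain ⟨x, hx⟩ := exists_preimage hP'r y
        have e1 : y = ⟨θ ⟨x, hP x.2⟩, hPP' x⟩ := Subtype.ext hx.symm
        rw [e1, he x] at hy
        have h1 : θ (⟨φ x, hφS x⟩⁻¹ * ⟨r, hrS⟩) = 1 := by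
          rw [map_mul, map_inv, hy, inv_mul_cancel]
        have h2 : (φ x)⁻¹ * r ∈ T := (hker _).mp h1
        have h3 : (φ x)⁻¹ * r ∈ φ.range :=
          H2 _ φ hφ hTP ⟨h2, S.mul_mem (S.inv_mem (hφS x)) hrS⟩
        have e2 : r = φ x * ((φ x)⁻¹ * r) := by group
        rw [e2]
        exact φ.range.mul_mem ⟨x, rfl⟩ h3
      · rintro ⟨x, rfl⟩
        refine mem_preimageAlong.mpr ⟨hφS x, ?_⟩
        rw [← he x]
        exact ⟨_, rfl⟩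
    obtain ⟨ρ₀, hρ₀, hρ₀e⟩ := F.inv_mem hφ
    obtain ⟨ρ, hρ, hρe⟩ := Cfsg.Agent.Lib.Helper84.exists_hom_of_eq F hρ₀ hR
    have hρS : ∀ r, ρ r ∈ S := hom_mem_S F hρ
    obtain ⟨ρ', hρ'⟩ := exists_induced (hrange ▸ hR'S') ρ hρS (by
      intro r hr
      have h1 : (r : Ω) ∈ T := (hker _).mp hr
      exact (hker _).mpr ((H _ ρ hρ r).mp h1))
    refine ⟨ρ', ⟨hR'S', ρ, hρ, hρ'⟩, fun y => ?_⟩
    obtain ⟨hR1, hR2, hR3, hR4⟩ := hρ'
    obtain ⟨x, hx⟩ := exists_preimage hP'r y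
    have e1 : y = ⟨θ ⟨x, hP x.2⟩, hPP' x⟩ := Subtype.ext hx.symm
    have hφxR : φ x ∈ preimageAlong θ φ'.range := by rw [hR]; exact ⟨x, rfl⟩
    have h4 := hR4 ⟨φ x, hφxR⟩
    have e2 : (⟨φ' y, ⟨y, rfl⟩⟩ : φ'.range) =
        ⟨θ ⟨((⟨φ x, hφxR⟩ : preimageAlong θ φ'.range) : Ω), hR1 hφxR⟩, hR3 ⟨φ x, hφxR⟩⟩ := by
      apply Subtype.ext
      show φ' y = θ ⟨φ x, _⟩
      rw [e1, he x]
    rw [e2, h4, ← hx]
    congr 1
    apply Subtype.ext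
    show ρ ⟨φ x, hφxR⟩ = x
    rw [hρe (φ x) hφxR ⟨x, rfl⟩]
    exact hρ₀e x

theorem isFactorSystem_factorSystem (F : FusionSystem S) (T : Subgroup Ω) {S' : Subgroup Ω'}
    (θ : S →* Ω') (hTS : T ≤ S) (hker : ∀ s : S, θ s = 1 ↔ (s : Ω) ∈ T) (hrange : θ.range = S')
    (H : ∀ (P : Subgroup Ω) (φ : P →* Ω), φ ∈ F.Hom P → ∀ x : P, ((x : Ω) ∈ T ↔ φ x ∈ T))
    (H2 : ∀ (P : Subgroup Ω) (φ : P →* Ω), φ ∈ F.Hom P → T ⊓ S ≤ P → T ⊓ S ≤ φ.range) :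
    F.IsFactorSystem T θ (factorSystem F T θ hker hrange H H2) :=
  ⟨hTS, hker, hrange, fun _ _ => Iff.rfl⟩

end Cfsg.Agent.Lib.Helper88
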