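import Cfsg.Agent.Lib.Helper88.TopCount

set_option autoImplicit false

/-!
# The characteristic biset of a saturated fusion system

Broto–Levi–Oliver: a saturated fusion system over the finite `p`-group `S` has a biset generated by the
system, stable under the system, with `|X| / |S|` prime to `p`.
-/

namespace Cfsg.Agent.Lib.Helper88

open Cfsg Cfsg.FusionSystem MulAction
open Cfsg.Agent.Lib.Helper87 (restrict_mem hom_le hom_mem_S isConj_refl isConj_symm isConj_trans
  card_eq_of_isConj subtype_mem mem_autGroup_iff mem_autInducedBy_iff)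

variable {Ω : Type*} [Group Ω] {S : Subgroup Ω}

theorem InTw.card_dvd [Finite S] {F : FusionSystem S} {D : Subgroup (S × S)} (h : InTw F D) :
    Nat.card D ∣ Nat.card S := by
  rw [h.card_eq]
  exact Subgroup.card_dvd_of_le (pr1_le D)

/-- **The characteristic biset.** -/
theorem exists_char_biset [Finite S] {p : ℕ} [Fact p.Prime] (hS : IsPGroup p S)
    (F : FusionSystem S) (hF : F.IsSaturated p) :
    ∃ m : Subgroup (S × S) → ℕ, Gen F m ∧ StabGe F m 0 ∧
      ∃ n : ℕ, Nat.card (OrbSum m) = n * Nat.card S ∧ ¬ p ∣ n := by
  classical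
  have := Fintype.ofFinite (Subgroup (S × S))
  obtain ⟨m, hgen, hstab, htop⟩ :=
    exists_sat_stable hS F hF (topOrb F) (gen_topOrb F) (stabGe_topOrb F)
  refine ⟨m, hgen, hstab, ∑ H : Subgroup (S × S), m H * (Nat.card S / Nat.card H), ?_, ?_⟩
  · rw [card_orbSum, Finset.sum_mul]
    refine Finset.sum_congr rfl fun H _ => ?_
    by_cases h0 : m H = 0
    · rw [h0, zero_mul, zero_mul, zero_mul]
    · have hdvd := (hgen H h0).card_dvd
      rw [Nat.card_prod, Nat.mul_div_assoc _ hdvd, mul_assoc, mul_comm (Nat.card S)]
  · -- the count modulo `p`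
    obtain ⟨-, R, hR⟩ := (top_automized_receptive F p hF).1
    have hidx : ¬ p ∣ ((autInducedBy S S).subgroupOf (F.autGroup S)).index := by
      rw [← hR]
      exact R.not_dvd_index
    have hp : p.Prime := Fact.out
    obtain ⟨a, ha⟩ := IsPGroup.exists_card_eq hS
    have hmod : ∑ H : Subgroup (S × S), m H * (Nat.card S / Nat.card H) ≡
        ∑ H : Subgroup (S × S), topOrb F H [MOD p] := by
      apply Nat.ModEq.sum
      intro H _
      by_cases hc : Nat.card H = Nat.card S
      · rw [htop H hc.ge, hc, Nat.div_self Nat.card_pos, mul_one]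
      · have ht : topOrb F H = 0 := by
          by_contra hne
          exact hc (topOrb_ne_zero hne).2.1
        rw [ht]
        by_cases h0 : m H = 0
        · rw [h0, zero_mul]
        · have hdvd := (hgen H h0).card_dvd
          rw [ha] at hdvd
          obtain ⟨b, hb, hbe⟩ := (Nat.dvd_prime_pow hp).mp hdvd
          have hne : b ≠ a := by
            intro h
            apply hc
            rw [hbe, ha, h]
          have hlt : b < a := lt_of_le_of_ne hb hne
          rw [ha, hbe, Nat.pow_div hb hp.pos]
          apply Nat.modEq_zero_iff_dvd.mpr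
          apply Dvd.dvd.mul_left
          exact dvd_pow_self p (by omega)
    rw [sum_topOrb] at hmod
    intro hdvd
    apply hidx
    exact (Nat.modEq_zero_iff_dvd.mp (hmod.symm.trans (Nat.modEq_zero_iff_dvd.mpr hdvd)))

end Cfsg.Agent.Lib.Helper88
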