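import Cfsg.Agent.Lib.Helper88.FactorSystem
import Cfsg.Agent.Lib.Helper88.Abelian
import Cfsg.Agent.Lib.Helper87.Lemma26
import Cfsg.Agent.S5144
import Cfsg.Agent.S5084

set_option autoImplicit false

namespace Cfsg.Agent.Lib.Helper88

open Cfsg Cfsg.FusionSystem

variable {Ω Ω' : Type*} [Group Ω] [Group Ω'] {S : Subgroup Ω} {S' : Subgroup Ω'}

/-- a map of the system fixes the elements of a central subgroup lying in its source -/
theorem central_fix (F : FusionSystem S) {Z : Subgroup Ω} (hZ : F.IsCentral Z) {P : Subgroup Ω}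
    {φ : P →* Ω} (hφ : φ ∈ F.Hom P) (x : P) (hx : (x : Ω) ∈ Z) : φ x = x := by
  obtain ⟨ψ, -, h1, h2⟩ := hZ.2 P φ hφ
  rw [← h1 x]
  have e : Subgroup.inclusion (le_sup_left : P ≤ P ⊔ Z) x =
      Subgroup.inclusion (le_sup_right : Z ≤ P ⊔ Z) ⟨x, hx⟩ := Subtype.ext rfl
  rw [e]
  exact h2 ⟨x, hx⟩

/-- lifting the centrality of a subgroup of the factor system modulo a central subgroup -/
theorem lift_central (F : FusionSystem S) (E : FusionSystem S') (θ : S →* Ω') {Z : Subgroup Ω}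
    (hZ : F.IsCentral Z) (hE : F.IsFactorSystem Z θ E) {W' : Subgroup Ω'} (hW' : E.IsCentral W')
    {P : Subgroup Ω} {φ : P →* Ω} (hφ : φ ∈ F.Hom P) {x : Ω} (hxS : x ∈ S)
    (hx : θ ⟨x, hxS⟩ ∈ W') :
    ∃ (R : Subgroup Ω) (ψ : R →* Ω) (hPR : P ≤ R) (hxR : x ∈ R), ψ ∈ F.Hom R ∧
      (∀ y : P, (φ y)⁻¹ * ψ (Subgroup.inclusion hPR y) ∈ Z) ∧ x⁻¹ * ψ ⟨x, hxR⟩ ∈ Z := by
  obtain ⟨hZS, hker, hrange, hiff⟩ := hE
  have hPS : P ≤ S := (F.le_of_mem hφ).1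
  obtain ⟨φ₁, hφ₁, h11, h12⟩ := hZ.2 P φ hφ
  have hPZS : P ⊔ Z ≤ S := sup_le hPS hZS
  have hpre : preimageAlong θ (imageAlong θ (P ⊔ Z)) = P ⊔ Z := by
    ext y
    rw [mem_preimageAlong]
    constructor
    · rintro ⟨hy, ⟨s, hs, hse⟩⟩
      have h1 : θ (s⁻¹ * ⟨y, hy⟩) = 1 := by rw [map_mul, map_inv, hse, inv_mul_cancel]
      have h3 : (s : Ω)⁻¹ * y ∈ Z := (hker _).mp h1
      have e : y = (s : Ω) * ((s : Ω)⁻¹ * y) := by group
      rw [e]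
      exact (P ⊔ Z).mul_mem hs (le_sup_right (a := P) h3)
    · intro hy
      exact ⟨hPZS hy, ⟨⟨y, hPZS hy⟩, hy, rfl⟩⟩
  obtain ⟨φ₂, hφ₂, hφ₂e⟩ := Cfsg.Agent.Lib.Helper84.exists_hom_of_eq F hφ₁ hpre
  have hφ₂S : ∀ y, φ₂ y ∈ S := (F.le_of_mem hφ₂).2
  have hP'r : imageAlong θ (P ⊔ Z) ≤ θ.range := by
    rintro _ ⟨s, -, rfl⟩
    exact ⟨s, rfl⟩
  have hP'S' : imageAlong θ (P ⊔ Z) ≤ S' := hrange ▸ hP'r
  obtain ⟨φ', hφ'⟩ := exists_induced hP'r φ₂ hφ₂S (by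
    intro y hy
    have h1 : (y : Ω) ∈ Z := (hker _).mp hy
    have h2 : φ₂ y = y := central_fix F hZ hφ₂ y h1
    exact (hker _).mpr (show φ₂ y ∈ Z by rw [h2]; exact h1))
  have hφ'E : φ' ∈ E.Hom (imageAlong θ (P ⊔ Z)) := (hiff _ _).mpr ⟨hP'S', φ₂, hφ₂, hφ'⟩
  obtain ⟨ψ', hψ', h21, h22⟩ := hW'.2 _ φ' hφ'E
  obtain ⟨-, ψ, hψ, hψi⟩ := (hiff _ _).mp hψ'
  obtain ⟨hR1, hR2, hR3, hR4⟩ := hψi
  obtain ⟨hQ1, hQ2, hQ3, hQ4⟩ := hφ'
  have hPR : P ≤ preimageAlong θ (imageAlong θ (P ⊔ Z) ⊔ W') := by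
    intro y hy
    refine mem_preimageAlong.mpr ⟨hPS hy, le_sup_left (b := W') ?_⟩
    exact ⟨⟨y, hPS hy⟩, le_sup_left (b := Z) hy, rfl⟩
  have hxR : x ∈ preimageAlong θ (imageAlong θ (P ⊔ Z) ⊔ W') :=
    mem_preimageAlong.mpr ⟨hxS, le_sup_right (a := imageAlong θ (P ⊔ Z)) hx⟩
  refine ⟨_, ψ, hPR, hxR, hψ, fun y => ?_, ?_⟩
  · -- θ (ψ y) = ψ' (θ y) = φ' (θ y) = θ (φ₂ y) = θ (φ y)
    have hy2 : (y : Ω) ∈ preimageAlong θ (imageAlong θ (P ⊔ Z)) := by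
      rw [hpre]; exact le_sup_left (b := Z) y.2
    have e1 := hR4 ⟨y, hPR y.2⟩
    have e2 := hQ4 ⟨y, hy2⟩
    have e3 := h21 ⟨θ ⟨y, hPS y.2⟩, hQ3 ⟨y, hy2⟩⟩
    have e4 : φ₂ ⟨y, hy2⟩ = φ y := by
      rw [hφ₂e y hy2 (le_sup_left (b := Z) y.2)]
      exact h11 y
    have e5 : θ ⟨ψ ⟨y, hPR y.2⟩, hR2 _⟩ = θ ⟨φ y, (F.le_of_mem hφ).2 y⟩ := by
      rw [← e1]
      have : θ ⟨φ y, (F.le_of_mem hφ).2 y⟩ = θ ⟨φ₂ ⟨y, hy2⟩, hQ2 _⟩ := by
        congr 1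
        exact Subtype.ext e4.symm
      rw [this, ← e2, ← e3]
      rfl
    have h1 : θ (⟨φ y, (F.le_of_mem hφ).2 y⟩⁻¹ * ⟨ψ ⟨y, hPR y.2⟩, hR2 _⟩) = 1 := by
      rw [map_mul, map_inv, e5, inv_mul_cancel]
    exact (hker _).mp h1
  · have e1 := hR4 ⟨x, hxR⟩
    have e3 := h22 ⟨θ ⟨x, hxS⟩, hx⟩
    have e5 : θ ⟨ψ ⟨x, hxR⟩, hR2 _⟩ = θ ⟨x, hxS⟩ := by
      refine e1.symm.trans ?_
      exact e3
    have h1 : θ (⟨x, hxS⟩⁻¹ * ⟨ψ ⟨x, hxR⟩, hR2 _⟩) = 1 := by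
      rw [map_mul, map_inv, e5, inv_mul_cancel]
    exact (hker _).mp h1

/-- a central subgroup of the system is central in `S` -/
theorem central_comm (F : FusionSystem S) {Z : Subgroup Ω} (hZ : F.IsCentral Z) {z s : Ω}
    (hz : z ∈ Z) (hs : s ∈ S) : z * s = s * z := by
  have h := central_fix F hZ (F.conj_mem le_rfl hs) ⟨z, hZ.1 hz⟩ hz
  have h' : s * z * s⁻¹ = z := h
  calc z * s = (s * z * s⁻¹) * s := by rw [h']
    _ = s * z := by group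

theorem lift_central_elt (F : FusionSystem S) (E : FusionSystem S') (θ : S →* Ω') {Z : Subgroup Ω}
    (hZ : F.IsCentral Z) (hE : F.IsFactorSystem Z θ E) {W' : Subgroup Ω'} (hW' : E.IsCentral W')
    {P : Subgroup Ω} {φ : P →* Ω} (hφ : φ ∈ F.Hom P) (x : P) (hxS : (x : Ω) ∈ S)
    (hx : θ ⟨x, hxS⟩ ∈ W') : (x : Ω)⁻¹ * φ x ∈ Z := by
  obtain ⟨R, ψ, hPR, hxR, hψ, h1, h2⟩ := lift_central F E θ hZ hE hW' hφ hxS hx
  have h3 := h1 x
  have e : Subgroup.inclusion hPR x = ⟨x, hxR⟩ := rfl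
  rw [e] at h3
  have e2 : (x : Ω)⁻¹ * φ x = ((x : Ω)⁻¹ * ψ ⟨x, hxR⟩) * ((φ x)⁻¹ * ψ ⟨x, hxR⟩)⁻¹ := by group
  rw [e2]
  exact Z.mul_mem h2 (Z.inv_mem h3)

theorem comm_calc {x f z zy : Ω} (hz : ∀ s ∈ S, z * s = s * z) (hzy : ∀ s ∈ S, zy * s = s * zy)
    (hx : x ∈ S) (hf : f ∈ S) (hzS : z ∈ S) :
    (x * z)⁻¹ * ((f * zy) * (x * z) * (f * zy)⁻¹) = x⁻¹ * (f * x * f⁻¹) := by
  calc (x * z)⁻¹ * ((f * zy) * (x * z) * (f * zy)⁻¹)
      = z⁻¹ * (x⁻¹ * f * (zy * (x * z)) * zy⁻¹ * f⁻¹) := by group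
    _ = z⁻¹ * (x⁻¹ * f * ((x * z) * zy) * zy⁻¹ * f⁻¹) := by rw [hzy (x * z) (S.mul_mem hx hzS)]
    _ = z⁻¹ * ((x⁻¹ * f * x) * (z * f⁻¹)) := by group
    _ = z⁻¹ * ((x⁻¹ * f * x) * (f⁻¹ * z)) := by rw [hz f⁻¹ (S.inv_mem hf)]
    _ = z⁻¹ * ((x⁻¹ * f * x * f⁻¹) * z) := by group
    _ = z⁻¹ * (z * (x⁻¹ * f * x * f⁻¹)) := by
        rw [hz (x⁻¹ * f * x * f⁻¹)
          (S.mul_mem (S.mul_mem (S.mul_mem (S.inv_mem hx) hf) hx) (S.inv_mem hf))]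
    _ = x⁻¹ * (f * x * f⁻¹) := by group

theorem lift_central_conj (F : FusionSystem S) (E : FusionSystem S') (θ : S →* Ω') {Z : Subgroup Ω}
    (hZ : F.IsCentral Z) (hE : F.IsFactorSystem Z θ E) {W' : Subgroup Ω'} (hW' : E.IsCentral W')
    {P : Subgroup Ω} {φ : P →* Ω} (hφ : φ ∈ F.Hom P) {x : Ω} (hxS : x ∈ S)
    (hx : θ ⟨x, hxS⟩ ∈ W') (y : P) : φ y * x * (φ y)⁻¹ = y * x * (y : Ω)⁻¹ := by
  obtain ⟨R, ψ, hPR, hxR, hψ, h1, h2⟩ := lift_central F E θ hZ hE hW' hφ hxS hx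
  have hPS := (F.le_of_mem hφ).1
  have hyS : (y : Ω) ∈ S := hPS y.2
  have hfS : φ y ∈ S := (F.le_of_mem hφ).2 y
  have hc : x⁻¹ * ((y : Ω) * x * (y : Ω)⁻¹) ∈ Z :=
    lift_central_elt F E θ hZ hE hW' (F.conj_mem le_rfl hyS) ⟨x, hxS⟩ hxS hx
  have hyR : (y : Ω) ∈ R := hPR y.2
  have hcR : x⁻¹ * ((y : Ω) * x * (y : Ω)⁻¹) ∈ R :=
    R.mul_mem (R.inv_mem hxR) (R.mul_mem (R.mul_mem hyR hxR) (R.inv_mem hyR))
  have h3 := central_fix F hZ hψ ⟨_, hcR⟩ hc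
  have e1 : (⟨x⁻¹ * ((y : Ω) * x * (y : Ω)⁻¹), hcR⟩ : R) =
      ⟨x, hxR⟩⁻¹ * (⟨y, hyR⟩ * ⟨x, hxR⟩ * ⟨y, hyR⟩⁻¹) := rfl
  rw [e1, map_mul, map_inv, map_mul, map_mul, map_inv] at h3
  have h1y := h1 y
  have e : Subgroup.inclusion hPR y = ⟨y, hyR⟩ := rfl
  rw [e] at h1y
  have ex : ψ ⟨x, hxR⟩ = x * (x⁻¹ * ψ ⟨x, hxR⟩) := by group
  have ey : ψ ⟨y, hyR⟩ = φ y * ((φ y)⁻¹ * ψ ⟨y, hyR⟩) := by group
  rw [ex, ey, comm_calc (fun s hs => central_comm F hZ h2 hs)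
    (fun s hs => central_comm F hZ h1y hs) hxS hfS (hZ.1 h2)] at h3
  exact mul_left_cancel h3

theorem lift_central_comm (p : ℕ) (F : FusionSystem S) (E : FusionSystem S') (θ : S →* Ω')
    {Z : Subgroup Ω} (hZ : F.IsCentral Z) (hE : F.IsFactorSystem Z θ E) {W' : Subgroup Ω'}
    (hW' : E.IsCentral W') (hperf : F.hyperfocalSubgroup p = S) {x : Ω} (hxS : x ∈ S)
    (hx : θ ⟨x, hxS⟩ ∈ W') : ∀ s ∈ S, x * s = s * x := by
  have hle : F.hyperfocalSubgroup p ≤ Subgroup.centralizer {x} := by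
    apply (Subgroup.closure_le _).mpr
    rintro g ⟨P, α, u, hPS, -, rfl⟩
    have hφ : P.subtype.comp (α : MulAut P).toMonoidHom ∈ F.Hom P :=
      (Cfsg.Agent.Lib.Helper87.mem_autGroup_iff F hPS α).mp α.2
    have h := lift_central_conj F E θ hZ hE hW' hφ hxS hx u
    rw [SetLike.mem_coe, Subgroup.mem_centralizer_iff]
    intro x' hx'
    rw [Set.mem_singleton_iff] at hx'
    subst hx'
    have h' : ((((α : MulAut P) u : P) : Ω)) * x' * ((((α : MulAut P) u : P) : Ω))⁻¹ =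
        u * x' * (u : Ω)⁻¹ := h
    calc x' * ((u : Ω)⁻¹ * (((α : MulAut P) u : P) : Ω))
        = (u : Ω)⁻¹ * (u * x' * (u : Ω)⁻¹) * (((α : MulAut P) u : P) : Ω) := by group
      _ = (u : Ω)⁻¹ * ((((α : MulAut P) u : P) : Ω) * x' * ((((α : MulAut P) u : P) : Ω))⁻¹) *
            (((α : MulAut P) u : P) : Ω) := by rw [h']
      _ = (u : Ω)⁻¹ * (((α : MulAut P) u : P) : Ω) * x' := by group
  intro s hs
  have h1 : s ∈ Subgroup.centralizer {x} := hle (by rw [hperf]; exact hs)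
  exact Subgroup.mem_centralizer_iff.mp h1 x rfl

theorem extender_eq_top_of_central {P : Subgroup Ω}
    (hc : ∀ u ∈ P, ∀ s ∈ S, s * u = u * s) (θ : P →* Ω) : extender S P θ = S := by
  apply le_antisymm
  · apply (Subgroup.closure_le _).mpr
    intro g hg
    exact hg.1
  · intro g hg
    apply Subgroup.subset_closure
    have hconj : ∀ u ∈ P, g * u * g⁻¹ = u := by
      intro u hu
      rw [hc u hu g hg, mul_inv_cancel_right]
    have hconj' : ∀ u ∈ P, g⁻¹ * u * g = u := by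
      intro u hu
      rw [hc u hu g⁻¹ (S.inv_mem hg), inv_mul_cancel_right]
    refine ⟨hg, ?_, 1, S.one_mem, ?_⟩
    · refine Subgroup.mem_normalizer_iff.mpr fun u => ⟨fun hu => ?_, fun hu => ?_⟩
      · rw [hconj u hu]
        exact hu
      · have h1 : u = g⁻¹ * (g * u * g⁻¹) * g := by group
        rw [h1, hconj' _ hu]
        exact hu
    · intro u hu
      have : (⟨g * (u : Ω) * g⁻¹, hu⟩ : P) = u := Subtype.ext (hconj u u.2)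
      rw [this]
      simp

theorem autInducedBy_top_normal [Finite S] (F : FusionSystem S) :
    ((autInducedBy S S).subgroupOf (F.autGroup S)).Normal := by
  refine ⟨fun h hh γ => ?_⟩
  rw [Subgroup.mem_subgroupOf] at hh ⊢
  obtain ⟨g, hg, hgh⟩ := (Cfsg.Agent.Lib.Helper87.mem_autInducedBy_iff S S _).mp hh
  refine (Cfsg.Agent.Lib.Helper87.mem_autInducedBy_iff S S _).mpr
    ⟨((γ : MulAut S) ⟨g, hg⟩ : S), ((γ : MulAut S) ⟨g, hg⟩ : S).2, fun u => ?_⟩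
  show (((γ : MulAut S) ((h : MulAut S) ((γ : MulAut S)⁻¹ u)) : S) : Ω) = _
  have e1 : (h : MulAut S) ((γ : MulAut S)⁻¹ u) = ⟨g, hg⟩ * ((γ : MulAut S)⁻¹ u) * ⟨g, hg⟩⁻¹ :=
    Subtype.ext (hgh _)
  rw [e1, map_mul, map_mul, map_inv]
  have e2 : (γ : MulAut S) ((γ : MulAut S)⁻¹ u) = u := by
    show (γ : MulAut S) ((γ : MulAut S).symm u) = u
    simp
  rw [e2]
  rfl

theorem fixed_of_lift_central [Finite S] (p : ℕ) [Fact p.Prime] (hS : IsPGroup p S)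
    (F : FusionSystem S) (hF : F.IsSaturated p) (E : FusionSystem S') (θ : S →* Ω')
    {Z : Subgroup Ω} (hZ : F.IsCentral Z) (hE : F.IsFactorSystem Z θ E) {W' : Subgroup Ω'}
    (hW' : E.IsCentral W') {x : Ω} (hxS : x ∈ S) (hx : θ ⟨x, hxS⟩ ∈ W')
    (hxc : ∀ s ∈ S, x * s = s * x) {φ : Subgroup.zpowers x →* Ω}
    (hφ : φ ∈ F.Hom (Subgroup.zpowers x)) : φ ⟨x, Subgroup.mem_zpowers x⟩ = x := by
  have hz : x⁻¹ * φ ⟨x, Subgroup.mem_zpowers x⟩ ∈ Z :=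
    lift_central_elt F E θ hZ hE hW' hφ ⟨x, Subgroup.mem_zpowers x⟩ hxS hx
  have hzS : x⁻¹ * φ ⟨x, Subgroup.mem_zpowers x⟩ ∈ S := hZ.1 hz
  have hyS : φ ⟨x, Subgroup.mem_zpowers x⟩ ∈ S := (F.le_of_mem hφ).2 _
  -- the image of `x` is central in `S`
  have hyc : ∀ s ∈ S, s * φ ⟨x, Subgroup.mem_zpowers x⟩ = φ ⟨x, Subgroup.mem_zpowers x⟩ * s := by
    intro s hs
    have hc1 : Commute s x := (hxc s hs).symm
    have hc2 : Commute s (x⁻¹ * φ ⟨x, Subgroup.mem_zpowers x⟩) := (central_comm F hZ hz hs).symm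
    have hc3 := hc1.mul_right hc2
    have e : x * (x⁻¹ * φ ⟨x, Subgroup.mem_zpowers x⟩) = φ ⟨x, Subgroup.mem_zpowers x⟩ := by group
    rw [e] at hc3
    exact hc3
  have hPc : ∀ u ∈ Subgroup.zpowers x, ∀ s ∈ S, s * u = u * s := by
    intro u hu s hs
    obtain ⟨k, rfl⟩ := Subgroup.mem_zpowers_iff.mp hu
    have hc : Commute s x := (hxc s hs).symm
    exact hc.zpow_right k
  have hRc : ∀ r ∈ φ.range, ∀ s ∈ S, s * r = r * s := by
    rintro _ ⟨u, rfl⟩ s hs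
    obtain ⟨k, hk⟩ := Subgroup.mem_zpowers_iff.mp u.2
    have e : u = (⟨x, Subgroup.mem_zpowers x⟩ : Subgroup.zpowers x) ^ k := Subtype.ext hk.symm
    rw [e, map_zpow]
    have hc : Commute s (φ ⟨x, Subgroup.mem_zpowers x⟩) := hyc s hs
    exact hc.zpow_right k
  have hRS : φ.range ≤ S := by
    rintro _ ⟨u, rfl⟩
    exact (F.le_of_mem hφ).2 u
  have hfc : F.IsFullyCentralized φ.range := by
    refine ⟨hRS, fun Q _ => ?_⟩
    have h1 : centralizerIn S φ.range = S := by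
      apply le_antisymm inf_le_left
      intro s hs
      exact ⟨hs, Subgroup.mem_centralizer_iff.mpr fun r hr => (hRc r hr s hs).symm⟩
    rw [h1]
    exact Subgroup.card_le_of_le (inf_le_left : centralizerIn S Q ≤ S)
  have hrec := Cfsg.Agent.Lib.Helper87.receptive_of_fullyCentralized hS F hF hfc
  obtain ⟨ψ, hψ, hψe⟩ := hrec.2 _ φ hφ rfl
  have hext : extender S (Subgroup.zpowers x) φ = S := extender_eq_top_of_central hPc φ
  obtain ⟨ψ', hψ', hcast⟩ := hom_cast F hext hψ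
  obtain ⟨a, ha⟩ := aut_of_hom_top F hψ'
  have haF : a ∈ F.autGroup S :=
    (Cfsg.Agent.Lib.Helper87.mem_autGroup_iff F le_rfl a).mpr (by rw [ha]; exact hψ')
  have hxN : x ∈ extender S (Subgroup.zpowers x) φ := by rw [hext]; exact hxS
  have hax : ((a ⟨x, hxS⟩ : S) : Ω) = φ ⟨x, Subgroup.mem_zpowers x⟩ := by
    have e1 : ((a ⟨x, hxS⟩ : S) : Ω) = ψ' ⟨x, hxS⟩ := by rw [← ha]; rfl
    rw [e1, hcast x hxN hxS, hψe x (Subgroup.mem_zpowers x) hxN]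
  have haz : a ⟨_, hzS⟩ = ⟨_, hzS⟩ := by
    apply Subtype.ext
    have e1 : ((a ⟨_, hzS⟩ : S) : Ω) = ψ' ⟨_, hzS⟩ := by rw [← ha]; rfl
    rw [e1]
    exact central_fix F hZ hψ' ⟨_, hzS⟩ hz
  have hax' : a ⟨x, hxS⟩ = ⟨x, hxS⟩ * ⟨_, hzS⟩ := by
    apply Subtype.ext
    rw [hax]
    show _ = x * (x⁻¹ * φ ⟨x, Subgroup.mem_zpowers x⟩)
    group
  have hpow : ∀ n : ℕ, (a ^ n) ⟨x, hxS⟩ = ⟨x, hxS⟩ * (⟨_, hzS⟩ : S) ^ n := by
    intro n
    induction n with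
    | zero => simp
    | succ n ih =>
      rw [pow_succ']
      show a ((a ^ n) ⟨x, hxS⟩) = _
      rw [ih, map_mul, map_pow, haz, hax', pow_succ', mul_assoc]
  -- a power of `a` prime to `p` is inner
  obtain ⟨-, R, hR⟩ := (top_automized_receptive F p hF).1
  have hnorm := autInducedBy_top_normal F
  have hidx : ¬ p ∣ ((autInducedBy S S).subgroupOf (F.autGroup S)).index := by
    rw [← hR]
    exact R.not_dvd_index
  have hmem := Subgroup.pow_index_mem ((autInducedBy S S).subgroupOf (F.autGroup S))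
    (⟨a, haF⟩ : F.autGroup S)
  rw [Subgroup.mem_subgroupOf] at hmem
  obtain ⟨g, hg, hgm⟩ := (Cfsg.Agent.Lib.Helper87.mem_autInducedBy_iff S S _).mp hmem
  have h1 := hgm ⟨x, hxS⟩
  have e1 : (((⟨a, haF⟩ : F.autGroup S) ^
      ((autInducedBy S S).subgroupOf (F.autGroup S)).index : F.autGroup S) : MulAut S) =
      a ^ ((autInducedBy S S).subgroupOf (F.autGroup S)).index := rfl
  rw [e1, hpow] at h1
  have e2 : g * x * g⁻¹ = x := by rw [← hxc g hg, mul_inv_cancel_right]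
  have h2 : (⟨_, hzS⟩ : S) ^ ((autInducedBy S S).subgroupOf (F.autGroup S)).index = 1 := by
    apply Subtype.ext
    have h3 : x * (((⟨_, hzS⟩ : S) ^ ((autInducedBy S S).subgroupOf (F.autGroup S)).index : S) : Ω)
        = x := h1.trans e2
    exact mul_left_cancel (h3.trans (mul_one x).symm)
  obtain ⟨k, hk⟩ := hS ⟨_, hzS⟩
  have hd1 : orderOf (⟨_, hzS⟩ : S) ∣ ((autInducedBy S S).subgroupOf (F.autGroup S)).index :=
    orderOf_dvd_of_pow_eq_one h2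
  have hd2 : orderOf (⟨_, hzS⟩ : S) ∣ p ^ k := orderOf_dvd_of_pow_eq_one hk
  have hcop : Nat.Coprime (p ^ k) ((autInducedBy S S).subgroupOf (F.autGroup S)).index :=
    Nat.Coprime.pow_left k ((Nat.Prime.coprime_iff_not_dvd Fact.out).mpr hidx)
  have h4 : orderOf (⟨_, hzS⟩ : S) = 1 :=
    Nat.Coprime.eq_one_of_dvd (Nat.Coprime.coprime_dvd_left hd2 hcop) hd1
  have h5 : (⟨_, hzS⟩ : S) = 1 := orderOf_eq_one_iff.mp h4
  have h6 : x⁻¹ * φ ⟨x, Subgroup.mem_zpowers x⟩ = 1 := congrArg (fun s : S => (s : Ω)) h5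
  calc φ ⟨x, Subgroup.mem_zpowers x⟩ = x * (x⁻¹ * φ ⟨x, Subgroup.mem_zpowers x⟩) := by group
    _ = x := by rw [h6, mul_one]

/-- Grün's lemma for fusion systems: the factor system of a perfect saturated fusion system modulo
its centre has trivial centre. -/
theorem center_factor_eq_bot [Finite S] [Finite S'] (p : ℕ) [Fact p.Prime] (hS : IsPGroup p S)
    (F : FusionSystem S) (hF : F.IsSaturated p) (hperf : F.hyperfocalSubgroup p = S)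
    (E : FusionSystem S') (θ : S →* Ω') (hE : F.IsFactorSystem F.center θ E) : E.center = ⊥ := by
  have hZ : F.IsCentral F.center := Cfsg.Agent.S5144.result F
  have hW' : E.IsCentral E.center := Cfsg.Agent.S5144.result E
  have hWc : F.IsCentral (preimageAlong θ E.center) := by
    refine (Cfsg.Agent.S5084.result p hS F hF _).mpr ⟨preimageAlong_le _ _, ?_⟩
    rintro x hxW y ⟨φ, hφ, rfl⟩
    obtain ⟨hxS, hx⟩ := mem_preimageAlong.mp hxW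
    exact fixed_of_lift_central p hS F hF E θ hZ hE hW' hxS hx
      (lift_central_comm p F E θ hZ hE hW' hperf hxS hx) hφ
  have hWZ : preimageAlong θ E.center ≤ F.center := le_sSup hWc
  obtain ⟨hZS, hker, hrange, -⟩ := hE
  rw [eq_bot_iff]
  intro w hw
  have hwS' : w ∈ θ.range := by rw [hrange]; exact hW'.1 hw
  obtain ⟨s, rfl⟩ := hwS'
  have hsW : (s : Ω) ∈ preimageAlong θ E.center := mem_preimageAlong.mpr ⟨s.2, hw⟩
  exact Subgroup.mem_bot.mpr ((hker s).mpr (hWZ hsW))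

end Cfsg.Agent.Lib.Helper88
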