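import Cfsg.Agent.Lib.Helper88.PFree
import Cfsg.Agent.Lib.Helper87.Alperin
import Cfsg.Agent.Lib.Helper87.AutSystem
import Cfsg.Agent.Lib.Helper87.Lemma26
import Cfsg.Agent.Lib.Helper87.EssentialCrit
import Cfsg.Agent.Lib.Helper87.ConstrainedNormal
import Cfsg.Agent.Lib.Helper87.NormalChain

set_option autoImplicit false

/-!
# Reduction, step 2: automorphisms of a normal subgroup extend to the product with its centralizer
-/

namespace Cfsg.Agent.Lib.Helper88

open Cfsg Cfsg.FusionSystem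
open Cfsg.Agent.Lib.Helper87 (hom_le hom_mem_S subtype_mem inv_exists mem_autGroup_iff finite_of_le
  isConj_refl isConj_symm card_eq_of_isConj)

variable {Ω : Type*} [Group Ω] {S : Subgroup Ω}

/-- a map of the system from `M` into `M` is an automorphism of the system -/
theorem exists_aut_of_hom [Finite S] (F : FusionSystem S) {M : Subgroup Ω} {ψ : M →* Ω}
    (hψ : ψ ∈ F.Hom M) (h : ∀ x : M, ψ x ∈ M) :
    ∃ γ : MulAut M, γ ∈ F.autGroup M ∧ ∀ x : M, ((γ x : M) : Ω) = ψ x := by
  have hM : M ≤ S := hom_le F hψ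
  have : Finite M := finite_of_le hM
  have hinj : Function.Injective (ψ.codRestrict M h) := by
    intro a b hab
    apply F.injective_of_mem hψ
    exact congrArg (fun z : M => (z : Ω)) hab
  have hbij : Function.Bijective (ψ.codRestrict M h) :=
    ⟨hinj, Finite.injective_iff_surjective.mp hinj⟩
  refine ⟨MulEquiv.ofBijective (ψ.codRestrict M h) hbij, ?_, fun x => rfl⟩
  rw [mem_autGroup_iff F hM]
  have e : M.subtype.comp (MulEquiv.ofBijective (ψ.codRestrict M h) hbij).toMonoidHom = ψ := by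
    ext x
    rfl
  rw [e]
  exact hψ

/-- an automorphism of order prime to `p` whose restriction is `β` can be chosen of order prime to
`p` -/
theorem exists_coprime_aut_of_restrict [Finite S] {p : ℕ} [Fact p.Prime] (F : FusionSystem S)
    {Q M : Subgroup Ω} (hQM : Q ≤ M) (hM : M ≤ S) {β : MulAut Q} (hcop : (orderOf β).Coprime p)
    {γ : MulAut M} (hγ : γ ∈ F.autGroup M)
    (hres : ∀ x : Q, ((β x : Q) : Ω) = ((γ ⟨x, hQM x.2⟩ : M) : Ω)) :
    ∃ γ' : MulAut M, γ' ∈ F.autGroup M ∧ (orderOf γ').Coprime p ∧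
      ∀ x : Q, ((β x : Q) : Ω) = ((γ' ⟨x, hQM x.2⟩ : M) : Ω) := by
  have hp : p.Prime := Fact.out
  have : Finite M := finite_of_le hM
  obtain ⟨r, hr1, hr2⟩ := exists_pow_coprime γ (isOfFinOrder_of_finite γ) hp hcop
  refine ⟨γ ^ r, (F.autGroup M).pow_mem hγ r, hr1, fun x => ?_⟩
  have h1 := Cfsg.Agent.Lib.Helper87.res_pow hQM hres r x
  rw [← h1, pow_eq_self_of_modEq (pow_orderOf_eq_one β) hr2]

/-- the normalizer in `S` of a subgroup normalized by `S` -/
theorem normalizerIn_eq_of_le_normalizer {V : Subgroup Ω}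
    (h : S ≤ Subgroup.normalizer (V : Set Ω)) : normalizerIn S V = S :=
  le_antisymm inf_le_left (le_inf le_rfl h)

/-- **Step 2.** If `Q` is normal in the saturated system and the normalizer system of `Q C_S(Q)` has no
nontrivial automorphisms of order prime to `p`, then neither has `Aut_F(Q)`. -/
theorem aut_free_of_nFree_sup_centralizer [Finite S] {p : ℕ} [Fact p.Prime] (hS : IsPGroup p S)
    (F : FusionSystem S) (hF : F.IsSaturated p) {Q : Subgroup Ω} (hQn : F.IsNormal Q)
    (hfree : NFree F p (Q ⊔ centralizerIn S Q)) :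
    ∀ β ∈ F.autGroup Q, (orderOf β).Coprime p → β = 1 := by
  intro β hβ hcop
  have hQS : Q ≤ S := hQn.1
  have hSN : S ≤ Subgroup.normalizer (Q : Set Ω) :=
    Cfsg.Agent.Lib.Helper87.stronglyClosed_le_normalizer F
      (Cfsg.Agent.Lib.Helper87.stronglyClosed_of_isNormal F hQn)
  have hfn : F.IsFullyNormalized Q :=
    Cfsg.Agent.Lib.Helper87.fullyNormalized_of_le_normalizer F hQS hSN
  have hrec : F.IsReceptive Q := Cfsg.Agent.Lib.Helper87.receptive_of_fullyNormalized hS F hF hfn
  set M := Q ⊔ centralizerIn S Q with hMdef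
  have hMS : M ≤ S := sup_le hQS inf_le_left
  have hQM : Q ≤ M := le_sup_left
  have hφ : Q.subtype.comp β.toMonoidHom ∈ F.Hom Q := (mem_autGroup_iff F hQS β).mp hβ
  have hr : (Q.subtype.comp β.toMonoidHom).range = Q := by
    ext y
    constructor
    · rintro ⟨x, rfl⟩
      exact (β x).2
    · intro hy
      exact ⟨β.symm ⟨y, hy⟩, by simp⟩
  have hM : M ≤ extender S Q (Q.subtype.comp β.toMonoidHom) :=
    sup_le (Cfsg.Agent.Lib.Helper87.self_le_extender F hφ)
      (Cfsg.Agent.Lib.Helper87.centralizerIn_le_extender' Q _)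
  obtain ⟨ψ, hψ, hψe⟩ := Cfsg.Agent.Lib.Helper87.extend_to_sub F hφ hr hrec hM
  have hψQ : ∀ x : Q, ψ ⟨x, hQM x.2⟩ = ((β x : Q) : Ω) := fun x => hψe x x.2 (hQM x.2)
  -- `ψ` maps `M` into `M`
  have hψM : ∀ x : M, ψ x ∈ M := by
    have htop : (⊤ : Subgroup M) ≤ M.comap ψ := by
      have h1 : (⊤ : Subgroup M) = Q.subgroupOf M ⊔ (centralizerIn S Q).subgroupOf M := by
        rw [← Subgroup.subgroupOf_sup le_sup_left le_sup_right, Subgroup.subgroupOf_self]
      rw [h1]
      apply sup_le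
      · intro x hx
        rw [Subgroup.mem_subgroupOf] at hx
        show ψ x ∈ M
        have : x = ⟨(⟨x, hx⟩ : Q), hQM hx⟩ := rfl
        rw [this, hψQ]
        exact hQM (β _).2
      · intro x hx
        rw [Subgroup.mem_subgroupOf] at hx
        show ψ x ∈ M
        apply (le_sup_right : centralizerIn S Q ≤ M)
        refine ⟨hom_mem_S F hψ x, ?_⟩
        show ψ x ∈ Subgroup.centralizer (Q : Set Ω)
        rw [Subgroup.mem_centralizer_iff]
        intro q hq
        -- `q = β q'`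
        have hq' : q = ψ ⟨(β.symm ⟨q, hq⟩ : Q), hQM (β.symm ⟨q, hq⟩).2⟩ := by
          rw [hψQ]
          simp
        rw [hq', ← map_mul, ← map_mul]
        congr 1
        apply Subtype.ext
        have h2 : (x : Ω) ∈ Subgroup.centralizer (Q : Set Ω) := hx.2
        rw [Subgroup.mem_centralizer_iff] at h2
        exact h2 _ (β.symm ⟨q, hq⟩).2
    intro x
    exact htop (Subgroup.mem_top x)
  obtain ⟨γ, hγ, hγψ⟩ := exists_aut_of_hom F hψ hψM
  have hres : ∀ x : Q, ((β x : Q) : Ω) = ((γ ⟨x, hQM x.2⟩ : M) : Ω) := by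
    intro x
    rw [hγψ, hψQ]
  obtain ⟨γ', hγ', hcop', hres'⟩ := exists_coprime_aut_of_restrict F hQM hMS hcop hγ hres
  have hMN : M ≤ normalizerIn S M := fun x hx => ⟨hMS hx, Subgroup.le_normalizer hx⟩
  have h1 := hfree M le_rfl hMN γ' hγ' (fun x _ => (γ' x).2) hcop'
  ext x
  rw [hres' x, h1]
  rfl

end Cfsg.Agent.Lib.Helper88
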