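import Mathlib
import Cfsg.Agent.Lib.Helper59.MiDsDefs

/-! MI-DS sub-hive (owner helper59) of the Mi hive (S2140, owner helper81): leaf MI-DS-CONJ `ds_conj` (helper88). -/

set_option autoImplicit false

namespace Cfsg.Agent.Lib.Helper81.Mi

open Matrix

section bridge

variable {F : Type*} [Field F] {n : ℕ}

/-- MI-DS-CONJ (E/M, matrix identity; `tv1_tmat_mul`, `coe_tv`, `tv_inv` from Helper43.MiTV1):
`(1 + x'ψᵀ)(1 + e0 φᵀ)(1 - x'ψᵀ) = 1 + e0 (φ - (φ·x') ψ)ᵀ` when `ψ·e0 = 0 = ψ·x'`, `φ·e0 = 0`. -/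
theorem ds_conj (x' ψ φ : Fin n → F) (h1 : ψ ⬝ᵥ e0 F n = 0) (h2 : ψ ⬝ᵥ x' = 0)
    (h3 : φ ⬝ᵥ e0 F n = 0) :
    tv x' ψ * tv (e0 F n) φ * (tv x' ψ)⁻¹ = tv (e0 F n) (φ - (φ ⬝ᵥ x') • ψ) := by
  have h2' : (-ψ) ⬝ᵥ x' = 0 := by rw [neg_dotProduct, h2, neg_zero]
  have h4 : (φ - (φ ⬝ᵥ x') • ψ) ⬝ᵥ e0 F n = 0 := by
    rw [sub_dotProduct, smul_dotProduct, h1, h3, smul_zero, sub_zero]
  rw [tv_inv]
  apply Subtype.ext
  apply Matrix.mulVec_injective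
  funext y
  show ((tv x' ψ * tv (e0 F n) φ * tv x' (-ψ) : SLn n F) : Matrix (Fin n) (Fin n) F) *ᵥ y =
    ((tv (e0 F n) (φ - (φ ⬝ᵥ x') • ψ) : SLn n F) : Matrix (Fin n) (Fin n) F) *ᵥ y
  rw [Matrix.SpecialLinearGroup.coe_mul, Matrix.SpecialLinearGroup.coe_mul, ← Matrix.mulVec_mulVec,
    ← Matrix.mulVec_mulVec, tv_mulVec _ _ _ h2', tv_mulVec _ _ _ h3, tv_mulVec _ _ _ h2, tv_mulVec _ _ _ h4]
  simp only [dotProduct_add, dotProduct_smul, neg_dotProduct, sub_dotProduct, smul_dotProduct, h1, h2, h3,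
    smul_eq_mul, mul_zero, add_zero, neg_zero, zero_mul]
  ext i
  simp only [Pi.add_apply, Pi.smul_apply, smul_eq_mul, Pi.neg_apply]
  ring

end bridge

end Cfsg.Agent.Lib.Helper81.Mi
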