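import Mathlib
import Cfsg.Agent.Lib.Helper59.MiDsDefs

/-! MI-DS sub-hive (owner helper59) of the Mi hive (S2140, owner helper81): leaf MI-DS-LINE `ds_line` (helper88). -/

set_option autoImplicit false

namespace Cfsg.Agent.Lib.Helper81.Mi

open Matrix

section abstract

variable {F V : Type*} [Field F] [Finite F] [AddCommGroup V] [Module F V] [Finite V]
  {p : ℕ} [Fact p.Prime] [CharP F p]

/-- MI-DS-LINE (M/H, the subspace argument). -/
theorem ds_line (lam : F →+ ZMod p) (hlam : ∀ a : F, a ≠ 0 → ∃ b : F, lam (a * b) ≠ 0)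
    (A : AddSubgroup V) (hidx : A.index = Nat.card F)
    (hX : Nat.card {x : Module.Dual F V // A ≤ dsM lam x} = Nat.card F)
    (hinv : ∀ (x : Module.Dual F V) (ψ : V), x ψ = 0 → A ≤ dsM lam x → A.map (dsTau x ψ) = A) :
    ∃ x : Module.Dual F V, x ≠ 0 ∧ ∀ φ : V, φ ∈ A ↔ x φ = 0 := by
  classical
  have hq : 1 < Nat.card F := Finite.one_lt_card
  haveI : Finite {x : Module.Dual F V // A ≤ dsM lam x} :=
    Nat.finite_of_card_ne_zero (by rw [hX]; omega)
  haveI : Nontrivial {x : Module.Dual F V // A ≤ dsM lam x} :=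
    Finite.one_lt_card_iff_nontrivial.mp (by rw [hX]; exact hq)
  obtain ⟨a, b, hab⟩ := exists_pair_ne {x : Module.Dual F V // A ≤ dsM lam x}
  -- a non-zero element `x₀` of `X`
  obtain ⟨x₀, hx₀X, hx₀⟩ : ∃ x₀ : Module.Dual F V, A ≤ dsM lam x₀ ∧ x₀ ≠ 0 := by
    by_cases ha : a.1 = 0
    · refine ⟨b.1, b.2, ?_⟩
      intro hb
      exact hab (Subtype.ext (ha.trans hb.symm))
    · exact ⟨a.1, a.2, ha⟩
  -- `v₀` with `x₀ v₀ = 1`
  obtain ⟨v₀, hv₀⟩ : ∃ v₀ : V, x₀ v₀ = 1 := by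
    have : ∃ v, x₀ v ≠ 0 := by
      by_contra hcon
      push_neg at hcon
      exact hx₀ (LinearMap.ext hcon)
    obtain ⟨v, hv⟩ := this
    exact ⟨(x₀ v)⁻¹ • v, by rw [map_smul, smul_eq_mul, inv_mul_cancel₀ hv]⟩
  -- Claim 1
  have claim1 : ∀ y : Module.Dual F V, A ≤ dsM lam y → ∀ ψ : V, x₀ ψ = 0 →
      A ≤ dsM lam (y ψ • x₀) := by
    intro y hy ψ hψ φ hφ
    rw [mem_dsM]
    have h1 : dsTau x₀ ψ φ ∈ A := by
      rw [← hinv x₀ ψ hψ hx₀X]
      exact AddSubgroup.mem_map_of_mem _ hφ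
    have h2 := (mem_dsM lam y _).mp (hy h1)
    have h3 := (mem_dsM lam y _).mp (hy hφ)
    rw [dsTau_apply, map_sub, map_smul, smul_eq_mul, map_sub, h3, zero_sub, neg_eq_zero] at h2
    rw [LinearMap.smul_apply, smul_eq_mul, mul_comm]
    exact h2
  -- all multiples of `x₀` lie in `X`
  have hall : ∀ c : F, A ≤ dsM lam (c • x₀) := by
    by_cases hcase : ∃ y : Module.Dual F V, A ≤ dsM lam y ∧ ∃ ψ : V, x₀ ψ = 0 ∧ y ψ ≠ 0
    · obtain ⟨y, hy, ψ, hψ, hyψ⟩ := hcase
      intro c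
      have := claim1 y hy ((c / y ψ) • ψ) (by rw [map_smul, hψ, smul_zero])
      rwa [map_smul, smul_eq_mul, div_mul_cancel₀ _ hyψ] at this
    · push_neg at hcase
      have hmult : ∀ y : {x : Module.Dual F V // A ≤ dsM lam x}, y.1 = (y.1 v₀) • x₀ := by
        intro y
        apply LinearMap.ext
        intro φ
        have h0 : x₀ (φ - x₀ φ • v₀) = 0 := by
          rw [map_sub, map_smul, hv₀, smul_eq_mul, mul_one, sub_self]
        have h1 := hcase y.1 y.2 _ h0
        rw [map_sub, map_smul, smul_eq_mul, sub_eq_zero] at h1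
        rw [LinearMap.smul_apply, smul_eq_mul, h1, mul_comm]
      let g : {x : Module.Dual F V // A ≤ dsM lam x} → F := fun y => y.1 v₀
      have ginj : Function.Injective g := by
        intro y y' hyy'
        apply Subtype.ext
        rw [hmult y, hmult y']
        show (g y) • x₀ = (g y') • x₀
        rw [hyy']
      have gbij := ginj.bijective_of_nat_card_le (by rw [hX])
      intro c
      obtain ⟨y, hy⟩ := gbij.2 c
      have hy2 := y.2
      rw [hmult y] at hy2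
      change A ≤ dsM lam (g y • x₀) at hy2
      rwa [hy] at hy2
  -- `A ≤ ker x₀`
  have hker : ∀ φ ∈ A, x₀ φ = 0 := by
    intro φ hφ
    by_contra hne
    obtain ⟨b, hb⟩ := hlam _ hne
    have := (mem_dsM lam _ _).mp (hall b hφ)
    rw [LinearMap.smul_apply, smul_eq_mul, mul_comm] at this
    exact hb this
  -- equality by index
  refine ⟨x₀, hx₀, fun φ => ⟨hker φ, fun hφ => ?_⟩⟩
  have hAK : A ≤ (x₀ : V →ₗ[F] F).toAddMonoidHom.ker := fun φ hφ =>
    (AddMonoidHom.mem_ker).mpr (hker φ hφ)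
  have hKidx : ((x₀ : V →ₗ[F] F).toAddMonoidHom.ker).index = Nat.card F := by
    rw [AddSubgroup.index_ker]
    have hr : (x₀ : V →ₗ[F] F).toAddMonoidHom.range = ⊤ := by
      rw [AddMonoidHom.range_eq_top]
      intro c
      refine ⟨c • v₀, ?_⟩
      show x₀ (c • v₀) = c
      rw [map_smul, hv₀, smul_eq_mul, mul_one]
    rw [hr, AddSubgroup.card_top]
  have hrel := AddSubgroup.relIndex_mul_index hAK
  rw [hKidx, hidx] at hrel
  have h1 : A.relIndex ((x₀ : V →ₗ[F] F).toAddMonoidHom.ker) = 1 := by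
    have hpos : 0 < Nat.card F := by omega
    exact Nat.eq_of_mul_eq_mul_right hpos (by rw [hrel, one_mul])
  exact (AddSubgroup.relIndex_eq_one.mp h1) ((AddMonoidHom.mem_ker).mpr hφ)

end abstract

end Cfsg.Agent.Lib.Helper81.Mi
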