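import Cfsg.Agent.Lib.Helper6.Ls.Defs
import Cfsg.Agent.Lib.Helper6.SzLS1

/-!
# Ls hive (S2334 + S2335), leaf AB-HEIS
-/

set_option autoImplicit false
set_option linter.style.haveILetI false

namespace Cfsg.Agent.Lib.Helper6.Ls

open Module Cfsg.Agent.Lib.Helper99

section abstract

variable {G : Type*} [Group G] [Finite G] {W : Type*} [AddCommGroup W] [Module ℂ W]
  [FiniteDimensional ℂ W]

omit [Finite G] [FiniteDimensional ℂ W] in
theorem abheis_mem_eigIn (ρ : Representation ℂ G W) (Z : Subgroup G) (lam : G → ℂ)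
    (U : Submodule ℂ W) (w : W) :
    w ∈ eigIn ρ Z lam U ↔ w ∈ U ∧ ∀ z ∈ Z, ρ z w = lam z • w := by
  unfold eigIn
  simp only [Submodule.mem_inf, Submodule.mem_iInf, LinearMap.mem_ker, LinearMap.sub_apply,
    LinearMap.smul_apply, Module.End.one_apply, sub_eq_zero, Subtype.forall]

omit [Finite G] [FiniteDimensional ℂ W] in
theorem abheis_rho_inv (ρ : Representation ℂ G W) (g : G) (w : W) : ρ g⁻¹ (ρ g w) = w := by
  rw [← Module.End.mul_apply, ← map_mul, inv_mul_cancel, map_one, Module.End.one_apply]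

/-- AB-HEIS -/
theorem heis_bound (ρ : Representation ℂ G W) (U : Submodule ℂ W) (Z Q1 : Subgroup G) (hZQ : Z ≤ Q1)
    (hQ1 : ∀ a ∈ Q1, ∀ b ∈ Q1, a * b = b * a)
    {ι : Type*} [Fintype ι] (y : ι → G) (hyZ : ∀ i, ∀ z ∈ Z, y i * z = z * y i)
    (hy : ∀ i, ∀ a ∈ Q1, (y i)⁻¹ * a * y i * a⁻¹ ∈ Z)
    (hsep : ∀ i j, i ≠ j → ∀ z ∈ Z, ∃ a ∈ Q1, (y i)⁻¹ * a * y i * ((y j)⁻¹ * a * y j)⁻¹ = z)
    (hUQ : ∀ a ∈ Q1, Stable ρ a U) (hUy : ∀ i, Stable ρ (y i) U)
    (lam : G → ℂ) (hlam : ∃ z ∈ Z, lam z ≠ 1) (hne : eigIn ρ Z lam U ≠ ⊥) :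
    Fintype.card ι ≤ finrank ℂ (eigIn ρ Z lam U) := by
  classical
  set E := eigIn ρ Z lam U with hE
  -- stability of `E`
  have hEQ : ∀ a ∈ Q1, ∀ w ∈ E, ρ a w ∈ E := by
    intro a ha w hw
    rw [hE, abheis_mem_eigIn] at hw ⊢
    refine ⟨hUQ a ha w hw.1, fun z hz => ?_⟩
    rw [← Module.End.mul_apply, ← map_mul, hQ1 z (hZQ hz) a ha, map_mul, Module.End.mul_apply,
      hw.2 z hz, map_smul]
  have hEy : ∀ i, ∀ w ∈ E, ρ (y i) w ∈ E := by
    intro i w hw
    rw [hE, abheis_mem_eigIn] at hw ⊢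
    refine ⟨hUy i w hw.1, fun z hz => ?_⟩
    rw [← Module.End.mul_apply, ← map_mul, ← hyZ i z hz, map_mul, Module.End.mul_apply,
      hw.2 z hz, map_smul]
  -- a common eigenvector
  haveI : Fintype Q1 := Fintype.ofFinite _
  obtain ⟨v, hvE, hv0, hv⟩ := Cfsg.Agent.Lib.Helper6.SzLS.exists_common_eigenvector
    (fun a : Q1 => (ρ (a : G) : End ℂ W))
    (fun a b => by
      show ρ (a : G) * ρ (b : G) = ρ (b : G) * ρ (a : G)
      rw [← map_mul, ← map_mul, hQ1 a a.2 b b.2])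
    Finset.univ E hne (fun a w hw => hEQ a a.2 w hw)
  have hv' : ∀ a : Q1, ∃ μ : ℂ, ρ (a : G) v = μ • v := fun a => hv a (Finset.mem_univ a)
  choose μ hμ using hv'
  have hvE' := (abheis_mem_eigIn ρ Z lam U v).mp hvE
  -- `lam` on `Z`
  have hlam_ne : ∀ z ∈ Z, lam z ≠ 0 := by
    intro z hz h0
    have h1 := hvE'.2 z hz
    rw [h0, zero_smul] at h1
    have h2 := abheis_rho_inv ρ z v
    rw [h1, map_zero] at h2
    exact hv0 h2.symm
  have hlam_mul : ∀ z ∈ Z, ∀ z' ∈ Z, lam (z * z') = lam z * lam z' := by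
    intro z hz z' hz'
    have h1 := hvE'.2 (z * z') (Z.mul_mem hz hz')
    rw [map_mul, Module.End.mul_apply, hvE'.2 z' hz', map_smul, hvE'.2 z hz, smul_smul] at h1
    have h2 : (lam z' * lam z - lam (z * z')) • v = 0 := by rw [sub_smul, h1, sub_self]
    rcases smul_eq_zero.mp h2 with h3 | h3
    · rw [mul_comm]; exact (sub_eq_zero.mp h3).symm
    · exact absurd h3 hv0
  have hμ_ne : ∀ a : Q1, μ a ≠ 0 := by
    intro a h0
    have h1 := hμ a
    rw [h0, zero_smul] at h1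
    have h2 := abheis_rho_inv ρ (a : G) v
    rw [h1, map_zero] at h2
    exact hv0 h2.symm
  -- the translates
  set χ : ι → (Q1 → ℂ) := fun i a => μ a * lam ((y i)⁻¹ * (a : G) * y i * (a : G)⁻¹) with hχ
  have hvi : ∀ i, ∀ a : Q1, ρ (a : G) (ρ (y i) v) = χ i a • ρ (y i) v := by
    intro i a
    have hζ := hy i a a.2
    have e1 : (a : G) * y i = y i * (((y i)⁻¹ * (a : G) * y i * (a : G)⁻¹) * (a : G)) := by group
    rw [← Module.End.mul_apply, ← map_mul, e1, map_mul, map_mul, Module.End.mul_apply,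
      Module.End.mul_apply, hμ a, map_smul, hvE'.2 _ hζ, smul_smul, map_smul]
  have hvi0 : ∀ i, ρ (y i) v ≠ 0 := by
    intro i h0
    have h2 := abheis_rho_inv ρ (y i) v
    rw [h0, map_zero] at h2
    exact hv0 h2.symm
  have hχinj : Function.Injective χ := by
    intro i j hij
    by_contra hne'
    obtain ⟨z0, hz0, hz01⟩ := hlam
    obtain ⟨a, ha, hsa⟩ := hsep i j hne' z0 hz0
    have h1 := congrFun hij ⟨a, ha⟩
    simp only [hχ] at h1
    have h2 := mul_left_cancel₀ (hμ_ne ⟨a, ha⟩) h1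
    have hζi := hy i a ha
    have hζj := hy j a ha
    have e1 : (y i)⁻¹ * a * y i * a⁻¹ = z0 * ((y j)⁻¹ * a * y j * a⁻¹) := by
      rw [← hsa]; group
    rw [e1, hlam_mul z0 hz0 _ hζj] at h2
    have h3 : lam z0 = 1 := by
      have := mul_right_cancel₀ (hlam_ne _ hζj) (h2.trans (one_mul _).symm)
      exact this
    exact hz01 h3
  -- independence
  have hind := Module.End.independent_iInf_maxGenEigenspace_of_forall_mapsTo
    (fun a : Q1 => (ρ (a : G) : End ℂ W))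
    (fun a b φ => Module.End.mapsTo_maxGenEigenspace_of_comm
      (show Commute (ρ (b : G)) (ρ (a : G)) by
        show ρ (b : G) * ρ (a : G) = ρ (a : G) * ρ (b : G)
        rw [← map_mul, ← map_mul, hQ1 a a.2 b b.2]) φ)
  have hind' := hind.comp hχinj
  have hli : LinearIndependent ℂ (fun i => ρ (y i) v) := by
    refine iSupIndep.linearIndependent _ hind' (fun i => ?_) hvi0
    simp only [Function.comp_apply, Submodule.mem_iInf]
    intro a
    refine (Module.End.genEigenspace (ρ (a : G)) (χ i a)).monotone (le_top : (1 : ℕ∞) ≤ ⊤) ?_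
    rw [Module.End.mem_genEigenspace_one]
    exact hvi i a
  have hspan : Submodule.span ℂ (Set.range fun i => ρ (y i) v) ≤ E := by
    rw [Submodule.span_le]
    rintro _ ⟨i, rfl⟩
    exact hEy i v hvE
  calc Fintype.card ι = finrank ℂ (Submodule.span ℂ (Set.range fun i => ρ (y i) v)) :=
        (finrank_span_eq_card hli).symm
    _ ≤ finrank ℂ E := Submodule.finrank_mono hspan

end abstract

end Cfsg.Agent.Lib.Helper6.Ls
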