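import Cfsg.Agent.Lib.Helper72.E6gDefs

/-!
# E6g mini-hive (S2406, helper72), leaf E6G-NCONJ: powers of the Coxeter lift `nE` and their conjugation action on
root and torus elements of `E₆(K)`.
-/

set_option autoImplicit false

namespace Cfsg.Agent.Lib.Helper72.E6g

open Cfsg Cfsg.Lie Cfsg.Agent.Lib.Helper36

variable {K : Type*} [Field K]

theorem e6gnconj_rank : chevE6.rank = 6 := by decide +kernel

theorem e6gnconj_nroots : chevE6.nroots = 72 := by decide +kernel

theorem e6gnconj_lk_lt (k : ℕ) : ∀ i ∈ lk k, i < chevE6.rank := by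
  intro i hi
  unfold lk at hi
  rw [List.mem_flatten] at hi
  obtain ⟨l, hl, hil⟩ := hi
  rw [List.eq_of_mem_replicate hl] at hil
  rw [e6gnconj_rank]
  unfold l0 at hil
  simp only [List.mem_cons, List.not_mem_nil, or_false] at hil
  omega

theorem e6gnconj_replicate (l : List ℕ) (n : ℕ) :
    nWordGL chevE6 hE6 K (List.replicate n l).flatten = (nWordGL chevE6 hE6 K l) ^ n := by
  induction n with
  | zero => simp [nWordGL]
  | succ n ih =>
    rw [List.replicate_succ, List.flatten_cons, pow_succ', ← ih]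
    unfold nWordGL
    rw [List.map_append, List.prod_append]

/-- E6G-NCONJ (1): `n^k = nWordGL (lk k)` -/
theorem nE_pow (k : ℕ) : nE K ^ k = nWordGL chevE6 hE6 K (lk k) := by
  unfold nE lk
  exact (e6gnconj_replicate l0 k).symm

/-- E6G-NCONJ (2) -/
theorem nE_pow_conj_x (k r : ℕ) (hr : r < 72) (t : K) :
    nE K ^ k * xe K r t * (nE K ^ k)⁻¹ = xe K (wRoot chevE6 (lk k) r) (((wSign chevE6 (lk k) r : ℤ) : K) * t) := by
  rw [nE_pow]
  exact nWordGL_conj_sign chevE6 hE6 K (lk k) (e6gnconj_lk_lt k) r (by rw [e6gnconj_nroots]; exact hr) t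

/-- E6G-NCONJ (3) -/
theorem nE_pow_conj_h (k r : ℕ) (hr : r < 72) (c : K) (hc : c ≠ 0) :
    nE K ^ k * he K r c * (nE K ^ k)⁻¹ = he K (wRoot chevE6 (lk k) r) c := by
  rw [nE_pow]
  exact nWordGL_conj_hGL chevE6 hE6 K (lk k) (e6gnconj_lk_lt k) r (by rw [e6gnconj_nroots]; exact hr) c hc

end Cfsg.Agent.Lib.Helper72.E6g
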