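import Cfsg.Agent.Lib.Helper88.FamRes2

/-!
# The residual construction relative to a family of centric subgroups, part 3: invariance
-/

set_option autoImplicit false

namespace Cfsg.Agent.Lib.Helper88

open Cfsg Cfsg.FusionSystem
open Cfsg.Agent.Lib.Helper87 (restrict_mem hom_le hom_mem_S subtype_mem)

variable {Ω : Type*} [Group Ω] {S : Subgroup Ω}

theorem img_self (γ : MulAut S) : img γ S = S := by
  apply le_antisymm (img_le γ S)
  intro x hx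
  refine mem_img.mpr ⟨γ⁻¹ ⟨x, hx⟩, (γ⁻¹ ⟨x, hx⟩).2, ?_⟩
  rw [MulAut.apply_inv_self]

/-- an automorphism of `S` all of whose `Aut_F(S)`-conjugates lie in `E` lies in the invariant
core -/
theorem aut_mem_invCore (E F : FusionSystem S) (α : MulAut S)
    (h : ∀ γ ∈ F.autGroup S, γ * α * γ⁻¹ ∈ E.autGroup S) : α ∈ (invCore E F).autGroup S := by
  rw [Cfsg.Agent.Lib.Helper87.mem_autGroup_iff (invCore E F) le_rfl]
  have h1 : α ∈ E.autGroup S := by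
    have := h 1 (F.autGroup S).one_mem
    simpa using this
  refine ⟨(Cfsg.Agent.Lib.Helper87.mem_autGroup_iff E le_rfl α).mp h1, fun γ hγ => ?_⟩
  have hβ := (Cfsg.Agent.Lib.Helper87.mem_autGroup_iff E le_rfl _).mp (h γ hγ)
  obtain ⟨χ, hχ, hχe⟩ := Cfsg.Agent.Lib.Helper84.exists_hom_of_eq E hβ (img_self γ)
  refine ⟨χ, hχ, fun x hx hφx hαx => ?_⟩
  rw [hχe _ hαx (γ ⟨x, hx⟩).2]
  show (((γ * α * γ⁻¹) ⟨((γ ⟨x, hx⟩ : S) : Ω), (γ ⟨x, hx⟩).2⟩ : S) : Ω) = _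
  have e1 : (⟨((γ ⟨(x : Ω), hx⟩ : S) : Ω), (γ ⟨x, hx⟩).2⟩ : S) = γ ⟨x, hx⟩ := Subtype.ext rfl
  rw [e1, MulAut.mul_apply, MulAut.mul_apply, MulAut.inv_apply_self]
  congr 2

variable {p : ℕ} {F : FusionSystem S} {ℋ : Set (Subgroup Ω)} {N : Subgroup (MulAut S)}

theorem invCore_famRes_mem (hfam : Fam p F ℋ N) :
    invCore (famRes p F ℋ N) F ∈ famClass p F ℋ N := by
  have hℋS : ∀ P ∈ ℋ, P ≤ S := fun P hP => (hfam.centric P hP).1
  refine ⟨fun P hP => pGen_le_invCore_autGroup_fam hℋS hfam.conj (famRes_pGen hfam) hP, ?_, ?_⟩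
  · intro α hα P hP hPH hres
    apply aut_mem_invCore
    intro γ hγ
    have hγαγ : γ * α * γ⁻¹ ∈ F.autGroup S :=
      (F.autGroup S).mul_mem ((F.autGroup S).mul_mem hγ hα) ((F.autGroup S).inv_mem hγ)
    obtain ⟨χ, hχ, hχc⟩ := hres.2 γ hγ
    have he := imgEquiv_isIso F hγ hP
    have hP'H : img γ P ∈ ℋ :=
      hfam.conj P hPH _ ((Cfsg.Agent.Lib.Helper84.isConj_iff_exists_iso F).mpr ⟨_, he⟩)
    refine famRes_resClosed p F ℋ N _ hγαγ (img γ P) (img_le γ P) hP'H ?_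
    have : resAutHom (γ * α * γ⁻¹) (img γ P) (img_le γ P) = χ := by
      ext ⟨y, hy⟩
      obtain ⟨x₀, hx₀, hx₀y⟩ := mem_img.mp hy
      have hφS : resAutHom α P hP ⟨x₀, hx₀⟩ ∈ S := (α _).2
      have hmem : ((γ ⟨((⟨x₀, hx₀⟩ : P) : Ω), x₀.2⟩ : S) : Ω) ∈ img γ P :=
        mem_img.mpr ⟨x₀, hx₀, rfl⟩
      have h1 := hχc ⟨x₀, hx₀⟩ x₀.2 hφS hmem
      have e1 : (⟨y, hy⟩ : img γ P) = ⟨((γ ⟨((⟨x₀, hx₀⟩ : P) : Ω), x₀.2⟩ : S) : Ω), hmem⟩ :=
        Subtype.ext hx₀y.symm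
      rw [e1, h1, resAutHom_apply]
      show (((γ * α * γ⁻¹) ⟨((γ x₀ : S) : Ω), _⟩ : S) : Ω) = _
      have e2 : (⟨((γ x₀ : S) : Ω), img_le γ P hmem⟩ : S) = γ x₀ := Subtype.ext rfl
      rw [e2, MulAut.mul_apply, MulAut.mul_apply, MulAut.inv_apply_self]
      rfl
    rw [this]
    exact hχ
  · intro ν hν
    apply aut_mem_invCore
    intro γ hγ
    exact famRes_N hfam (hfam.hNn γ hγ ν hν)

/-- the relative residual is invariant under `Aut_F(S)` -/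
theorem famRes_invProp (hfam : Fam p F ℋ N) : InvProp (famRes p F ℋ N) F := by
  intro P hPS φ hφ α hα
  have h1 : φ ∈ (invCore (famRes p F ℋ N) F).Hom P :=
    famRes_le_of_mem (invCore_famRes_mem hfam) P hφ
  obtain ⟨χ, hχ, hc⟩ := h1.2 α hα
  exact ⟨χ, hχ, fun x hφx hαx => hc x (hPS x.2) hφx hαx⟩

/-- the automizer of `S` in the relative residual lies in that of every member of the class -/
theorem famRes_autGroup_le {D : FusionSystem S} (hD : D ∈ famClass p F ℋ N) :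
    (famRes p F ℋ N).autGroup S ≤ D.autGroup S :=
  autGroup_le_of_sub (famRes_le_of_mem hD) S

end Cfsg.Agent.Lib.Helper88
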