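import Cfsg.Agent.Lib.Helper88.Ez_TLAcore
import Cfsg.Prelude.Def_ChevE7

/-! # Ez hive (helper83), leaf T7-LA: `TabLA chevE7` (126 roots, checked in 7 chunks of 18). -/

set_option autoImplicit false

namespace Cfsg.Agent.Lib.Helper83.Ez

open Cfsg Cfsg.Lie Cfsg.Agent.Lib.Helper76.E8m

theorem tla_E7_c0 : tla_chunk chevE7 0 18 = true := by decide +kernel
theorem tla_E7_c1 : tla_chunk chevE7 18 18 = true := by decide +kernel
theorem tla_E7_c2 : tla_chunk chevE7 36 18 = true := by decide +kernel
theorem tla_E7_c3 : tla_chunk chevE7 54 18 = true := by decide +kernel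
theorem tla_E7_c4 : tla_chunk chevE7 72 18 = true := by decide +kernel
theorem tla_E7_c5 : tla_chunk chevE7 90 18 = true := by decide +kernel
theorem tla_E7_c6 : tla_chunk chevE7 108 18 = true := by decide +kernel

theorem tla_E7_nroots : chevE7.nroots = 126 := by decide +kernel

/-- T7-LA -/
theorem tabLA_E7 : TabLA chevE7 := by
  apply tla_spec
  intro a ha
  rw [tla_E7_nroots] at ha
  by_cases h1 : a < 18
  · exact tla_chunk_row chevE7 0 18 tla_E7_c0 a (by omega) (by omega)
  by_cases h2 : a < 36
  · exact tla_chunk_row chevE7 18 18 tla_E7_c1 a (by omega) (by omega)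
  by_cases h3 : a < 54
  · exact tla_chunk_row chevE7 36 18 tla_E7_c2 a (by omega) (by omega)
  by_cases h4 : a < 72
  · exact tla_chunk_row chevE7 54 18 tla_E7_c3 a (by omega) (by omega)
  by_cases h5 : a < 90
  · exact tla_chunk_row chevE7 72 18 tla_E7_c4 a (by omega) (by omega)
  by_cases h6 : a < 108
  · exact tla_chunk_row chevE7 90 18 tla_E7_c5 a (by omega) (by omega)
  · exact tla_chunk_row chevE7 108 18 tla_E7_c6 a (by omega) (by omega)

end Cfsg.Agent.Lib.Helper83.Ez
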