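import Cfsg.Agent.Lib.Helper88.Ez_TLA6
import Cfsg.Agent.Lib.Helper88.Ez_TLA7

/-! # Ez hive (helper83), leaves T7-LA + T6-LA: one import for `tabLA_E7` and `tabLA_E6`. -/
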