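import Mathlib

set_option autoImplicit false

/-!
# Powers of an element of finite order, of order prime to `p`
-/

namespace Cfsg.Agent.Lib.Helper88

/-- for `d` prime to `p`, some power `g ^ r` with `r ≡ 1 (mod d)` has order prime to `p` -/
theorem exists_pow_coprime {G : Type*} [Group G] (g : G) (hg : IsOfFinOrder g) {p : ℕ}
    (hp : p.Prime) {d : ℕ} (hd : d.Coprime p) :
    ∃ r : ℕ, (orderOf (g ^ r)).Coprime p ∧ r ≡ 1 [MOD d] := by
  have hn : orderOf g ≠ 0 := (orderOf_pos_iff.mpr hg).ne'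
  obtain ⟨a, m, hm, hnm⟩ := Nat.exists_eq_pow_mul_and_not_dvd hn p hp.ne_one
  have hcop : (p ^ a).Coprime d := (Nat.Coprime.pow_left a hd.symm)
  -- an inverse of `p ^ a` modulo `d`
  obtain ⟨s, hs⟩ : ∃ s : ℕ, p ^ a * s ≡ 1 [MOD d] := by
    by_cases hd1 : d = 1
    · subst hd1
      exact ⟨0, Nat.modEq_one⟩
    · by_cases hd0 : d = 0
      · subst hd0
        have : p ^ a = 1 := by simpa using hcop
        exact ⟨1, by rw [this]⟩
      · have h1 : 1 < d := by omega
        obtain ⟨s, hs⟩ := Nat.exists_mul_mod_eq_one_of_coprime hcop h1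
        refine ⟨s, ?_⟩
        show p ^ a * s % d = 1 % d
        rw [hs.2, Nat.mod_eq_of_lt h1]
  refine ⟨p ^ a * s, ?_, hs⟩
  have h1 : (g ^ (p ^ a * s)) ^ m = 1 := by
    rw [← pow_mul, mul_right_comm, ← hnm, pow_mul, pow_orderOf_eq_one, one_pow]
  have h2 : orderOf (g ^ (p ^ a * s)) ∣ m := orderOf_dvd_of_pow_eq_one h1
  have h3 : m.Coprime p := ((Nat.Prime.coprime_iff_not_dvd hp).mpr hm).symm
  exact Nat.Coprime.coprime_dvd_left h2 h3

/-- an element whose order is a power of `p` and prime to `p` is trivial -/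
theorem eq_one_of_pow_of_coprime {G : Type*} [Group G] {g : G} {p : ℕ} {k : ℕ}
    (h1 : g ^ p ^ k = 1) (h2 : (orderOf g).Coprime p) : g = 1 := by
  have h3 : orderOf g ∣ p ^ k := orderOf_dvd_of_pow_eq_one h1
  have h4 : (orderOf g).Coprime (p ^ k) := Nat.Coprime.pow_right k h2
  have h5 : orderOf g = 1 := Nat.Coprime.eq_one_of_dvd h4 h3
  exact orderOf_eq_one_iff.mp h5

theorem pow_eq_self_of_modEq {G : Type*} [Group G] {x : G} {d r : ℕ} (hx : x ^ d = 1)
    (hr : r ≡ 1 [MOD d]) : x ^ r = x := by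
  have h := (pow_eq_pow_iff_modEq (x := x) (n := r) (m := 1)).mpr
    (hr.of_dvd (orderOf_dvd_of_pow_eq_one hx))
  rwa [pow_one] at h

end Cfsg.Agent.Lib.Helper88
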