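import Cfsg.Agent.Lib.Helper85.Morphism
import Cfsg.Agent.S5132

set_option autoImplicit false

/-!
# Preimages of fully normalized and centric subgroups under a morphism of fusion systems
-/

namespace Cfsg.Agent.Lib.Helper88

open Cfsg Cfsg.FusionSystem
open Cfsg.Agent.Lib.Helper87 (hom_le hom_mem_S finite_of_le isConj_refl card_eq_of_isConj)
open Cfsg.Agent.Lib.Helper85 (mem_im im_pre pre_im kerSub mem_kerSub resHom resHom_coe resHom_surjective
  resHom_eq_one_iff im_le_range)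
open Cfsg.Agent.S5132 (mem_pre pre_le pre_apply_mem exists_preimage_S₀)

variable {Ω : Type*} [Group Ω] {S : Subgroup Ω} {Ω' : Type*} [Group Ω'] {S' : Subgroup Ω'}

section

variable (F : FusionSystem S) (E : FusionSystem S') (θ : S →* Ω') (hmor : F.IsMorphism E θ)

include hmor in
/-- conjugate subgroups have conjugate images -/
theorem isConj_imageAlong {P P₁ : Subgroup Ω} (h : F.IsConj P P₁) :
    E.IsConj (imageAlong θ P) (imageAlong θ P₁) := by
  obtain ⟨φ, hφ, rfl⟩ := h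
  obtain ⟨φ', hφ', hP, hφS, hP', hind⟩ := hmor.2 P φ hφ
  refine ⟨φ', hφ', ?_⟩
  ext y
  constructor
  · rintro ⟨z, rfl⟩
    obtain ⟨s, hs, hsz⟩ := mem_im.mp z.2
    have e : z = ⟨θ ⟨(⟨s, hs⟩ : P), hP hs⟩, hP' ⟨s, hs⟩⟩ := Subtype.ext hsz.symm
    rw [e, hind]
    exact mem_im.mpr ⟨⟨φ ⟨s, hs⟩, hφS _⟩, ⟨⟨s, hs⟩, rfl⟩, rfl⟩
  · intro hy
    obtain ⟨s, ⟨x, hx⟩, rfl⟩ := mem_im.mp hy
    refine ⟨⟨θ ⟨x, hP x.2⟩, hP' x⟩, ?_⟩
    rw [hind]
    congr 1
    exact Subtype.ext hx

end

section normalizer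

variable (θ : S →* Ω')

/-- elements normalizing `P` are mapped to elements normalizing the image of `P` -/
theorem theta_map_mem_normalizer {P : Subgroup Ω} (s : S) (hs : (s : Ω) ∈ Subgroup.normalizer (P : Set Ω)) :
    θ s ∈ Subgroup.normalizer (imageAlong θ P : Set Ω') := by
  have key : ∀ t : S, (t : Ω) ∈ Subgroup.normalizer (P : Set Ω) → ∀ y ∈ imageAlong θ P,
      θ t * y * (θ t)⁻¹ ∈ imageAlong θ P := by
    intro t ht y hy
    obtain ⟨x, hx, rfl⟩ := mem_im.mp hy
    refine mem_im.mpr ⟨t * x * t⁻¹, ?_, by rw [map_mul, map_mul, map_inv]⟩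
    exact (Subgroup.mem_normalizer_iff.mp ht x).mp hx
  rw [Subgroup.mem_normalizer_iff]
  intro y
  constructor
  · exact key s hs y
  · intro hy
    have hs' : ((s⁻¹ : S) : Ω) ∈ Subgroup.normalizer (P : Set Ω) := by
      rw [Subgroup.coe_inv]
      exact Subgroup.inv_mem _ hs
    have h1 := key s⁻¹ hs' _ hy
    rw [map_inv] at h1
    have e : (θ s)⁻¹ * (θ s * y * (θ s)⁻¹) * (θ s)⁻¹⁻¹ = y := by group
    rwa [e] at h1

/-- elements mapped into the normalizer of `P'` normalize the full preimage of `P'` -/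
theorem mem_normalizer_pre {P' : Subgroup Ω'} (s : S)
    (hs : θ s ∈ Subgroup.normalizer (P' : Set Ω')) :
    (s : Ω) ∈ Subgroup.normalizer (preimageAlong θ P' : Set Ω) := by
  have key : ∀ t : S, θ t ∈ Subgroup.normalizer (P' : Set Ω') → ∀ x ∈ preimageAlong θ P',
      (t : Ω) * x * (t : Ω)⁻¹ ∈ preimageAlong θ P' := by
    intro t ht x hx
    obtain ⟨hxS, hx'⟩ := mem_pre.mp hx
    refine mem_pre.mpr ⟨S.mul_mem (S.mul_mem t.2 hxS) (S.inv_mem t.2), ?_⟩
    have e : (⟨(t : Ω) * x * (t : Ω)⁻¹, S.mul_mem (S.mul_mem t.2 hxS) (S.inv_mem t.2)⟩ : S) =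
        t * ⟨x, hxS⟩ * t⁻¹ := Subtype.ext rfl
    rw [e, map_mul, map_mul, map_inv]
    exact (Subgroup.mem_normalizer_iff.mp ht _).mp hx'
  rw [Subgroup.mem_normalizer_iff]
  intro x
  constructor
  · exact key s hs x
  · intro hx
    have hs' : θ s⁻¹ ∈ Subgroup.normalizer (P' : Set Ω') := by
      rw [map_inv]
      exact Subgroup.inv_mem _ hs
    have h1 := key s⁻¹ hs' _ hx
    rw [Subgroup.coe_inv] at h1
    have e : (s : Ω)⁻¹ * ((s : Ω) * x * (s : Ω)⁻¹) * (s : Ω)⁻¹⁻¹ = x := by group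
    rwa [e] at h1

end normalizer

section card

variable [Finite S] (θ : S →* Ω') {Q : Subgroup Ω} (hker : ∀ s : S, θ s = 1 ↔ (s : Ω) ∈ Q)

include hker in
/-- the order of a subgroup containing the kernel -/
theorem card_eq_card_mul_card_image {A : Subgroup Ω} (hQA : Q ≤ A) (hAS : A ≤ S) :
    Nat.card A = Nat.card Q * Nat.card (imageAlong θ A) := by
  have hfinA : Finite A := finite_of_le hAS
  have h1 := Subgroup.card_mul_index (resHom θ hAS).ker
  have h2 : (resHom θ hAS).ker.index = Nat.card (imageAlong θ A) := by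
    rw [Subgroup.index_ker, MonoidHom.range_eq_top.mpr (resHom_surjective θ hAS), Subgroup.card_top]
  have h3 : (resHom θ hAS).ker = Q.subgroupOf A := by
    ext x
    rw [MonoidHom.mem_ker, resHom_eq_one_iff, Subgroup.mem_subgroupOf, mem_kerSub]
    constructor
    · rintro ⟨hx, h⟩
      exact (hker _).mp h
    · intro hx
      exact ⟨hAS x.2, (hker _).mpr hx⟩
  have h4 : Nat.card (Q.subgroupOf A) = Nat.card Q :=
    Nat.card_congr (Subgroup.subgroupOfEquivOfLe hQA).toEquiv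
  rw [← h1, h2, h3, h4]

end card

section preimage

variable [Finite S] (F : FusionSystem S) (E : FusionSystem S') (θ : S →* Ω') {Q : Subgroup Ω}
  (hsc : F.StronglyClosed Q) (hker : ∀ s : S, θ s = 1 ↔ (s : Ω) ∈ Q) (hrange : θ.range = S')
  (hmor : F.IsMorphism E θ)

include hsc in
/-- a conjugate of a subgroup containing the strongly closed subgroup `Q` contains `Q` -/
theorem le_of_isConj_of_le {R R₁ : Subgroup Ω} (hQR : Q ≤ R) (h : F.IsConj R R₁) : Q ≤ R₁ := by
  obtain ⟨φ, hφ, rfl⟩ := h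
  intro y hy
  obtain ⟨x, hx, hxy⟩ := exists_preimage_S₀ F Q hsc hQR hφ hy
  exact ⟨_, hxy⟩

include hsc hker hrange hmor in
/-- the full preimage of a fully normalized subgroup is fully normalized -/
theorem isFullyNormalized_preimage {R' : Subgroup Ω'} (hR' : E.IsFullyNormalized R') :
    F.IsFullyNormalized (preimageAlong θ R') := by
  have hR'S : R' ≤ S' := hR'.1
  have hR'r : R' ≤ θ.range := hrange ▸ hR'S
  have hQS : Q ≤ S := hsc.1
  have hQR : Q ≤ preimageAlong θ R' := by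
    intro x hx
    exact mem_pre.mpr ⟨hQS hx, by rw [(hker _).mpr hx]; exact R'.one_mem⟩
  have hfinS' : Finite S' := by
    rw [← hrange]
    exact Finite.of_surjective θ.rangeRestrict θ.rangeRestrict_surjective
  refine ⟨pre_le θ R', fun R₁ hconj => ?_⟩
  have hR₁S : R₁ ≤ S := Cfsg.Agent.Lib.Helper87.isConj_le_right F hconj
  have hQR₁ : Q ≤ R₁ := le_of_isConj_of_le F hsc hQR hconj
  -- the image of `R₁` is conjugate to `R'`
  have hc' : E.IsConj R' (imageAlong θ R₁) := by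
    have := isConj_imageAlong F E θ hmor hconj
    rwa [im_pre θ hR'r] at this
  have h1 : Nat.card (normalizerIn S' (imageAlong θ R₁)) ≤ Nat.card (normalizerIn S' R') :=
    hR'.2 _ hc'
  -- the normalizer of `R₁`
  have hN₁ : imageAlong θ (normalizerIn S R₁) ≤ normalizerIn S' (imageAlong θ R₁) := by
    intro y hy
    obtain ⟨s, hs, rfl⟩ := mem_im.mp hy
    exact ⟨hrange ▸ ⟨s, rfl⟩, theta_map_mem_normalizer θ s hs.2⟩
  have hQN₁ : Q ≤ normalizerIn S R₁ := fun x hx => ⟨hQS hx, Subgroup.le_normalizer (hQR₁ hx)⟩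
  have h2 := card_eq_card_mul_card_image θ hker hQN₁ (inf_le_left : normalizerIn S R₁ ≤ S)
  have hfinN' : Finite (normalizerIn S' (imageAlong θ R₁)) := finite_of_le inf_le_left
  have h3 : Nat.card (imageAlong θ (normalizerIn S R₁)) ≤
      Nat.card (normalizerIn S' (imageAlong θ R₁)) := Subgroup.card_le_of_le hN₁
  -- the normalizer of the preimage
  have hpre : preimageAlong θ (normalizerIn S' R') ≤ normalizerIn S (preimageAlong θ R') := by
    intro x hx
    obtain ⟨hxS, hx'⟩ := mem_pre.mp hx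
    exact ⟨hxS, mem_normalizer_pre θ ⟨x, hxS⟩ hx'.2⟩
  have hQpre : Q ≤ preimageAlong θ (normalizerIn S' R') := by
    intro x hx
    exact mem_pre.mpr ⟨hQS hx, by rw [(hker _).mpr hx]; exact Subgroup.one_mem _⟩
  have h4 := card_eq_card_mul_card_image θ hker hQpre (pre_le θ (normalizerIn S' R'))
  have hN'r : normalizerIn S' R' ≤ θ.range := hrange ▸ inf_le_left
  rw [im_pre θ hN'r] at h4
  have hfinN : Finite (normalizerIn S (preimageAlong θ R')) := finite_of_le inf_le_left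
  have h5 : Nat.card (preimageAlong θ (normalizerIn S' R')) ≤
      Nat.card (normalizerIn S (preimageAlong θ R')) := Subgroup.card_le_of_le hpre
  calc Nat.card (normalizerIn S R₁) = Nat.card Q * Nat.card (imageAlong θ (normalizerIn S R₁)) := h2
    _ ≤ Nat.card Q * Nat.card (normalizerIn S' R') := Nat.mul_le_mul_left _ (h3.trans h1)
    _ = Nat.card (preimageAlong θ (normalizerIn S' R')) := h4.symm
    _ ≤ _ := h5

include hsc hker hrange hmor in
/-- the full preimage of a centric subgroup is centric -/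
theorem isCentric_preimage {R' : Subgroup Ω'} (hR' : E.IsCentric R') :
    F.IsCentric (preimageAlong θ R') := by
  have hR'S : R' ≤ S' := hR'.1
  have hR'r : R' ≤ θ.range := hrange ▸ hR'S
  have hQS : Q ≤ S := hsc.1
  have hQR : Q ≤ preimageAlong θ R' := by
    intro x hx
    exact mem_pre.mpr ⟨hQS hx, by rw [(hker _).mpr hx]; exact R'.one_mem⟩
  refine ⟨pre_le θ R', fun R₁ hconj => ?_⟩
  have hR₁S : R₁ ≤ S := Cfsg.Agent.Lib.Helper87.isConj_le_right F hconj
  have hQR₁ : Q ≤ R₁ := le_of_isConj_of_le F hsc hQR hconj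
  have hc' : E.IsConj R' (imageAlong θ R₁) := by
    have := isConj_imageAlong F E θ hmor hconj
    rwa [im_pre θ hR'r] at this
  have h1 : centralizerIn S' (imageAlong θ R₁) ≤ imageAlong θ R₁ := hR'.2 _ hc'
  intro c hc
  have hcS : c ∈ S := hc.1
  have hcC : c ∈ Subgroup.centralizer (R₁ : Set Ω) := hc.2
  have h2 : θ ⟨c, hcS⟩ ∈ centralizerIn S' (imageAlong θ R₁) := by
    refine ⟨hrange ▸ ⟨_, rfl⟩, ?_⟩
    show θ ⟨c, hcS⟩ ∈ Subgroup.centralizer (imageAlong θ R₁ : Set Ω')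
    rw [Subgroup.mem_centralizer_iff]
    intro y hy
    obtain ⟨s, hs, rfl⟩ := mem_im.mp hy
    rw [← map_mul, ← map_mul]
    congr 1
    apply Subtype.ext
    rw [Subgroup.mem_centralizer_iff] at hcC
    exact hcC _ hs
  obtain ⟨s, hs, hsc'⟩ := mem_im.mp (h1 h2)
  have h3 : θ (s⁻¹ * ⟨c, hcS⟩) = 1 := by rw [map_mul, map_inv, hsc', inv_mul_cancel]
  have h4 : ((s⁻¹ * ⟨c, hcS⟩ : S) : Ω) ∈ Q := (hker _).mp h3
  have e : c = (s : Ω) * ((s⁻¹ * ⟨c, hcS⟩ : S) : Ω) := by
    show c = (s : Ω) * ((s : Ω)⁻¹ * c)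
    group
  rw [e]
  exact R₁.mul_mem hs (hQR₁ h4)

end preimage

end Cfsg.Agent.Lib.Helper88
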