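import Mathlib

set_option autoImplicit false

/-!
# The transfer of an involution into a group of order two

If `g` is an involution of `G`, `H` has odd index, `ϕ : H → {±1}`, and `P` is a `2`-subgroup containing `g`
and centralizing it, such that `ϕ (k⁻¹ g k) = -1` whenever `k⁻¹ P k ≤ H`, then the transfer of `g` is `-1`.
-/

namespace Cfsg.Agent.Lib.Helper88

open MulAction

variable {G : Type*} [Group G] {H : Subgroup G}

/-- a coset is fixed by `g` iff the conjugate of `g` by a representative lies in `H` -/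
theorem smul_eq_iff_conj_mem (g k : G) :
    g • (QuotientGroup.mk k : G ⧸ H) = QuotientGroup.mk k ↔ k⁻¹ * g * k ∈ H := by
  rw [MulAction.Quotient.smul_mk, eq_comm, QuotientGroup.eq, smul_eq_mul, mul_assoc]

theorem smul_out_eq_iff (g : G) (c : G ⧸ H) : g • c = c ↔ c.out⁻¹ * g * c.out ∈ H := by
  conv_lhs => rw [← QuotientGroup.out_eq' c]
  exact smul_eq_iff_conj_mem g c.out

/-- the value of `ϕ` on the conjugate of `g` by a representative of a fixed coset -/
noncomputable def fixVal (ϕ : H →* ℤˣ) (g : G) (c : G ⧸ H) : ℤˣ := by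
  classical
  exact if h : g • c = c then ϕ ⟨c.out⁻¹ * g * c.out, (smul_out_eq_iff g c).mp h⟩ else 1

theorem fixVal_of_fixed (ϕ : H →* ℤˣ) (g : G) (c : G ⧸ H) (h : g • c = c) :
    fixVal ϕ g c = ϕ ⟨c.out⁻¹ * g * c.out, (smul_out_eq_iff g c).mp h⟩ := by
  unfold fixVal
  rw [dif_pos h]

theorem fixVal_of_not_fixed (ϕ : H →* ℤˣ) (g : G) (c : G ⧸ H) (h : ¬ g • c = c) :
    fixVal ϕ g c = 1 := by
  unfold fixVal
  rw [dif_neg h]

/-- the value does not depend on the representative -/
theorem fixVal_mk (ϕ : H →* ℤˣ) (g k : G) (hk : k⁻¹ * g * k ∈ H) :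
    fixVal ϕ g (QuotientGroup.mk k : G ⧸ H) = ϕ ⟨k⁻¹ * g * k, hk⟩ := by
  have hfix : g • (QuotientGroup.mk k : G ⧸ H) = QuotientGroup.mk k :=
    (smul_eq_iff_conj_mem g k).mpr hk
  rw [fixVal_of_fixed ϕ g _ hfix]
  obtain ⟨h, hh⟩ := QuotientGroup.mk_out_eq_mul H k
  have e : (⟨(QuotientGroup.mk k : G ⧸ H).out⁻¹ * g * (QuotientGroup.mk k : G ⧸ H).out,
      (smul_out_eq_iff g _).mp hfix⟩ : H) = h⁻¹ * ⟨k⁻¹ * g * k, hk⟩ * h := by
    apply Subtype.ext
    show (QuotientGroup.mk k : G ⧸ H).out⁻¹ * g * (QuotientGroup.mk k : G ⧸ H).out =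
      (h : G)⁻¹ * (k⁻¹ * g * k) * h
    rw [hh]
    group
  rw [e, map_mul, map_mul, map_inv, mul_comm, mul_inv_cancel_left]


/-- the transfer of an involution is the product of the values on the fixed cosets -/
theorem transfer_eq_prod_fixVal [H.FiniteIndex] [Fintype (G ⧸ H)] (ϕ : H →* ℤˣ) (g : G)
    (hg : g * g = 1) : MonoidHom.transfer ϕ g = ∏ c : G ⧸ H, fixVal ϕ g c := by
  classical
  have : Fintype (Quotient (MulAction.orbitRel (Subgroup.zpowers g) (G ⧸ H))) :=
    Fintype.ofFinite _
  rw [MonoidHom.transfer_eq_prod_quotient_orbitRel_zpowers_quot,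
    ← Finset.prod_fiberwise Finset.univ
      (fun c : G ⧸ H => (Quotient.mk (MulAction.orbitRel (Subgroup.zpowers g) (G ⧸ H)) c))
      (fun c => fixVal ϕ g c)]
  refine Finset.prod_congr rfl fun q _ => ?_
  -- the elements of the fibre are in the orbit of `q.out`
  have horb : ∀ c : G ⧸ H, Quotient.mk (MulAction.orbitRel (Subgroup.zpowers g) (G ⧸ H)) c = q →
      ∃ z : Subgroup.zpowers g, c = z • q.out := by
    intro c hc
    have h1 : Quotient.mk (MulAction.orbitRel (Subgroup.zpowers g) (G ⧸ H)) c =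
        Quotient.mk (MulAction.orbitRel (Subgroup.zpowers g) (G ⧸ H)) q.out := by
      rw [hc, Quotient.out_eq]
    have h2 := Quotient.exact h1
    obtain ⟨z, hz⟩ := (MulAction.orbitRel_apply.mp h2)
    exact ⟨z, hz.symm⟩
  have hper : Function.minimalPeriod (g • ·) q.out ∣ 2 := by
    apply Function.IsPeriodicPt.minimalPeriod_dvd
    show (g • ·)^[2] q.out = q.out
    simp only [Function.iterate_succ, Function.iterate_zero, Function.comp_apply, id_eq]
    rw [smul_smul, hg, one_smul]
  have hcases : Function.minimalPeriod (g • ·) q.out = 1 ∨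
      Function.minimalPeriod (g • ·) q.out = 2 := (Nat.dvd_prime Nat.prime_two).mp hper
  rcases hcases with h1 | h2
  · -- a fixed coset
    have hfix : g • q.out = q.out := MulAction.minimalPeriod_eq_one_iff_fixedBy.mp h1
    have hfib : (Finset.univ.filter fun c : G ⧸ H =>
        Quotient.mk (MulAction.orbitRel (Subgroup.zpowers g) (G ⧸ H)) c = q) = {q.out} := by
      ext c
      simp only [Finset.mem_filter, Finset.mem_univ, true_and, Finset.mem_singleton]
      constructor
      · intro hc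
        obtain ⟨z, rfl⟩ := horb c hc
        exact smul_eq_self_of_mem_zpowers z.2 hfix
      · rintro rfl
        exact Quotient.out_eq q
    rw [hfib, Finset.prod_singleton, fixVal_of_fixed ϕ g _ hfix]
    congr 1
    apply Subtype.ext
    show q.out.out⁻¹ * g ^ Function.minimalPeriod (g • ·) q.out * q.out.out = _
    rw [h1, pow_one]
  · -- an orbit of length two
    have hnf : ¬ g • q.out = q.out := by
      intro hfix
      have := MulAction.minimalPeriod_eq_one_iff_fixedBy.mpr hfix
      omega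
    have hone : ∀ c ∈ (Finset.univ.filter fun c : G ⧸ H =>
        Quotient.mk (MulAction.orbitRel (Subgroup.zpowers g) (G ⧸ H)) c = q),
        fixVal ϕ g c = 1 := by
      intro c hc
      simp only [Finset.mem_filter, Finset.mem_univ, true_and] at hc
      obtain ⟨z, rfl⟩ := horb c hc
      apply fixVal_of_not_fixed
      intro hfix
      apply hnf
      obtain ⟨z, k, rfl⟩ := z
      have h3 : g • ((g ^ k) • q.out) = (g ^ k) • q.out := hfix
      have h4 : g • q.out = (g ^ k)⁻¹ • (g • ((g ^ k) • q.out)) := by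
        rw [smul_smul, smul_smul]
        congr 1
        have : Commute g (g ^ k) := (Commute.refl g).zpow_right k
        rw [mul_assoc, this.eq, ← mul_assoc, inv_mul_cancel, one_mul]
      rw [h4, h3, inv_smul_smul]
    rw [Finset.prod_eq_one hone]
    have e : (⟨q.out.out⁻¹ * g ^ Function.minimalPeriod (g • ·) q.out * q.out.out,
        QuotientGroup.out_conj_pow_minimalPeriod_mem H g q.out⟩ : H) = 1 := by
      apply Subtype.ext
      show q.out.out⁻¹ * g ^ Function.minimalPeriod (g • ·) q.out * q.out.out = 1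
      rw [h2, pow_two, hg, mul_one, inv_mul_cancel]
    rw [e, map_one]


theorem prod_units_eq_neg_one_pow {α : Type*} [Fintype α] (f : α → ℤˣ) :
    ∏ a, f a = (-1) ^ Nat.card {a : α // f a = -1} := by
  classical
  have h1 : ∀ a, f a = if f a = -1 then -1 else 1 := by
    intro a
    rcases Int.units_eq_one_or (f a) with h | h
    · rw [h]
      simp
    · rw [h]
      simp
  rw [Finset.prod_congr rfl fun a _ => h1 a, Finset.prod_ite, Finset.prod_const_one, mul_one,
    Finset.prod_const, Nat.card_eq_fintype_card, Fintype.card_subtype]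

/-- the values on fixed cosets are invariant under a subgroup centralizing `g` -/
theorem fixVal_smul (ϕ : H →* ℤˣ) (g x : G) (hx : x * g = g * x) (c : G ⧸ H) :
    fixVal ϕ g (x • c) = fixVal ϕ g c := by
  induction c using QuotientGroup.induction_on with
  | H k =>
    have e : x • (QuotientGroup.mk k : G ⧸ H) = QuotientGroup.mk (x * k) := rfl
    rw [e]
    have e2 : (x * k)⁻¹ * g * (x * k) = k⁻¹ * g * k := by
      have : x⁻¹ * g * x = g := by rw [mul_assoc, ← hx, ← mul_assoc, inv_mul_cancel, one_mul]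
      calc (x * k)⁻¹ * g * (x * k) = k⁻¹ * (x⁻¹ * g * x) * k := by group
        _ = k⁻¹ * g * k := by rw [this]
    by_cases hk : k⁻¹ * g * k ∈ H
    · have hk' : (x * k)⁻¹ * g * (x * k) ∈ H := by rw [e2]; exact hk
      rw [fixVal_mk ϕ g k hk, fixVal_mk ϕ g (x * k) hk']
      congr 1
      exact Subtype.ext e2
    · have hk' : ¬ (x * k)⁻¹ * g * (x * k) ∈ H := by rw [e2]; exact hk
      rw [fixVal_of_not_fixed ϕ g _ (fun h => hk ((smul_eq_iff_conj_mem g k).mp h)),
        fixVal_of_not_fixed ϕ g _ (fun h => hk' ((smul_eq_iff_conj_mem g (x * k)).mp h))]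

/-- the cosets with value `-1`, as a sub-action of a subgroup centralizing `g` -/
def negSub (ϕ : H →* ℤˣ) (g : G) (P : Subgroup G) (hcomm : ∀ x ∈ P, x * g = g * x) :
    SubMulAction P (G ⧸ H) where
  carrier := {c | fixVal ϕ g c = -1}
  smul_mem' := by
    intro x c hc
    show fixVal ϕ g ((x : G) • c) = -1
    rw [fixVal_smul ϕ g x (hcomm x x.2)]
    exact hc

/-- **Transfer of an involution.** -/
theorem transfer_involution_eq_neg_one [H.FiniteIndex] (ϕ : H →* ℤˣ) (g : G) (hg : g * g = 1)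
    (P : Subgroup G) (hP : IsPGroup 2 P) (hgP : g ∈ P) (hcomm : ∀ x ∈ P, x * g = g * x)
    (hodd : Odd H.index)
    (hval : ∀ k : G, (∀ x ∈ P, k⁻¹ * x * k ∈ H) → ∀ hk : k⁻¹ * g * k ∈ H,
      ϕ ⟨k⁻¹ * g * k, hk⟩ = -1) :
    MonoidHom.transfer ϕ g = -1 := by
  classical
  have : Fintype (G ⧸ H) := H.fintypeQuotientOfFiniteIndex
  have : Fact (Nat.Prime 2) := ⟨Nat.prime_two⟩
  rw [transfer_eq_prod_fixVal ϕ g hg, prod_units_eq_neg_one_pow]
  -- fixed cosets have value `-1`
  have hd : ∀ c : G ⧸ H, c ∈ fixedPoints P (G ⧸ H) → fixVal ϕ g c = -1 := by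
    intro c hc
    induction c using QuotientGroup.induction_on with
    | H k =>
      have h1 : ∀ x ∈ P, k⁻¹ * x * k ∈ H := by
        intro x hx
        have := hc ⟨x, hx⟩
        exact (smul_eq_iff_conj_mem x k).mp this
      have hk := h1 g hgP
      rw [fixVal_mk ϕ g k hk]
      exact hval k h1 hk
  have e1 : Nat.card {c : G ⧸ H // fixVal ϕ g c = -1} = Nat.card (negSub ϕ g P hcomm) := rfl
  have c1 := hP.card_modEq_card_fixedPoints (G ⧸ H)
  have c2 := hP.card_modEq_card_fixedPoints (negSub ϕ g P hcomm)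
  have e2 : Nat.card (fixedPoints P (negSub ϕ g P hcomm)) = Nat.card (fixedPoints P (G ⧸ H)) := by
    refine Nat.card_congr ⟨fun a => ⟨a.1.1, fun x => congrArg Subtype.val (a.2 x)⟩,
      fun a => ⟨⟨a.1, hd a.1 a.2⟩, fun x => Subtype.ext (a.2 x)⟩, fun a => rfl, fun a => rfl⟩
  rw [e1]
  rw [Subgroup.index_eq_card] at hodd
  have hodd' : Odd (Nat.card (negSub ϕ g P hcomm)) := by
    rw [Nat.odd_iff] at hodd ⊢
    have h3 : Nat.card (negSub ϕ g P hcomm) % 2 = Nat.card (G ⧸ H) % 2 := by
      have := c2.trans (e2 ▸ c1.symm)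
      exact this
    rw [h3]
    exact hodd
  exact hodd'.neg_one_pow

end Cfsg.Agent.Lib.Helper88
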