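import Cfsg.Agent.Lib.Helper88.CharBiset
import Cfsg.Agent.Lib.Helper88.BisetTransfer
import Cfsg.Agent.Lib.Helper88.TransferInvolution

set_option autoImplicit false

/-!
# Thompson's transfer lemma for saturated fusion systems
-/

namespace Cfsg.Agent.Lib.Helper88

open Cfsg Cfsg.FusionSystem MulAction
open Cfsg.Agent.Lib.Helper87 (restrict_mem hom_le hom_mem_S isConj_refl isConj_symm isConj_trans
  card_eq_of_isConj subtype_mem inv_exists comp_mem' mem_autGroup_iff exists_fullyNormalized_conj)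

variable {Ω : Type*} [Group Ω] {S : Subgroup Ω}

/-- the transfer of a stable biset kills the focal subgroup -/
theorem bisetTransfer_focal [Finite S] (F : FusionSystem S) {m : Subgroup (S × S) → ℕ}
    (hgen : Gen F m) (hstab : StabGe F m 0) (x₀ : OrbSum m) {A : Type*} [CommGroup A]
    (lam : S →* A) : ∀ y ∈ F.focalSubgroup, ∃ hy : y ∈ S, bisetTransfer hgen x₀ lam ⟨y, hy⟩ = 1 := by
  intro y hy
  refine Subgroup.closure_induction (p := fun y _ => ∃ hy : y ∈ S,
    bisetTransfer hgen x₀ lam ⟨y, hy⟩ = 1) ?_ ?_ ?_ ?_ hy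
  · rintro _ ⟨P, φ, x, hφ, rfl⟩
    have hPS := hom_le F hφ
    have hφS := hom_mem_S F hφ
    refine ⟨S.mul_mem (S.inv_mem (hPS x.2)) (hφS x), ?_⟩
    have e : (⟨(x : Ω)⁻¹ * φ x, S.mul_mem (S.inv_mem (hPS x.2)) (hφS x)⟩ : S) =
        (⟨x, hPS x.2⟩ : S)⁻¹ * ⟨φ x, hφS x⟩ := rfl
    rw [e, map_mul, map_inv, bisetTransfer_map F hgen hstab x₀ _ hPS hφ x, inv_mul_cancel]
  · exact ⟨S.one_mem, map_one _⟩
  · rintro a b _ _ ⟨ha, ha1⟩ ⟨hb, hb1⟩
    refine ⟨S.mul_mem ha hb, ?_⟩
    have e : (⟨a * b, S.mul_mem ha hb⟩ : S) = ⟨a, ha⟩ * ⟨b, hb⟩ := rfl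
    rw [e, map_mul, ha1, hb1, one_mul]
  · rintro a _ ⟨ha, ha1⟩
    refine ⟨S.inv_mem ha, ?_⟩
    have e : (⟨a⁻¹, S.inv_mem ha⟩ : S) = (⟨a, ha⟩ : S)⁻¹ := rfl
    rw [e, map_inv, ha1, inv_one]

/-- the hyperfocal subgroup lies in the focal subgroup -/
theorem hyperfocal_le_focal (F : FusionSystem S) (p : ℕ) :
    F.hyperfocalSubgroup p ≤ F.focalSubgroup := by
  unfold hyperfocalSubgroup
  rw [Subgroup.closure_le]
  rintro _ ⟨P, α, x, hP, -, rfl⟩
  apply Subgroup.subset_closure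
  exact ⟨P, P.subtype.comp (α : MulAut P).toMonoidHom, x, (mem_autGroup_iff F hP α).mp α.2, rfl⟩

/-- the homomorphism onto `{±1}` with kernel a subgroup of index two -/
noncomputable def signHom (T : Subgroup Ω) (hT : T.relIndex S = 2) : S →* ℤˣ := by
  classical
  exact
  { toFun := fun s => if (s : Ω) ∈ T then 1 else -1
    map_one' := by
      rw [if_pos]
      exact T.one_mem
    map_mul' := by
      intro a b
      have h := Subgroup.mul_mem_iff_of_index_two (H := T.subgroupOf S) hT (a := a) (b := b)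
      rw [Subgroup.mem_subgroupOf, Subgroup.mem_subgroupOf, Subgroup.mem_subgroupOf] at h
      by_cases ha : (a : Ω) ∈ T <;> by_cases hb : (b : Ω) ∈ T
      · rw [if_pos ha, if_pos hb, if_pos (h.mpr ⟨fun _ => hb, fun _ => ha⟩)]
        rfl
      · rw [if_pos ha, if_neg hb, if_neg (fun hab => hb ((h.mp hab).mp ha))]
        rfl
      · rw [if_neg ha, if_pos hb, if_neg (fun hab => ha ((h.mp hab).mpr hb))]
        rfl
      · rw [if_neg ha, if_neg hb, if_pos (h.mpr ⟨fun h' => absurd h' ha, fun h' => absurd h' hb⟩)]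
        rfl }

theorem signHom_of_not_mem (T : Subgroup Ω) (hT : T.relIndex S = 2) {s : S}
    (hs : (s : Ω) ∉ T) : signHom T hT s = -1 := by
  classical
  show (if (s : Ω) ∈ T then (1 : ℤˣ) else -1) = -1
  rw [if_neg hs]

/-- the elements of the group generated by an involution -/
theorem mem_zpowers_involution {i x : Ω} (hi : i * i = 1) (hx : x ∈ Subgroup.zpowers i) :
    x = 1 ∨ x = i := by
  obtain ⟨k, rfl⟩ := hx
  have h2 : i ^ (2 : ℤ) = 1 := by
    rw [zpow_two]
    exact hi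
  rcases Int.even_or_odd' k with ⟨j, rfl | rfl⟩
  · left
    show i ^ (2 * j) = 1
    rw [zpow_mul, h2, one_zpow]
  · right
    show i ^ (2 * j + 1) = i
    rw [zpow_add, zpow_mul, h2, one_zpow, one_mul, zpow_one]

/-- the normalizer of the group generated by an involution centralizes it -/
theorem normalizer_involution {i c : Ω} (hi : i * i = 1) (hi1 : i ≠ 1)
    (hc : c ∈ Subgroup.normalizer ((Subgroup.zpowers i : Subgroup Ω) : Set Ω)) : c * i = i * c := by
  have h1 : c * i * c⁻¹ ∈ Subgroup.zpowers i :=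
    (Subgroup.mem_normalizer_iff.mp hc i).mp (Subgroup.mem_zpowers i)
  rcases mem_zpowers_involution hi h1 with h | h
  · exfalso
    apply hi1
    have : i = c⁻¹ * (c * i * c⁻¹) * c := by group
    rw [this, h]
    group
  · calc c * i = (c * i * c⁻¹) * c := by group
      _ = i * c := by rw [h]

/-- the transfer of a fully normalized involution all of whose fully normalized conjugates lie outside `T` -/
theorem transfer_fn_involution [Finite S] (hS : IsPGroup 2 S) (F : FusionSystem S)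
    {m : Subgroup (S × S) → ℕ} (hgen : Gen F m) (x₀ : OrbSum m) {n : ℕ}
    (hcard : Nat.card (OrbSum m) = n * Nat.card S) (hn : ¬ 2 ∣ n)
    (T : Subgroup Ω) (hT : T.relIndex S = 2) (i : Ω) (hi : i ∈ S) (hi2 : orderOf i = 2)
    (hfn : F.IsFullyNormalized (Subgroup.zpowers i))
    (h : ∀ j : Ω, F.IsConjElt i j → F.IsFullyNormalized (Subgroup.zpowers j) → j ∉ T) :
    bisetTransfer hgen x₀ (signHom T hT) ⟨i, hi⟩ = -1 := by
  have hii : i * i = 1 := by
    have := pow_orderOf_eq_one i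
    rwa [hi2, pow_two] at this
  have hi1 : i ≠ 1 := by
    rintro rfl
    rw [orderOf_one] at hi2
    omega
  have hidx : (parkStab m x₀).index = n := by
    have h1 := index_parkStab hgen x₀
    rw [hcard] at h1
    exact Nat.eq_of_mul_eq_mul_right Nat.card_pos h1
  unfold bisetTransfer
  rw [MonoidHom.comp_apply]
  apply transfer_involution_eq_neg_one (parkϕ hgen x₀ (signHom T hT)) (parkι m ⟨i, hi⟩) ?_
    ((Subgroup.centralizer {(⟨i, hi⟩ : S)}).map (parkι m)) ?_ ?_ ?_ ?_ ?_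
  · rw [← map_mul]
    have e : (⟨i, hi⟩ : S) * ⟨i, hi⟩ = 1 := Subtype.ext hii
    rw [e, map_one]
  · exact IsPGroup.map (hS.to_subgroup _) _
  · exact ⟨⟨i, hi⟩, Subgroup.mem_centralizer_iff.mpr (fun y hy => by
      rw [Set.mem_singleton_iff.mp hy]), rfl⟩
  · rintro _ ⟨c, hc, rfl⟩
    rw [← map_mul, ← map_mul]
    congr 1
    exact (Subgroup.mem_centralizer_iff.mp hc _ rfl).symm
  · rw [hidx]
    exact Nat.odd_iff.mpr (Nat.two_dvd_ne_zero.mp hn)
  · intro k hkP hk
    obtain ⟨s, hs1, hs2⟩ := parkϕ_conj hgen x₀ (signHom T hT) k ⟨i, hi⟩ hk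
    rw [hs2]
    apply signHom_of_not_mem
    obtain ⟨Q, ψ, hψ, hD⟩ := inTw_stabilizer hgen ((k : Equiv.Perm (OrbSum m)) x₀)
    have hQS := hom_le F hψ
    have hψS := hom_mem_S F hψ
    -- the centralizer of `i` lies in the source of `ψ`
    have hCQ : ∀ c : S, c ∈ Subgroup.centralizer {(⟨i, hi⟩ : S)} → (c : Ω) ∈ Q := by
      intro c hc
      have hmem : k⁻¹ * parkι m c * k ∈ parkStab m x₀ := hkP _ ⟨c, hc, rfl⟩
      obtain ⟨t, ht, -⟩ := parkϕ_conj hgen x₀ (signHom T hT) k c hmem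
      obtain ⟨q, hq1, -⟩ := (hD _).mp ht
      have : (q : Ω) = c := hq1
      rw [← this]
      exact q.2
    have hiQ : i ∈ Q := hCQ ⟨i, hi⟩ (Subgroup.mem_centralizer_iff.mpr (fun y hy => by
      rw [Set.mem_singleton_iff.mp hy]))
    have hψi : ψ ⟨i, hiQ⟩ = s := by
      obtain ⟨q, hq1, hq2⟩ := (hD _).mp hs1
      have e : q = ⟨i, hiQ⟩ := Subtype.ext hq1
      rw [← e]
      exact hq2
    -- `s` is a conjugate of `i`
    have hzQ : Subgroup.zpowers i ≤ Q := by
      rw [Subgroup.zpowers_le]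
      exact hiQ
    have hφ := Cfsg.Agent.Lib.Helper87.restrict_mem F hψ hzQ
    have hconjElt : F.IsConjElt i s := ⟨_, hφ, hψi⟩
    have hrange : (ψ.comp (Subgroup.inclusion hzQ)).range = Subgroup.zpowers (s : Ω) := by
      apply le_antisymm
      · rintro _ ⟨⟨_, l, rfl⟩, rfl⟩
        have e : (⟨(fun x => i ^ x) l, ⟨l, rfl⟩⟩ : Subgroup.zpowers i) =
            (⟨i, Subgroup.mem_zpowers i⟩ : Subgroup.zpowers i) ^ l :=
          Subtype.ext (by rw [Subgroup.coe_zpow])
        rw [e, map_zpow]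
        have : (ψ.comp (Subgroup.inclusion hzQ)) ⟨i, Subgroup.mem_zpowers i⟩ = s := hψi
        rw [this]
        exact ⟨l, rfl⟩
      · rw [Subgroup.zpowers_le]
        exact ⟨⟨i, Subgroup.mem_zpowers i⟩, hψi⟩
    have hconj : F.IsConj (Subgroup.zpowers i) (Subgroup.zpowers (s : Ω)) := ⟨_, hφ, hrange⟩
    apply h s hconjElt
    refine ⟨by rw [Subgroup.zpowers_le]; exact s.2, fun Q' hQ' => ?_⟩
    have h1 := hfn.2 Q' (isConj_trans F hconj hQ')
    refine h1.trans ?_
    -- `ψ` maps `N_S(⟨i⟩)` into `N_S(⟨s⟩)`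
    have hNC : ∀ c : normalizerIn S (Subgroup.zpowers i), (c : Ω) ∈ Q := by
      intro c
      have hcS : (c : Ω) ∈ S := c.2.1
      apply hCQ ⟨c, hcS⟩
      rw [Subgroup.mem_centralizer_iff]
      intro y hy
      rw [Set.mem_singleton_iff.mp hy]
      apply Subtype.ext
      exact (normalizer_involution hii hi1 c.2.2).symm
    have hfin : Finite (normalizerIn S (Subgroup.zpowers (s : Ω))) :=
      Finite.of_injective (fun c => (⟨c.1, c.2.1⟩ : S)) (fun a b hab => Subtype.ext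
        (congrArg (fun z : S => (z : Ω)) hab))
    refine Nat.card_le_card_of_injective
      (fun c : normalizerIn S (Subgroup.zpowers i) =>
        (⟨ψ ⟨c, hNC c⟩, ⟨hψS _, ?_⟩⟩ : normalizerIn S (Subgroup.zpowers (s : Ω)))) ?_
    · apply Subgroup.centralizer_le_normalizer
      rw [Subgroup.mem_centralizer_iff]
      intro y hy
      have hcomm : (c : Ω) * i = i * c := normalizer_involution hii hi1 c.2.2
      have hcomm' : ψ ⟨c, hNC c⟩ * (s : Ω) = (s : Ω) * ψ ⟨c, hNC c⟩ := by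
        rw [← hψi, ← map_mul, ← map_mul]
        congr 1
        exact Subtype.ext hcomm
      obtain ⟨l, rfl⟩ := hy
      exact ((Commute.zpow_left (show Commute (s : Ω) (ψ ⟨c, hNC c⟩) from hcomm'.symm) l).eq)
    · intro a b hab
      have h2 : ψ ⟨a, hNC a⟩ = ψ ⟨b, hNC b⟩ := congrArg Subtype.val hab
      have h3 := F.injective_of_mem hψ h2
      have h4 : (a : Ω) = b := congrArg (fun z : Q => (z : Ω)) h3
      exact Subtype.ext h4

/-- the image of a homomorphism defined on a cyclic group -/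
theorem range_of_zpowers {i : Ω} (φ : Subgroup.zpowers i →* Ω) :
    φ.range = Subgroup.zpowers (φ ⟨i, Subgroup.mem_zpowers i⟩) := by
  apply le_antisymm
  · rintro _ ⟨⟨_, l, rfl⟩, rfl⟩
    have e : (⟨(fun x => i ^ x) l, ⟨l, rfl⟩⟩ : Subgroup.zpowers i) =
        (⟨i, Subgroup.mem_zpowers i⟩ : Subgroup.zpowers i) ^ l :=
      Subtype.ext (by rw [Subgroup.coe_zpow])
    rw [e, map_zpow]
    exact ⟨l, rfl⟩
  · rw [Subgroup.zpowers_le]
    exact ⟨_, rfl⟩

/-- **Thompson's transfer lemma** for saturated fusion systems, with the focal subgroup. -/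
theorem thompson_transfer [Finite S] (hS : IsPGroup 2 S) (F : FusionSystem S)
    (hF : F.IsSaturated 2) (T : Subgroup Ω) (hT : T.relIndex S = 2) (i : Ω) (hi : i ∈ S)
    (hi2 : orderOf i = 2)
    (h : ∀ j : Ω, F.IsConjElt i j → F.IsFullyNormalized (Subgroup.zpowers j) → j ∉ T) :
    i ∉ F.focalSubgroup := by
  have : Fact (Nat.Prime 2) := ⟨Nat.prime_two⟩
  obtain ⟨m, hgen, hstab, n, hcard, hpn⟩ := exists_char_biset hS F hF
  have hn0 : n ≠ 0 := by
    rintro rfl
    exact hpn (dvd_zero 2)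
  have hne : Nonempty (OrbSum m) := by
    have : 0 < Nat.card (OrbSum m) := by
      rw [hcard]
      exact Nat.mul_pos (Nat.pos_of_ne_zero hn0) Nat.card_pos
    exact (Nat.card_pos_iff.mp this).1
  obtain ⟨x₀⟩ := hne
  have hzS : Subgroup.zpowers i ≤ S := by
    rw [Subgroup.zpowers_le]
    exact hi
  obtain ⟨Q, ⟨φ, hφ, hφr⟩, hQfn⟩ := exists_fullyNormalized_conj F hzS
  have hQ : Q = Subgroup.zpowers (φ ⟨i, Subgroup.mem_zpowers i⟩) :=
    hφr.symm.trans (range_of_zpowers φ)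
  subst hQ
  have hj₀S : φ ⟨i, Subgroup.mem_zpowers i⟩ ∈ S := hom_mem_S F hφ _
  have hj₀2 : orderOf (φ ⟨i, Subgroup.mem_zpowers i⟩) = 2 := by
    rw [orderOf_injective φ (F.injective_of_mem hφ), ← hi2]
    exact (Subgroup.orderOf_coe (⟨i, Subgroup.mem_zpowers i⟩ : Subgroup.zpowers i)).symm
  have hmem : ∀ x : Subgroup.zpowers i,
      φ x ∈ Subgroup.zpowers (φ ⟨i, Subgroup.mem_zpowers i⟩) := by
    intro x
    rw [← range_of_zpowers φ]
    exact ⟨x, rfl⟩
  have h' : ∀ j : Ω, F.IsConjElt (φ ⟨i, Subgroup.mem_zpowers i⟩) j →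
      F.IsFullyNormalized (Subgroup.zpowers j) → j ∉ T := by
    rintro j ⟨χ, hχ, hχj⟩ hfn
    obtain ⟨θ, hθ, hθe⟩ := comp_mem' F hφ hχ hmem
    apply h j ⟨θ, hθ, ?_⟩ hfn
    rw [hθe]
    exact hχj
  have hval := transfer_fn_involution hS F hgen x₀ hcard hpn T hT _ hj₀S hj₀2 hQfn h'
  have hmap := bisetTransfer_map F hgen hstab x₀ (signHom T hT) hzS hφ
    ⟨i, Subgroup.mem_zpowers i⟩
  intro hfoc
  obtain ⟨hi', h1⟩ := bisetTransfer_focal F hgen hstab x₀ (signHom T hT) i hfoc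
  have h2 : bisetTransfer hgen x₀ (signHom T hT) ⟨i, hi'⟩ = -1 := hmap.symm.trans hval
  rw [h1] at h2
  exact absurd h2 (by decide)

end Cfsg.Agent.Lib.Helper88
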