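import Mathlib

set_option autoImplicit false

namespace Cfsg.Agent.Lib.Helper88

/-- fixed points of a group of automorphisms -/
def fixedPts {G : Type*} [Group G] (A : Subgroup (MulAut G)) : Subgroup G where
  carrier := {x | ∀ a ∈ A, a x = x}
  mul_mem' := by
    intro x y hx hy a ha
    rw [map_mul, hx a ha, hy a ha]
  one_mem' := by
    intro a _
    exact map_one a
  inv_mem' := by
    intro x hx a ha
    rw [map_inv, hx a ha]

theorem mem_fixedPts {G : Type*} [Group G] (A : Subgroup (MulAut G)) (x : G) :
    x ∈ fixedPts A ↔ ∀ a ∈ A, a x = x := Iff.rfl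

/-- the commutator `[G, A]` -/
def commSub {G : Type*} [Group G] (A : Subgroup (MulAut G)) : Subgroup G :=
  Subgroup.closure {y | ∃ a ∈ A, ∃ x : G, y = x⁻¹ * a x}

section
variable {G : Type*} [CommGroup G] [Finite G] (A : Subgroup (MulAut G))

/-- the norm map -/
noncomputable def normMap : G → G :=
  letI : Fintype A := Fintype.ofFinite A
  fun x => ∏ a : A, (a : MulAut G) x

theorem normMap_mul (x y : G) : normMap A (x * y) = normMap A x * normMap A y := by
  let _ : Fintype A := Fintype.ofFinite A
  unfold normMap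
  simp only [map_mul]
  exact Finset.prod_mul_distrib

theorem normMap_inv (x : G) : normMap A x⁻¹ = (normMap A x)⁻¹ := by
  let _ : Fintype A := Fintype.ofFinite A
  unfold normMap
  simp only [map_inv]
  exact Finset.prod_inv_distrib (f := fun a : A => (a : MulAut G) x)

theorem normMap_one : normMap A 1 = 1 := by
  let _ : Fintype A := Fintype.ofFinite A
  unfold normMap
  simp

theorem normMap_apply (b : A) (x : G) : normMap A ((b : MulAut G) x) = normMap A x := by
  let _ : Fintype A := Fintype.ofFinite A
  unfold normMap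
  have : ∀ a : A, (a : MulAut G) ((b : MulAut G) x) = ((a * b : A) : MulAut G) x := by
    intro a
    rfl
  simp only [this]
  exact Fintype.prod_equiv (Equiv.mulRight b) _ _ (fun a => rfl)

theorem apply_normMap (b : A) (x : G) : (b : MulAut G) (normMap A x) = normMap A x := by
  let _ : Fintype A := Fintype.ofFinite A
  unfold normMap
  rw [map_prod]
  have : ∀ a : A, (b : MulAut G) ((a : MulAut G) x) = ((b * a : A) : MulAut G) x := by
    intro a
    rfl
  simp only [this]
  exact Fintype.prod_equiv (Equiv.mulLeft b) _ _ (fun a => rfl)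

theorem normMap_fixed (x : G) (hx : x ∈ fixedPts A) : normMap A x = x ^ Nat.card A := by
  let _ : Fintype A := Fintype.ofFinite A
  unfold normMap
  have : ∀ a : A, (a : MulAut G) x = x := fun a => hx a a.2
  simp only [this]
  rw [Finset.prod_const, Finset.card_univ, Nat.card_eq_fintype_card]

theorem normMap_commSub (y : G) (hy : y ∈ commSub A) : normMap A y = 1 := by
  refine Subgroup.closure_induction (p := fun y _ => normMap A y = 1) ?_ (normMap_one A) ?_ ?_ hy
  · rintro _ ⟨a, ha, x, rfl⟩
    rw [normMap_mul, normMap_inv, normMap_apply A ⟨a, ha⟩ x, inv_mul_cancel]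
  · intro x y _ _ hx hy
    rw [normMap_mul, hx, hy, mul_one]
  · intro x _ hx
    rw [normMap_inv, hx, inv_one]

theorem pow_card_mem (x : G) : x ^ Nat.card A ∈ fixedPts A ⊔ commSub A := by
  let _ : Fintype A := Fintype.ofFinite A
  have h1 : x ^ Nat.card A = normMap A x * ∏ a : A, ((x⁻¹ * (a : MulAut G) x)⁻¹) := by
    unfold normMap
    rw [← Finset.prod_mul_distrib]
    have : ∀ a : A, (a : MulAut G) x * (x⁻¹ * (a : MulAut G) x)⁻¹ = x := by
      intro a
      rw [mul_inv_rev, inv_inv, mul_comm _ x, ← mul_assoc, mul_comm _ x, mul_assoc, mul_inv_cancel,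
        mul_one]
    simp only [this]
    rw [Finset.prod_const, Finset.card_univ, Nat.card_eq_fintype_card]
  rw [h1]
  apply Subgroup.mul_mem
  · apply Subgroup.mem_sup_left
    intro b hb
    exact apply_normMap A ⟨b, hb⟩ x
  · apply Subgroup.mem_sup_right
    apply Subgroup.prod_mem
    intro a _
    apply Subgroup.inv_mem
    exact Subgroup.subset_closure ⟨a, a.2, x, rfl⟩

theorem coprime_decomp (hcop : (Nat.card A).Coprime (Nat.card G)) :
    fixedPts A ⊓ commSub A = ⊥ ∧ fixedPts A ⊔ commSub A = ⊤ := by
  constructor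
  · rw [eq_bot_iff]
    rintro z ⟨hzC, hzD⟩
    rw [Subgroup.mem_bot]
    have h1 : z ^ Nat.card A = 1 := by
      rw [← normMap_fixed A z hzC]
      exact normMap_commSub A z hzD
    have h2 : z ^ Nat.card G = 1 := pow_card_eq_one'
    have h3 : orderOf z ∣ Nat.card A := orderOf_dvd_of_pow_eq_one h1
    have h4 : orderOf z ∣ Nat.card G := orderOf_dvd_of_pow_eq_one h2
    have h5 : orderOf z ∣ 1 := by
      have := Nat.dvd_gcd h3 h4
      rwa [hcop] at this
    exact orderOf_eq_one_iff.mp (Nat.dvd_one.mp h5)
  · rw [eq_top_iff]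
    intro x _
    have hc : (Nat.card A).Coprime (orderOf x) :=
      Nat.Coprime.coprime_dvd_right (orderOf_dvd_natCard x) hcop
    obtain ⟨m, hm⟩ := exists_pow_eq_self_of_coprime hc
    rw [← hm]
    exact Subgroup.pow_mem _ (pow_card_mem A x) m

end

end Cfsg.Agent.Lib.Helper88
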