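import Cfsg.Prelude.Def_FusionSystem
import Cfsg.Agent.Lib.Helper88.Abelian
import Cfsg.Agent.Lib.Helper88.Coprime

set_option autoImplicit false

namespace Cfsg.Agent.Lib.Helper88

open Cfsg Cfsg.FusionSystem

variable {Ω : Type*} [Group Ω] {S : Subgroup Ω}

/-- commutative group structure on an abelian subgroup -/
@[reducible] def commOfAb (S : Subgroup Ω) (hab : ∀ x ∈ S, ∀ y ∈ S, x * y = y * x) : CommGroup S :=
  { (inferInstance : Group S) with
    mul_comm := fun a b => Subtype.ext (hab a a.2 b b.2) }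

theorem autInducedBy_top_eq_bot (hab : ∀ x ∈ S, ∀ y ∈ S, x * y = y * x) : autInducedBy S S = ⊥ := by
  rw [eq_bot_iff]
  apply (Subgroup.closure_le _).mpr
  rintro α ⟨g, hg, h⟩
  rw [SetLike.mem_coe, Subgroup.mem_bot]
  ext x
  rw [h x, hab g hg x x.2, mul_inv_cancel_right]
  rfl

theorem card_autGroup_top_coprime [Finite S] (p : ℕ) [Fact p.Prime] (F : FusionSystem S)
    (hF : F.IsSaturated p) (hab : ∀ x ∈ S, ∀ y ∈ S, x * y = y * x) :
    (Nat.card (F.autGroup S)).Coprime p := by
  obtain ⟨⟨-, R, hR⟩, -⟩ := top_automized_receptive F p hF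
  rw [autInducedBy_top_eq_bot hab] at hR
  have hRbot : (R : Subgroup (F.autGroup S)) = ⊥ := by
    rw [hR]
    exact Subgroup.bot_subgroupOf _
  have hcard : Nat.card (R : Subgroup (F.autGroup S)) = 1 := by
    rw [hRbot]
    exact Subgroup.card_bot
  have h2 := Sylow.card_eq_multiplicity R
  rw [hcard] at h2
  have hp : Nat.Prime p := Fact.out
  rw [Nat.coprime_comm, Nat.Prime.coprime_iff_not_dvd hp]
  intro hdvd
  have hpos : 0 < (Nat.card (F.autGroup S)).factorization p :=
    Nat.Prime.factorization_pos_of_dvd hp Nat.card_pos.ne' hdvd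
  have : 1 < p ^ (Nat.card (F.autGroup S)).factorization p :=
    Nat.one_lt_pow hpos.ne' hp.one_lt
  omega

/-- if every element of `Aut_F(S)` is trivial and `S` is abelian, the saturated system is inner -/
theorem hom_eq_inner_of_autGroup_trivial [Finite S] (p : ℕ) (F : FusionSystem S)
    (hF : F.IsSaturated p) (hab : ∀ x ∈ S, ∀ y ∈ S, x * y = y * x)
    (htriv : ∀ α ∈ F.autGroup S, α = 1) (P : Subgroup Ω) :
    F.Hom P = (innerFusionSystem S).Hom P := by
  apply Set.Subset.antisymm
  · intro φ hφ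
    have hPS : P ≤ S := (F.le_of_mem hφ).1
    obtain ⟨α, hα, h⟩ := extend_to_aut hab F p hF hφ
    have := htriv α hα
    subst this
    refine ⟨hPS, 1, S.one_mem, fun x => ?_⟩
    rw [← h x (hPS x.2)]
    simp
  · rintro φ ⟨hP, g, hg, h⟩
    have : φ = conjHom P g := by
      ext x
      rw [h x]
      rfl
    rw [this]
    exact F.conj_mem hP hg

end Cfsg.Agent.Lib.Helper88
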