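import Cfsg.Agent.Lib.Helper79.AovC2p
import Cfsg.Agent.Lib.Helper11.AovC3

/-!
# Leaf C3 of AOV Lemma 1.26, unconditional form

Combines helper11's conditional `mem_K_of_restrict_of_C2` with helper79's `pElt_factor`.
-/

set_option autoImplicit false

namespace Cfsg.Agent.Lib.Helper88.Aov

open Cfsg Cfsg.FusionSystem Cfsg.Agent.Lib.Helper88

variable {Ω : Type*} [Group Ω] {S T : Subgroup Ω} [Finite S] {p : ℕ} [Fact p.Prime]
  {F : FusionSystem S} {E : FusionSystem T} {K : Subgroup (MulAut T)}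

/-- C3. An automorphism of `T` in `F` whose restriction to some `E`-centric subgroup is a map of
`E` lies in `K`. -/
theorem mem_K_of_restrict (h : Setup p F E K) (β : MulAut T) (hβ : β ∈ F.autGroup T)
    {Q : Subgroup Ω} (hQT : Q ≤ T) (hQc : E.IsCentric Q) (hres : resAutHom β Q hQT ∈ E.Hom Q) :
    β ∈ K :=
  mem_K_of_restrict_of_C2 h (fun hRT γ hγ k hk => pElt_factor h hRT γ hγ k hk) β hβ hQT hQc hres

end Cfsg.Agent.Lib.Helper88.Aov
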