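import Cfsg.Agent.Lib.Helper88.NormalTransport
import Cfsg.Agent.Lib.Helper84.FusionBasic

set_option autoImplicit false

namespace Cfsg.Agent.Lib.Helper88

open Cfsg Cfsg.FusionSystem
open Cfsg.Agent.Lib.Helper87 (restrict_mem hom_le hom_mem_S subtype_mem)

variable {Ω : Type*} [Group Ω] {S : Subgroup Ω}

/-- `χ` is the conjugate `α φ α⁻¹` of `φ` by the automorphism `α` of `S` -/
def IsConjOf (α : MulAut S) {P : Subgroup Ω} (φ : P →* Ω) (χ : img α P →* Ω) : Prop :=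
  ∀ (x : P) (hx : (x : Ω) ∈ S) (hφx : φ x ∈ S) (hαx : ((α ⟨x, hx⟩ : S) : Ω) ∈ img α P),
    χ ⟨_, hαx⟩ = ((α ⟨φ x, hφx⟩ : S) : Ω)

/-- The largest `Aut_F(S)`-invariant subsystem of `E`: the maps of `E` all of whose
`Aut_F(S)`-conjugates are maps of `E`. -/
def invCore (E F : FusionSystem S) : FusionSystem S where
  Hom P := {φ | φ ∈ E.Hom P ∧ ∀ α ∈ F.autGroup S, ∃ χ ∈ E.Hom (img α P), IsConjOf α φ χ}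
  le_of_mem h := E.le_of_mem h.1
  injective_of_mem h := E.injective_of_mem h.1
  conj_mem := by
    intro P g hP hg
    refine ⟨E.conj_mem hP hg, fun α _ => ⟨conjHom (img α P) (α ⟨g, hg⟩),
      E.conj_mem (img_le α P) (α _).2, fun x hx hφx hαx => ?_⟩⟩
    show ((α ⟨g, hg⟩ : S) : Ω) * ((α ⟨x, hx⟩ : S) : Ω) * ((α ⟨g, hg⟩ : S) : Ω)⁻¹ = _
    have : (⟨conjHom P g x, hφx⟩ : S) = ⟨g, hg⟩ * ⟨x, hx⟩ * ⟨g, hg⟩⁻¹ := Subtype.ext rfl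
    rw [this, map_mul, map_mul, map_inv]
    rfl
  comp_mem := by
    rintro P Q φ ψ ⟨hφ, hφi⟩ ⟨hψ, hψi⟩ h
    refine ⟨E.comp_mem hφ hψ h, fun α hα => ?_⟩
    obtain ⟨χφ, hχφ, hφc⟩ := hφi α hα
    obtain ⟨χψ, hχψ, hψc⟩ := hψi α hα
    have hPS : P ≤ S := hom_le E hφ
    have hQS : Q ≤ S := hom_le E hψ
    have hm : ∀ y : img α P, χφ y ∈ img α Q := by
      rintro ⟨y, hy⟩
      obtain ⟨y0, hy0, rfl⟩ := mem_img.mp hy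
      have h1 := hφc ⟨y0, hy0⟩ y0.2 (hom_mem_S E hφ _) hy
      rw [h1]
      exact mem_img.mpr ⟨⟨φ ⟨y0, hy0⟩, hom_mem_S E hφ _⟩, h _, rfl⟩
    refine ⟨χψ.comp (χφ.codRestrict _ hm), E.comp_mem hχφ hχψ hm, fun x hx hφx hαx => ?_⟩
    show χψ ⟨χφ ⟨_, hαx⟩, hm _⟩ = _
    have h1 := hφc x hx (hQS (h x)) hαx
    have hmem : ((α ⟨((⟨φ x, h x⟩ : Q) : Ω), hQS (h x)⟩ : S) : Ω) ∈ img α Q :=
      mem_img.mpr ⟨⟨φ x, hQS (h x)⟩, h x, rfl⟩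
    have e1 : (⟨χφ ⟨_, hαx⟩, hm _⟩ : img α Q) =
        ⟨((α ⟨((⟨φ x, h x⟩ : Q) : Ω), hQS (h x)⟩ : S) : Ω), hmem⟩ := Subtype.ext h1
    rw [e1]
    exact hψc ⟨φ x, h x⟩ (hQS (h x)) hφx hmem
  inv_mem := by
    rintro P φ ⟨hφ, hφi⟩
    have hPS : P ≤ S := hom_le E hφ
    obtain ⟨ρ, hρ, hρe⟩ := E.inv_mem hφ
    refine ⟨ρ, ⟨hρ, fun α hα => ?_⟩, hρe⟩
    obtain ⟨χφ, hχφ, hφc⟩ := hφi α hα
    obtain ⟨ρ', hρ', hρ'e⟩ := E.inv_mem hχφ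
    have hαP : ∀ x : P, ((α ⟨x, hPS x.2⟩ : S) : Ω) ∈ img α P := fun x =>
      mem_img.mpr ⟨⟨x, hPS x.2⟩, x.2, rfl⟩
    have hkey : ∀ x : P, χφ ⟨_, hαP x⟩ = ((α ⟨φ x, hom_mem_S E hφ x⟩ : S) : Ω) := fun x =>
      hφc x (hPS x.2) (hom_mem_S E hφ x) (hαP x)
    have hrange : img α φ.range = χφ.range := by
      ext y
      constructor
      · intro hy
        obtain ⟨t, ⟨x, hx⟩, rfl⟩ := mem_img.mp hy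
        refine ⟨⟨_, hαP x⟩, ?_⟩
        rw [hkey x]
        congr 2
        exact Subtype.ext hx
      · rintro ⟨⟨z, hz⟩, rfl⟩
        obtain ⟨x0, hx0, rfl⟩ := mem_img.mp hz
        have := hkey ⟨x0, hx0⟩
        rw [this]
        exact mem_img.mpr ⟨⟨φ ⟨x0, hx0⟩, hom_mem_S E hφ _⟩, ⟨_, rfl⟩, rfl⟩
    obtain ⟨ρ'', hρ'', hρ''e⟩ := Cfsg.Agent.Lib.Helper84.exists_hom_of_eq E hρ' hrange
    refine ⟨ρ'', hρ'', ?_⟩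
    rintro ⟨_, x, rfl⟩ hy hρy hαy
    have hmem : ((α ⟨φ x, hy⟩ : S) : Ω) ∈ χφ.range := by rw [← hrange]; exact hαy
    rw [hρ''e _ hαy hmem]
    have e1 : (⟨((α ⟨φ x, hy⟩ : S) : Ω), hmem⟩ : χφ.range) = ⟨χφ ⟨_, hαP x⟩, ⟨_, rfl⟩⟩ :=
      Subtype.ext (hkey x).symm
    rw [e1, hρ'e]
    show ((α ⟨x, hPS x.2⟩ : S) : Ω) = ((α ⟨ρ ⟨φ x, ⟨x, rfl⟩⟩, hρy⟩ : S) : Ω)
    congr 2
    exact Subtype.ext (hρe x).symm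

theorem invCore_le (E F : FusionSystem S) {P : Subgroup Ω} {φ : P →* Ω}
    (h : φ ∈ (invCore E F).Hom P) : φ ∈ E.Hom P := h.1

theorem mem_invCore {E F : FusionSystem S} {P : Subgroup Ω} {φ : P →* Ω} :
    φ ∈ (invCore E F).Hom P ↔
      φ ∈ E.Hom P ∧ ∀ α ∈ F.autGroup S, ∃ χ ∈ E.Hom (img α P), IsConjOf α φ χ := Iff.rfl

theorem invCore_invProp' (E F : FusionSystem S) (P : Subgroup Ω) (hPS : P ≤ S) (φ : P →* Ω)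
    (hφ : φ ∈ (invCore E F).Hom P) (α : MulAut S) (hα : α ∈ F.autGroup S) :
    ∃ χ ∈ (invCore E F).Hom (img α P), ∀ (x : P) (hφx : φ x ∈ S)
      (hαx : ((α ⟨x, hPS x.2⟩ : S) : Ω) ∈ img α P),
      χ ⟨(α ⟨x, hPS x.2⟩ : S), hαx⟩ = ((α ⟨φ x, hφx⟩ : S) : Ω) := by
  obtain ⟨χ, hχ, hc⟩ := hφ.2 α hα
  refine ⟨χ, ⟨hχ, fun β hβ => ?_⟩, fun x hφx hαx => hc x (hPS x.2) hφx hαx⟩
  obtain ⟨χ', hχ', hc'⟩ := hφ.2 (β * α) (mul_mem hβ hα)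
  obtain ⟨χ'', hχ'', hχ''e⟩ :=
    Cfsg.Agent.Lib.Helper84.exists_hom_of_eq E hχ' (img_img β α P)
  refine ⟨χ'', hχ'', ?_⟩
  intro y hy hχy hβy
  obtain ⟨x0, hx0, hx0y⟩ := mem_img.mp y.2
  have hyS : (⟨(y : Ω), hy⟩ : S) = α x0 := Subtype.ext hx0y.symm
  have hmem : ((β ⟨(y : Ω), hy⟩ : S) : Ω) ∈ img (β * α) P := by
    rw [← img_img]; exact hβy
  rw [hχ''e _ hβy hmem]
  have hφS : φ ⟨x0, hx0⟩ ∈ S := hom_mem_S E hφ.1 _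
  have hαx : ((α ⟨((⟨x0, hx0⟩ : P) : Ω), x0.2⟩ : S) : Ω) ∈ img α P :=
    mem_img.mpr ⟨x0, hx0, rfl⟩
  have h1 := hc ⟨x0, hx0⟩ x0.2 hφS hαx
  have hmem' : (((β * α) ⟨((⟨x0, hx0⟩ : P) : Ω), x0.2⟩ : S) : Ω) ∈ img (β * α) P :=
    mem_img.mpr ⟨x0, hx0, rfl⟩
  have h2 := hc' ⟨x0, hx0⟩ x0.2 hφS hmem'
  have e1 : (⟨((β ⟨(y : Ω), hy⟩ : S) : Ω), hmem⟩ : img (β * α) P) =
      ⟨(((β * α) ⟨((⟨x0, hx0⟩ : P) : Ω), x0.2⟩ : S) : Ω), hmem'⟩ := by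
    apply Subtype.ext
    show ((β ⟨(y : Ω), hy⟩ : S) : Ω) = ((β (α x0) : S) : Ω)
    rw [hyS]
  rw [e1, h2]
  have e2 : y = ⟨((α ⟨((⟨x0, hx0⟩ : P) : Ω), x0.2⟩ : S) : Ω), hαx⟩ := Subtype.ext hx0y.symm
  show ((β (α ⟨φ ⟨x0, hx0⟩, hφS⟩) : S) : Ω) = ((β ⟨χ y, hχy⟩ : S) : Ω)
  congr 2
  apply Subtype.ext
  show ((α ⟨φ ⟨x0, hx0⟩, hφS⟩ : S) : Ω) = χ y
  rw [e2, h1]

theorem invCore_invProp (E F : FusionSystem S) : InvProp (invCore E F) F :=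
  fun P hPS φ hφ α hα => invCore_invProp' E F P hPS φ hφ α hα

end Cfsg.Agent.Lib.Helper88
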