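import Cfsg.Agent.Lib.Helper88.PPrimeResMin
import Cfsg.Agent.Lib.Helper88.InvCore

/-!
# Definitions for AOV Lemma 1.26 (a normal subsystem of index prime to `p` from a character of
`Aut_F(T)`)
-/

set_option autoImplicit false

namespace Cfsg.Agent.Lib.Helper88.Aov

open Cfsg Cfsg.FusionSystem Cfsg.Agent.Lib.Helper88

variable {Ω : Type*} [Group Ω] {S T : Subgroup Ω}

/-- the family: `F`-centric subgroups meeting `T` in an `E`-centric subgroup -/
def HH (F : FusionSystem S) (E : FusionSystem T) : Set (Subgroup Ω) :=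
  {P | F.IsCentric P ∧ E.IsCentric (P ⊓ T)}

/-- the maps of the naive system: maps of `F` whose restriction to `P ⊓ T` is an element of `K`
composed with a map of `E` -/
def kerHom (F : FusionSystem S) (E : FusionSystem T) (K : Subgroup (MulAut T)) (P : Subgroup Ω) :
    Set (P →* Ω) :=
  {φ | φ ∈ F.Hom P ∧ ∃ κ ∈ K, ∃ φ₀ ∈ E.Hom (P ⊓ T), ∀ (x : ↥(P ⊓ T)) (hx : φ₀ x ∈ T),
    φ ⟨(x : Ω), x.2.1⟩ = ((κ ⟨φ₀ x, hx⟩ : T) : Ω)}

/-- the standing hypotheses: `E` is weakly normal in `F` over the strongly closed `T`, and `K` is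
a normal subgroup of `Aut_F(T)` containing `Aut_E(T)` and `Aut_S(T)` with quotient of exponent
prime to `p` -/
structure Setup (p : ℕ) (F : FusionSystem S) (E : FusionSystem T) (K : Subgroup (MulAut T)) :
    Prop where
  hS : IsPGroup p S
  hF : F.IsSaturated p
  hE : E.IsSaturated p
  hT : F.StronglyClosed T
  hsub : ∀ P : Subgroup Ω, E.Hom P ⊆ F.Hom P
  hinv : InvProp E F
  hfrat : FratProp E F
  hKF : K ≤ F.autGroup T
  hEK : E.autGroup T ≤ K
  hKS : autInducedBy S T ≤ K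
  hKn : ∀ α ∈ F.autGroup T, ∀ κ ∈ K, α * κ * α⁻¹ ∈ K
  hKm : ∃ m : ℕ, m.Coprime p ∧ 0 < m ∧ ∀ α ∈ F.autGroup T, α ^ m ∈ K

end Cfsg.Agent.Lib.Helper88.Aov
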