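import Cfsg.Agent.Lib.Helper54.AovC1
import Cfsg.Agent.Lib.Helper54.AovA2
import Cfsg.Agent.Lib.Helper51.AovA1
import Cfsg.Agent.Lib.Helper51.AovA3
import Cfsg.Agent.Lib.Helper79.AovC2
import Cfsg.Agent.Lib.Helper88.AovC3Final
import Cfsg.Agent.Lib.Helper88.FamRes3
import Cfsg.Agent.Lib.Helper85.DirectFactor2

/-!
# AOV Lemma 1.26, part 1: the family, the subgroup `N`, and `Aut_{F₀}(S) = N`
-/

set_option autoImplicit false

namespace Cfsg.Agent.Lib.Helper88.Aov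

open Cfsg Cfsg.FusionSystem Cfsg.Agent.Lib.Helper88
open Cfsg.Agent.Lib.Helper87 (restrict_mem hom_le hom_mem_S subtype_mem)

variable {Ω : Type*} [Group Ω] {S T : Subgroup Ω}

/-- the automorphisms of `S` in `F` whose restriction to `T` lies in `K` -/
def NK (F : FusionSystem S) (K : Subgroup (MulAut T)) (hTS : T ≤ S) : Subgroup (MulAut S) where
  carrier := {α | α ∈ F.autGroup S ∧
    ∃ β ∈ K, ∀ t : T, ((β t : T) : Ω) = ((α ⟨t, hTS t.2⟩ : S) : Ω)}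
  one_mem' := ⟨(F.autGroup S).one_mem, 1, K.one_mem, fun _ => rfl⟩
  mul_mem' := by
    rintro a b ⟨ha, β₁, hβ₁, h₁⟩ ⟨hb, β₂, hβ₂, h₂⟩
    refine ⟨(F.autGroup S).mul_mem ha hb, β₁ * β₂, K.mul_mem hβ₁ hβ₂, fun t => ?_⟩
    rw [MulAut.mul_apply, MulAut.mul_apply, h₁ (β₂ t)]
    congr 2
    exact Subtype.ext (h₂ t)
  inv_mem' := by
    rintro a ⟨ha, β, hβ, h⟩
    refine ⟨(F.autGroup S).inv_mem ha, β⁻¹, K.inv_mem hβ, fun t => ?_⟩
    have h1 := h (β⁻¹ t)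
    rw [MulAut.apply_inv_self] at h1
    have h2 : (⟨(t : Ω), hTS t.2⟩ : S) = a ⟨((β⁻¹ t : T) : Ω), hTS (β⁻¹ t).2⟩ := Subtype.ext h1
    rw [h2, MulAut.inv_apply_self]

theorem mem_NK {F : FusionSystem S} {K : Subgroup (MulAut T)} {hTS : T ≤ S} {α : MulAut S} :
    α ∈ NK F K hTS ↔ α ∈ F.autGroup S ∧
      ∃ β ∈ K, ∀ t : T, ((β t : T) : Ω) = ((α ⟨t, hTS t.2⟩ : S) : Ω) := Iff.rfl

variable [Finite S] {p : ℕ} [Fact p.Prime] {F : FusionSystem S} {E : FusionSystem T}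
  {K : Subgroup (MulAut T)}

theorem NK_normal (h : Setup p F E K) (hTS : T ≤ S) :
    ∀ γ ∈ F.autGroup S, ∀ ν ∈ NK F K hTS, γ * ν * γ⁻¹ ∈ NK F K hTS := by
  rintro γ hγ ν ⟨hν, β, hβ, hβe⟩
  obtain ⟨γT, hγT, hγTe⟩ := Cfsg.Agent.Lib.Helper85.restrict_aut F h.hT hγ
  refine ⟨(F.autGroup S).mul_mem ((F.autGroup S).mul_mem hγ hν) ((F.autGroup S).inv_mem hγ),
    γT * β * γT⁻¹, h.hKn γT hγT β hβ, fun t => ?_⟩
  rw [MulAut.mul_apply, MulAut.mul_apply, MulAut.mul_apply, MulAut.mul_apply, hγTe]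
  congr 2
  apply Subtype.ext
  show ((β (γT⁻¹ t) : T) : Ω) = ((ν (γ⁻¹ ⟨t, hTS t.2⟩) : S) : Ω)
  rw [hβe]
  congr 2
  apply Subtype.ext
  show ((γT⁻¹ t : T) : Ω) = ((γ⁻¹ ⟨t, hTS t.2⟩ : S) : Ω)
  have h1 := hγTe (γT⁻¹ t)
  rw [MulAut.apply_inv_self] at h1
  have h2 : (⟨(t : Ω), hTS t.2⟩ : S) = γ ⟨((γT⁻¹ t : T) : Ω), h.hT.1 (γT⁻¹ t).2⟩ := Subtype.ext h1
  rw [h2, MulAut.inv_apply_self]

/-- the family data from the leaves -/
theorem fam_of_setup (h : Setup p F E K) (hTS : T ≤ S) : Fam p F (HH F E) (NK F K hTS) where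
  centric := fun P hP => hP.1
  conj := fun P hP Q hc => HH_of_isConj h hP hc
  top := by
    haveI : Finite T := Finite.of_injective _ (Subgroup.inclusion_injective hTS)
    refine ⟨isCentric_self F, ?_⟩
    rw [inf_eq_right.mpr hTS]
    exact isCentric_self E
  witness := by
    intro P hPc hfn hPH
    have hP : ¬ E.IsCentric (P ⊓ T) := fun hc => hPH ⟨hPc, hc⟩
    obtain ⟨g, hgC, hgN, hgP⟩ := exists_witness h hPc hfn hP
    obtain ⟨U, hUp, hUn, hgU⟩ := witness_pgroup h hPc.1 hgC hgN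
    exact ⟨g, hgN, hgP, U, hUp, hUn, hgU⟩
  hN := fun α hα => hα.1
  hNn := NK_normal h hTS

omit [Finite S] [Fact (Nat.Prime p)] in
/-- an automorphism of `S` whose restriction to `T` lies in `K` belongs to the naive system -/
theorem aut_mem_kerHom (h : Setup p F E K) (hTS : T ≤ S) {α : MulAut S} (hα : α ∈ F.autGroup S)
    {β : MulAut T} (hβ : β ∈ K)
    (hβe : ∀ t : T, ((β t : T) : Ω) = ((α ⟨t, hTS t.2⟩ : S) : Ω)) :
    S.subtype.comp α.toMonoidHom ∈ kerHom F E K S := by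
  refine ⟨(Cfsg.Agent.Lib.Helper87.mem_autGroup_iff F le_rfl α).mp hα, β, hβ,
    (S ⊓ T).subtype, subtype_mem E inf_le_right, fun x hx => ?_⟩
  rw [hβe]
  rfl

/-- the naive system belongs to the class -/
theorem kerSys_mem_famClass (h : Setup p F E K) (hTS : T ≤ S) :
    kerSys h ∈ famClass p F (HH F E) (NK F K hTS) := by
  refine ⟨?_, ?_, ?_⟩
  · intro P hPH
    have hPS : P ≤ S := hPH.1.1
    unfold pGen
    rw [Subgroup.closure_le]
    rintro γ ⟨hγ, k, hk⟩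
    exact (Cfsg.Agent.Lib.Helper87.mem_autGroup_iff (kerSys h) hPS γ).mpr
      (pElt_mem_kerHom h hPS γ hγ k hk)
  · intro α hα P hP hPH hres
    obtain ⟨-, κ, hκ, φ₀, hφ₀, he⟩ := hres
    obtain ⟨αT, hαT, hαTe⟩ := Cfsg.Agent.Lib.Helper85.restrict_aut F h.hT hα
    have hκF : κ ∈ F.autGroup T := h.hKF hκ
    have hβF : κ⁻¹ * αT ∈ F.autGroup T :=
      (F.autGroup T).mul_mem ((F.autGroup T).inv_mem hκF) hαT
    have hres' : resAutHom (κ⁻¹ * αT) (P ⊓ T) inf_le_right = φ₀ := by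
      ext x
      have hx : φ₀ x ∈ T := (E.le_of_mem hφ₀).2 x
      rw [resAutHom_apply, MulAut.mul_apply]
      have h1 : αT ⟨(x : Ω), x.2.2⟩ = κ ⟨φ₀ x, hx⟩ := by
        apply Subtype.ext
        rw [hαTe, ← he x hx]
        rfl
      rw [h1, MulAut.inv_apply_self]
    have hβK : κ⁻¹ * αT ∈ K :=
      mem_K_of_restrict h _ hβF inf_le_right hPH.2 (by rw [hres']; exact hφ₀)
    have hαTK : αT ∈ K := by
      have := K.mul_mem hκ hβK
      rwa [mul_inv_cancel_left] at this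
    exact (Cfsg.Agent.Lib.Helper87.mem_autGroup_iff (kerSys h) le_rfl α).mpr
      (aut_mem_kerHom h hTS hα hαTK hαTe)
  · rintro ν ⟨hν, β, hβ, hβe⟩
    exact (Cfsg.Agent.Lib.Helper87.mem_autGroup_iff (kerSys h) le_rfl ν).mpr
      (aut_mem_kerHom h hTS hν hβ hβe)

/-- the automizer of `S` in the naive system is `N` -/
theorem autGroup_kerSys_le (h : Setup p F E K) (hTS : T ≤ S) :
    (kerSys h).autGroup S ≤ NK F K hTS := by
  intro α hα
  haveI : Finite T := Finite.of_injective _ (Subgroup.inclusion_injective hTS)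
  obtain ⟨hαF', κ, hκ, φ₀, hφ₀, he⟩ :=
    (Cfsg.Agent.Lib.Helper87.mem_autGroup_iff (kerSys h) le_rfl α).mp hα
  have hαF : α ∈ F.autGroup S := (Cfsg.Agent.Lib.Helper87.mem_autGroup_iff F le_rfl α).mpr hαF'
  obtain ⟨αT, hαT, hαTe⟩ := Cfsg.Agent.Lib.Helper85.restrict_aut F h.hT hαF
  refine ⟨hαF, αT, ?_, hαTe⟩
  have hκF : κ ∈ F.autGroup T := h.hKF hκ
  have hβF : κ⁻¹ * αT ∈ F.autGroup T :=
    (F.autGroup T).mul_mem ((F.autGroup T).inv_mem hκF) hαT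
  obtain ⟨φ₁, hφ₁, hφ₁e⟩ :=
    Cfsg.Agent.Lib.Helper84.exists_hom_of_eq E hφ₀ (inf_eq_right.mpr hTS).symm
  have hres' : resAutHom (κ⁻¹ * αT) T le_rfl = φ₁ := by
    ext x
    have hxST : (x : Ω) ∈ S ⊓ T := ⟨hTS x.2, x.2⟩
    have hx : φ₀ ⟨x, hxST⟩ ∈ T := (E.le_of_mem hφ₀).2 _
    rw [resAutHom_apply, MulAut.mul_apply, hφ₁e x x.2 hxST]
    have h1 : αT ⟨(x : Ω), x.2⟩ = κ ⟨φ₀ ⟨x, hxST⟩, hx⟩ := by
      apply Subtype.ext
      rw [hαTe, ← he ⟨x, hxST⟩ hx]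
      rfl
    rw [h1, MulAut.inv_apply_self]
  have hβK : κ⁻¹ * αT ∈ K :=
    mem_K_of_restrict h _ hβF le_rfl (isCentric_self E) (by rw [hres']; exact hφ₁)
  have := K.mul_mem hκ hβK
  rwa [mul_inv_cancel_left] at this

/-- `Aut_{F₀}(S) = N` -/
theorem autGroup_famRes_eq (h : Setup p F E K) (hTS : T ≤ S) :
    (famRes p F (HH F E) (NK F K hTS)).autGroup S = NK F K hTS :=
  le_antisymm ((famRes_autGroup_le (kerSys_mem_famClass h hTS)).trans (autGroup_kerSys_le h hTS))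
    (famRes_N (fam_of_setup h hTS))

end Cfsg.Agent.Lib.Helper88.Aov
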