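import Cfsg.Agent.Lib.Helper88.AovMain1
import Cfsg.Agent.Lib.Helper87.HypAct

/-!
# AOV Lemma 1.26, part 2: `E ≤ F₀` and properness
-/

set_option autoImplicit false

namespace Cfsg.Agent.Lib.Helper88.Aov

open Cfsg Cfsg.FusionSystem Cfsg.Agent.Lib.Helper88
open Cfsg.Agent.Lib.Helper87 (restrict_mem hom_le hom_mem_S subtype_mem)

variable {Ω : Type*} [Group Ω] {S T : Subgroup Ω}

/-- the maps of the system `E` over `T` that are maps of the system `D` over `S` -/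
def interSystem₂ (E : FusionSystem T) (D : FusionSystem S) (hTS : T ≤ S) : FusionSystem T where
  Hom P := {φ | φ ∈ E.Hom P ∧ φ ∈ D.Hom P}
  le_of_mem h := E.le_of_mem h.1
  injective_of_mem h := E.injective_of_mem h.1
  conj_mem hP hg := ⟨E.conj_mem hP hg, D.conj_mem (hP.trans hTS) (hTS hg)⟩
  comp_mem hφ hψ h := ⟨E.comp_mem hφ.1 hψ.1 h, D.comp_mem hφ.2 hψ.2 h⟩
  inv_mem := by
    intro P φ hφ
    obtain ⟨ψ, hψ, hinv⟩ := E.inv_mem hφ.1
    obtain ⟨ψ', hψ', hinv'⟩ := D.inv_mem hφ.2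
    have : ψ' = ψ := by
      ext ⟨_, x, rfl⟩
      rw [hinv', hinv]
    exact ⟨ψ, ⟨hψ, this ▸ hψ'⟩, hinv⟩

theorem autGroup_le_of_hsub {E : FusionSystem T} {F : FusionSystem S}
    (h : ∀ P : Subgroup Ω, E.Hom P ⊆ F.Hom P) (P : Subgroup Ω) : E.autGroup P ≤ F.autGroup P := by
  unfold autGroup
  exact Subgroup.closure_mono (fun α hα => h P hα)

variable [Finite S] {p : ℕ} [Fact p.Prime] {F : FusionSystem S} {E : FusionSystem T}
  {K : Subgroup (MulAut T)}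

/-- an automorphism of `T` in `F` that is a map of the naive system lies in `K` -/
theorem aut_mem_K_of_kerHom (h : Setup p F E K) (hTS : T ≤ S) {a : MulAut T}
    (ha : a ∈ F.autGroup T) (hk : T.subtype.comp a.toMonoidHom ∈ kerHom F E K T) : a ∈ K := by
  have hTfin : Finite T := Finite.of_injective _ (Subgroup.inclusion_injective hTS)
  obtain ⟨-, κ, hκ, φ₀, hφ₀, he⟩ := hk
  have hκF : κ ∈ F.autGroup T := h.hKF hκ
  have hβF : κ⁻¹ * a ∈ F.autGroup T := (F.autGroup T).mul_mem ((F.autGroup T).inv_mem hκF) ha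
  obtain ⟨φ₁, hφ₁, hφ₁e⟩ :=
    Cfsg.Agent.Lib.Helper84.exists_hom_of_eq E hφ₀ (inf_idem T).symm
  have hres' : resAutHom (κ⁻¹ * a) T le_rfl = φ₁ := by
    ext x
    have hxTT : (x : Ω) ∈ T ⊓ T := ⟨x.2, x.2⟩
    have hx : φ₀ ⟨x, hxTT⟩ ∈ T := (E.le_of_mem hφ₀).2 _
    rw [resAutHom_apply, MulAut.mul_apply, hφ₁e x x.2 hxTT]
    have h1 : a ⟨(x : Ω), x.2⟩ = κ ⟨φ₀ ⟨x, hxTT⟩, hx⟩ := by
      apply Subtype.ext
      rw [← he ⟨x, hxTT⟩ hx]
      rfl
    rw [h1, MulAut.inv_apply_self]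
  have hβK : κ⁻¹ * a ∈ K :=
    mem_K_of_restrict h _ hβF le_rfl (isCentric_self E) (by rw [hres']; exact hφ₁)
  have := K.mul_mem hκ hβK
  rwa [mul_inv_cancel_left] at this

/-- the relative residual lies in the naive system -/
theorem famRes_le_kerSys (h : Setup p F E K) (hTS : T ≤ S) :
    famRes p F (HH F E) (NK F K hTS) ≤ kerSys h :=
  famRes_le_of_mem (kerSys_mem_famClass h hTS)

/-- `Aut_E(T) ≤ Aut_{F₀}(T)`, from the extension condition -/
theorem autE_mem_famRes (hS : IsPGroup p S) (hF : F.IsSaturated p) (h : Setup p F E K)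
    (hTS : T ≤ S)
    (hext : ∀ α ∈ E.autGroup T, ∃ β ∈ F.autGroup (T ⊔ centralizerIn S T),
      ∀ x : T, ((β (Subgroup.inclusion le_sup_left x) : ↥(T ⊔ centralizerIn S T)) : Ω) =
        ((α x : T) : Ω))
    {α : MulAut T} (hα : α ∈ E.autGroup T) :
    T.subtype.comp α.toMonoidHom ∈ (famRes p F (HH F E) (NK F K hTS)).Hom T := by
  have hTfin : Finite T := Finite.of_injective _ (Subgroup.inclusion_injective hTS)
  have hfam := fam_of_setup h hTS
  obtain ⟨β, hβ, hβe⟩ := hext α hα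
  have hRS : T ⊔ centralizerIn S T ≤ S := sup_le hTS inf_le_left
  have hψ := (Cfsg.Agent.Lib.Helper87.mem_autGroup_iff F hRS β).mp hβ
  obtain ⟨γ, hγ, ψ₀, hψ₀, he⟩ := famRes_frattini hS F hF hfam _ _ hψ
  have hψ₀S : ∀ x, ψ₀ x ∈ S := fun x => hom_mem_S _ hψ₀ x
  -- the restriction of `ψ₀` to `T`
  have hψ₀T : ψ₀.comp (Subgroup.inclusion (le_sup_left : T ≤ T ⊔ centralizerIn S T)) ∈
      (famRes p F (HH F E) (NK F K hTS)).Hom T := restrict_mem _ hψ₀ le_sup_left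
  have hψ₀TF := famRes_le p F _ _ _ hψ₀T
  obtain ⟨a₀, ha₀, ha₀e⟩ := Cfsg.Agent.Lib.Helper87.exists_aut_of_hom
    (famRes p F (HH F E) (NK F K hTS)) hψ₀T (fun z => h.hT.2 T le_rfl _ hψ₀TF z)
  have ha₀F : a₀ ∈ F.autGroup T := autGroup_le_of_sub (famRes_le p F _ _) T ha₀
  have ha₀k : T.subtype.comp a₀.toMonoidHom ∈ kerHom F E K T :=
    famRes_le_kerSys h hTS T
      ((Cfsg.Agent.Lib.Helper87.mem_autGroup_iff _ hTS a₀).mp ha₀)
  have ha₀K : a₀ ∈ K := aut_mem_K_of_kerHom h hTS ha₀F ha₀k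
  obtain ⟨γT, hγT, hγTe⟩ := Cfsg.Agent.Lib.Helper85.restrict_aut F h.hT hγ
  -- `α = γT * a₀`
  have hαeq : α = γT * a₀ := by
    ext x
    rw [MulAut.mul_apply, hγTe, ← hβe x]
    have h1 := he (Subgroup.inclusion le_sup_left x) (hψ₀S _)
    have h2 : ((β (Subgroup.inclusion le_sup_left x) : ↥(T ⊔ centralizerIn S T)) : Ω) =
        ((γ ⟨ψ₀ (Subgroup.inclusion le_sup_left x), hψ₀S _⟩ : S) : Ω) := h1
    rw [h2]
    congr 2
    apply Subtype.ext
    exact (ha₀e x).symm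
  have hγTK : γT ∈ K := by
    have h1 : γT = α * a₀⁻¹ := by rw [hαeq, mul_inv_cancel_right]
    rw [h1]
    exact K.mul_mem (h.hEK hα) (K.inv_mem ha₀K)
  have hγN : γ ∈ NK F K hTS := ⟨hγ, γT, hγTK, hγTe⟩
  have hγE := famRes_N hfam hγN
  have hγE' := (Cfsg.Agent.Lib.Helper87.mem_autGroup_iff _ le_rfl γ).mp hγE
  have ha₀' := (Cfsg.Agent.Lib.Helper87.mem_autGroup_iff _ hTS a₀).mp ha₀
  refine mem_of_factor _ ha₀' (fun x => hTS (a₀ x).2) hγE' (fun x => ?_)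
  show ((γ ⟨((a₀ x : T) : Ω), _⟩ : S) : Ω) = ((α x : T) : Ω)
  rw [hαeq, MulAut.mul_apply, hγTe]

/-- `E ≤ F₀` -/
theorem E_le_famRes (hS : IsPGroup p S) (hF : F.IsSaturated p) (h : Setup p F E K)
    (hTS : T ≤ S)
    (hext : ∀ α ∈ E.autGroup T, ∃ β ∈ F.autGroup (T ⊔ centralizerIn S T),
      ∀ x : T, ((β (Subgroup.inclusion le_sup_left x) : ↥(T ⊔ centralizerIn S T)) : Ω) =
        ((α x : T) : Ω)) :
    ∀ P : Subgroup Ω, E.Hom P ⊆ (famRes p F (HH F E) (NK F K hTS)).Hom P := by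
  have hTfin : Finite T := Finite.of_injective _ (Subgroup.inclusion_injective hTS)
  have hTp : IsPGroup p T := hS.to_le hTS
  have hfam := fam_of_setup h hTS
  set F₀ := famRes p F (HH F E) (NK F K hTS) with hF₀
  have hidx := (famRes_facts hS F hF hfam).1
  -- the residual of `E` lies in `F₀`
  have hres : ppRes p E ≤ interSystem₂ E F₀ hTS := by
    apply ppRes_le_of_closed
    · intro P hPc
      have hPT : P ≤ T := hPc.1
      have hPS : P ≤ S := hPT.trans hTS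
      rw [map_closure_eq_pGen]
      have h1 : pGen p (E.autGroup P) ≤ pGen p (F.autGroup P) := by
        unfold pGen
        apply Subgroup.closure_mono
        rintro x ⟨hx, hk⟩
        exact ⟨autGroup_le_of_hsub h.hsub P hx, hk⟩
      have h2 : pGen p (F.autGroup P) ≤ F₀.autGroup P := by
        rw [← map_closure_eq_pGen]
        exact hidx.2 P hPS
      intro γ hγ
      have hγE : γ ∈ E.autGroup P := pGen_le p _ hγ
      have hγF₀ := h2 (h1 hγ)
      exact (Cfsg.Agent.Lib.Helper87.mem_autGroup_iff (interSystem₂ E F₀ hTS) hPT γ).mpr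
        ⟨(Cfsg.Agent.Lib.Helper87.mem_autGroup_iff E hPT γ).mp hγE,
          (Cfsg.Agent.Lib.Helper87.mem_autGroup_iff F₀ hPS γ).mp hγF₀⟩
    · intro α hα P hPT _ _
      exact (Cfsg.Agent.Lib.Helper87.mem_autGroup_iff (interSystem₂ E F₀ hTS) le_rfl α).mpr
        ⟨(Cfsg.Agent.Lib.Helper87.mem_autGroup_iff E le_rfl α).mp hα,
          autE_mem_famRes hS hF h hTS hext hα⟩
  intro P φ hφ
  obtain ⟨-, hfrat, -⟩ := ppRes_facts hTp E h.hE
  obtain ⟨α, hα, φ₀, hφ₀, he⟩ := hfrat P φ hφ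
  have hφ₀T : ∀ x : P, φ₀ x ∈ T := fun x => ((ppRes p E).le_of_mem hφ₀).2 x
  have hφ₀F₀ : φ₀ ∈ F₀.Hom P := (hres P hφ₀).2
  exact mem_of_factor F₀ hφ₀F₀ hφ₀T (autE_mem_famRes hS hF h hTS hext hα)
    (fun x => (he x (hφ₀T x)).symm)

/-- if `F₀ = F` then every automorphism of `T` in `F` lies in `K` -/
theorem autGroup_le_K_of_eq (h : Setup p F E K) (hTS : T ≤ S)
    (heq : ∀ P : Subgroup Ω, (famRes p F (HH F E) (NK F K hTS)).Hom P = F.Hom P) :
    F.autGroup T ≤ K := by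
  intro a ha
  apply aut_mem_K_of_kerHom h hTS ha
  apply famRes_le_kerSys h hTS T
  rw [heq]
  exact (Cfsg.Agent.Lib.Helper87.mem_autGroup_iff F hTS a).mp ha

end Cfsg.Agent.Lib.Helper88.Aov
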