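import Mathlib

set_option autoImplicit false

/-!
# Averaging an equivariant homomorphism

A homomorphism from a normal subgroup `C` of `N` to a commutative group with an action of `N`, equivariant
under a subgroup `P` of finite index, is averaged over `N ⧸ P` to a homomorphism equivariant under `N`.
-/

namespace Cfsg.Agent.Lib.Helper88

open scoped BigOperators

section averaging

variable {N : Type*} [Group N] (C : Subgroup N) [hC : C.Normal] (P : Subgroup N)
  [Fintype (N ⧸ P)] {A : Type*} [CommGroup A] (act : N →* MulAut A)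

/-- the averaged homomorphism -/
noncomputable def avgHom (V : C →* A) : C →* A where
  toFun c := ∏ q : N ⧸ P, act q.out (V (MulAut.conjNormal (q.out)⁻¹ c))
  map_one' := by
    apply Finset.prod_eq_one
    intro q _
    rw [map_one, map_one, map_one]
  map_mul' a b := by
    rw [← Finset.prod_mul_distrib]
    apply Finset.prod_congr rfl
    intro q _
    rw [map_mul, map_mul, map_mul]

theorem avgHom_apply (V : C →* A) (c : C) :
    avgHom C P act V c = ∏ q : N ⧸ P, act q.out (V (MulAut.conjNormal (q.out)⁻¹ c)) := rfl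

theorem avgHom_conj (V : C →* A)
    (hV : ∀ x ∈ P, ∀ c : C, V (MulAut.conjNormal x c) = act x (V c)) (n : N) (c : C) :
    avgHom C P act V (MulAut.conjNormal n c) = act n (avgHom C P act V c) := by
  rw [avgHom_apply, avgHom_apply, map_prod]
  rw [← Equiv.prod_comp (MulAction.toPerm n : Equiv.Perm (N ⧸ P))]
  apply Finset.prod_congr rfl
  intro q _
  have hq : (MulAction.toPerm n : Equiv.Perm (N ⧸ P)) q = ((n * q.out : N) : N ⧸ P) := by
    show n • q = _
    conv_lhs => rw [← QuotientGroup.out_eq' q]
    rfl
  obtain ⟨x, hx⟩ := QuotientGroup.mk_out_eq_mul P (n * q.out)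
  rw [hq, hx]
  have e1 : (MulAut.conjNormal (n * q.out * (x : N))⁻¹ (MulAut.conjNormal n c) : C) =
      MulAut.conjNormal ((x : N)⁻¹) (MulAut.conjNormal (q.out)⁻¹ c) := by
    rw [← MulAut.mul_apply, ← MulAut.mul_apply, ← map_mul, ← map_mul]
    congr 2
    group
  rw [e1, hV _ (P.inv_mem x.2), map_mul, map_mul, MulAut.mul_apply, MulAut.mul_apply, map_inv,
    MulAut.apply_inv_self]

theorem avgHom_eq_pow (V : C →* A) (c : C) (a : A)
    (h : ∀ t : N, V (MulAut.conjNormal t⁻¹ c) = act t⁻¹ a) :
    avgHom C P act V c = a ^ Fintype.card (N ⧸ P) := by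
  rw [avgHom_apply, ← Finset.card_univ, ← Finset.prod_const]
  apply Finset.prod_congr rfl
  intro q _
  rw [h, map_inv, MulAut.apply_inv_self]

end averaging

end Cfsg.Agent.Lib.Helper88
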