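import Cfsg.Agent.Lib.Helper88.BcgloUp

/-!
# Confluence of the relation `P ⇝ W` (for the BCGLO criterion)
-/

set_option autoImplicit false

namespace Cfsg.Agent.Lib.Helper88

open Cfsg Cfsg.FusionSystem Cfsg.Agent.Lib.Helper87 Cfsg.Agent.Lib.Helper84.KN

variable {Ω : Type*} [Group Ω] {S : Subgroup Ω}

/-- An extension of a marking (as produced by `exists_extension` for the stabilizer of `P`)
sends `φ(P)` to `φ₀(P)`. -/
theorem imgOf_of_marking {R P D : Subgroup Ω} {φ φ₀ : R →* Ω} {ψ : D →* Ω} {χ : MulAut R}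
    (hχ : χ ∈ stabAut R P) (hD : φ.range ≤ D)
    (h : ∀ (x : R) (hx : φ x ∈ D), ψ ⟨φ x, hx⟩ = φ₀ (χ x)) :
    imgOf ψ (imgOf φ P) = imgOf φ₀ P := by
  ext y
  rw [mem_imgOf, mem_imgOf]
  constructor
  · rintro ⟨z, hz, rfl⟩
    obtain ⟨x, hx, hxe⟩ := mem_imgOf.mp hz
    refine ⟨χ x, (hχ x).mpr hx, ?_⟩
    have h1 : z = ⟨φ x, hD ⟨x, rfl⟩⟩ := Subtype.ext hxe.symm
    rw [h1, h]
  · rintro ⟨x, hx, rfl⟩
    refine ⟨⟨φ (χ⁻¹ x), hD ⟨_, rfl⟩⟩, mem_imgOf.mpr ⟨χ⁻¹ x, ?_, rfl⟩, ?_⟩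
    · have := hχ (χ⁻¹ x)
      have e : χ (χ⁻¹ x) = x := by simp
      rw [e] at this
      exact this.mp hx
    · rw [h]
      simp

/-- The diamond property at `P₀`, from confluence of single steps at the level of `N_S(P₀)`. -/
theorem diamond_of_conf (F : FusionSystem S) {P₀ W₁ W₂ : Subgroup Ω} (hP₀ : P₀ ≤ S)
    (h1 : UpTo F P₀ W₁) (h2 : UpTo F P₀ W₂)
    (conf : ∀ (R' : Subgroup Ω) (φ' : R' →* Ω),
      Nat.card R' = Nat.card (normalizerIn S P₀) → W₁ ≤ R' → R' ≤ normalizerIn S W₁ →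
      φ' ∈ F.Hom R' → ∃ W, UpTo F W₁ W ∧ UpTo F (imgOf φ' W₁) W) :
    ∃ W, UpTo F W₁ W ∧ UpTo F W₂ W := by
  obtain ⟨θ₁, hθ₁, e₁⟩ := h1
  obtain ⟨θ₂, hθ₂, e₂⟩ := h2
  obtain ⟨ψ, hψ, hinv, hψr⟩ := inv_exists F hθ₁ rfl
  have hm : ∀ z : θ₁.range, ψ z ∈ normalizerIn S P₀ := fun z => hψr.le ⟨z, rfl⟩
  obtain ⟨φ', hφ', hφ'e⟩ := comp_mem' F hψ hθ₂ hm
  have hcard : Nat.card θ₁.range = Nat.card (normalizerIn S P₀) :=
    (Nat.card_congr (MonoidHom.ofInjective (F.injective_of_mem hθ₁)).toEquiv).symm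
  have hW₁ : W₁ ≤ θ₁.range := e₁ ▸ imgOf_le_range θ₁ P₀
  have hN : θ₁.range ≤ normalizerIn S W₁ := e₁ ▸ range_le_normalizerIn_imgOf F hθ₁ le_rfl
  obtain ⟨W, hW1, hW2⟩ := conf θ₁.range φ' hcard hW₁ hN hφ'
  refine ⟨W, hW1, ?_⟩
  have e3 : imgOf φ' W₁ = W₂ := by
    rw [imgOf_comp_eq hm hφ'e W₁, ← e₁, imgOf_inv (le_normalizerIn hP₀) hinv le_rfl, e₂]
  rw [e3] at hW2
  exact hW2

/-- One half of the confluence step. -/
theorem conf_half [Finite S] {p : ℕ} [Fact p.Prime] (hS : IsPGroup p S) (F : FusionSystem S)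
    {m : ℕ} {P R : Subgroup Ω} {φ φ₀ : R →* Ω} (h₀ : GoodMark F p R (stabAut R P) φ₀)
    (hφ : φ ∈ F.Hom R) (hPR : P ≤ R) (hRN : R ≤ normalizerIn S P) (hPm : Nat.card P = m)
    (ih : ∀ (P' R' : Subgroup Ω) (φ' : R' →* Ω), Nat.card R < Nat.card R' → Nat.card P' = m →
      P' ≤ R' → R' ≤ normalizerIn S P' → φ' ∈ F.Hom R' →
      ∃ W, UpTo F P' W ∧ UpTo F (imgOf φ' P') W) :
    UpTo F (imgOf φ P) (imgOf φ₀ P) ∨
      (Nat.card R < Nat.card (normalizerIn S (imgOf φ₀ P)) ∧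
        ∃ W, UpTo F (imgOf φ P) W ∧ UpTo F (imgOf φ₀ P) W) := by
  obtain ⟨χ, hχ, ψ, hψ, hψe⟩ := exists_extension hS F h₀ hφ
  have hinj := F.injective_of_mem hφ
  have hP'S : imgOf φ P ≤ S := imgOf_le_S F hφ P
  have hRD : φ.range ≤ nk S R (stabAut R P) φ ⊔ φ.range := le_sup_right
  have hDN : nk S R (stabAut R P) φ ⊔ φ.range ≤ normalizerIn S (imgOf φ P) := by
    apply sup_le
    · intro y hy
      obtain ⟨hyS, -, hyP⟩ := (mem_nk_stab hinj).mp hy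
      exact ⟨hyS, hyP⟩
    · exact range_le_normalizerIn_imgOf F hφ hRN
  have hP'D : imgOf φ P ≤ nk S R (stabAut R P) φ ⊔ φ.range := (imgOf_le_range φ P).trans hRD
  have himg : imgOf ψ (imgOf φ P) = imgOf φ₀ P := imgOf_of_marking hχ.1 hRD hψe
  by_cases hle : normalizerIn S (imgOf φ P) ≤ nk S R (stabAut R P) φ ⊔ φ.range
  · left
    have := upTo_of_le F hψ hP'S hle
    rw [himg] at this
    exact this
  · right
    have hcardR : Nat.card R = Nat.card φ.range :=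
      Nat.card_congr (MonoidHom.ofInjective hinj).toEquiv
    have hfinT : Finite (normalizerIn S (imgOf φ P)) := finite_of_le (normalizerIn_le S _)
    have hT : IsPGroup p (normalizerIn S (imgOf φ P)) := hS.to_le (normalizerIn_le S _)
    have hrT : φ.range ≤ normalizerIn S (imgOf φ P) := hRD.trans hDN
    have hne : φ.range ≠ normalizerIn S (imgOf φ P) := by
      intro h
      apply hle
      rw [← h]
      exact hRD
    have h1 := card_lt_card_normalizerIn (S := normalizerIn S (imgOf φ P)) hT hrT hne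
    have h2 : normalizerIn (normalizerIn S (imgOf φ P)) φ.range ≤
        nk S R (stabAut R P) φ ⊔ φ.range := by
      intro y hy
      apply le_sup_left (a := nk S R (stabAut R P) φ)
      exact (mem_nk_stab hinj).mpr ⟨hy.1.1, hy.2, hy.1.2⟩
    have hfinD : Finite ↥(nk S R (stabAut R P) φ ⊔ φ.range) :=
      finite_of_le (hDN.trans (normalizerIn_le S _))
    have h3 : Nat.card R < Nat.card ↥(nk S R (stabAut R P) φ ⊔ φ.range) := by
      rw [hcardR]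
      exact lt_of_lt_of_le h1 (Subgroup.card_le_of_le h2)
    have h4 : Nat.card ↥(nk S R (stabAut R P) φ ⊔ φ.range) ≤
        Nat.card (normalizerIn S (imgOf φ₀ P)) := by
      have := card_le_card_normalizerIn_imgOf F hψ hDN
      rw [himg] at this
      exact this
    refine ⟨lt_of_lt_of_le h3 h4, ?_⟩
    obtain ⟨W, hW1, hW2⟩ := ih (imgOf φ P) _ ψ h3 ((card_imgOf F hφ hPR).trans hPm) hP'D hDN hψ
    rw [himg] at hW2
    exact ⟨W, hW1, hW2⟩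

/-- The confluence step, given confluence for bigger `R`. -/
theorem conf_step [Finite S] {p : ℕ} [Fact p.Prime] (hS : IsPGroup p S) (F : FusionSystem S)
    {m : ℕ}
    (hmark : ∀ R : Subgroup Ω, R ≤ S → m < Nat.card R → ∀ K : Subgroup (MulAut R),
      ∃ φ₀ : R →* Ω, GoodMark F p R K φ₀)
    {P R : Subgroup Ω} {φ : R →* Ω} (hPm : Nat.card P = m) (hPR : P ≤ R)
    (hRN : R ≤ normalizerIn S P) (hmR : m < Nat.card R) (hφ : φ ∈ F.Hom R)
    (ih : ∀ (P' R' : Subgroup Ω) (φ' : R' →* Ω), Nat.card R < Nat.card R' → Nat.card P' = m →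
      P' ≤ R' → R' ≤ normalizerIn S P' → φ' ∈ F.Hom R' →
      ∃ W, UpTo F P' W ∧ UpTo F (imgOf φ' P') W) :
    ∃ W, UpTo F P W ∧ UpTo F (imgOf φ P) W := by
  have hRS : R ≤ S := hRN.trans (normalizerIn_le S P)
  obtain ⟨φ₀, h₀⟩ := hmark R hRS hmR (stabAut R P)
  have hA := conf_half hS F h₀ (subtype_mem F hRS) hPR hRN hPm ih
  rw [imgOf_subtype hPR] at hA
  have hB := conf_half hS F h₀ hφ hPR hRN hPm ih
  have hP₀S : imgOf φ₀ P ≤ S := imgOf_le_S F h₀.mem P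
  have hP₀m : Nat.card (imgOf φ₀ P) = m := (card_imgOf F h₀.mem hPR).trans hPm
  rcases hA with hA | ⟨hcA, W₁, hPW₁, hP₀W₁⟩
  · rcases hB with hB | ⟨-, W₂, hP'W₂, hP₀W₂⟩
    · exact ⟨_, hA, hB⟩
    · exact ⟨W₂, hA.trans hP₀W₂, hP'W₂⟩
  · rcases hB with hB | ⟨-, W₂, hP'W₂, hP₀W₂⟩
    · exact ⟨W₁, hPW₁, hB.trans hP₀W₁⟩
    · have hW₁m : Nat.card W₁ = m := (hP₀W₁.card_eq hP₀S).trans hP₀m
      obtain ⟨W, hW1, hW2⟩ := diamond_of_conf F hP₀S hP₀W₁ hP₀W₂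
        (fun R' φ' hc hle hN hφ' => ih W₁ R' φ' (hc ▸ hcA) hW₁m hle hN hφ')
      exact ⟨W, hPW₁.trans hW1, hP'W₂.trans hW2⟩

/-- Confluence of single steps (Claim C'). -/
theorem conf_all [Finite S] {p : ℕ} [Fact p.Prime] (hS : IsPGroup p S) (F : FusionSystem S)
    {m : ℕ}
    (hmark : ∀ R : Subgroup Ω, R ≤ S → m < Nat.card R → ∀ K : Subgroup (MulAut R),
      ∃ φ₀ : R →* Ω, GoodMark F p R K φ₀) :
    ∀ (n : ℕ) (P R : Subgroup Ω) (φ : R →* Ω), Nat.card S - Nat.card R = n → Nat.card P = m →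
      P ≤ R → R ≤ normalizerIn S P → m < Nat.card R → φ ∈ F.Hom R →
      ∃ W, UpTo F P W ∧ UpTo F (imgOf φ P) W := by
  intro n
  induction n using Nat.strong_induction_on with
  | _ n ih =>
    intro P R φ hn hPm hPR hRN hmR hφ
    apply conf_step hS F hmark hPm hPR hRN hmR hφ
    intro P' R' φ' hlt hP'm hP'R' hR'N hφ'
    have hR'S : R' ≤ S := hR'N.trans (normalizerIn_le S P')
    have hc : Nat.card R' ≤ Nat.card S := Subgroup.card_le_of_le hR'S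
    exact ih (Nat.card S - Nat.card R') (by omega) P' R' φ' rfl hP'm hP'R' hR'N
      (lt_trans hmR hlt) hφ'

/-- Confluence of single steps, final form. -/
theorem conf [Finite S] {p : ℕ} [Fact p.Prime] (hS : IsPGroup p S) (F : FusionSystem S)
    {m : ℕ}
    (hmark : ∀ R : Subgroup Ω, R ≤ S → m < Nat.card R → ∀ K : Subgroup (MulAut R),
      ∃ φ₀ : R →* Ω, GoodMark F p R K φ₀)
    {P R : Subgroup Ω} {φ : R →* Ω} (hPm : Nat.card P = m) (hPR : P ≤ R)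
    (hRN : R ≤ normalizerIn S P) (hmR : m < Nat.card R) (hφ : φ ∈ F.Hom R) :
    ∃ W, UpTo F P W ∧ UpTo F (imgOf φ P) W :=
  conf_all hS F hmark _ P R φ rfl hPm hPR hRN hmR hφ

/-- The diamond property. -/
theorem diamond [Finite S] {p : ℕ} [Fact p.Prime] (hS : IsPGroup p S) (F : FusionSystem S)
    {m : ℕ}
    (hmark : ∀ R : Subgroup Ω, R ≤ S → m < Nat.card R → ∀ K : Subgroup (MulAut R),
      ∃ φ₀ : R →* Ω, GoodMark F p R K φ₀)
    {P₀ W₁ W₂ : Subgroup Ω} (hP₀ : P₀ ≤ S) (hP₀m : Nat.card P₀ = m)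
    (hlt : m < Nat.card (normalizerIn S P₀))
    (h1 : UpTo F P₀ W₁) (h2 : UpTo F P₀ W₂) : ∃ W, UpTo F W₁ W ∧ UpTo F W₂ W :=
  diamond_of_conf F hP₀ h1 h2 (fun _ _ hc hle hN hφ' =>
    conf hS F hmark ((h1.card_eq hP₀).trans hP₀m) hle hN (hc ▸ hlt) hφ')

end Cfsg.Agent.Lib.Helper88
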