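import Cfsg.Agent.Lib.Helper88.BcgloSyl

/-!
# The normal case of the BCGLO criterion: context, the subgroup `S₁` and the group `Γ₁`
-/

set_option autoImplicit false

namespace Cfsg.Agent.Lib.Helper88

open Cfsg Cfsg.FusionSystem Cfsg.Agent.Lib.Helper87 Cfsg.Agent.Lib.Helper84.KN

variable {Ω : Type*} [Group Ω] {S : Subgroup Ω}

/-- Products `a * b` exhaust `A ⊔ B` when `A` normalizes `B`. -/
theorem mem_sup_of_normalizes {A B : Subgroup Ω} (h : ∀ a ∈ A, ∀ b ∈ B, a * b * a⁻¹ ∈ B)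
    {z : Ω} (hz : z ∈ A ⊔ B) : ∃ a ∈ A, ∃ b ∈ B, z = a * b := by
  let C : Subgroup Ω :=
    { carrier := {z | ∃ a ∈ A, ∃ b ∈ B, z = a * b}
      one_mem' := ⟨1, A.one_mem, 1, B.one_mem, by simp⟩
      mul_mem' := by
        rintro _ _ ⟨a, ha, b, hb, rfl⟩ ⟨a', ha', b', hb', rfl⟩
        refine ⟨a * a', A.mul_mem ha ha', a'⁻¹ * b * a' * b', B.mul_mem ?_ hb', by group⟩
        have := h a'⁻¹ (A.inv_mem ha') b hb
        rwa [inv_inv] at this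
      inv_mem' := by
        rintro _ ⟨a, ha, b, hb, rfl⟩
        exact ⟨a⁻¹, A.inv_mem ha, a * b⁻¹ * a⁻¹, h a ha _ (B.inv_mem hb), by group⟩ }
  have hA : A ≤ C := fun a ha => ⟨a, ha, 1, B.one_mem, by simp⟩
  have hB : B ≤ C := fun b hb => ⟨1, A.one_mem, b, hb, by simp⟩
  exact (sup_le hA hB) hz

theorem range_eq_of_le {R : Subgroup Ω} [Finite R] {δ : R →* Ω} (hinj : Function.Injective δ)
    (h : δ.range ≤ R) : δ.range = R := by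
  apply Subgroup.eq_of_le_of_card_ge h
  exact (Nat.card_congr (MonoidHom.ofInjective hinj).toEquiv).le

/-- `S₁ = N_S^{O'}(Q)`: the elements of `S` inducing on `Q` an automorphism in `O'`. -/
def s1 (S Q : Subgroup Ω) (O' : Subgroup (MulAut Q)) : Subgroup Ω := nk S Q O' Q.subtype

theorem mem_s1 {Q : Subgroup Ω} {O' : Subgroup (MulAut Q)} {g : Ω} :
    g ∈ s1 S Q O' ↔ g ∈ S ∧ ∃ o ∈ O', ∀ x : Q, g * (x : Ω) * g⁻¹ = (o x : Q) := Iff.rfl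

theorem s1_le_S {Q : Subgroup Ω} (O' : Subgroup (MulAut Q)) : s1 S Q O' ≤ S := nk_le Q O' _

theorem s1_le_normalizerIn {Q : Subgroup Ω} (O' : Subgroup (MulAut Q)) :
    s1 S Q O' ≤ normalizerIn S Q := by
  intro g hg
  refine ⟨hg.1, ?_⟩
  have := nk_le_normalizer Q O' Q.subtype hg
  rwa [Subgroup.range_subtype] at this

/-- The data of the normal case. -/
structure NormCtx (F : FusionSystem S) (p : ℕ) (Q : Subgroup Ω) (O' : Subgroup (MulAut Q)) :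
    Prop where
  hQS : Q ≤ S
  hfn : F.IsFullyNormalized Q
  hO'le : O' ≤ F.autGroup Q
  hO'n : ∀ γ ∈ F.autGroup Q, ∀ o ∈ O', γ * o * γ⁻¹ ∈ O'
  hO'p : IsPGroup p O'
  hInn : ∀ (g : Ω) (hg : g ∈ Q), conjAut Q g (Subgroup.le_normalizer hg) ∈ O'
  hmark : ∀ R : Subgroup Ω, R ≤ S → Nat.card Q < Nat.card R → ∀ K : Subgroup (MulAut R),
    ∃ φ₀ : R →* Ω, GoodMark F p R K φ₀
  hup : ∀ P : Subgroup Ω, F.IsConj Q P → UpTo F P Q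
  hbig : ∃ g ∈ s1 S Q O', g ∉ Q

namespace NormCtx

variable {F : FusionSystem S} {p : ℕ} {Q : Subgroup Ω} {O' : Subgroup (MulAut Q)}

theorem Q_le_s1 (c : NormCtx F p Q O') : Q ≤ s1 S Q O' := fun g hg =>
  ⟨c.hQS hg, conjAut Q g (Subgroup.le_normalizer hg), c.hInn g hg, fun _ => rfl⟩

theorem conjAut_mem (c : NormCtx F p Q O') {n : Ω} (hn : n ∈ normalizerIn S Q) :
    conjAut Q n hn.2 ∈ F.autGroup Q :=
  autInducedBy_le_autGroup F c.hQS (conjAut_mem_autInducedBy hn.1 hn.2)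

/-- `N_S(Q)` normalizes `S₁`. -/
theorem conj_mem_s1 (c : NormCtx F p Q O') {n g : Ω} (hn : n ∈ normalizerIn S Q)
    (hg : g ∈ s1 S Q O') : n * g * n⁻¹ ∈ s1 S Q O' := by
  obtain ⟨hgS, o, ho, hgo'⟩ := hg
  have hgo : ∀ x : Q, g * (x : Ω) * g⁻¹ = (o x : Q) := hgo'
  refine ⟨S.mul_mem (S.mul_mem hn.1 hgS) (S.inv_mem hn.1),
    conjAut Q n hn.2 * o * (conjAut Q n hn.2)⁻¹, c.hO'n _ (c.conjAut_mem hn) o ho, fun x => ?_⟩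
  have h2 : (((conjAut Q n hn.2)⁻¹ x : Q) : Ω) = n⁻¹ * x * n := by
    have h3 := conjAut_coe Q n hn.2 ((conjAut Q n hn.2)⁻¹ x)
    have h4 : conjAut Q n hn.2 ((conjAut Q n hn.2)⁻¹ x) = x := by simp
    rw [h4] at h3
    rw [h3]
    group
  show n * g * n⁻¹ * (x : Ω) * (n * g * n⁻¹)⁻¹ =
    ((conjAut Q n hn.2 (o ((conjAut Q n hn.2)⁻¹ x)) : Q) : Ω)
  rw [conjAut_coe, ← hgo, h2]
  group

theorem s1_lt (c : NormCtx F p Q O') [Finite S] : Nat.card Q < Nat.card (s1 S Q O') := by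
  obtain ⟨g, hg, hgQ⟩ := c.hbig
  have hfin : Finite (s1 S Q O') := finite_of_le (s1_le_S O')
  by_contra hcon
  have := Subgroup.eq_of_le_of_card_ge c.Q_le_s1 (not_lt.mp hcon)
  exact hgQ (this ▸ hg)

/-- Maps fixing `Q` send elements of `S₁` into `S₁`. -/
theorem map_mem_s1 (c : NormCtx F p Q O') {T : Subgroup Ω} {μ : T →* Ω} (hμ : μ ∈ F.Hom T)
    (hQT : Q ≤ T) {a : MulAut Q} (ha : IsRes μ a) {g : T} (hg : (g : Ω) ∈ s1 S Q O') :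
    μ g ∈ s1 S Q O' := by
  obtain ⟨-, o, ho, hgo'⟩ := hg
  have hgo : ∀ x : Q, (g : Ω) * (x : Ω) * (g : Ω)⁻¹ = (o x : Q) := hgo'
  have haΓ : a ∈ F.autGroup Q := ha.mem_autGroup F hμ hQT
  refine ⟨hom_mem_S F hμ g, a * o * a⁻¹, c.hO'n a haΓ o ho, fun x => ?_⟩
  have h1 : (x : Ω) = μ ⟨(a⁻¹ x : Q), hQT (a⁻¹ x).2⟩ := by
    rw [ha (a⁻¹ x) _]
    simp
  have h2 : (⟨((o (a⁻¹ x) : Q) : Ω), hQT (o (a⁻¹ x)).2⟩ : T) =
      g * ⟨(a⁻¹ x : Q), hQT (a⁻¹ x).2⟩ * g⁻¹ := Subtype.ext (hgo (a⁻¹ x)).symm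
  show μ g * (x : Ω) * (μ g)⁻¹ = ((a (o (a⁻¹ x)) : Q) : Ω)
  rw [← ha (o (a⁻¹ x)) (hQT (o (a⁻¹ x)).2), h2, map_mul, map_mul, map_inv, ← h1]

/-- `Γ₁`: the automorphisms of `Q` which are restrictions of `F`-automorphisms of `S₁`. -/
def gam1 (c : NormCtx F p Q O') : Subgroup (MulAut Q) where
  carrier := {a | ∃ δ ∈ F.Hom (s1 S Q O'), δ.range = s1 S Q O' ∧ IsRes δ a}
  one_mem' := ⟨_, subtype_mem F (s1_le_S O'), Subgroup.range_subtype _, isRes_subtype _⟩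
  mul_mem' := by
    rintro a b ⟨δ₁, hδ₁, hr₁, ha⟩ ⟨δ₂, hδ₂, hr₂, hb⟩
    have hm : ∀ x : s1 S Q O', δ₂ x ∈ s1 S Q O' := fun x => hr₂.le ⟨x, rfl⟩
    obtain ⟨χ, hχ, hχe⟩ := comp_mem' F hδ₂ hδ₁ hm
    refine ⟨χ, hχ, ?_, IsRes.comp hm hχe hb ha⟩
    apply le_antisymm
    · rintro _ ⟨x, rfl⟩
      rw [hχe]
      have : δ₁ ⟨δ₂ x, hm x⟩ ∈ δ₁.range := ⟨_, rfl⟩
      rwa [hr₁] at this
    · intro y hy
      rw [← hr₁] at hy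
      obtain ⟨z, rfl⟩ := hy
      have hz : (z : Ω) ∈ δ₂.range := by rw [hr₂]; exact z.2
      obtain ⟨x, hx⟩ := hz
      refine ⟨x, ?_⟩
      rw [hχe]
      congr 1
      exact Subtype.ext hx
  inv_mem' := by
    rintro a ⟨δ, hδ, hr, ha⟩
    obtain ⟨ψ, hψ, hinv, hψr⟩ := inv_exists F hδ hr
    exact ⟨ψ, hψ, hψr, IsRes.inv_of c.Q_le_s1 hinv ha⟩

theorem mem_gam1 (c : NormCtx F p Q O') {a : MulAut Q} :
    a ∈ c.gam1 ↔ ∃ δ ∈ F.Hom (s1 S Q O'), δ.range = s1 S Q O' ∧ IsRes δ a := Iff.rfl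

theorem gam1_le (c : NormCtx F p Q O') : c.gam1 ≤ F.autGroup Q := by
  rintro a ⟨δ, hδ, -, ha⟩
  exact ha.mem_autGroup F hδ c.Q_le_s1

/-- `Θ = O' ∩ Aut_S(Q)`. -/
def theta (S Q : Subgroup Ω) (O' : Subgroup (MulAut Q)) : Subgroup (MulAut Q) :=
  bk S Q O' Q.subtype

theorem mem_theta {t : MulAut Q} :
    t ∈ theta S Q O' ↔ t ∈ O' ∧ ∃ y ∈ S, ∀ x : Q, y * (x : Ω) * y⁻¹ = (t x : Q) := Iff.rfl

theorem theta_le_gam1 (c : NormCtx F p Q O') : theta S Q O' ≤ c.gam1 := by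
  rintro t ⟨htO, y, hyS, hy'⟩
  have hy : ∀ x : Q, y * (x : Ω) * y⁻¹ = (t x : Q) := hy'
  have hy1 : y ∈ s1 S Q O' := ⟨hyS, t, htO, hy'⟩
  have hδ : conjHom (s1 S Q O') y ∈ F.Hom (s1 S Q O') := F.conj_mem (s1_le_S O') hyS
  refine ⟨_, hδ, ?_, fun x _ => hy x⟩
  apply le_antisymm
  · rintro _ ⟨x, rfl⟩
    exact (s1 S Q O').mul_mem ((s1 S Q O').mul_mem hy1 x.2) ((s1 S Q O').inv_mem hy1)
  · intro z hz
    refine ⟨⟨y⁻¹ * z * y, (s1 S Q O').mul_mem ((s1 S Q O').mul_mem ((s1 S Q O').inv_mem hy1) hz)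
      hy1⟩, ?_⟩
    show y * (y⁻¹ * z * y) * y⁻¹ = z
    group

/-- `Γ₁` normalizes `Θ`. -/
theorem gam1_conj_theta (c : NormCtx F p Q O') {a t : MulAut Q} (ha : a ∈ c.gam1)
    (ht : t ∈ theta S Q O') : a * t * a⁻¹ ∈ theta S Q O' := by
  obtain ⟨δ, hδ, hr, hres⟩ := ha
  obtain ⟨htO, y, hyS, hy'⟩ := ht
  have hy : ∀ x : Q, y * (x : Ω) * y⁻¹ = (t x : Q) := hy'
  have hy1 : y ∈ s1 S Q O' := ⟨hyS, t, htO, hy'⟩
  have haΓ : a ∈ F.autGroup Q := hres.mem_autGroup F hδ c.Q_le_s1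
  refine ⟨c.hO'n a haΓ t htO, δ ⟨y, hy1⟩, hom_mem_S F hδ _, fun x => ?_⟩
  have h1 : (x : Ω) = δ ⟨(a⁻¹ x : Q), c.Q_le_s1 (a⁻¹ x).2⟩ := by
    rw [hres (a⁻¹ x) _]
    simp
  have h2 : (⟨((t (a⁻¹ x) : Q) : Ω), c.Q_le_s1 (t (a⁻¹ x)).2⟩ : s1 S Q O') =
      ⟨y, hy1⟩ * ⟨(a⁻¹ x : Q), c.Q_le_s1 (a⁻¹ x).2⟩ * ⟨y, hy1⟩⁻¹ :=
    Subtype.ext (hy (a⁻¹ x)).symm
  show δ ⟨y, hy1⟩ * (x : Ω) * (δ ⟨y, hy1⟩)⁻¹ = ((a (t (a⁻¹ x)) : Q) : Ω)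
  rw [← hres (t (a⁻¹ x)) (c.Q_le_s1 (t (a⁻¹ x)).2), h2, map_mul, map_mul, map_inv, ← h1]

end NormCtx

end Cfsg.Agent.Lib.Helper88
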