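import Cfsg.Agent.Lib.Helper88.BcgloGen

/-!
# The normal case of the BCGLO criterion: `Q` is fully automized
-/

set_option autoImplicit false

namespace Cfsg.Agent.Lib.Helper88

open Cfsg Cfsg.FusionSystem Cfsg.Agent.Lib.Helper87 Cfsg.Agent.Lib.Helper84.KN

variable {Ω : Type*} [Group Ω] {S : Subgroup Ω}

namespace NormCtx

variable {F : FusionSystem S} {p : ℕ} {Q : Subgroup Ω} {O' : Subgroup (MulAut Q)}

theorem mem_normalizer_s1 (c : NormCtx F p Q O') {n : Ω} (hn : n ∈ normalizerIn S Q) :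
    n ∈ Subgroup.normalizer (s1 S Q O' : Set Ω) := by
  rw [Subgroup.mem_normalizer_iff]
  intro g
  constructor
  · intro hg
    exact c.conj_mem_s1 hn hg
  · intro hg
    have hn' : n⁻¹ ∈ normalizerIn S Q := (normalizerIn S Q).inv_mem hn
    have := c.conj_mem_s1 hn' hg
    have e : n⁻¹ * (n * g * n⁻¹) * n⁻¹⁻¹ = g := by group
    rwa [e] at this

/-- An element of `S` inducing an automorphism of `Q` normalizes `Q`. -/
theorem mem_normalizer_of_aut {Q : Subgroup Ω} {g : Ω} {t : MulAut Q}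
    (h : ∀ x : Q, ((t x : Q) : Ω) = g * (x : Ω) * g⁻¹) :
    g ∈ Subgroup.normalizer (Q : Set Ω) := by
  rw [Subgroup.mem_normalizer_iff]
  intro n
  constructor
  · intro hn
    rw [← h ⟨n, hn⟩]
    exact (t ⟨n, hn⟩).2
  · intro hn
    have h1 := h (t⁻¹ ⟨g * n * g⁻¹, hn⟩)
    have h2 : ((t (t⁻¹ ⟨g * n * g⁻¹, hn⟩) : Q) : Ω) = g * n * g⁻¹ := by simp
    rw [h2] at h1
    have h3 : n = ((t⁻¹ ⟨g * n * g⁻¹, hn⟩ : Q) : Ω) := by
      have := mul_left_cancel (mul_right_cancel h1)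
      exact this
    rw [h3]
    exact (t⁻¹ ⟨g * n * g⁻¹, hn⟩).2

/-- `N_S(Q)` is contained in the `K`-normalizer of the inclusion of `S₁`, for `K` the stabilizer
of `Q`. -/
theorem normalizerIn_le_nk_stab (c : NormCtx F p Q O') :
    normalizerIn S Q ≤ nk S (s1 S Q O') (stabAut (s1 S Q O') Q) (s1 S Q O').subtype := by
  intro n hn
  rw [mem_nk_stab (Subgroup.subtype_injective _)]
  refine ⟨hn.1, ?_, ?_⟩
  · rw [Subgroup.range_subtype]
    exact c.mem_normalizer_s1 hn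
  · rw [imgOf_subtype c.Q_le_s1]
    exact hn.2

/-- **`Q` is fully automized** in the normal case. -/
theorem fullyAutomized [Finite S] [Fact p.Prime] (hS : IsPGroup p S) (c : NormCtx F p Q O')
    (hA : F.autGroup Q ≤ c.gam1) : F.IsFullyAutomized p Q := by
  have h1S : s1 S Q O' ≤ S := s1_le_S O'
  have hfin1 : Finite (s1 S Q O') := finite_of_le h1S
  have hQ1 : Q ≤ s1 S Q O' := c.Q_le_s1
  obtain ⟨φ₀, h₀⟩ := c.hmark _ h1S c.s1_lt (stabAut (s1 S Q O') Q)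
  have hinj₀ := F.injective_of_mem h₀.mem
  have hfinN : Finite (normalizerIn S Q) := finite_of_le (normalizerIn_le S Q)
  have hfinN0 : Finite (normalizerIn S (imgOf φ₀ Q)) := finite_of_le (normalizerIn_le S _)
  have hfinnk : Finite (nk S (s1 S Q O') (stabAut (s1 S Q O') Q) (s1 S Q O').subtype) :=
    finite_of_le (nk_le _ _ _)
  have hcard : Nat.card (nk S (s1 S Q O') (stabAut (s1 S Q O') Q) φ₀) ≤
      Nat.card (nk S (s1 S Q O') (stabAut (s1 S Q O') Q) (s1 S Q O').subtype) := by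
    have h1 : nk S (s1 S Q O') (stabAut (s1 S Q O') Q) φ₀ ≤ normalizerIn S (imgOf φ₀ Q) := by
      intro y hy
      obtain ⟨hyS, -, hyQ⟩ := (mem_nk_stab hinj₀).mp hy
      exact ⟨hyS, hyQ⟩
    calc Nat.card (nk S (s1 S Q O') (stabAut (s1 S Q O') Q) φ₀)
        ≤ Nat.card (normalizerIn S (imgOf φ₀ Q)) := Subgroup.card_le_of_le h1
      _ ≤ Nat.card (normalizerIn S Q) := c.hfn.2 _ (isConj_imgOf F h₀.mem hQ1)
      _ ≤ _ := Subgroup.card_le_of_le c.normalizerIn_le_nk_stab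
  obtain ⟨R₁, hR₁⟩ := sylow_subtype_of_goodMark hS F h1S h₀ hcard
  -- the restriction homomorphism
  have hπmem : ∀ ξ : ↥(stabAut (s1 S Q O') Q ⊓ F.autGroup (s1 S Q O')),
      (stabRes hQ1).comp (Subgroup.inclusion inf_le_left) ξ ∈ F.autGroup Q := by
    intro ξ
    have h1 : (s1 S Q O').subtype.comp (ξ : MulAut (s1 S Q O')).toMonoidHom ∈
        F.Hom (s1 S Q O') := (Cfsg.Agent.Lib.Helper87.mem_autGroup_iff F h1S _).mp ξ.2.2
    exact (isRes_stabRes hQ1 ⟨ξ, ξ.2.1⟩).mem_autGroup F h1 hQ1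
  let π : ↥(stabAut (s1 S Q O') Q ⊓ F.autGroup (s1 S Q O')) →* ↥(F.autGroup Q) :=
    ((stabRes hQ1).comp (Subgroup.inclusion inf_le_left)).codRestrict (F.autGroup Q) hπmem
  have hπ : ∀ (ξ : ↥(stabAut (s1 S Q O') Q ⊓ F.autGroup (s1 S Q O'))) (x : Q),
      ((((π ξ : ↥(F.autGroup Q)) : MulAut Q) x : Q) : Ω) =
        (((ξ : MulAut (s1 S Q O')) ⟨x, hQ1 x.2⟩ : s1 S Q O') : Ω) := fun ξ x => rfl
  have hsurj : Function.Surjective π := by
    rintro ⟨α, hα⟩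
    obtain ⟨δ, hδ, hr, hres⟩ := hA hα
    have hinjδ := F.injective_of_mem hδ
    have hK : isoOfHom δ hinjδ hr ∈ stabAut (s1 S Q O') Q :=
      mem_stabAut_of_isRes hQ1 (o := α) (fun x => hres x (hQ1 x.2))
    have hAut : isoOfHom δ hinjδ hr ∈ F.autGroup (s1 S Q O') := by
      rw [Cfsg.Agent.Lib.Helper87.mem_autGroup_iff F h1S]
      have e : (s1 S Q O').subtype.comp (isoOfHom δ hinjδ hr).toMonoidHom = δ := by
        ext x
        rfl
      rw [e]
      exact hδ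
    refine ⟨⟨isoOfHom δ hinjδ hr, hK, hAut⟩, ?_⟩
    apply Subtype.ext
    ext x
    rw [hπ]
    exact hres x (hQ1 x.2)
  refine ⟨c.hQS, R₁.mapSurjective hsurj, ?_⟩
  rw [Sylow.coe_mapSurjective]
  ext t
  rw [Subgroup.mem_subgroupOf, Cfsg.Agent.Lib.Helper87.mem_autInducedBy_iff]
  constructor
  · rintro ⟨ξ, hξ, rfl⟩
    obtain ⟨-, y, hyS, hy⟩ := (hR₁ ξ).mp hξ
    refine ⟨y, hyS, fun x => ?_⟩
    rw [hπ]
    exact (hy ⟨x, hQ1 x.2⟩).symm
  · rintro ⟨g, hgS, hg⟩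
    have hgN : g ∈ normalizerIn S Q := ⟨hgS, mem_normalizer_of_aut hg⟩
    have hg1 := c.mem_normalizer_s1 hgN
    have hK : conjAut (s1 S Q O') g hg1 ∈ stabAut (s1 S Q O') Q :=
      mem_stabAut_of_isRes hQ1 (o := (t : MulAut Q)) (fun x => (hg x).symm)
    have hAut : conjAut (s1 S Q O') g hg1 ∈ F.autGroup (s1 S Q O') :=
      autInducedBy_le_autGroup F h1S (conjAut_mem_autInducedBy hgS hg1)
    refine ⟨⟨conjAut (s1 S Q O') g hg1, hK, hAut⟩, ?_, ?_⟩
    · exact (hR₁ _).mpr ⟨hK, g, hgS, fun x => rfl⟩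
    · apply Subtype.ext
      ext x
      rw [hπ]
      exact (hg x).symm

end NormCtx

end Cfsg.Agent.Lib.Helper88
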