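import Cfsg.Agent.Lib.Helper88.BcgloConf

/-!
# The universal target in a maximal class outside `ℋ` (for the BCGLO criterion)
-/

set_option autoImplicit false

namespace Cfsg.Agent.Lib.Helper88

open Cfsg Cfsg.FusionSystem Cfsg.Agent.Lib.Helper87 Cfsg.Agent.Lib.Helper84.KN

variable {Ω : Type*} [Group Ω] {S : Subgroup Ω}

/-- The conjugate `g P g⁻¹`. -/
def conjSub (g : Ω) (P : Subgroup Ω) : Subgroup Ω := P.map (MulAut.conj g).toMonoidHom

theorem mem_conjSub {g : Ω} {P : Subgroup Ω} {y : Ω} :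
    y ∈ conjSub g P ↔ ∃ x ∈ P, g * x * g⁻¹ = y := by
  constructor
  · rintro ⟨x, hx, rfl⟩
    exact ⟨x, hx, rfl⟩
  · rintro ⟨x, hx, rfl⟩
    exact ⟨x, hx, rfl⟩

theorem conjSub_inv_conjSub (g : Ω) (P : Subgroup Ω) : conjSub g⁻¹ (conjSub g P) = P := by
  ext y
  rw [mem_conjSub]
  constructor
  · rintro ⟨z, hz, rfl⟩
    obtain ⟨x, hx, rfl⟩ := mem_conjSub.mp hz
    have e : g⁻¹ * (g * x * g⁻¹) * g⁻¹⁻¹ = x := by group
    rw [e]
    exact hx
  · intro hy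
    refine ⟨g * y * g⁻¹, mem_conjSub.mpr ⟨y, hy, rfl⟩, ?_⟩
    group

theorem imgOf_conjHom {Q P : Subgroup Ω} (hP : P ≤ Q) (g : Ω) :
    imgOf (conjHom Q g) P = conjSub g P := by
  ext y
  rw [mem_imgOf, mem_conjSub]
  constructor
  · rintro ⟨x, hx, rfl⟩
    exact ⟨x, hx, rfl⟩
  · rintro ⟨x, hx, rfl⟩
    exact ⟨⟨x, hP hx⟩, hx, rfl⟩

theorem upTo_conjSub (F : FusionSystem S) {P : Subgroup Ω} (hP : P ≤ S) {g : Ω} (hg : g ∈ S) :
    UpTo F P (conjSub g P) :=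
  ⟨_, F.conj_mem (normalizerIn_le S P) hg, imgOf_conjHom (le_normalizerIn hP) g⟩

theorem conjSub_le_S {P : Subgroup Ω} (hP : P ≤ S) {g : Ω} (hg : g ∈ S) : conjSub g P ≤ S := by
  intro y hy
  obtain ⟨x, hx, rfl⟩ := mem_conjSub.mp hy
  exact S.mul_mem (S.mul_mem hg (hP hx)) (S.inv_mem hg)

/-- If `ψ` inverts `φ`, then `φ(ψ(P')) = P'` for `P' ≤ φ.range`. -/
theorem imgOf_imgOf_inv {R P' : Subgroup Ω} {φ : R →* Ω} {ψ : φ.range →* Ω}
    (hinv : ∀ x : R, ψ ⟨φ x, ⟨x, rfl⟩⟩ = (x : Ω)) (hP' : P' ≤ φ.range) :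
    imgOf φ (imgOf ψ P') = P' := by
  ext y
  rw [mem_imgOf]
  constructor
  · rintro ⟨x, hx, rfl⟩
    obtain ⟨⟨_, x₀, rfl⟩, hz, hze⟩ := mem_imgOf.mp hx
    rw [hinv x₀] at hze
    have : x₀ = x := Subtype.ext hze
    rw [← this]
    exact hz
  · intro hy
    obtain ⟨x₀, rfl⟩ := hP' hy
    exact ⟨x₀, mem_imgOf.mpr ⟨⟨φ x₀, ⟨x₀, rfl⟩⟩, hy, hinv x₀⟩, rfl⟩

/-- Passing goodness along a common target. -/
theorem upTo_of_common [Finite S] {p : ℕ} [Fact p.Prime] (hS : IsPGroup p S)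
    (F : FusionSystem S) {m : ℕ}
    (hmark : ∀ R : Subgroup Ω, R ≤ S → m < Nat.card R → ∀ K : Subgroup (MulAut R),
      ∃ φ₀ : R →* Ω, GoodMark F p R K φ₀)
    {P P' W Phat : Subgroup Ω} (hP : P ≤ S) (hPm : Nat.card P = m)
    (hlt : m < Nat.card (normalizerIn S P)) (hfn : F.IsFullyNormalized Phat)
    (hPW : UpTo F P W) (hP'W : UpTo F P' W) (hPhat : UpTo F P Phat) : UpTo F P' Phat := by
  obtain ⟨W', hWW', hhW'⟩ := diamond hS F hmark hP hPm hlt hPW hPhat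
  have h1 : UpTo F W' Phat :=
    hhW'.symm_of_card_le hfn.1 (hfn.2 W' (hhW'.isConj hfn.1))
  exact hP'W.trans (hWW'.trans h1)

/-- The subsystem of maps preserving the property `P ⇝ P̂` on the class of `P1`. -/
def goodSystem (F : FusionSystem S) (P1 Phat : Subgroup Ω) : FusionSystem S where
  Hom Q := {φ | φ ∈ F.Hom Q ∧ ∀ P : Subgroup Ω, P ≤ Q → F.IsConj P1 P →
    (UpTo F P Phat ↔ UpTo F (imgOf φ P) Phat)}
  le_of_mem h := F.le_of_mem h.1
  injective_of_mem h := F.injective_of_mem h.1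
  conj_mem := by
    intro Q g hQ hg
    refine ⟨F.conj_mem hQ hg, fun P hPQ _ => ?_⟩
    rw [imgOf_conjHom hPQ g]
    have hPS : P ≤ S := hPQ.trans hQ
    constructor
    · intro h
      have h1 := upTo_conjSub F (conjSub_le_S hPS hg) (S.inv_mem hg)
      rw [conjSub_inv_conjSub] at h1
      exact h1.trans h
    · intro h
      exact (upTo_conjSub F hPS hg).trans h
  comp_mem := by
    intro P₀ Q φ ψ hφ hψ h
    refine ⟨F.comp_mem hφ.1 hψ.1 h, fun P hP hc => ?_⟩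
    rw [imgOf_comp_eq h (fun _ => rfl) P, hφ.2 P hP hc]
    apply hψ.2
    · intro y hy
      obtain ⟨x, -, rfl⟩ := mem_imgOf.mp hy
      exact h x
    · exact isConj_trans F hc (isConj_imgOf F hφ.1 hP)
  inv_mem := by
    intro P₀ φ hφ
    obtain ⟨ψ, hψ, hinv⟩ := F.inv_mem hφ.1
    refine ⟨ψ, ⟨hψ, fun P' hP' hc => ?_⟩, hinv⟩
    have hle : imgOf ψ P' ≤ P₀ := by
      intro y hy
      obtain ⟨⟨_, x₀, rfl⟩, -, rfl⟩ := mem_imgOf.mp hy
      rw [hinv x₀]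
      exact x₀.2
    have h1 := hφ.2 (imgOf ψ P') hle (isConj_trans F hc (isConj_imgOf F hψ hP'))
    rw [imgOf_imgOf_inv hinv hP'] at h1
    exact h1.symm

/-- **Universal target** (first half of the BCGLO criterion, AKO I.3.11-type lemma): if `P1 ∉ ℋ`
has maximal order among the subgroups outside the conjugation-closed family `ℋ`, on which `F`
is saturated and which generates `F`, then the class of `P1` contains a fully normalized `P̂`
such that every member `P` of the class is sent onto `P̂` by a map of `F` defined on the whole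
of `N_S(P)`. -/
theorem exists_universal_target' [Finite S] {p : ℕ} [Fact p.Prime] (hS : IsPGroup p S)
    (F : FusionSystem S) (ℋ : Set (Subgroup Ω))
    (hℋconj : ∀ P ∈ ℋ, ∀ Q, F.IsConj P Q → Q ∈ ℋ)
    (hsat : ∀ P ∈ ℋ, ∃ Q, F.IsConj P Q ∧ F.IsFullyAutomized p Q ∧ F.IsReceptive Q)
    (hgen : ∀ E : FusionSystem S, (∀ P ∈ ℋ, F.Hom P ⊆ E.Hom P) → F ≤ E)
    {P1 : Subgroup Ω} (hP1S : P1 ≤ S) (hP1 : P1 ∉ ℋ)
    (hbig : ∀ R : Subgroup Ω, R ≤ S → Nat.card P1 < Nat.card R → R ∈ ℋ) :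
    ∃ Phat, F.IsConj P1 Phat ∧ F.IsFullyNormalized Phat ∧
      ∀ P, F.IsConj P1 P → UpTo F P Phat := by
  have hmark : ∀ R : Subgroup Ω, R ≤ S → Nat.card P1 < Nat.card R →
      ∀ K : Subgroup (MulAut R), ∃ φ₀ : R →* Ω, GoodMark F p R K φ₀ := fun R hRS hlt K =>
    exists_goodMark_of_class hS F hRS (hsat R (hbig R hRS hlt)) K
  obtain ⟨Phat, hconj, hfn⟩ := exists_fullyNormalized_conj F hP1S
  refine ⟨Phat, hconj, hfn, ?_⟩
  have hle : F ≤ goodSystem F P1 Phat := by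
    apply hgen
    intro Q hQ φ hφ
    have hQS : Q ≤ S := hom_le F hφ
    refine ⟨hφ, fun P hPQ hc => ?_⟩
    have hPS : P ≤ S := hPQ.trans hQS
    have hPm : Nat.card P = Nat.card P1 := (card_eq_of_isConj F hc).symm
    have hPne : P ≠ Q := by
      rintro rfl
      exact hP1 (hℋconj P hQ P1 (isConj_symm F hc))
    have hfinQ : Finite Q := finite_of_le hQS
    have hQp : IsPGroup p Q := hS.to_le hQS
    have hlt := card_lt_card_normalizerIn (S := Q) hQp hPQ hPne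
    rw [hPm] at hlt
    have hPR : P ≤ normalizerIn Q P := le_normalizerIn hPQ
    have hRN : normalizerIn Q P ≤ normalizerIn S P := inf_le_inf_right _ hQS
    have hRQ : normalizerIn Q P ≤ Q := normalizerIn_le Q P
    have hφR := restrict_mem F hφ hRQ
    obtain ⟨W, hPW, hP'W⟩ := conf hS F hmark hPm hPR hRN hlt hφR
    have hcl := card_le_card_normalizerIn_imgOf F hφR hRN
    rw [imgOf_restrict φ hRQ hPR] at hP'W hcl
    have hfinN : Finite (normalizerIn S P) := finite_of_le (normalizerIn_le S P)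
    have hlt1 : Nat.card P1 < Nat.card (normalizerIn S P) :=
      lt_of_lt_of_le hlt (Subgroup.card_le_of_le hRN)
    have hlt2 : Nat.card P1 < Nat.card (normalizerIn S (imgOf φ P)) := lt_of_lt_of_le hlt hcl
    constructor
    · intro h
      exact upTo_of_common hS F hmark hPS hPm hlt1 hfn hPW hP'W h
    · intro h
      exact upTo_of_common hS F hmark (imgOf_le_S F hφ P) ((card_imgOf F hφ hPQ).trans hPm)
        hlt2 hfn hP'W hPW h
  intro P hc
  obtain ⟨φ, hφ, hr⟩ := isConj_trans F (isConj_symm F hconj) hc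
  have h1 := (hle Phat hφ).2 Phat le_rfl hconj
  have h2 : imgOf φ Phat = P := by
    rw [← hr]
    ext y
    rw [mem_imgOf]
    constructor
    · rintro ⟨x, -, rfl⟩
      exact ⟨x, rfl⟩
    · rintro ⟨x, rfl⟩
      exact ⟨x, x.2, rfl⟩
  rw [h2] at h1
  exact h1.mp (upTo_refl F hfn.1)

/-- Unfolded form of `exists_universal_target'`. -/
theorem exists_universal_target [Finite S] {p : ℕ} [Fact p.Prime] (hS : IsPGroup p S)
    (F : FusionSystem S) (ℋ : Set (Subgroup Ω))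
    (hℋconj : ∀ P ∈ ℋ, ∀ Q, F.IsConj P Q → Q ∈ ℋ)
    (hsat : ∀ P ∈ ℋ, ∃ Q, F.IsConj P Q ∧ F.IsFullyAutomized p Q ∧ F.IsReceptive Q)
    (hgen : ∀ E : FusionSystem S, (∀ P ∈ ℋ, F.Hom P ⊆ E.Hom P) → F ≤ E)
    {P1 : Subgroup Ω} (hP1S : P1 ≤ S) (hP1 : P1 ∉ ℋ)
    (hbig : ∀ R : Subgroup Ω, R ≤ S → Nat.card P1 < Nat.card R → R ∈ ℋ) :
    ∃ Phat, F.IsConj P1 Phat ∧ F.IsFullyNormalized Phat ∧
      ∀ P, F.IsConj P1 P → ∃ θ ∈ F.Hom (normalizerIn S P),
        ∀ y, y ∈ Phat ↔ ∃ x : normalizerIn S P, (x : Ω) ∈ P ∧ θ x = y := by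
  obtain ⟨Phat, h1, h2, h3⟩ := exists_universal_target' hS F ℋ hℋconj hsat hgen hP1S hP1 hbig
  refine ⟨Phat, h1, h2, fun P hc => ?_⟩
  obtain ⟨θ, hθ, rfl⟩ := h3 P hc
  exact ⟨θ, hθ, fun y => mem_imgOf⟩

end Cfsg.Agent.Lib.Helper88
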