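import Cfsg.Agent.Lib.Helper88.BcgloKey
import Cfsg.Agent.Lib.Helper88.BcgloTarget

/-!
# The normal case of the BCGLO criterion: `Aut_F(Q) = Γ₁` by generation
-/

set_option autoImplicit false

namespace Cfsg.Agent.Lib.Helper88

open Cfsg Cfsg.FusionSystem Cfsg.Agent.Lib.Helper87 Cfsg.Agent.Lib.Helper84.KN

variable {Ω : Type*} [Group Ω] {S : Subgroup Ω}

namespace NormCtx

variable {F : FusionSystem S} {p : ℕ} {Q : Subgroup Ω} {O' : Subgroup (MulAut Q)}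

/-- A map `φ` is linked at `P` if, read through any two maps `θ`, `θ'` identifying `P` and
`φ(P)` with `Q`, it acts on `Q` as an element of `Γ₁`. -/
def Linked (c : NormCtx F p Q O') {R : Subgroup Ω} (φ : R →* Ω) (P : Subgroup Ω) : Prop :=
  ∀ θ ∈ F.Hom (normalizerIn S P), imgOf θ P = Q → ∀ P' : Subgroup Ω, imgOf φ P = P' →
    ∀ θ' ∈ F.Hom (normalizerIn S P'), imgOf θ' P' = Q →
      ∃ a ∈ c.gam1, ∀ x : R, (x : Ω) ∈ P → ∀ u : normalizerIn S P, (u : Ω) = x →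
        ∀ v : normalizerIn S P', (v : Ω) = φ x → ∀ q : Q, (q : Ω) = θ u → θ' v = (a q : Q)

theorem link [Finite S] [Fact p.Prime] (hS : IsPGroup p S) (c : NormCtx F p Q O')
    {P R₁ : Subgroup Ω} (hPR : P ≤ R₁) (hRN : R₁ ≤ normalizerIn S P)
    (hlt : Nat.card P < Nat.card R₁) (hPc : Nat.card P = Nat.card Q)
    {φ₁ : R₁ →* Ω} (hφ₁ : φ₁ ∈ F.Hom R₁) : c.Linked φ₁ P := by
  intro θ hθ hθP P' hP' θ' hθ' hθ'P
  subst hP'
  have hθ₁ := restrict_mem F hθ hRN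
  have hinj₁ := F.injective_of_mem hθ₁
  obtain ⟨ψ, hψ, hinv, hψr⟩ := inv_exists F hθ₁ rfl
  have hm1 : ∀ z : (θ.comp (Subgroup.inclusion hRN)).range, ψ z ∈ R₁ := fun z => hψr.le ⟨z, rfl⟩
  obtain ⟨ν, hν, hνe⟩ := comp_mem' F hψ hφ₁ hm1
  have hm2 : ∀ z : (θ.comp (Subgroup.inclusion hRN)).range,
      ν z ∈ normalizerIn S (imgOf φ₁ P) := by
    intro z
    rw [hνe]
    exact range_le_normalizerIn_imgOf F hφ₁ hRN ⟨_, rfl⟩
  obtain ⟨μ, hμ, hμe⟩ := comp_mem' F hν hθ' hm2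
  have himg₁ : imgOf (θ.comp (Subgroup.inclusion hRN)) P = Q := by
    rw [imgOf_restrict θ hRN hPR, hθP]
  have hQT : Q ≤ (θ.comp (Subgroup.inclusion hRN)).range := himg₁ ▸ imgOf_le_range _ P
  have hTN : (θ.comp (Subgroup.inclusion hRN)).range ≤ normalizerIn S Q := by
    have := range_le_normalizerIn_imgOf F hθ₁ hRN
    rwa [himg₁] at this
  have hcard : Nat.card Q < Nat.card (θ.comp (Subgroup.inclusion hRN)).range := by
    have h1 : Nat.card R₁ = Nat.card (θ.comp (Subgroup.inclusion hRN)).range :=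
      Nat.card_congr (MonoidHom.ofInjective hinj₁).toEquiv
    rw [← h1, ← hPc]
    exact hlt
  have hψQ : imgOf ψ Q = P := by
    rw [← himg₁]
    exact imgOf_inv hPR hinv le_rfl
  have hμQ : imgOf μ Q = Q := by
    rw [imgOf_comp_eq hm2 hμe Q, imgOf_comp_eq hm1 hνe Q, hψQ, hθ'P]
  obtain ⟨a, ha⟩ := exists_isRes (F.injective_of_mem hμ) hQT hμQ
  refine ⟨a, c.key' hS hQT hTN hcard hμ ha, ?_⟩
  intro x hx u hu v hv q hq
  have hz : θ u = (θ.comp (Subgroup.inclusion hRN)) x := by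
    have : u = Subgroup.inclusion hRN x := Subtype.ext hu
    rw [this]
    rfl
  have hqT : (q : Ω) ∈ (θ.comp (Subgroup.inclusion hRN)).range := hQT q.2
  have e1 : (⟨(q : Ω), hqT⟩ : (θ.comp (Subgroup.inclusion hRN)).range) =
      ⟨(θ.comp (Subgroup.inclusion hRN)) x, ⟨x, rfl⟩⟩ := Subtype.ext (hq.trans hz)
  have h1 := ha q hqT
  rw [← h1, e1, hμe]
  congr 1
  apply Subtype.ext
  show (v : Ω) = ν _
  rw [hνe, hv]
  congr 1
  apply Subtype.ext
  exact (hinv x _).symm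

/-- The subsystem of the maps linked at every member of the class of `Q`. -/
def linkedSystem [Finite S] [Fact p.Prime] (hS : IsPGroup p S) (c : NormCtx F p Q O') :
    FusionSystem S where
  Hom R := {φ | φ ∈ F.Hom R ∧ ∀ P : Subgroup Ω, P ≤ R → F.IsConj Q P → c.Linked φ P}
  le_of_mem h := F.le_of_mem h.1
  injective_of_mem h := F.injective_of_mem h.1
  conj_mem := by
    intro R g hR hg
    refine ⟨F.conj_mem hR hg, fun P hPR hc => ?_⟩
    have hPS : P ≤ S := hPR.trans hR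
    have hPc : Nat.card P = Nat.card Q := (card_eq_of_isConj F hc).symm
    have hne : P ≠ S := by
      intro h
      have h1 := c.s1_lt
      have h2 : Nat.card (s1 S Q O') ≤ Nat.card S := Subgroup.card_le_of_le (s1_le_S O')
      have h3 : Nat.card P = Nat.card S := by rw [h]
      omega
    have hlt := card_lt_card_normalizerIn hS hPS hne
    have hL := c.link hS (le_normalizerIn hPS) le_rfl hlt hPc
      (F.conj_mem (normalizerIn_le S P) hg)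
    intro θ hθ hθP P' hP' θ' hθ' hθ'P
    have hP'' : imgOf (conjHom (normalizerIn S P) g) P = P' := by
      rw [imgOf_conjHom (le_normalizerIn hPS) g, ← hP', imgOf_conjHom hPR g]
    obtain ⟨a, ha, hprop⟩ := hL θ hθ hθP P' hP'' θ' hθ' hθ'P
    refine ⟨a, ha, fun x hx u hu v hv q hq => ?_⟩
    exact hprop ⟨x, le_normalizerIn hPS hx⟩ hx u hu v hv q hq
  comp_mem := by
    intro P₀ Q₀ φ ψ hφ hψ h
    refine ⟨F.comp_mem hφ.1 hψ.1 h, fun P hP hc => ?_⟩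
    intro θ hθ hθP P'' hP'' θ'' hθ'' hθ''P
    have hP'le : imgOf φ P ≤ Q₀ := by
      intro y hy
      obtain ⟨x, -, rfl⟩ := mem_imgOf.mp hy
      exact h x
    have hc' : F.IsConj Q (imgOf φ P) := isConj_trans F hc (isConj_imgOf F hφ.1 hP)
    have hP'S : imgOf φ P ≤ S := imgOf_le_S F hφ.1 P
    obtain ⟨θ', hθ', hθ'P⟩ := c.hup _ hc'
    obtain ⟨a₁, ha₁, hp₁⟩ := hφ.2 P hP hc θ hθ hθP _ rfl θ' hθ' hθ'P
    have hP''2 : imgOf ψ (imgOf φ P) = P'' := by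
      rw [← imgOf_comp_eq (χ := ψ.comp (φ.codRestrict Q₀ h)) h (fun _ => rfl) P]
      exact hP''
    obtain ⟨a₂, ha₂, hp₂⟩ := hψ.2 _ hP'le hc' θ' hθ' hθ'P P'' hP''2 θ'' hθ'' hθ''P
    refine ⟨a₂ * a₁, c.gam1.mul_mem ha₂ ha₁, fun x hx u hu v hv q hq => ?_⟩
    have hφxP' : φ x ∈ imgOf φ P := mem_imgOf.mpr ⟨x, hx, rfl⟩
    have h1 := hp₁ x hx u hu ⟨φ x, le_normalizerIn hP'S hφxP'⟩ rfl q hq
    exact hp₂ ⟨φ x, h x⟩ hφxP' ⟨φ x, le_normalizerIn hP'S hφxP'⟩ rfl v hv (a₁ q) h1.symm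
  inv_mem := by
    intro P₀ φ hφ
    obtain ⟨ψ, hψ, hinv⟩ := F.inv_mem hφ.1
    refine ⟨ψ, ⟨hψ, fun P' hP' hc => ?_⟩, hinv⟩
    intro θs hθs hθsP P₂ hP₂ θt hθt hθtP
    subst hP₂
    have hle : imgOf ψ P' ≤ P₀ := by
      intro y hy
      obtain ⟨⟨_, x₀, rfl⟩, -, rfl⟩ := mem_imgOf.mp hy
      rw [hinv x₀]
      exact x₀.2
    have hc2 : F.IsConj Q (imgOf ψ P') := isConj_trans F hc (isConj_imgOf F hψ hP')
    obtain ⟨a₀, ha₀, hp⟩ := hφ.2 _ hle hc2 θt hθt hθtP P' (imgOf_imgOf_inv hinv hP')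
      θs hθs hθsP
    refine ⟨a₀⁻¹, c.gam1.inv_mem ha₀, fun x' hx' u' hu' v' hv' q' hq' => ?_⟩
    obtain ⟨_, x₀, rfl⟩ := x'
    have hψx : ψ ⟨φ x₀, ⟨x₀, rfl⟩⟩ = (x₀ : Ω) := hinv x₀
    have hx₀P : (x₀ : Ω) ∈ imgOf ψ P' := mem_imgOf.mpr ⟨⟨φ x₀, ⟨x₀, rfl⟩⟩, hx', hψx⟩
    have hv'P : (v' : Ω) ∈ imgOf ψ P' := by rw [hv', hψx]; exact hx₀P
    have hθtv : θt v' ∈ Q := by
      rw [← hθtP]
      exact mem_imgOf.mpr ⟨v', hv'P, rfl⟩
    have h1 := hp x₀ hx₀P v' (hv'.trans hψx) u' hu' ⟨θt v', hθtv⟩ rfl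
    have h2 : q' = a₀ ⟨θt v', hθtv⟩ := Subtype.ext (hq'.trans h1)
    rw [h2]
    simp

/-- **`Aut_F(Q) = Γ₁`**: every `F`-automorphism of `Q` extends to an `F`-automorphism of
`S₁`. -/
theorem autGroup_le_gam1 [Finite S] [Fact p.Prime] (hS : IsPGroup p S) (c : NormCtx F p Q O')
    (ℋ : Set (Subgroup Ω))
    (hgen : ∀ E : FusionSystem S, (∀ P ∈ ℋ, F.Hom P ⊆ E.Hom P) → F ≤ E)
    (hQℋ : ∀ R ∈ ℋ, ¬ F.IsConj Q R) : F.autGroup Q ≤ c.gam1 := by
  have hle : F ≤ c.linkedSystem hS := by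
    apply hgen
    intro R hR φ hφ
    have hRS : R ≤ S := hom_le F hφ
    refine ⟨hφ, fun P hPR hc => ?_⟩
    have hPne : P ≠ R := by
      rintro rfl
      exact hQℋ P hR hc
    have hfinR : Finite R := finite_of_le hRS
    have hRp : IsPGroup p R := hS.to_le hRS
    have hlt := card_lt_card_normalizerIn (S := R) hRp hPR hPne
    have hPc : Nat.card P = Nat.card Q := (card_eq_of_isConj F hc).symm
    have hRN : normalizerIn R P ≤ normalizerIn S P := inf_le_inf_right _ hRS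
    have hRR : normalizerIn R P ≤ R := normalizerIn_le R P
    have hL := c.link hS (le_normalizerIn hPR) hRN hlt hPc (restrict_mem F hφ hRR)
    intro θ hθ hθP P' hP' θ' hθ' hθ'P
    have hP'' : imgOf (φ.comp (Subgroup.inclusion hRR)) P = P' := by
      rw [imgOf_restrict φ hRR (le_normalizerIn hPR)]
      exact hP'
    obtain ⟨a, ha, hprop⟩ := hL θ hθ hθP P' hP'' θ' hθ' hθ'P
    refine ⟨a, ha, fun x hx u hu v hv q hq => ?_⟩
    exact hprop ⟨x, le_normalizerIn hPR hx⟩ hx u hu v hv q hq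
  intro α hα
  have hα' : Q.subtype.comp α.toMonoidHom ∈ F.Hom Q :=
    (Cfsg.Agent.Lib.Helper87.mem_autGroup_iff F c.hQS α).mp hα
  have hL := (hle Q hα').2 Q le_rfl (isConj_refl F c.hQS)
  have hN : (normalizerIn S Q).subtype ∈ F.Hom (normalizerIn S Q) :=
    subtype_mem F (normalizerIn_le S Q)
  have hNQ : imgOf (normalizerIn S Q).subtype Q = Q := imgOf_subtype (le_normalizerIn c.hQS)
  obtain ⟨a, ha, hprop⟩ := hL _ hN hNQ Q ((isRes_of_aut α).imgOf_eq le_rfl) _ hN hNQ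
  have : α = a := by
    ext x
    exact hprop x x.2 ⟨x, le_normalizerIn c.hQS x.2⟩ rfl
      ⟨(α x : Q), le_normalizerIn c.hQS (α x).2⟩ rfl x rfl
  rw [this]
  exact ha

end NormCtx

end Cfsg.Agent.Lib.Helper88
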