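import Cfsg.Agent.Lib.Helper88.BcgloCtx
import Cfsg.Agent.Lib.Helper88.BcgloConf

/-!
# The normal case of the BCGLO criterion: every map fixing `Q` restricts into `Γ₁`
-/

set_option autoImplicit false

namespace Cfsg.Agent.Lib.Helper88

open Cfsg Cfsg.FusionSystem Cfsg.Agent.Lib.Helper87 Cfsg.Agent.Lib.Helper84.KN

variable {Ω : Type*} [Group Ω] {S : Subgroup Ω}

namespace NormCtx

variable {F : FusionSystem S} {p : ℕ} {Q : Subgroup Ω} {O' : Subgroup (MulAut Q)}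

/-- Base case: the domain contains `S₁`. -/
theorem key_base [Finite S] (c : NormCtx F p Q O') {T : Subgroup Ω} {μ : T →* Ω}
    (hμ : μ ∈ F.Hom T) (hQT : Q ≤ T) {a : MulAut Q} (ha : IsRes μ a)
    (h1T : s1 S Q O' ≤ T) : a ∈ c.gam1 := by
  have hfin : Finite (s1 S Q O') := finite_of_le (s1_le_S O')
  have hδ := restrict_mem F hμ h1T
  refine ⟨_, hδ, range_eq_of_le (F.injective_of_mem hδ) ?_, ha.restrict h1T⟩
  rintro _ ⟨x, rfl⟩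
  exact c.map_mem_s1 hμ hQT ha (g := Subgroup.inclusion h1T x) x.2

/-- If `T` does not contain `S₁`, some element of `S₁` outside `T` normalizes `T`. -/
theorem exists_normalizing [Finite S] [Fact p.Prime] (hS : IsPGroup p S)
    (c : NormCtx F p Q O') {T : Subgroup Ω} (hTN : T ≤ normalizerIn S Q)
    (h1T : ¬ s1 S Q O' ≤ T) :
    ∃ y ∈ s1 S Q O', y ∈ Subgroup.normalizer (T : Set Ω) ∧ y ∉ T := by
  have hMN : T ⊔ s1 S Q O' ≤ normalizerIn S Q := sup_le hTN (s1_le_normalizerIn O')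
  have hMS : T ⊔ s1 S Q O' ≤ S := hMN.trans (normalizerIn_le S Q)
  have hfinM : Finite ↥(T ⊔ s1 S Q O') := finite_of_le hMS
  have hMp : IsPGroup p ↥(T ⊔ s1 S Q O') := hS.to_le hMS
  have hne : T ≠ T ⊔ s1 S Q O' := by
    intro h
    apply h1T
    rw [h]
    exact le_sup_right
  have hlt := card_lt_card_normalizerIn (S := T ⊔ s1 S Q O') hMp le_sup_left hne
  have hfinT : Finite T := finite_of_le (le_sup_left.trans hMS)
  obtain ⟨z, hzN, hzT⟩ : ∃ z ∈ normalizerIn (T ⊔ s1 S Q O') T, z ∉ T := by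
    by_contra hcon
    have h1 : normalizerIn (T ⊔ s1 S Q O') T ≤ T := fun z hz => by
      by_contra hzT
      exact hcon ⟨z, hz, hzT⟩
    exact absurd (Subgroup.card_le_of_le h1) (not_le.mpr hlt)
  obtain ⟨t, ht, s, hs, rfl⟩ :=
    mem_sup_of_normalizes (fun a ha b hb => c.conj_mem_s1 (hTN ha) hb) hzN.1
  refine ⟨s, hs, ?_, fun hsT => hzT (T.mul_mem ht hsT)⟩
  have h1 : t⁻¹ ∈ Subgroup.normalizer (T : Set Ω) := Subgroup.le_normalizer (T.inv_mem ht)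
  have h2 := (Subgroup.normalizer (T : Set Ω)).mul_mem h1 hzN.2
  simpa using h2

/-- The image of `T` does not contain `S₁` either. -/
theorem not_s1_le_range [Finite S] (c : NormCtx F p Q O') {T : Subgroup Ω} {μ : T →* Ω}
    (hμ : μ ∈ F.Hom T) (hQT : Q ≤ T) {a : MulAut Q} (ha : IsRes μ a)
    (h1T : ¬ s1 S Q O' ≤ T) : ¬ s1 S Q O' ≤ μ.range := by
  intro hle
  apply h1T
  obtain ⟨ψ, hψ, hinv, hψr⟩ := inv_exists F hμ rfl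
  have hQr : Q ≤ μ.range := (ha.imgOf_eq hQT).ge.trans (imgOf_le_range μ Q)
  have hψres : IsRes ψ a⁻¹ := IsRes.inv_of hQT hinv ha
  have hmem : ∀ g : s1 S Q O', ψ ⟨g, hle g.2⟩ ∈ s1 S Q O' ⊓ T := fun g =>
    ⟨c.map_mem_s1 hψ hQr hψres (g := ⟨g, hle g.2⟩) g.2, hψr.le ⟨_, rfl⟩⟩
  have hfin1 : Finite (s1 S Q O') := finite_of_le (s1_le_S O')
  have hfin2 : Finite ↥(s1 S Q O' ⊓ T) := finite_of_le (inf_le_left.trans (s1_le_S O'))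
  have hcard : Nat.card (s1 S Q O') ≤ Nat.card ↥(s1 S Q O' ⊓ T) :=
    Nat.card_le_card_of_injective (fun g => (⟨ψ ⟨g, hle g.2⟩, hmem g⟩ : ↥(s1 S Q O' ⊓ T))) (by
      intro g g' h
      have h1 : ψ ⟨g, hle g.2⟩ = ψ ⟨g', hle g'.2⟩ := congrArg Subtype.val h
      have h2 := F.injective_of_mem hψ h1
      exact Subtype.ext (congrArg (fun t : μ.range => (t : Ω)) h2))
  have := Subgroup.eq_of_le_of_card_ge (inf_le_left : s1 S Q O' ⊓ T ≤ s1 S Q O') hcard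
  rw [← this]
  exact inf_le_right

theorem mem_nk_subtype (_c : NormCtx F p Q O') {T : Subgroup Ω} (hQT : Q ≤ T) {y : Ω}
    (hy1 : y ∈ s1 S Q O') (hyT : y ∈ Subgroup.normalizer (T : Set Ω)) :
    y ∈ nk S T (kT hQT O') T.subtype := by
  obtain ⟨hyS, o, ho, hyo⟩ := hy1
  exact ⟨hyS, conjAut T y hyT, (mem_kT hQT O').mpr ⟨o, ho, fun x => hyo x⟩, fun x => rfl⟩

theorem mem_nk_of_isRes (c : NormCtx F p Q O') {T : Subgroup Ω} {μ : T →* Ω}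
    (hμ : μ ∈ F.Hom T) (hQT : Q ≤ T) {a : MulAut Q} (ha : IsRes μ a) {y : Ω}
    (hy1 : y ∈ s1 S Q O') (hyR : y ∈ Subgroup.normalizer (μ.range : Set Ω)) :
    y ∈ nk S T (kT hQT O') μ := by
  obtain ⟨hyS, o, ho, hyo'⟩ := hy1
  have hyo : ∀ x : Q, y * (x : Ω) * y⁻¹ = (o x : Q) := hyo'
  have hinj := F.injective_of_mem hμ
  obtain ⟨k, hk⟩ := Cfsg.Agent.Lib.Helper84.KN.exists_aut_of_mem_normalizer hinj hyR
  have haΓ := ha.mem_autGroup F hμ hQT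
  refine ⟨hyS, k, (mem_kT hQT O').mpr ⟨a⁻¹ * o * a, ?_, fun x => ?_⟩, hk⟩
  · have := c.hO'n a⁻¹ ((F.autGroup Q).inv_mem haΓ) o ho
    rwa [inv_inv] at this
  · have h1 : μ (k ⟨x, hQT x.2⟩) = μ ⟨((a⁻¹ * o * a) x : Q), hQT ((a⁻¹ * o * a) x).2⟩ := by
      rw [← hk, ha x _, hyo, ha ((a⁻¹ * o * a) x) _]
      simp
    exact congrArg (fun t : T => (t : Ω)) (hinj h1)

theorem nk_kT_le_normalizerIn {T : Subgroup Ω} (hQT : Q ≤ T) (O' : Subgroup (MulAut Q))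
    {φ : T →* Ω} (hinj : Function.Injective φ) :
    nk S T (kT hQT O') φ ≤ normalizerIn S (imgOf φ Q) := by
  intro y hy
  obtain ⟨hyS, -, hyQ⟩ := (mem_nk_stab hinj).mp (nk_mono (kT_le_stabAut hQT O') φ hy)
  exact ⟨hyS, hyQ⟩

/-- One side of the inductive step: extend the marking `φ` to a bigger subgroup and apply the
induction hypothesis. -/
theorem key_side [Finite S] [Fact p.Prime] (hS : IsPGroup p S) (c : NormCtx F p Q O')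
    {T : Subgroup Ω} (hQT : Q ≤ T) (hTN : T ≤ normalizerIn S Q) {φ₀ : T →* Ω}
    (h₀ : GoodMark F p T (kT hQT O') φ₀) {θ : normalizerIn S (imgOf φ₀ Q) →* Ω}
    (hθ : θ ∈ F.Hom (normalizerIn S (imgOf φ₀ Q))) (hθQ : imgOf θ (imgOf φ₀ Q) = Q)
    {f : MulAut Q}
    (hf : ∀ (x : Q) (h : φ₀ ⟨x, hQT x.2⟩ ∈ normalizerIn S (imgOf φ₀ Q)),
      θ ⟨φ₀ ⟨x, hQT x.2⟩, h⟩ = (f x : Q))
    {φ : T →* Ω} (hφ : φ ∈ F.Hom T) {b : MulAut Q} (hb : IsRes φ b) {y : Ω}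
    (hy : y ∈ nk S T (kT hQT O') φ) (hyr : y ∉ φ.range)
    (ih : ∀ (T' : Subgroup Ω) (μ' : T' →* Ω), Nat.card T < Nat.card T' → Q ≤ T' →
      T' ≤ normalizerIn S Q → μ' ∈ F.Hom T' → ∀ a' : MulAut Q, IsRes μ' a' → a' ∈ c.gam1) :
    ∃ a' ∈ c.gam1, ∃ χ ∈ kT hQT O' ⊓ F.autGroup T, ∃ c' ∈ O',
      (∀ x : Q, ((χ ⟨x, hQT x.2⟩ : T) : Ω) = (c' x : Q)) ∧ a' * b = f * c' := by
  obtain ⟨χ, hχ, ψ, hψ, hψe⟩ := exists_extension hS F h₀ hφ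
  have hinj := F.injective_of_mem hφ
  have hφQ : imgOf φ Q = Q := hb.imgOf_eq hQT
  have hRD : φ.range ≤ nk S T (kT hQT O') φ ⊔ φ.range := le_sup_right
  have hDN : nk S T (kT hQT O') φ ⊔ φ.range ≤ normalizerIn S Q := by
    apply sup_le
    · have := nk_kT_le_normalizerIn (S := S) hQT O' hinj
      rwa [hφQ] at this
    · have := range_le_normalizerIn_imgOf F hφ hTN
      rwa [hφQ] at this
  have hQD : Q ≤ nk S T (kT hQT O') φ ⊔ φ.range :=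
    hφQ.ge.trans ((imgOf_le_range φ Q).trans hRD)
  have hfinD : Finite ↥(nk S T (kT hQT O') φ ⊔ φ.range) :=
    finite_of_le (hDN.trans (normalizerIn_le S Q))
  have hcard : Nat.card T < Nat.card ↥(nk S T (kT hQT O') φ ⊔ φ.range) := by
    have h1 : Nat.card T = Nat.card φ.range :=
      Nat.card_congr (MonoidHom.ofInjective hinj).toEquiv
    rw [h1]
    by_contra hcon
    have h2 := Subgroup.eq_of_le_of_card_ge hRD (not_lt.mp hcon)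
    apply hyr
    rw [h2]
    exact le_sup_left (a := nk S T (kT hQT O') φ) hy
  have himg : imgOf ψ Q = imgOf φ₀ Q := by
    have := imgOf_of_marking (P := Q) (kT_le_stabAut hQT O' hχ.1) hRD hψe
    rwa [hφQ] at this
  have hψN : ∀ z : ↥(nk S T (kT hQT O') φ ⊔ φ.range), ψ z ∈ normalizerIn S (imgOf φ₀ Q) := by
    intro z
    have := range_le_normalizerIn_imgOf F hψ hDN ⟨z, rfl⟩
    rwa [himg] at this
  obtain ⟨ψ', hψ', hψ'e⟩ := comp_mem' F hψ hθ hψN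
  have himg' : imgOf ψ' Q = Q := by
    rw [imgOf_comp_eq hψN hψ'e Q, himg, hθQ]
  obtain ⟨a', ha'⟩ := exists_isRes (F.injective_of_mem hψ') hQD himg'
  have ha'1 : a' ∈ c.gam1 := ih _ ψ' hcard hQD hDN hψ' a' ha'
  obtain ⟨c', hc'O, hc'⟩ := (mem_kT hQT O').mp hχ.1
  refine ⟨a', ha'1, χ, hχ, c', hc'O, hc', ?_⟩
  ext x
  show ((a' (b x) : Q) : Ω) = ((f (c' x) : Q) : Ω)
  have hbx : φ ⟨x, hQT x.2⟩ = ((b x : Q) : Ω) := hb x (hQT x.2)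
  have hD1 : φ ⟨x, hQT x.2⟩ ∈ nk S T (kT hQT O') φ ⊔ φ.range := hRD ⟨_, rfl⟩
  have hD2 : ((b x : Q) : Ω) ∈ nk S T (kT hQT O') φ ⊔ φ.range := hQD (b x).2
  have e1 : (⟨((b x : Q) : Ω), hD2⟩ : ↥(nk S T (kT hQT O') φ ⊔ φ.range)) =
      ⟨φ ⟨x, hQT x.2⟩, hD1⟩ := Subtype.ext hbx.symm
  rw [← ha' (b x) hD2, e1, hψ'e]
  have e2 : χ ⟨x, hQT x.2⟩ = ⟨((c' x : Q) : Ω), hQT (c' x).2⟩ := Subtype.ext (hc' x)
  have e3 : ψ ⟨φ ⟨x, hQT x.2⟩, hD1⟩ = φ₀ ⟨((c' x : Q) : Ω), hQT (c' x).2⟩ := by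
    rw [hψe, e2]
  have e4 : (⟨ψ ⟨φ ⟨x, hQT x.2⟩, hD1⟩, hψN _⟩ : normalizerIn S (imgOf φ₀ Q)) =
      ⟨φ₀ ⟨((c' x : Q) : Ω), hQT (c' x).2⟩, e3 ▸ hψN _⟩ := Subtype.ext e3
  rw [e4, hf]

/-- The restriction of an element of `K_T ⊓ Aut_F(T)`, conjugated by `f`, lies in `Θ`. -/
theorem key_sylow [Finite S] [Fact p.Prime] (c : NormCtx F p Q O')
    {T : Subgroup Ω} (hQT : Q ≤ T) (hTN : T ≤ normalizerIn S Q) {φ₀ : T →* Ω}
    (h₀ : GoodMark F p T (kT hQT O') φ₀) {θ : normalizerIn S (imgOf φ₀ Q) →* Ω}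
    (hθ : θ ∈ F.Hom (normalizerIn S (imgOf φ₀ Q)))
    {f : MulAut Q} (hfΓ : f ∈ F.autGroup Q)
    (hf : ∀ (x : Q) (h : φ₀ ⟨x, hQT x.2⟩ ∈ normalizerIn S (imgOf φ₀ Q)),
      θ ⟨φ₀ ⟨x, hQT x.2⟩, h⟩ = (f x : Q))
    {χ : MulAut T} (hχ : χ ∈ kT hQT O' ⊓ F.autGroup T) {c' : MulAut Q}
    (hc' : ∀ x : Q, ((χ ⟨x, hQT x.2⟩ : T) : Ω) = (c' x : Q)) :
    f * c' * f⁻¹ ∈ theta S Q O' := by
  have hTS : T ≤ S := hTN.trans (normalizerIn_le S Q)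
  have hfinT : Finite T := finite_of_le hTS
  have hinj₀ := F.injective_of_mem h₀.mem
  have hle : kT hQT O' ⊓ F.autGroup T ≤ stabAut T Q := inf_le_left.trans (kT_le_stabAut hQT O')
  let π : ↥(kT hQT O' ⊓ F.autGroup T) →* MulAut Q :=
    (stabRes hQT).comp (Subgroup.inclusion hle)
  have hπ : ∀ (ξ : ↥(kT hQT O' ⊓ F.autGroup T)) (x : Q),
      ((π ξ x : Q) : Ω) = (((ξ : MulAut T) ⟨x, hQT x.2⟩ : T) : Ω) := fun ξ x => rfl
  have hπO : ∀ ξ : ↥(kT hQT O' ⊓ F.autGroup T), π ξ ∈ O' := by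
    intro ξ
    obtain ⟨o, ho, hoe⟩ := (mem_kT hQT O').mp ξ.2.1
    have : π ξ = o := by
      ext x
      rw [hπ]
      exact hoe x
    rw [this]
    exact ho
  have hπχ : π ⟨χ, hχ⟩ = c' := by
    ext x
    rw [hπ]
    exact hc' x
  have hc'O : c' ∈ O' := hπχ ▸ hπO ⟨χ, hχ⟩
  obtain ⟨R, hR⟩ := h₀.syl
  have hrp : IsPGroup p π.range := by
    apply c.hO'p.to_le
    rintro _ ⟨ξ, rfl⟩
    exact hπO ξ
  let R' : Sylow p π.range := R.mapSurjective π.rangeRestrict_surjective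
  have hR'top : (R' : Subgroup π.range) = ⊤ :=
    (R'.is_maximal' (hrp.to_subgroup ⊤) le_top).symm
  have hmem : (⟨c', ⟨⟨χ, hχ⟩, hπχ⟩⟩ : π.range) ∈ (R' : Subgroup π.range) := by
    rw [hR'top]
    exact Subgroup.mem_top _
  rw [Sylow.coe_mapSurjective] at hmem
  obtain ⟨k, hkR, hke⟩ := hmem
  have hkc : π k = c' := congrArg Subtype.val hke
  obtain ⟨-, y, hyS, hy⟩ := (hR k).mp hkR
  have hynk : y ∈ nk S T (kT hQT O') φ₀ := ⟨hyS, k, k.2.1, hy⟩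
  have hyN : y ∈ normalizerIn S (imgOf φ₀ Q) := nk_kT_le_normalizerIn hQT O' hinj₀ hynk
  refine ⟨c.hO'n f hfΓ c' hc'O, θ ⟨y, hyN⟩, hom_mem_S F hθ _, fun x => ?_⟩
  show θ ⟨y, hyN⟩ * (x : Ω) * (θ ⟨y, hyN⟩)⁻¹ = ((f (c' (f⁻¹ x)) : Q) : Ω)
  have hN0 : ∀ t : T, φ₀ t ∈ normalizerIn S (imgOf φ₀ Q) := fun t =>
    range_le_normalizerIn_imgOf F h₀.mem hTN ⟨t, rfl⟩
  have hx : (x : Ω) = θ ⟨φ₀ ⟨(f⁻¹ x : Q), hQT (f⁻¹ x).2⟩, hN0 _⟩ := by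
    rw [hf]
    simp
  have hk1 : (k : MulAut T) ⟨(f⁻¹ x : Q), hQT (f⁻¹ x).2⟩ =
      ⟨((c' (f⁻¹ x) : Q) : Ω), hQT (c' (f⁻¹ x)).2⟩ := by
    apply Subtype.ext
    rw [← hπ k, hkc]
  have h2 : (⟨y, hyN⟩ : normalizerIn S (imgOf φ₀ Q)) *
      ⟨φ₀ ⟨(f⁻¹ x : Q), hQT (f⁻¹ x).2⟩, hN0 _⟩ * ⟨y, hyN⟩⁻¹ =
      ⟨φ₀ ⟨((c' (f⁻¹ x) : Q) : Ω), hQT (c' (f⁻¹ x)).2⟩, hN0 _⟩ := by
    apply Subtype.ext
    show y * φ₀ _ * y⁻¹ = φ₀ _
    rw [hy, hk1]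
  rw [hx, ← map_inv, ← map_mul, ← map_mul, h2, hf]

/-- The inductive step. -/
theorem key_step [Finite S] [Fact p.Prime] (hS : IsPGroup p S) (c : NormCtx F p Q O')
    {T : Subgroup Ω} {μ : T →* Ω} (hμ : μ ∈ F.Hom T) (hQT : Q ≤ T)
    (hTN : T ≤ normalizerIn S Q) (hlt : Nat.card Q < Nat.card T) {a : MulAut Q}
    (ha : IsRes μ a) (h1T : ¬ s1 S Q O' ≤ T)
    (ih : ∀ (T' : Subgroup Ω) (μ' : T' →* Ω), Nat.card T < Nat.card T' → Q ≤ T' →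
      T' ≤ normalizerIn S Q → μ' ∈ F.Hom T' → ∀ a' : MulAut Q, IsRes μ' a' → a' ∈ c.gam1) :
    a ∈ c.gam1 := by
  have hTS : T ≤ S := hom_le F hμ
  have hμQ : imgOf μ Q = Q := ha.imgOf_eq hQT
  obtain ⟨φ₀, h₀⟩ := c.hmark T hTS hlt (kT hQT O')
  have hQ₀c : F.IsConj Q (imgOf φ₀ Q) := isConj_imgOf F h₀.mem hQT
  obtain ⟨θ, hθ, hθQ⟩ := c.hup _ hQ₀c
  have hN0 : ∀ t : T, φ₀ t ∈ normalizerIn S (imgOf φ₀ Q) := fun t =>
    range_le_normalizerIn_imgOf F h₀.mem hTN ⟨t, rfl⟩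
  obtain ⟨φ₁, hφ₁, hφ₁e⟩ := comp_mem' F h₀.mem hθ hN0
  have hφ₁Q : imgOf φ₁ Q = Q := by rw [imgOf_comp_eq hN0 hφ₁e Q, hθQ]
  obtain ⟨f, hfres⟩ := exists_isRes (F.injective_of_mem hφ₁) hQT hφ₁Q
  have hfΓ : f ∈ F.autGroup Q := hfres.mem_autGroup F hφ₁ hQT
  have hf : ∀ (x : Q) (h : φ₀ ⟨x, hQT x.2⟩ ∈ normalizerIn S (imgOf φ₀ Q)),
      θ ⟨φ₀ ⟨x, hQT x.2⟩, h⟩ = (f x : Q) := by
    intro x h
    rw [← hfres x (hQT x.2), hφ₁e]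
  -- the side of the inclusion
  obtain ⟨y, hy1, hyT, hyn⟩ := c.exists_normalizing hS hTN h1T
  have hynk := c.mem_nk_subtype hQT hy1 hyT
  have hyr : y ∉ T.subtype.range := by rwa [Subgroup.range_subtype]
  obtain ⟨a₁, ha₁, χ₁, hχ₁, c₁, hc₁O, hc₁, hrel₁⟩ :=
    c.key_side hS hQT hTN h₀ hθ hθQ hf (subtype_mem F hTS) (isRes_subtype T) hynk hyr ih
  -- the side of `μ`
  have hrN : μ.range ≤ normalizerIn S Q := by
    have := range_le_normalizerIn_imgOf F hμ hTN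
    rwa [hμQ] at this
  obtain ⟨y', hy'1, hy'T, hy'n⟩ :=
    c.exists_normalizing hS hrN (c.not_s1_le_range hμ hQT ha h1T)
  have hy'nk := c.mem_nk_of_isRes hμ hQT ha hy'1 hy'T
  obtain ⟨a₂, ha₂, χ₂, hχ₂, c₂, hc₂O, hc₂, hrel₂⟩ :=
    c.key_side hS hQT hTN h₀ hθ hθQ hf hμ ha hy'nk hy'n ih
  -- the Sylow argument
  have hs₁ := c.key_sylow hQT hTN h₀ hθ hfΓ hf hχ₁ hc₁
  have hs₂ := c.key_sylow hQT hTN h₀ hθ hfΓ hf hχ₂ hc₂
  rw [mul_one] at hrel₁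
  have hfe : f = a₁ * c₁⁻¹ := by rw [hrel₁]; group
  have h1 : a₁ * c₁ * a₁⁻¹ ∈ theta S Q O' := by
    have e : f * c₁ * f⁻¹ = a₁ * c₁ * a₁⁻¹ := by rw [hfe]; group
    rwa [e] at hs₁
  have hc₁Θ : c₁ ∈ theta S Q O' := by
    have := c.gam1_conj_theta (c.gam1.inv_mem ha₁) h1
    have e : a₁⁻¹ * (a₁ * c₁ * a₁⁻¹) * a₁⁻¹⁻¹ = c₁ := by group
    rwa [e] at this
  have hfG : f ∈ c.gam1 := by
    rw [hfe]
    exact c.gam1.mul_mem ha₁ (c.gam1.inv_mem (c.theta_le_gam1 hc₁Θ))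
  have hc₂Θ : c₂ ∈ theta S Q O' := by
    have := c.gam1_conj_theta (c.gam1.inv_mem hfG) hs₂
    have e : f⁻¹ * (f * c₂ * f⁻¹) * f⁻¹⁻¹ = c₂ := by group
    rwa [e] at this
  have hae : a = a₂⁻¹ * (f * c₂) := by rw [← hrel₂]; group
  rw [hae]
  exact c.gam1.mul_mem (c.gam1.inv_mem ha₂) (c.gam1.mul_mem hfG (c.theta_le_gam1 hc₂Θ))

/-- **Key lemma**: every map of `F` defined on a subgroup `T` with `Q < T ≤ N_S(Q)` and fixing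
`Q` restricts on `Q` to an element of `Γ₁`. -/
theorem key [Finite S] [Fact p.Prime] (hS : IsPGroup p S) (c : NormCtx F p Q O') :
    ∀ (n : ℕ) (T : Subgroup Ω) (μ : T →* Ω), Nat.card S - Nat.card T = n → Q ≤ T →
      T ≤ normalizerIn S Q → Nat.card Q < Nat.card T → μ ∈ F.Hom T →
      ∀ a : MulAut Q, IsRes μ a → a ∈ c.gam1 := by
  intro n
  induction n using Nat.strong_induction_on with
  | _ n ih =>
    intro T μ hn hQT hTN hlt hμ a ha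
    by_cases h1T : s1 S Q O' ≤ T
    · exact c.key_base hμ hQT ha h1T
    · apply c.key_step hS hμ hQT hTN hlt ha h1T
      intro T' μ' hlt' hQT' hT'N hμ' a' ha'
      have hT'S : T' ≤ S := hT'N.trans (normalizerIn_le S Q)
      have hc : Nat.card T' ≤ Nat.card S := Subgroup.card_le_of_le hT'S
      exact ih (Nat.card S - Nat.card T') (by omega) T' μ' rfl hQT' hT'N (lt_trans hlt hlt')
        hμ' a' ha'

theorem key' [Finite S] [Fact p.Prime] (hS : IsPGroup p S) (c : NormCtx F p Q O')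
    {T : Subgroup Ω} {μ : T →* Ω} (hQT : Q ≤ T) (hTN : T ≤ normalizerIn S Q)
    (hlt : Nat.card Q < Nat.card T) (hμ : μ ∈ F.Hom T) {a : MulAut Q} (ha : IsRes μ a) :
    a ∈ c.gam1 :=
  c.key hS _ T μ rfl hQT hTN hlt hμ a ha

end NormCtx

end Cfsg.Agent.Lib.Helper88
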