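import Cfsg.Agent.Lib.Helper88.BcgloRec2

/-!
# The BCGLO saturation criterion (AKO Theorem I.3.10)
-/

set_option autoImplicit false

namespace Cfsg.Agent.Lib.Helper88

open Cfsg Cfsg.FusionSystem Cfsg.Agent.Lib.Helper87 Cfsg.Agent.Lib.Helper84.KN

variable {Ω : Type*} [Group Ω] {S : Subgroup Ω}

/-- The embedded `p`-core of `Aut_F(Q)`. -/
def opAut (F : FusionSystem S) (p : ℕ) (Q : Subgroup Ω) : Subgroup (MulAut Q) :=
  (pCore p ↥(F.autGroup Q)).map (F.autGroup Q).subtype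

theorem opAut_le (F : FusionSystem S) (p : ℕ) (Q : Subgroup Ω) : opAut F p Q ≤ F.autGroup Q :=
  Subgroup.map_subtype_le _

theorem opAut_conj (F : FusionSystem S) (p : ℕ) (Q : Subgroup Ω) {γ o : MulAut Q}
    (hγ : γ ∈ F.autGroup Q) (ho : o ∈ opAut F p Q) : γ * o * γ⁻¹ ∈ opAut F p Q := by
  obtain ⟨o', ho', rfl⟩ := ho
  have hn := pCore_normal p ↥(F.autGroup Q)
  exact ⟨⟨γ, hγ⟩ * o' * ⟨γ, hγ⟩⁻¹, hn.conj_mem o' ho' ⟨γ, hγ⟩, rfl⟩

theorem opAut_isPGroup (F : FusionSystem S) (p : ℕ) [Fact p.Prime] (Q : Subgroup Ω) :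
    IsPGroup p (opAut F p Q) :=
  (pCore_isPGroup p ↥(F.autGroup Q)).map _

theorem conjAut_mem_opAut {p : ℕ} [Fact p.Prime] (hS : IsPGroup p S) (F : FusionSystem S)
    {Q : Subgroup Ω} (hQS : Q ≤ S) (g : Ω) (hg : g ∈ Q) :
    conjAut Q g (Subgroup.le_normalizer hg) ∈ opAut F p Q := by
  apply inn_le_pCore hS F hQS
  refine ⟨⟨g, hg⟩, ?_⟩
  ext x
  rfl

/-- Transport of an element inducing an automorphism in the `p`-core along a map defined on
the normalizer. -/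
theorem transport_core {p : ℕ} [Fact p.Prime] (F : FusionSystem S) {Q' Q : Subgroup Ω}
    (hQ'S : Q' ≤ S) {θ : normalizerIn S Q' →* Ω} (hθ : θ ∈ F.Hom (normalizerIn S Q'))
    (hθQ : imgOf θ Q' = Q) {g : Ω} (hg : g ∈ normalizerIn S Q')
    (hcore : conjAut Q' g hg.2 ∈ opAut F p Q') :
    ∃ hN : θ ⟨g, hg⟩ ∈ normalizerIn S Q,
      conjAut Q (θ ⟨g, hg⟩) hN.2 ∈ opAut F p Q ∧ (g ∉ Q' → θ ⟨g, hg⟩ ∉ Q) := by
  have hN : θ ⟨g, hg⟩ ∈ normalizerIn S Q := by
    have := range_le_normalizerIn_imgOf F hθ le_rfl ⟨⟨g, hg⟩, rfl⟩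
    rwa [hθQ] at this
  have hQ'N : Q' ≤ normalizerIn S Q' := le_normalizerIn hQ'S
  have hθ' := restrict_mem F hθ hQ'N
  have hinj := F.injective_of_mem hθ'
  have hr : (θ.comp (Subgroup.inclusion hQ'N)).range = Q := by
    rw [← hθQ]
    ext y
    rw [mem_imgOf]
    constructor
    · rintro ⟨x, rfl⟩
      exact ⟨Subgroup.inclusion hQ'N x, x.2, rfl⟩
    · rintro ⟨x, hx, rfl⟩
      exact ⟨⟨x, hx⟩, rfl⟩
  let e : Q' ≃* Q := isoOfHom _ hinj hr
  have he : ∀ x : Q', ((e x : Q) : Ω) = (θ.comp (Subgroup.inclusion hQ'N)) x := fun x => rfl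
  have hmap := autGroup_map_congr F hθ' hr e he
  have hcore' := pCore_map_subtype_equiv (p := p) (MulAut.congr e) (F.autGroup Q')
    (F.autGroup Q) hmap
  refine ⟨hN, ?_, ?_⟩
  · have h1 : (MulAut.congr e) (conjAut Q' g hg.2) ∈ opAut F p Q := by
      have : (MulAut.congr e) (conjAut Q' g hg.2) ∈
          ((pCore p ↥(F.autGroup Q')).map (F.autGroup Q').subtype).map
            (MulAut.congr e).toMonoidHom := ⟨_, hcore, rfl⟩
      rw [hcore'] at this
      exact this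
    have h2 : (MulAut.congr e) (conjAut Q' g hg.2) = conjAut Q (θ ⟨g, hg⟩) hN.2 := by
      ext q
      show ((e (conjAut Q' g hg.2 (e.symm q)) : Q) : Ω) = θ ⟨g, hg⟩ * (q : Ω) * (θ ⟨g, hg⟩)⁻¹
      rw [he]
      have h3 : (q : Ω) = θ (Subgroup.inclusion hQ'N (e.symm q)) := by
        have := he (e.symm q)
        rw [MulEquiv.apply_symm_apply] at this
        exact this
      rw [h3, ← map_inv, ← map_mul, ← map_mul]
      show θ _ = θ _
      congr 1
    rw [← h2]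
    exact h1
  · intro hgQ' hθg
    rw [← hθQ] at hθg
    obtain ⟨x, hx, hxe⟩ := mem_imgOf.mp hθg
    have := F.injective_of_mem hθ hxe
    apply hgQ'
    rw [this] at hx
    exact hx

/-- The context of the normal case for the universal target. -/
theorem normCtx_of_target [Finite S] {p : ℕ} [Fact p.Prime] (hS : IsPGroup p S)
    (F : FusionSystem S) {Q : Subgroup Ω} (hfn : F.IsFullyNormalized Q)
    (hmark : ∀ R : Subgroup Ω, R ≤ S → Nat.card Q < Nat.card R → ∀ K : Subgroup (MulAut R),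
      ∃ φ₀ : R →* Ω, GoodMark F p R K φ₀)
    (hup : ∀ P : Subgroup Ω, F.IsConj Q P → UpTo F P Q)
    (hstar : F.IsCentric Q → ∃ Q', F.IsConj Q Q' ∧
      ¬ (autInducedBy S Q' ⊓ (pCore p ↥(F.autGroup Q')).map (F.autGroup Q').subtype ≤ Inn Q')) :
    NormCtx F p Q (opAut F p Q) := by
  have hQS : Q ≤ S := hfn.1
  refine ⟨hQS, hfn, opAut_le F p Q, fun γ hγ o ho => opAut_conj F p Q hγ ho,
    opAut_isPGroup F p Q, fun g hg => conjAut_mem_opAut hS F hQS g hg, hmark, hup, ?_⟩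
  -- a conjugate `Q'` with an element of `N_S(Q') \\ Q'` acting in the `p`-core
  have key : ∃ Q', F.IsConj Q Q' ∧ ∃ (g : Ω) (hg : g ∈ normalizerIn S Q'),
      g ∉ Q' ∧ conjAut Q' g hg.2 ∈ opAut F p Q' := by
    by_cases hcen : F.IsCentric Q
    · obtain ⟨Q', hc, hnot⟩ := hstar hcen
      refine ⟨Q', hc, ?_⟩
      rw [SetLike.not_le_iff_exists] at hnot
      obtain ⟨t, ⟨htS, htO⟩, htI⟩ := hnot
      obtain ⟨g, hgS, hg⟩ := (Cfsg.Agent.Lib.Helper87.mem_autInducedBy_iff S Q' t).mp htS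
      have hgN : g ∈ Subgroup.normalizer (Q' : Set Ω) := NormCtx.mem_normalizer_of_aut hg
      have ht : t = conjAut Q' g hgN := by
        ext x
        exact hg x
      refine ⟨g, ⟨hgS, hgN⟩, ?_, ?_⟩
      · intro hgQ'
        apply htI
        refine ⟨⟨g, hgQ'⟩, ?_⟩
        ext x
        exact (hg x).symm
      · rw [← ht]
        exact htO
    · have hcen' : ¬ ∀ Q' : Subgroup Ω, F.IsConj Q Q' → centralizerIn S Q' ≤ Q' :=
        fun h => hcen ⟨hQS, h⟩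
      push Not at hcen'
      obtain ⟨Q', hc, hnot⟩ := hcen'
      rw [SetLike.not_le_iff_exists] at hnot
      obtain ⟨g, hgC, hgQ'⟩ := hnot
      have hgN : g ∈ normalizerIn S Q' :=
        ⟨hgC.1, Subgroup.centralizer_le_normalizer _ hgC.2⟩
      refine ⟨Q', hc, g, hgN, hgQ', ?_⟩
      have : conjAut Q' g hgN.2 = 1 := by
        ext x
        show g * (x : Ω) * g⁻¹ = x
        have := hgC.2 x x.2
        rw [← this]
        group
      rw [this]
      exact Subgroup.one_mem _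
  obtain ⟨Q', hc, g, hg, hgQ', hcore⟩ := key
  obtain ⟨θ, hθ, hθQ⟩ := hup Q' hc
  obtain ⟨hN, h1, h2⟩ := transport_core F (isConj_le_right F hc) hθ hθQ hg hcore
  exact ⟨θ ⟨g, hg⟩, ⟨hN.1, _, h1, fun x => rfl⟩, h2 hgQ'⟩

end Cfsg.Agent.Lib.Helper88

namespace Cfsg.Agent.Lib.Helper88

open Cfsg Cfsg.FusionSystem Cfsg.Agent.Lib.Helper87 Cfsg.Agent.Lib.Helper84.KN

variable {Ω : Type*} [Group Ω] {S : Subgroup Ω}

/-- One step of the BCGLO induction: a class of maximal order outside `ℋ` contains a fully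
automized receptive member. -/
theorem bcglo_step [Finite S] {p : ℕ} [Fact p.Prime] (hS : IsPGroup p S) (F : FusionSystem S)
    (ℋ : Set (Subgroup Ω))
    (hℋconj : ∀ P ∈ ℋ, ∀ Q, F.IsConj P Q → Q ∈ ℋ)
    (hsat : ∀ P ∈ ℋ, ∃ Q, F.IsConj P Q ∧ F.IsFullyAutomized p Q ∧ F.IsReceptive Q)
    (hgen : ∀ E : FusionSystem S, (∀ P ∈ ℋ, F.Hom P ⊆ E.Hom P) → F ≤ E)
    (hstar : ∀ P : Subgroup Ω, F.IsCentric P → P ∉ ℋ → ∃ Q, F.IsConj P Q ∧
      ¬ (autInducedBy S Q ⊓ (pCore p ↥(F.autGroup Q)).map (F.autGroup Q).subtype ≤ Inn Q))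
    {P1 : Subgroup Ω} (hP1S : P1 ≤ S) (hP1 : P1 ∉ ℋ)
    (hbig : ∀ R : Subgroup Ω, R ≤ S → Nat.card P1 < Nat.card R → R ∈ ℋ) :
    ∃ Phat, F.IsConj P1 Phat ∧ F.IsFullyAutomized p Phat ∧ F.IsReceptive Phat := by
  obtain ⟨Phat, hconj, hfn, hup'⟩ :=
    exists_universal_target' hS F ℋ hℋconj hsat hgen hP1S hP1 hbig
  have hcard : Nat.card Phat = Nat.card P1 := (card_eq_of_isConj F hconj).symm
  have hPhatℋ : Phat ∉ ℋ := fun h => hP1 (hℋconj Phat h P1 (isConj_symm F hconj))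
  have hmark : ∀ R : Subgroup Ω, R ≤ S → Nat.card Phat < Nat.card R →
      ∀ K : Subgroup (MulAut R), ∃ φ₀ : R →* Ω, GoodMark F p R K φ₀ := fun R hRS hlt K =>
    exists_goodMark_of_class hS F hRS (hsat R (hbig R hRS (hcard ▸ hlt))) K
  have hup : ∀ P : Subgroup Ω, F.IsConj Phat P → UpTo F P Phat := fun P hc =>
    hup' P (isConj_trans F hconj hc)
  have c := normCtx_of_target hS F hfn hmark hup (fun hcen => hstar Phat hcen hPhatℋ)
  have hQℋ : ∀ R ∈ ℋ, ¬ F.IsConj Phat R := fun R hR hc =>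
    hPhatℋ (hℋconj R hR Phat (isConj_symm F hc))
  have hA := c.autGroup_le_gam1 hS ℋ hgen hQℋ
  exact ⟨Phat, hconj, c.fullyAutomized hS hA, c.receptive hS hA⟩

theorem finite_setOf_le [Finite S] : {P : Subgroup Ω | P ≤ S}.Finite := by
  have h : {P : Subgroup Ω | P ≤ S} ⊆ Set.range (fun K : Subgroup S => K.map S.subtype) := by
    intro P hP
    exact ⟨P.subgroupOf S, Subgroup.map_subgroupOf_eq_of_le hP⟩
  exact (Set.finite_range _).subset h

/-- **BCGLO saturation criterion** (AKO Theorem I.3.10). -/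
theorem bcglo_saturated [Finite S] (p : ℕ) [Fact p.Prime] (hS : IsPGroup p S)
    (F : FusionSystem S) (ℋ : Set (Subgroup Ω))
    (hℋconj : ∀ P ∈ ℋ, ∀ Q, F.IsConj P Q → Q ∈ ℋ)
    (hsat : ∀ P ∈ ℋ, ∃ Q, F.IsConj P Q ∧ F.IsFullyAutomized p Q ∧ F.IsReceptive Q)
    (hgen : ∀ E : FusionSystem S, (∀ P ∈ ℋ, F.Hom P ⊆ E.Hom P) → F ≤ E)
    (hstar : ∀ P : Subgroup Ω, F.IsCentric P → P ∉ ℋ → ∃ Q, F.IsConj P Q ∧
      ¬ (autInducedBy S Q ⊓ (pCore p ↥(F.autGroup Q)).map (F.autGroup Q).subtype ≤ Inn Q)) :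
    F.IsSaturated p := by
  have main : ∀ n : ℕ, ∀ ℋ : Set (Subgroup Ω),
      (∀ P ∈ ℋ, ∀ Q, F.IsConj P Q → Q ∈ ℋ) →
      (∀ P ∈ ℋ, ∃ Q, F.IsConj P Q ∧ F.IsFullyAutomized p Q ∧ F.IsReceptive Q) →
      (∀ E : FusionSystem S, (∀ P ∈ ℋ, F.Hom P ⊆ E.Hom P) → F ≤ E) →
      (∀ P : Subgroup Ω, F.IsCentric P → P ∉ ℋ → ∃ Q, F.IsConj P Q ∧
        ¬ (autInducedBy S Q ⊓ (pCore p ↥(F.autGroup Q)).map (F.autGroup Q).subtype ≤ Inn Q)) →
      {P : Subgroup Ω | P ≤ S ∧ P ∉ ℋ}.ncard = n → F.IsSaturated p := by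
    intro n
    induction n using Nat.strong_induction_on with
    | _ n ih =>
      intro ℋ hℋconj hsat hgen hstar hn
      by_cases hall : ∀ P : Subgroup Ω, P ≤ S → P ∈ ℋ
      · intro P hP
        exact hsat P (hall P hP)
      · have hne : {P : Subgroup Ω | P ≤ S ∧ P ∉ ℋ}.Nonempty := by
          by_contra hcon
          apply hall
          intro P hP
          by_contra hPℋ
          exact hcon ⟨P, hP, hPℋ⟩
        have hfin : {P : Subgroup Ω | P ≤ S ∧ P ∉ ℋ}.Finite :=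
          finite_setOf_le.subset (fun P hP => hP.1)
        obtain ⟨P1, ⟨hP1S, hP1⟩, hmax⟩ :=
          Set.exists_max_image _ (fun P : Subgroup Ω => Nat.card P) hfin hne
        have hbig : ∀ R : Subgroup Ω, R ≤ S → Nat.card P1 < Nat.card R → R ∈ ℋ := by
          intro R hRS hlt
          by_contra hR
          exact absurd (hmax R ⟨hRS, hR⟩) (not_le.mpr hlt)
        obtain ⟨Phat, hconj, hfa, hrec⟩ :=
          bcglo_step hS F ℋ hℋconj hsat hgen hstar hP1S hP1 hbig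
        -- the enlarged family
        have hsub : {P : Subgroup Ω | P ≤ S ∧ P ∉ ℋ ∪ {P | F.IsConj Phat P}} ⊂
            {P : Subgroup Ω | P ≤ S ∧ P ∉ ℋ} := by
          constructor
          · rintro P ⟨hPS, hP⟩
            exact ⟨hPS, fun h => hP (Or.inl h)⟩
          · intro h
            have := h ⟨hP1S, hP1⟩
            exact this.2 (Or.inr (isConj_symm F hconj))
        have hlt := Set.ncard_lt_ncard hsub hfin
        rw [hn] at hlt
        refine ih _ hlt (ℋ ∪ {P | F.IsConj Phat P}) ?_ ?_ ?_ ?_ rfl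
        · rintro P (hP | hP) Q hc
          · exact Or.inl (hℋconj P hP Q hc)
          · exact Or.inr (isConj_trans F hP hc)
        · rintro P (hP | hP)
          · exact hsat P hP
          · exact ⟨Phat, isConj_symm F hP, hfa, hrec⟩
        · intro E hE
          exact hgen E (fun P hP => hE P (Or.inl hP))
        · intro P hcen hP
          exact hstar P hcen (fun h => hP (Or.inl h))
  exact main _ ℋ hℋconj hsat hgen hstar rfl

end Cfsg.Agent.Lib.Helper88
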