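import Cfsg.Agent.Lib.Helper84.KSatMain

/-!
# Class-wise good markings and the stabilizer of a normal subgroup (for the BCGLO criterion)
-/

set_option autoImplicit false

namespace Cfsg.Agent.Lib.Helper88

open Cfsg Cfsg.FusionSystem Cfsg.Agent.Lib.Helper87 Cfsg.Agent.Lib.Helper84.KN

variable {Ω : Type*} [Group Ω] {S : Subgroup Ω}

/-- Good markings exist for `(U, K)` as soon as the class of `U` contains a fully automized
receptive member (class-wise version of `exists_goodMark`). -/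
theorem exists_goodMark_of_class [Finite S] {p : ℕ} [Fact p.Prime] (hS : IsPGroup p S)
    (F : FusionSystem S) {U : Subgroup Ω} (hU : U ≤ S)
    (hcl : ∃ V, F.IsConj U V ∧ F.IsFullyAutomized p V ∧ F.IsReceptive V)
    (K : Subgroup (MulAut U)) : ∃ φ₀ : U →* Ω, GoodMark F p U K φ₀ := by
  obtain ⟨V, ⟨φ₁, hφ₁, hr⟩, hfa, hrec⟩ := hcl
  have hfinU : Finite U := finite_of_le hU
  have hV : V ≤ S := hfa.1
  have hfinV : Finite V := finite_of_le hV
  let e := isoOfHom φ₁ (F.injective_of_mem hφ₁) hr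
  have he : ∀ x : U, ((e x : V) : Ω) = φ₁ x := fun x => rfl
  obtain ⟨T₀⟩ : Nonempty (Sylow p ↥(K ⊓ F.autGroup U)) := inferInstance
  let T : Subgroup (MulAut U) :=
    (T₀ : Subgroup ↥(K ⊓ F.autGroup U)).map (K ⊓ F.autGroup U).subtype
  let T' : Subgroup (MulAut V) := T.map (MulAut.congr e).toMonoidHom
  have hT' : T' ≤ F.autGroup V := by
    rintro _ ⟨_, ⟨a, ha, rfl⟩, rfl⟩
    exact autGroup_congr_mem F hφ₁ hr e he a.2.2
  have hT'p : IsPGroup p T' := (T₀.2.map _).map _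
  obtain ⟨β, hβ, hβT⟩ := exists_conj_into_autS F hfa T' hT' hT'p
  have hβF : V.subtype.comp β.toMonoidHom ∈ F.Hom V :=
    (Cfsg.Agent.Lib.Helper87.mem_autGroup_iff F hV β).mp hβ
  have hm : ∀ x : U, φ₁ x ∈ V := fun x => hr.le ⟨x, rfl⟩
  obtain ⟨φ₀, hφ₀, hφ₀e⟩ := comp_mem' F hφ₁ hβF hm
  have hφ₀e' : ∀ x : U, φ₀ x = ((β (e x) : V) : Ω) := fun x => by rw [hφ₀e]; rfl
  have hφ₀r : φ₀.range = V := by
    apply le_antisymm
    · rintro _ ⟨x, rfl⟩
      rw [hφ₀e']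
      exact (β (e x)).2
    · intro v hv
      refine ⟨e.symm (β⁻¹ ⟨v, hv⟩), ?_⟩
      rw [hφ₀e']
      simp
  have hTb : ∀ a ∈ T₀, (a : MulAut U) ∈ bk S U K φ₀ := by
    intro a ha
    have h1 : β * (MulAut.congr e a.1) * β⁻¹ ∈ autInducedBy S V :=
      hβT _ ⟨a.1, ⟨a, ha, rfl⟩, rfl⟩
    obtain ⟨y, hyS, hy⟩ := (Cfsg.Agent.Lib.Helper87.mem_autInducedBy_iff S V _).mp h1
    refine ⟨a.2.1, y, hyS, fun x => ?_⟩
    have h2 := hy (β (e x))
    rw [hφ₀e', hφ₀e', ← h2]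
    have h3 : (β * (MulAut.congr e a.1) * β⁻¹) (β (e x)) = β (e ((a : MulAut U) x)) := by
      show β ((MulAut.congr e a.1) (β⁻¹ (β (e x)))) = _
      have h4 : β⁻¹ (β (e x)) = e x := by simp
      rw [h4]
      show β (e ((a : MulAut U) (e.symm (e x)))) = _
      rw [MulEquiv.symm_apply_apply]
    rw [h3]
  have hbp : IsPGroup p ((bk S U K φ₀).subgroupOf (K ⊓ F.autGroup U)) :=
    (bk_isPGroup hS K (F.injective_of_mem hφ₀)).comap_of_injective _
      (Subgroup.subtype_injective _)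
  have hle : (T₀ : Subgroup ↥(K ⊓ F.autGroup U)) ≤
      (bk S U K φ₀).subgroupOf (K ⊓ F.autGroup U) := fun a ha =>
    Subgroup.mem_subgroupOf.mpr (hTb a ha)
  have heq := T₀.is_maximal' hbp hle
  refine ⟨φ₀, hφ₀, hφ₀r ▸ hrec, T₀, fun a => ?_⟩
  constructor
  · intro ha
    exact hTb a ha
  · intro ha
    have : a ∈ (bk S U K φ₀).subgroupOf (K ⊓ F.autGroup U) := Subgroup.mem_subgroupOf.mpr ha
    rw [heq] at this
    exact this

/-- The image of the subgroup `P` (of the ambient group) under a map defined on `R`. -/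
def imgOf {R : Subgroup Ω} (θ : R →* Ω) (P : Subgroup Ω) : Subgroup Ω :=
  (P.subgroupOf R).map θ

theorem mem_imgOf {R : Subgroup Ω} {θ : R →* Ω} {P : Subgroup Ω} {y : Ω} :
    y ∈ imgOf θ P ↔ ∃ x : R, (x : Ω) ∈ P ∧ θ x = y := by
  constructor
  · rintro ⟨x, hx, rfl⟩
    exact ⟨x, Subgroup.mem_subgroupOf.mp hx, rfl⟩
  · rintro ⟨x, hx, rfl⟩
    exact ⟨x, Subgroup.mem_subgroupOf.mpr hx, rfl⟩

theorem imgOf_le_range {R : Subgroup Ω} (θ : R →* Ω) (P : Subgroup Ω) : imgOf θ P ≤ θ.range := by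
  intro y hy
  obtain ⟨x, -, rfl⟩ := mem_imgOf.mp hy
  exact ⟨x, rfl⟩

theorem imgOf_subtype {R P : Subgroup Ω} (h : P ≤ R) : imgOf R.subtype P = P := by
  ext y
  rw [mem_imgOf]
  constructor
  · rintro ⟨x, hx, rfl⟩
    exact hx
  · intro hy
    exact ⟨⟨y, h hy⟩, hy, rfl⟩

/-- The automorphisms of `R` stabilizing the subgroup `P`. -/
def stabAut (R P : Subgroup Ω) : Subgroup (MulAut R) where
  carrier := {β | ∀ x : R, ((β x : R) : Ω) ∈ P ↔ (x : Ω) ∈ P}
  one_mem' := fun _ => Iff.rfl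
  mul_mem' := by
    intro a b ha hb x
    show ((a (b x) : R) : Ω) ∈ P ↔ _
    rw [ha, hb]
  inv_mem' := by
    intro a ha x
    have h := ha (a⁻¹ x)
    have e : a (a⁻¹ x) = x := by simp
    rw [e] at h
    exact h.symm

theorem mem_stabAut {R P : Subgroup Ω} {β : MulAut R} :
    β ∈ stabAut R P ↔ ∀ x : R, ((β x : R) : Ω) ∈ P ↔ (x : Ω) ∈ P := Iff.rfl

/-- The image of `P` under `φ ∘ χ` for `χ` stabilizing `P`. -/
theorem imgOf_comp_stab {R P : Subgroup Ω} {φ φ' : R →* Ω} {χ : MulAut R}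
    (hχ : χ ∈ stabAut R P) (h : ∀ x : R, φ' x = φ (χ x)) : imgOf φ' P = imgOf φ P := by
  ext y
  rw [mem_imgOf, mem_imgOf]
  constructor
  · rintro ⟨x, hx, rfl⟩
    exact ⟨χ x, (hχ x).mpr hx, (h x).symm⟩
  · rintro ⟨x, hx, rfl⟩
    refine ⟨χ⁻¹ x, ?_, ?_⟩
    · have := hχ (χ⁻¹ x)
      have e : χ (χ⁻¹ x) = x := by simp
      rw [e] at this
      exact this.mp hx
    · rw [h]
      simp

/-- The `K`-normalizer of a marking for `K` the stabilizer of `P`: elements of `S` normalizing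
the image of `R` and the image of `P`. -/
theorem mem_nk_stab {R P : Subgroup Ω} {φ : R →* Ω} (hinj : Function.Injective φ) {y : Ω} :
    y ∈ nk S R (stabAut R P) φ ↔
      y ∈ S ∧ y ∈ Subgroup.normalizer (φ.range : Set Ω) ∧
        y ∈ Subgroup.normalizer (imgOf φ P : Set Ω) := by
  constructor
  · rintro ⟨hyS, k, hk, hky⟩
    refine ⟨hyS, mem_normalizer_range_of_aut hky, ?_⟩
    rw [Subgroup.mem_normalizer_iff]
    intro n
    constructor
    · intro hn
      obtain ⟨x, hx, rfl⟩ := mem_imgOf.mp hn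
      rw [hky x]
      exact mem_imgOf.mpr ⟨k x, (hk x).mpr hx, rfl⟩
    · intro hn
      obtain ⟨x, hx, hxe⟩ := mem_imgOf.mp hn
      have h1 : n = y⁻¹ * φ x * y := by rw [hxe]; group
      rw [h1, conj_inv_eq hky x]
      refine mem_imgOf.mpr ⟨k⁻¹ x, ?_, rfl⟩
      have := hk (k⁻¹ x)
      have e : k (k⁻¹ x) = x := by simp
      rw [e] at this
      exact this.mp hx
  · rintro ⟨hyS, hyR, hyP⟩
    obtain ⟨α, hα⟩ := exists_aut_of_mem_normalizer hinj hyR
    refine ⟨hyS, α, ?_, hα⟩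
    intro x
    constructor
    · intro hx
      have h1 : φ (α x) ∈ imgOf φ P := mem_imgOf.mpr ⟨α x, hx, rfl⟩
      rw [← hα x] at h1
      have h2 := (Subgroup.mem_normalizer_iff.mp hyP (φ x)).mpr h1
      obtain ⟨x', hx', hxe⟩ := mem_imgOf.mp h2
      have := hinj hxe
      rw [← this]
      exact hx'
    · intro hx
      have h1 : φ x ∈ imgOf φ P := mem_imgOf.mpr ⟨x, hx, rfl⟩
      have h2 := (Subgroup.mem_normalizer_iff.mp hyP (φ x)).mp h1
      rw [hα x] at h2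
      obtain ⟨x', hx', hxe⟩ := mem_imgOf.mp h2
      have := hinj hxe
      rw [← this]
      exact hx'

end Cfsg.Agent.Lib.Helper88
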