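import Cfsg.Agent.Lib.Helper88.BcgloFA

/-!
# The normal case of the BCGLO criterion: `Q` is receptive
-/

set_option autoImplicit false

namespace Cfsg.Agent.Lib.Helper88

open Cfsg Cfsg.FusionSystem Cfsg.Agent.Lib.Helper87 Cfsg.Agent.Lib.Helper84.KN

variable {Ω : Type*} [Group Ω] {S : Subgroup Ω}

theorem extender_le_nIn (P : Subgroup Ω) (φ : P →* Ω) : extender S P φ ≤ normalizerIn S P := by
  unfold extender
  rw [Subgroup.closure_le]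
  rintro g ⟨h1, h2, -⟩
  exact ⟨h1, h2⟩

namespace NormCtx

variable {F : FusionSystem S} {p : ℕ} {Q : Subgroup Ω} {O' : Subgroup (MulAut Q)}

/-- `N_S(Q)` is contained in the `K''`-normalizer of the inclusion of `S₁`, for `K''` the
automorphisms of `S₁` restricting to an element of `Aut_S(Q)`. -/
theorem normalizerIn_le_nk_kT (c : NormCtx F p Q O') :
    normalizerIn S Q ≤
      nk S (s1 S Q O') (kT c.Q_le_s1 (autInducedBy S Q)) (s1 S Q O').subtype := by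
  intro n hn
  have hn1 := c.mem_normalizer_s1 hn
  refine ⟨hn.1, conjAut (s1 S Q O') n hn1, ?_, fun x => rfl⟩
  rw [mem_kT]
  exact ⟨conjAut Q n hn.2, conjAut_mem_autInducedBy hn.1 hn.2, fun x => rfl⟩

/-- Automorphisms of `Q` extend to their extenders (`N_α`). -/
theorem exists_extension_aut [Finite S] [Fact p.Prime] (hS : IsPGroup p S)
    (c : NormCtx F p Q O') (hA : F.autGroup Q ≤ c.gam1) {α : MulAut Q}
    (hα : α ∈ F.autGroup Q) :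
    ∃ ρ ∈ F.Hom (extender S Q (Q.subtype.comp α.toMonoidHom)),
      ∀ (x : Ω) (hQ : x ∈ Q) (hN : x ∈ extender S Q (Q.subtype.comp α.toMonoidHom)),
        ρ ⟨x, hN⟩ = ((α ⟨x, hQ⟩ : Q) : Ω) := by
  have h1S : s1 S Q O' ≤ S := s1_le_S O'
  have hfin1 : Finite (s1 S Q O') := finite_of_le h1S
  have hQ1 : Q ≤ s1 S Q O' := c.Q_le_s1
  have hα' : Q.subtype.comp α.toMonoidHom ∈ F.Hom Q :=
    (Cfsg.Agent.Lib.Helper87.mem_autGroup_iff F c.hQS α).mp hα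
  obtain ⟨φ₀, h₀⟩ := c.hmark _ h1S c.s1_lt (kT hQ1 (autInducedBy S Q))
  have hinj₀ := F.injective_of_mem h₀.mem
  have hfinN : Finite (normalizerIn S Q) := finite_of_le (normalizerIn_le S Q)
  have hfinN0 : Finite (normalizerIn S (imgOf φ₀ Q)) := finite_of_le (normalizerIn_le S _)
  have hfinnk : Finite (nk S (s1 S Q O') (kT hQ1 (autInducedBy S Q)) (s1 S Q O').subtype) :=
    finite_of_le (nk_le _ _ _)
  have hcard : Nat.card (nk S (s1 S Q O') (kT hQ1 (autInducedBy S Q)) φ₀) ≤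
      Nat.card (nk S (s1 S Q O') (kT hQ1 (autInducedBy S Q)) (s1 S Q O').subtype) := by
    calc Nat.card (nk S (s1 S Q O') (kT hQ1 (autInducedBy S Q)) φ₀)
        ≤ Nat.card (normalizerIn S (imgOf φ₀ Q)) :=
          Subgroup.card_le_of_le (nk_kT_le_normalizerIn hQ1 _ hinj₀)
      _ ≤ Nat.card (normalizerIn S Q) := c.hfn.2 _ (isConj_imgOf F h₀.mem hQ1)
      _ ≤ _ := Subgroup.card_le_of_le c.normalizerIn_le_nk_kT
  -- the extension of the inclusion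
  obtain ⟨χ, hχ, ψ, hψ, hψe⟩ := exists_extension hS F h₀ (subtype_mem F h1S)
  have hsurj := exists_preimage_of_card_le F hψ hχ.1 le_rfl hψe hcard
  -- the lift of `α` and its inverse
  obtain ⟨δ, hδ, hr, hres⟩ := hA hα
  obtain ⟨ε, hε, hεinv, hεr⟩ := inv_exists F hδ hr
  have hεres : IsRes ε α⁻¹ := IsRes.inv_of hQ1 hεinv hres
  have hinjε := F.injective_of_mem hε
  -- the extender of `α` lies in the `K''`-normalizer of `ε`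
  have hE : extender S Q (Q.subtype.comp α.toMonoidHom) ≤
      nk S (s1 S Q O') (kT hQ1 (autInducedBy S Q)) ε := by
    unfold extender
    rw [Subgroup.closure_le]
    rintro g ⟨hgS, hgN, h, hhS, hh⟩
    have hgNS : g ∈ normalizerIn S Q := ⟨hgS, hgN⟩
    have hg1 : g ∈ Subgroup.normalizer (ε.range : Set Ω) := by
      rw [hεr]
      exact c.mem_normalizer_s1 hgNS
    obtain ⟨k, hk⟩ := Cfsg.Agent.Lib.Helper84.KN.exists_aut_of_mem_normalizer hinjε hg1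
    -- the property of `h`, in terms of `α`
    have hh' : ∀ x : Q, ((α ((conjAut Q g hgN) x) : Q) : Ω) = h * ((α x : Q) : Ω) * h⁻¹ := by
      intro x
      exact hh x ((conjAut Q g hgN) x).2
    have hhN : h ∈ Subgroup.normalizer (Q : Set Ω) := by
      apply mem_normalizer_of_aut (t := α * conjAut Q g hgN * α⁻¹)
      intro x
      show ((α ((conjAut Q g hgN) (α⁻¹ x)) : Q) : Ω) = h * (x : Ω) * h⁻¹
      rw [hh']
      simp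
    refine ⟨hgS, k, ?_, hk⟩
    rw [mem_kT]
    refine ⟨conjAut Q h hhN, conjAut_mem_autInducedBy hhS hhN, fun x => ?_⟩
    -- `ε (k x) = g ε(x) g⁻¹` and `ε` is `α⁻¹` on `Q`
    have h1 : ε (k ⟨x, hQ1 x.2⟩) =
        ε ⟨((conjAut Q h hhN x : Q) : Ω), hQ1 (conjAut Q h hhN x).2⟩ := by
      rw [← hk, hεres x _, hεres (conjAut Q h hhN x) _]
      -- goal: g * α⁻¹ x * g⁻¹ = α⁻¹ (h x h⁻¹)
      have h2 := hh' (α⁻¹ x)
      have h3 : ((α (α⁻¹ x) : Q) : Ω) = x := by simp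
      rw [h3] at h2
      have h4 : α ((conjAut Q g hgN) (α⁻¹ x)) = conjAut Q h hhN x := Subtype.ext h2
      rw [← h4]
      simp [conjAut_coe]
    exact congrArg (fun t : s1 S Q O' => (t : Ω)) (hinjε h1)
  -- the extension of `ε`
  obtain ⟨χ', hχ', ψ', hψ', hψ'e⟩ := exists_extension hS F h₀ hε
  have hED' : extender S Q (Q.subtype.comp α.toMonoidHom) ≤
      nk S (s1 S Q O') (kT hQ1 (autInducedBy S Q)) ε ⊔ ε.range := hE.trans le_sup_left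
  have hND : nk S (s1 S Q O') (kT hQ1 (autInducedBy S Q)) (s1 S Q O').subtype ≤
      nk S (s1 S Q O') (kT hQ1 (autInducedBy S Q)) (s1 S Q O').subtype ⊔
        (s1 S Q O').subtype.range := le_sup_left
  have hRD : (s1 S Q O').subtype.range ≤
      nk S (s1 S Q O') (kT hQ1 (autInducedBy S Q)) (s1 S Q O').subtype ⊔
        (s1 S Q O').subtype.range := le_sup_right
  -- images under `ψ'` of elements of the extender lie in the range of `ψ`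
  have hrange : ∀ g : extender S Q (Q.subtype.comp α.toMonoidHom),
      ψ' ⟨g, hED' g.2⟩ ∈ ψ.range := by
    intro g
    obtain ⟨hgS, k, hkK, hk⟩ := hE g.2
    have hmem : ψ' ⟨g, hED' g.2⟩ ∈ nk S (s1 S Q O') (kT hQ1 (autInducedBy S Q)) φ₀ := by
      refine ⟨hom_mem_S F hψ' _, χ' * k * χ'⁻¹, Subgroup.mul_mem _ (Subgroup.mul_mem _ hχ'.1 hkK)
        (Subgroup.inv_mem _ hχ'.1), fun z => ?_⟩
      exact conj_map ψ' χ' le_sup_right hψ'e (hED' g.2) hk z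
    obtain ⟨y, hy, hye⟩ := hsurj _ hmem
    exact ⟨⟨y, hND hy⟩, hye⟩
  obtain ⟨ψi, hψi, hψinv, hψir⟩ := inv_exists F hψ rfl
  have hψ'E := restrict_mem F hψ' hED'
  obtain ⟨ρ₀, hρ₀, hρ₀e⟩ := comp_mem' F hψ'E hψi hrange
  -- the restrictions of `χ` and `χ'`
  obtain ⟨c₀, hc₀A, hc₀⟩ := (mem_kT hQ1 _).mp hχ.1
  obtain ⟨c', hc'A, hc'⟩ := (mem_kT hQ1 _).mp hχ'.1
  have hcc : c₀⁻¹ * c' ∈ autInducedBy S Q := Subgroup.mul_mem _ (Subgroup.inv_mem _ hc₀A) hc'A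
  obtain ⟨s, hsS, hs⟩ := (Cfsg.Agent.Lib.Helper87.mem_autInducedBy_iff S Q _).mp hcc
  have hDS : nk S (s1 S Q O') (kT hQ1 (autInducedBy S Q)) (s1 S Q O').subtype ⊔
      (s1 S Q O').subtype.range ≤ S := by
    apply sup_le (nk_le _ _ _)
    rw [Subgroup.range_subtype]
    exact h1S
  have hρ₀D : ∀ g : extender S Q (Q.subtype.comp α.toMonoidHom), ρ₀ g ∈
      nk S (s1 S Q O') (kT hQ1 (autInducedBy S Q)) (s1 S Q O').subtype ⊔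
        (s1 S Q O').subtype.range := by
    intro g
    rw [hρ₀e]
    exact hψir.le ⟨_, rfl⟩
  obtain ⟨ρ, hρ, hρe⟩ := comp_mem' F hρ₀ (F.conj_mem hDS (S.inv_mem hsS)) hρ₀D
  refine ⟨ρ, hρ, fun x hxQ hxN => ?_⟩
  -- computation of `ρ₀` on `Q`
  have hz1 : (((c₀⁻¹ * c') (α ⟨x, hxQ⟩) : Q) : Ω) ∈ s1 S Q O' := hQ1 ((c₀⁻¹ * c') (α ⟨x, hxQ⟩)).2
  have hzD : (((c₀⁻¹ * c') (α ⟨x, hxQ⟩) : Q) : Ω) ∈
      nk S (s1 S Q O') (kT hQ1 (autInducedBy S Q)) (s1 S Q O').subtype ⊔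
        (s1 S Q O').subtype.range := hRD ⟨⟨_, hz1⟩, rfl⟩
  have hψz : ψ ⟨(((c₀⁻¹ * c') (α ⟨x, hxQ⟩) : Q) : Ω), hzD⟩ =
      φ₀ ⟨((c' (α ⟨x, hxQ⟩) : Q) : Ω), hQ1 (c' (α ⟨x, hxQ⟩)).2⟩ := by
    have h1 := hψe ⟨_, hz1⟩ hzD
    have h2 : χ ⟨(((c₀⁻¹ * c') (α ⟨x, hxQ⟩) : Q) : Ω), hz1⟩ =
        ⟨((c' (α ⟨x, hxQ⟩) : Q) : Ω), hQ1 (c' (α ⟨x, hxQ⟩)).2⟩ := by
      apply Subtype.ext
      rw [hc₀ ((c₀⁻¹ * c') (α ⟨x, hxQ⟩))]
      simp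
    rw [← h2]
    exact h1
  have hψ'x : ψ' ⟨x, hED' hxN⟩ =
      φ₀ ⟨((c' (α ⟨x, hxQ⟩) : Q) : Ω), hQ1 (c' (α ⟨x, hxQ⟩)).2⟩ := by
    have h1 : ε ⟨((α ⟨x, hxQ⟩ : Q) : Ω), hQ1 (α ⟨x, hxQ⟩).2⟩ = x := by
      rw [hεres (α ⟨x, hxQ⟩) _]
      simp
    have hεD : ε ⟨((α ⟨x, hxQ⟩ : Q) : Ω), hQ1 (α ⟨x, hxQ⟩).2⟩ ∈
        nk S (s1 S Q O') (kT hQ1 (autInducedBy S Q)) ε ⊔ ε.range :=
      le_sup_right (a := nk S (s1 S Q O') (kT hQ1 (autInducedBy S Q)) ε) ⟨_, rfl⟩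
    have h2 := hψ'e ⟨((α ⟨x, hxQ⟩ : Q) : Ω), hQ1 (α ⟨x, hxQ⟩).2⟩ hεD
    have h3 : (⟨x, hED' hxN⟩ : ↥(nk S (s1 S Q O') (kT hQ1 (autInducedBy S Q)) ε ⊔ ε.range)) =
        ⟨ε ⟨((α ⟨x, hxQ⟩ : Q) : Ω), hQ1 (α ⟨x, hxQ⟩).2⟩, hεD⟩ := Subtype.ext h1.symm
    rw [h3, h2]
    congr 1
    exact Subtype.ext (hc' (α ⟨x, hxQ⟩))
  have hρ₀x : ρ₀ ⟨x, hxN⟩ = (((c₀⁻¹ * c') (α ⟨x, hxQ⟩) : Q) : Ω) := by
    rw [hρ₀e]
    have h1 : (⟨(ψ'.comp (Subgroup.inclusion hED')) ⟨x, hxN⟩, hrange ⟨x, hxN⟩⟩ : ψ.range) =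
        ⟨ψ ⟨(((c₀⁻¹ * c') (α ⟨x, hxQ⟩) : Q) : Ω), hzD⟩, ⟨_, rfl⟩⟩ := by
      apply Subtype.ext
      show ψ' ⟨x, hED' hxN⟩ = ψ ⟨(((c₀⁻¹ * c') (α ⟨x, hxQ⟩) : Q) : Ω), hzD⟩
      rw [hψ'x, hψz]
    rw [h1]
    exact hψinv ⟨_, hzD⟩ _
  rw [hρe]
  show s⁻¹ * ρ₀ ⟨x, hxN⟩ * s⁻¹⁻¹ = _
  rw [hρ₀x, hs]
  group

end NormCtx

end Cfsg.Agent.Lib.Helper88
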