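import Cfsg.Agent.Lib.Helper88.BcgloRec

/-!
# The normal case of the BCGLO criterion: `Q` is receptive (general maps)
-/

set_option autoImplicit false

namespace Cfsg.Agent.Lib.Helper88

open Cfsg Cfsg.FusionSystem Cfsg.Agent.Lib.Helper87 Cfsg.Agent.Lib.Helper84.KN

variable {Ω : Type*} [Group Ω] {S : Subgroup Ω}

namespace NormCtx

variable {F : FusionSystem S} {p : ℕ} {Q : Subgroup Ω} {O' : Subgroup (MulAut Q)}

/-- **`Q` is receptive** in the normal case. -/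
theorem receptive [Finite S] [Fact p.Prime] (hS : IsPGroup p S) (c : NormCtx F p Q O')
    (hA : F.autGroup Q ≤ c.gam1) : F.IsReceptive Q := by
  refine ⟨c.hQS, fun P φ hφ hr => ?_⟩
  have hPS : P ≤ S := hom_le F hφ
  have hc : F.IsConj Q P := isConj_symm F ⟨φ, hφ, hr⟩
  obtain ⟨θ, hθ, hθP⟩ := c.hup P hc
  have hPN : P ≤ normalizerIn S P := le_normalizerIn hPS
  have hθP' := restrict_mem F hθ hPN
  have hrθ : (θ.comp (Subgroup.inclusion hPN)).range = Q := by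
    rw [← hθP]
    ext y
    rw [mem_imgOf]
    constructor
    · rintro ⟨x, rfl⟩
      exact ⟨Subgroup.inclusion hPN x, x.2, rfl⟩
    · rintro ⟨x, hx, rfl⟩
      exact ⟨⟨x, hx⟩, rfl⟩
  obtain ⟨ψθ, hψθ, hψθinv, hψθr⟩ := inv_exists F hθP' hrθ
  have hm : ∀ z : Q, ψθ z ∈ P := fun z => hψθr.le ⟨z, rfl⟩
  obtain ⟨α', hα', hα'e⟩ := comp_mem' F hψθ hφ hm
  have hθQ : ∀ x : P, (θ.comp (Subgroup.inclusion hPN)) x ∈ Q := fun x => by
    rw [← hrθ]
    exact ⟨x, rfl⟩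
  have hα'θ : ∀ x : P, α' ⟨(θ.comp (Subgroup.inclusion hPN)) x, hθQ x⟩ = φ x := by
    intro x
    rw [hα'e]
    congr 1
    exact Subtype.ext (hψθinv x _)
  have hα'r : α'.range = Q := by
    apply le_antisymm
    · rintro _ ⟨z, rfl⟩
      rw [hα'e]
      exact hr.le ⟨_, rfl⟩
    · intro y hy
      rw [← hr] at hy
      obtain ⟨x, rfl⟩ := hy
      exact ⟨_, hα'θ x⟩
  have hinjα := F.injective_of_mem hα'
  have hαe : Q.subtype.comp (isoOfHom α' hinjα hα'r).toMonoidHom = α' := by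
    ext z
    rfl
  have hαΓ : isoOfHom α' hinjα hα'r ∈ F.autGroup Q := by
    rw [Cfsg.Agent.Lib.Helper87.mem_autGroup_iff F c.hQS, hαe]
    exact hα'
  obtain ⟨ρ, hρ, hρe⟩ := c.exists_extension_aut hS hA hαΓ
  -- `θ` maps the extender of `φ` into the extender of `α`
  have hM : extender S P φ ≤
      ((extender S Q (Q.subtype.comp (isoOfHom α' hinjα hα'r).toMonoidHom)).comap θ).map
        (normalizerIn S P).subtype := by
    unfold extender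
    rw [Subgroup.closure_le]
    rintro g ⟨hgS, hgN, h, hhS, hh⟩
    refine ⟨⟨g, hgS, hgN⟩, ?_, rfl⟩
    show θ ⟨g, hgS, hgN⟩ ∈ Subgroup.closure _
    have hθgN : θ ⟨g, hgS, hgN⟩ ∈ normalizerIn S Q := by
      have := range_le_normalizerIn_imgOf F hθ le_rfl ⟨⟨g, hgS, hgN⟩, rfl⟩
      rwa [hθP] at this
    refine Subgroup.subset_closure ⟨hθgN.1, hθgN.2, h, hhS, fun q hq => ?_⟩
    have hqr : (q : Ω) ∈ (θ.comp (Subgroup.inclusion hPN)).range := by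
      rw [hrθ]
      exact q.2
    obtain ⟨x₀, hx₀⟩ := hqr
    have hx : g * (x₀ : Ω) * g⁻¹ ∈ P := by
      have := (Subgroup.mem_normalizer_iff.mp hgN (x₀ : Ω)).mp x₀.2
      exact this
    have e1 : q = ⟨(θ.comp (Subgroup.inclusion hPN)) x₀, hθQ x₀⟩ := Subtype.ext hx₀.symm
    have e2 : (⟨θ ⟨g, hgS, hgN⟩ * (q : Ω) * (θ ⟨g, hgS, hgN⟩)⁻¹, hq⟩ : Q) =
        ⟨(θ.comp (Subgroup.inclusion hPN)) ⟨g * x₀ * g⁻¹, hx⟩, hθQ _⟩ := by
      apply Subtype.ext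
      show θ ⟨g, hgS, hgN⟩ * (q : Ω) * (θ ⟨g, hgS, hgN⟩)⁻¹ =
        θ (Subgroup.inclusion hPN ⟨g * x₀ * g⁻¹, hx⟩)
      rw [← hx₀]
      show θ ⟨g, hgS, hgN⟩ * θ (Subgroup.inclusion hPN x₀) * (θ ⟨g, hgS, hgN⟩)⁻¹ = _
      rw [← map_inv, ← map_mul, ← map_mul]
      rfl
    show α' _ = h * α' q * h⁻¹
    rw [e2, hα'θ, e1, hα'θ]
    exact hh x₀ hx
  have hEN : extender S P φ ≤ normalizerIn S P := extender_le_nIn P φ
  have hθE := restrict_mem F hθ hEN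
  have hmE : ∀ g : extender S P φ, (θ.comp (Subgroup.inclusion hEN)) g ∈
      extender S Q (Q.subtype.comp (isoOfHom α' hinjα hα'r).toMonoidHom) := by
    intro g
    obtain ⟨g', hg', hgg'⟩ := hM g.2
    have : g' = Subgroup.inclusion hEN g := Subtype.ext hgg'
    rw [this] at hg'
    exact hg'
  obtain ⟨ψf, hψf, hψfe⟩ := comp_mem' F hθE hρ hmE
  refine ⟨ψf, hψf, fun x hP hN => ?_⟩
  rw [hψfe]
  have hq : (θ.comp (Subgroup.inclusion hEN)) ⟨x, hN⟩ ∈ Q := hθQ ⟨x, hP⟩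
  rw [hρe _ hq]
  show α' ⟨(θ.comp (Subgroup.inclusion hEN)) ⟨x, hN⟩, hq⟩ = φ ⟨x, hP⟩
  exact hα'θ ⟨x, hP⟩

end NormCtx

end Cfsg.Agent.Lib.Helper88
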