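import Cfsg.Agent.Lib.Helper88.BcgloUp

/-!
# Restrictions of maps to a fixed subgroup `Q`, as automorphisms of `Q`
-/

set_option autoImplicit false

namespace Cfsg.Agent.Lib.Helper88

open Cfsg Cfsg.FusionSystem Cfsg.Agent.Lib.Helper87 Cfsg.Agent.Lib.Helper84.KN

variable {Ω : Type*} [Group Ω] {S : Subgroup Ω}

/-- `a` is the restriction of `μ` to `Q`. -/
def IsRes {T Q : Subgroup Ω} (μ : T →* Ω) (a : MulAut Q) : Prop :=
  ∀ (x : Q) (h : (x : Ω) ∈ T), μ ⟨x, h⟩ = ((a x : Q) : Ω)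

theorem IsRes.imgOf_eq {T Q : Subgroup Ω} {μ : T →* Ω} {a : MulAut Q} (h : IsRes μ a)
    (hQT : Q ≤ T) : imgOf μ Q = Q := by
  ext y
  rw [mem_imgOf]
  constructor
  · rintro ⟨x, hx, rfl⟩
    have := h ⟨x, hx⟩ x.2
    rw [show (⟨((⟨(x : Ω), hx⟩ : Q) : Ω), x.2⟩ : T) = x from rfl] at this
    rw [this]
    exact (a ⟨x, hx⟩).2
  · intro hy
    refine ⟨⟨(a⁻¹ ⟨y, hy⟩ : Q), hQT (a⁻¹ ⟨y, hy⟩).2⟩, (a⁻¹ ⟨y, hy⟩).2, ?_⟩
    rw [h (a⁻¹ ⟨y, hy⟩) _]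
    simp

theorem exists_isRes {T Q : Subgroup Ω} {μ : T →* Ω} (hinj : Function.Injective μ)
    (hQT : Q ≤ T) (h : imgOf μ Q = Q) : ∃ a : MulAut Q, IsRes μ a := by
  have hm : ∀ x : Q, μ ⟨x, hQT x.2⟩ ∈ Q := fun x => by
    have : μ ⟨x, hQT x.2⟩ ∈ imgOf μ Q := mem_imgOf.mpr ⟨⟨x, hQT x.2⟩, x.2, rfl⟩
    rwa [h] at this
  let f : Q →* Q :=
    { toFun := fun x => ⟨μ ⟨x, hQT x.2⟩, hm x⟩
      map_one' := by
        apply Subtype.ext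
        show μ ⟨((1 : Q) : Ω), _⟩ = 1
        have : (⟨((1 : Q) : Ω), hQT (1 : Q).2⟩ : T) = 1 := rfl
        rw [this, map_one]
      map_mul' := fun x y => by
        apply Subtype.ext
        show μ ⟨((x * y : Q) : Ω), _⟩ = μ ⟨x, _⟩ * μ ⟨y, _⟩
        rw [← map_mul]
        rfl }
  have hf : Function.Bijective f := by
    constructor
    · intro x y hxy
      have h1 : μ ⟨x, hQT x.2⟩ = μ ⟨y, hQT y.2⟩ := congrArg Subtype.val hxy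
      have h2 := hinj h1
      exact Subtype.ext (congrArg (fun t : T => (t : Ω)) h2)
    · intro y
      have hy : (y : Ω) ∈ imgOf μ Q := by rw [h]; exact y.2
      obtain ⟨x, hx, hxe⟩ := mem_imgOf.mp hy
      exact ⟨⟨x, hx⟩, Subtype.ext hxe⟩
  exact ⟨MulEquiv.ofBijective f hf, fun x hxT => rfl⟩

theorem IsRes.unique {T Q : Subgroup Ω} {μ : T →* Ω} {a b : MulAut Q} (hQT : Q ≤ T)
    (h1 : IsRes μ a) (h2 : IsRes μ b) : a = b := by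
  ext x
  rw [← h1 x (hQT x.2), ← h2 x (hQT x.2)]

theorem IsRes.mem_autGroup {T Q : Subgroup Ω} {μ : T →* Ω} {a : MulAut Q} (h : IsRes μ a)
    (F : FusionSystem S) (hμ : μ ∈ F.Hom T) (hQT : Q ≤ T) : a ∈ F.autGroup Q := by
  rw [Cfsg.Agent.Lib.Helper87.mem_autGroup_iff F (hQT.trans (hom_le F hμ))]
  have e : Q.subtype.comp a.toMonoidHom = μ.comp (Subgroup.inclusion hQT) := by
    ext x
    exact (h x (hQT x.2)).symm
  rw [e]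
  exact restrict_mem F hμ hQT

theorem IsRes.comp {T T' Q : Subgroup Ω} {μ : T →* Ω} {ν : T' →* Ω} {χ : T →* Ω}
    {a b : MulAut Q} (hm : ∀ x : T, μ x ∈ T') (hχ : ∀ x : T, χ x = ν ⟨μ x, hm x⟩)
    (h1 : IsRes μ a) (h2 : IsRes ν b) : IsRes χ (b * a) := by
  intro x h
  rw [hχ]
  have e : (⟨μ ⟨x, h⟩, hm ⟨x, h⟩⟩ : T') = ⟨(a x : Q), by rw [← h1 x h]; exact hm _⟩ :=
    Subtype.ext (h1 x h)
  rw [e, h2]
  rfl

theorem IsRes.inv_of {T T' Q : Subgroup Ω} {μ : T →* Ω} {ψ : T' →* Ω} {a : MulAut Q}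
    (hQT : Q ≤ T) (hinv : ∀ (x : T) (h : μ x ∈ T'), ψ ⟨μ x, h⟩ = x) (h1 : IsRes μ a) :
    IsRes ψ a⁻¹ := by
  intro x h
  have e1 : μ ⟨(a⁻¹ x : Q), hQT (a⁻¹ x).2⟩ = x := by
    rw [h1 (a⁻¹ x) _]
    simp
  have e2 : (⟨(x : Ω), h⟩ : T') = ⟨μ ⟨(a⁻¹ x : Q), hQT (a⁻¹ x).2⟩, by rw [e1]; exact h⟩ :=
    Subtype.ext e1.symm
  rw [e2, hinv]

theorem IsRes.restrict {T T' Q : Subgroup Ω} {μ : T →* Ω} {a : MulAut Q} (h : IsRes μ a)
    (hle : T' ≤ T) : IsRes (μ.comp (Subgroup.inclusion hle)) a :=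
  fun x hx => h x (hle hx)

theorem isRes_conjHom {Q : Subgroup Ω} {g : Ω} (hg : g ∈ Subgroup.normalizer (Q : Set Ω))
    (T : Subgroup Ω) : IsRes (conjHom T g) (conjAut Q g hg) :=
  fun _ _ => rfl

theorem isRes_subtype {Q : Subgroup Ω} (T : Subgroup Ω) : IsRes T.subtype (1 : MulAut Q) :=
  fun _ _ => rfl

theorem isRes_of_aut {Q : Subgroup Ω} (a : MulAut Q) :
    IsRes (Q.subtype.comp a.toMonoidHom) a :=
  fun _ _ => rfl

/-- The value of a restricted map on an element of `Q`, elementwise. -/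
theorem IsRes.apply_eq {T Q : Subgroup Ω} {μ : T →* Ω} {a : MulAut Q} (h : IsRes μ a)
    {x : T} (hx : (x : Ω) ∈ Q) : μ x = ((a ⟨x, hx⟩ : Q) : Ω) :=
  h ⟨x, hx⟩ x.2

/-! ### The restriction homomorphism on the stabilizer of `P` -/

/-- Restriction to `P` of an automorphism of `R` stabilizing `P`. -/
def stabResAut {R P : Subgroup Ω} (hPR : P ≤ R) (β : ↥(stabAut R P)) : MulAut P where
  toFun x := ⟨((β : MulAut R) ⟨x, hPR x.2⟩ : R), (β.2 ⟨x, hPR x.2⟩).mpr x.2⟩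
  invFun x := ⟨(((β⁻¹ : ↥(stabAut R P)) : MulAut R) ⟨x, hPR x.2⟩ : R),
    ((β⁻¹).2 ⟨x, hPR x.2⟩).mpr x.2⟩
  left_inv x := by
    apply Subtype.ext
    show (((β⁻¹ : ↥(stabAut R P)) : MulAut R) ⟨((β : MulAut R) ⟨x, hPR x.2⟩ : R), _⟩ : Ω) = x
    have e : (⟨(((β : MulAut R) ⟨x, hPR x.2⟩ : R) : Ω),
        hPR ((β.2 ⟨x, hPR x.2⟩).mpr x.2)⟩ : R) = (β : MulAut R) ⟨x, hPR x.2⟩ := rfl
    rw [e]
    show (((β : MulAut R)⁻¹ ((β : MulAut R) ⟨x, hPR x.2⟩) : R) : Ω) = x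
    simp
  right_inv x := by
    apply Subtype.ext
    show (((β : MulAut R) ⟨(((β⁻¹ : ↥(stabAut R P)) : MulAut R) ⟨x, hPR x.2⟩ : R), _⟩ : R) : Ω) = x
    have e : (⟨((((β⁻¹ : ↥(stabAut R P)) : MulAut R) ⟨x, hPR x.2⟩ : R) : Ω),
        hPR (((β⁻¹).2 ⟨x, hPR x.2⟩).mpr x.2)⟩ : R) =
          ((β⁻¹ : ↥(stabAut R P)) : MulAut R) ⟨x, hPR x.2⟩ := rfl
    rw [e]
    show (((β : MulAut R) ((β : MulAut R)⁻¹ ⟨x, hPR x.2⟩) : R) : Ω) = x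
    simp
  map_mul' x y := by
    apply Subtype.ext
    show (((β : MulAut R) ⟨((x * y : P) : Ω), _⟩ : R) : Ω) =
      ((β : MulAut R) ⟨x, _⟩ : R) * ((β : MulAut R) ⟨y, _⟩ : R)
    have e : (⟨((x * y : P) : Ω), hPR (x * y).2⟩ : R) = ⟨x, hPR x.2⟩ * ⟨y, hPR y.2⟩ := rfl
    rw [e, map_mul]
    rfl

theorem stabResAut_coe {R P : Subgroup Ω} (hPR : P ≤ R) (β : ↥(stabAut R P)) (x : P) :
    ((stabResAut hPR β x : P) : Ω) = ((β : MulAut R) ⟨x, hPR x.2⟩ : R) := rfl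

/-- The restriction homomorphism `Stab_{Aut R}(P) → Aut P`. -/
def stabRes {R P : Subgroup Ω} (hPR : P ≤ R) : ↥(stabAut R P) →* MulAut P where
  toFun := stabResAut hPR
  map_one' := by
    ext x
    rfl
  map_mul' β γ := by
    ext x
    show (((β * γ : ↥(stabAut R P)) : MulAut R) ⟨x, hPR x.2⟩ : Ω) =
      ((β : MulAut R) ⟨((stabResAut hPR γ x : P) : Ω), _⟩ : R)
    rfl

theorem stabRes_coe {R P : Subgroup Ω} (hPR : P ≤ R) (β : ↥(stabAut R P)) (x : P) :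
    ((stabRes hPR β x : P) : Ω) = ((β : MulAut R) ⟨x, hPR x.2⟩ : R) := rfl

theorem isRes_stabRes {R P : Subgroup Ω} (hPR : P ≤ R) (β : ↥(stabAut R P)) :
    IsRes (R.subtype.comp (β : MulAut R).toMonoidHom) (stabRes hPR β) :=
  fun _ _ => rfl

/-- An automorphism of `R` restricting to an automorphism of `P` stabilizes `P`. -/
theorem mem_stabAut_of_isRes {R P : Subgroup Ω} (hPR : P ≤ R) {β : MulAut R} {o : MulAut P}
    (h : ∀ x : P, ((β ⟨x, hPR x.2⟩ : R) : Ω) = (o x : P)) : β ∈ stabAut R P := by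
  intro x
  constructor
  · intro hx
    have h1 := h (o⁻¹ ⟨β x, hx⟩)
    have h2 : ((o (o⁻¹ ⟨β x, hx⟩) : P) : Ω) = β x := by simp
    rw [h2] at h1
    have h3 : β ⟨(o⁻¹ ⟨β x, hx⟩ : P), hPR (o⁻¹ ⟨β x, hx⟩).2⟩ = β x := Subtype.ext h1
    have h4 := β.injective h3
    rw [← h4]
    exact (o⁻¹ ⟨β x, hx⟩).2
  · intro hx
    have := h ⟨x, hx⟩
    rw [show (⟨((⟨(x : Ω), hx⟩ : P) : Ω), hPR hx⟩ : R) = x from rfl] at this
    rw [this]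
    exact (o ⟨x, hx⟩).2

/-- The automorphisms of `T` whose restriction to `Q` lies in `O'`. -/
def kT {T Q : Subgroup Ω} (hQT : Q ≤ T) (O' : Subgroup (MulAut Q)) : Subgroup (MulAut T) :=
  (O'.comap (stabRes hQT)).map (stabAut T Q).subtype

theorem mem_kT {T Q : Subgroup Ω} (hQT : Q ≤ T) (O' : Subgroup (MulAut Q)) {β : MulAut T} :
    β ∈ kT hQT O' ↔ ∃ o ∈ O', ∀ x : Q, ((β ⟨x, hQT x.2⟩ : T) : Ω) = (o x : Q) := by
  constructor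
  · rintro ⟨β', hβ', rfl⟩
    exact ⟨stabRes hQT β', hβ', fun x => rfl⟩
  · rintro ⟨o, ho, h⟩
    have hs : β ∈ stabAut T Q := mem_stabAut_of_isRes hQT h
    refine ⟨⟨β, hs⟩, ?_, rfl⟩
    show stabRes hQT ⟨β, hs⟩ ∈ O'
    have e : stabRes hQT ⟨β, hs⟩ = o := by
      ext x
      exact h x
    rw [e]
    exact ho

theorem kT_le_stabAut {T Q : Subgroup Ω} (hQT : Q ≤ T) (O' : Subgroup (MulAut Q)) :
    kT hQT O' ≤ stabAut T Q := by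
  rintro _ ⟨β', -, rfl⟩
  exact β'.2

theorem nk_mono {U : Subgroup Ω} {K K' : Subgroup (MulAut U)} (h : K ≤ K') (φ : U →* Ω) :
    nk S U K φ ≤ nk S U K' φ := by
  rintro y ⟨hyS, k, hk, hky⟩
  exact ⟨hyS, k, h hk, hky⟩

end Cfsg.Agent.Lib.Helper88
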