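import Cfsg.Agent.Lib.Helper88.BcgloRes

/-!
# The inclusion of a fully `K`-normalized subgroup has the Sylow property (class-wise)
-/

set_option autoImplicit false

namespace Cfsg.Agent.Lib.Helper88

open Cfsg Cfsg.FusionSystem Cfsg.Agent.Lib.Helper87 Cfsg.Agent.Lib.Helper84.KN

variable {Ω : Type*} [Group Ω] {S : Subgroup Ω}

open scoped Pointwise in
/-- Class-wise version of the Sylow part of `goodMark_subtype`: if `(U, K)` has a good marking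
`φ₀` with `|nk φ₀| ≤ |nk ι|`, the automorphisms in `K` induced by `S` on `U` form a Sylow
`p`-subgroup of `K ⊓ Aut_F(U)`. -/
theorem sylow_subtype_of_goodMark [Finite S] {p : ℕ} [Fact p.Prime] (hS : IsPGroup p S)
    (F : FusionSystem S) {U : Subgroup Ω} (hU : U ≤ S) {K : Subgroup (MulAut U)} {φ₀ : U →* Ω}
    (h₀ : GoodMark F p U K φ₀)
    (hcard : Nat.card (nk S U K φ₀) ≤ Nat.card (nk S U K U.subtype)) :
    ∃ R : Sylow p ↥(K ⊓ F.autGroup U),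
      ∀ a : ↥(K ⊓ F.autGroup U), a ∈ R ↔ (a : MulAut U) ∈ bk S U K U.subtype := by
  have hι : U.subtype ∈ F.Hom U := Cfsg.Agent.Lib.Helper87.subtype_mem F hU
  obtain ⟨χ, hχ, ψ, hψ, hψe⟩ := exists_extension hS F h₀ hι
  have hsurj := exists_preimage_of_card_le F hψ hχ.1 le_rfl hψe hcard
  have hinj₀ := F.injective_of_mem h₀.mem
  have hND : nk S U K U.subtype ≤ nk S U K U.subtype ⊔ U.subtype.range := le_sup_left
  have hRD : U.subtype.range ≤ nk S U K U.subtype ⊔ U.subtype.range := le_sup_right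
  obtain ⟨R₀, hR₀⟩ := h₀.syl
  have hiff : ∀ a : MulAut U, a ∈ bk S U K U.subtype ↔ χ * a * χ⁻¹ ∈ bk S U K φ₀ := by
    intro a
    constructor
    · rintro ⟨haK, y, hyS, hy⟩
      have hynk : y ∈ nk S U K U.subtype := ⟨hyS, a, haK, hy⟩
      refine ⟨K.mul_mem (K.mul_mem hχ.1 haK) (K.inv_mem hχ.1), ψ ⟨y, hND hynk⟩,
        hom_mem_S F hψ _, fun z => ?_⟩
      exact conj_map ψ χ hRD hψe (hND hynk) hy z
    · rintro ⟨hk'K, y', hy'S, hy'⟩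
      have hy'nk : y' ∈ nk S U K φ₀ := ⟨hy'S, _, hk'K, hy'⟩
      obtain ⟨y, hynk, hyψ⟩ := hsurj y' hy'nk
      obtain ⟨hyS, k, hkK, hk⟩ := hynk
      have h7 : ∀ z : U, y' * φ₀ z * y'⁻¹ = φ₀ ((χ * k * χ⁻¹) z) := by
        intro z
        rw [← hyψ]
        exact conj_map ψ χ hRD hψe _ hk z
      have h8 : χ * a * χ⁻¹ = χ * k * χ⁻¹ := eq_of_conj_eq hinj₀ hy' h7
      have h9 : a = k := by
        have := congrArg (fun t => χ⁻¹ * t * χ) h8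
        simpa [mul_assoc] using this
      rw [h9]
      exact ⟨hkK, y, hyS, hk⟩
  refine ⟨(⟨χ, hχ⟩ : ↥(K ⊓ F.autGroup U))⁻¹ • R₀, fun a => ?_⟩
  rw [hiff]
  have h12 := hR₀ (⟨χ * (a : MulAut U) * χ⁻¹, (K ⊓ F.autGroup U).mul_mem
        ((K ⊓ F.autGroup U).mul_mem hχ a.2) ((K ⊓ F.autGroup U).inv_mem hχ)⟩ :
          ↥(K ⊓ F.autGroup U))
  rw [← h12]
  have h10 : a ∈ ((⟨χ, hχ⟩ : ↥(K ⊓ F.autGroup U))⁻¹ • R₀ : Sylow p ↥(K ⊓ F.autGroup U)) ↔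
      a ∈ MulAut.conj (⟨χ, hχ⟩ : ↥(K ⊓ F.autGroup U))⁻¹ •
        (R₀ : Subgroup ↥(K ⊓ F.autGroup U)) := Iff.rfl
  rw [h10, Subgroup.mem_pointwise_smul_iff_inv_smul_mem]
  have h11 : (MulAut.conj (⟨χ, hχ⟩ : ↥(K ⊓ F.autGroup U))⁻¹)⁻¹ • a =
      (⟨χ * (a : MulAut U) * χ⁻¹, (K ⊓ F.autGroup U).mul_mem
        ((K ⊓ F.autGroup U).mul_mem hχ a.2) ((K ⊓ F.autGroup U).inv_mem hχ)⟩ :
          ↥(K ⊓ F.autGroup U)) := by
    apply Subtype.ext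
    simp [MulAut.smul_def, MulAut.conj_apply]
  rw [h11]
  rfl

end Cfsg.Agent.Lib.Helper88
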