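import Cfsg.Agent.Lib.Helper88.BcgloMark

/-!
# The relation `P ⇝ W` (maps defined on the whole normalizer) for the BCGLO criterion
-/

set_option autoImplicit false

namespace Cfsg.Agent.Lib.Helper88

open Cfsg Cfsg.FusionSystem Cfsg.Agent.Lib.Helper87 Cfsg.Agent.Lib.Helper84.KN

variable {Ω : Type*} [Group Ω] {S : Subgroup Ω}

/-! ### More on `imgOf` -/

theorem imgOf_comp_eq {R Q : Subgroup Ω} {φ : R →* Ω} {ψ : Q →* Ω} {χ : R →* Ω}
    (hm : ∀ x : R, φ x ∈ Q) (hχ : ∀ x : R, χ x = ψ ⟨φ x, hm x⟩) (P : Subgroup Ω) :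
    imgOf χ P = imgOf ψ (imgOf φ P) := by
  ext y
  rw [mem_imgOf, mem_imgOf]
  constructor
  · rintro ⟨x, hx, rfl⟩
    exact ⟨⟨φ x, hm x⟩, mem_imgOf.mpr ⟨x, hx, rfl⟩, (hχ x).symm⟩
  · rintro ⟨z, hz, rfl⟩
    obtain ⟨x, hx, hxe⟩ := mem_imgOf.mp hz
    refine ⟨x, hx, ?_⟩
    rw [hχ]
    congr 1
    exact Subtype.ext hxe

theorem imgOf_restrict {R R' : Subgroup Ω} (φ : R →* Ω) (hle : R' ≤ R) {P : Subgroup Ω}
    (hP : P ≤ R') : imgOf (φ.comp (Subgroup.inclusion hle)) P = imgOf φ P := by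
  ext y
  rw [mem_imgOf, mem_imgOf]
  constructor
  · rintro ⟨x, hx, rfl⟩
    exact ⟨Subgroup.inclusion hle x, hx, rfl⟩
  · rintro ⟨x, hx, rfl⟩
    exact ⟨⟨x, hP hx⟩, hx, rfl⟩

theorem isConj_imgOf (F : FusionSystem S) {R P : Subgroup Ω} {φ : R →* Ω} (hφ : φ ∈ F.Hom R)
    (hP : P ≤ R) : F.IsConj P (imgOf φ P) := by
  refine ⟨φ.comp (Subgroup.inclusion hP), restrict_mem F hφ hP, ?_⟩
  ext y
  rw [mem_imgOf]
  constructor
  · rintro ⟨x, rfl⟩
    exact ⟨Subgroup.inclusion hP x, x.2, rfl⟩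
  · rintro ⟨x, hx, rfl⟩
    exact ⟨⟨x, hx⟩, rfl⟩

theorem card_imgOf (F : FusionSystem S) {R P : Subgroup Ω} {φ : R →* Ω} (hφ : φ ∈ F.Hom R)
    (hP : P ≤ R) : Nat.card (imgOf φ P) = Nat.card P :=
  (card_eq_of_isConj F (isConj_imgOf F hφ hP)).symm

theorem imgOf_le_S (F : FusionSystem S) {R : Subgroup Ω} {φ : R →* Ω} (hφ : φ ∈ F.Hom R)
    (P : Subgroup Ω) : imgOf φ P ≤ S :=
  (imgOf_le_range φ P).trans (range_le F hφ)

/-- The image of the normalizer normalizes the image. -/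
theorem range_le_normalizer_imgOf {R P : Subgroup Ω} {φ : R →* Ω}
    (hR : R ≤ Subgroup.normalizer (P : Set Ω)) :
    φ.range ≤ Subgroup.normalizer (imgOf φ P : Set Ω) := by
  rintro _ ⟨g, rfl⟩
  rw [Subgroup.mem_normalizer_iff]
  intro n
  have hg := hR g.2
  rw [Subgroup.mem_normalizer_iff] at hg
  constructor
  · intro hn
    obtain ⟨x, hx, rfl⟩ := mem_imgOf.mp hn
    refine mem_imgOf.mpr ⟨g * x * g⁻¹, (hg x).mp hx, ?_⟩
    rw [map_mul, map_mul, map_inv]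
  · intro hn
    obtain ⟨x, hx, hxe⟩ := mem_imgOf.mp hn
    have h1 : n = φ (g⁻¹ * x * g) := by
      rw [map_mul, map_mul, map_inv, hxe]
      group
    rw [h1]
    refine mem_imgOf.mpr ⟨g⁻¹ * x * g, ?_, rfl⟩
    have h2 := (hg ((g : Ω)⁻¹ * x * g)).mpr
    apply h2
    have e : (g : Ω) * ((g : Ω)⁻¹ * x * g) * (g : Ω)⁻¹ = x := by group
    rw [e]
    exact hx

theorem range_le_normalizerIn_imgOf (F : FusionSystem S) {R P : Subgroup Ω} {φ : R →* Ω}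
    (hφ : φ ∈ F.Hom R) (hR : R ≤ normalizerIn S P) :
    φ.range ≤ normalizerIn S (imgOf φ P) :=
  le_inf (range_le F hφ)
    (range_le_normalizer_imgOf (hR.trans inf_le_right))

theorem card_le_card_normalizerIn_imgOf [Finite S] (F : FusionSystem S) {R P : Subgroup Ω}
    {φ : R →* Ω} (hφ : φ ∈ F.Hom R) (hR : R ≤ normalizerIn S P) :
    Nat.card R ≤ Nat.card (normalizerIn S (imgOf φ P)) := by
  have hfin : Finite (normalizerIn S (imgOf φ P)) := finite_of_le (normalizerIn_le S _)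
  have h1 : Nat.card R = Nat.card φ.range :=
    Nat.card_congr (MonoidHom.ofInjective (F.injective_of_mem hφ)).toEquiv
  rw [h1]
  exact Subgroup.card_le_of_le (range_le_normalizerIn_imgOf F hφ hR)

/-- Inverse image: if `ψ` inverts `φ`, it maps `φ(P)` back to `P`. -/
theorem imgOf_inv {R Q P : Subgroup Ω} {φ : R →* Ω} {ψ : Q →* Ω} (hP : P ≤ R)
    (hinv : ∀ (x : R) (h : φ x ∈ Q), ψ ⟨φ x, h⟩ = x) (hQ : φ.range ≤ Q) :
    imgOf ψ (imgOf φ P) = P := by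
  ext y
  rw [mem_imgOf]
  constructor
  · rintro ⟨z, hz, rfl⟩
    obtain ⟨x, hx, hxe⟩ := mem_imgOf.mp hz
    have h1 : z = ⟨φ x, hQ ⟨x, rfl⟩⟩ := Subtype.ext hxe.symm
    rw [h1, hinv]
    exact hx
  · intro hy
    refine ⟨⟨φ ⟨y, hP hy⟩, hQ ⟨_, rfl⟩⟩, mem_imgOf.mpr ⟨⟨y, hP hy⟩, hy, rfl⟩, ?_⟩
    rw [hinv]

/-! ### The relation `UpTo` -/

/-- `P ⇝ W`: some map of the system defined on `N_S(P)` sends `P` onto `W`. -/
def UpTo (F : FusionSystem S) (P W : Subgroup Ω) : Prop :=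
  ∃ θ ∈ F.Hom (normalizerIn S P), imgOf θ P = W

theorem upTo_refl (F : FusionSystem S) {P : Subgroup Ω} (hP : P ≤ S) : UpTo F P P :=
  ⟨_, subtype_mem F (normalizerIn_le S P), imgOf_subtype (le_normalizerIn hP)⟩

theorem upTo_of_le (F : FusionSystem S) {D P : Subgroup Ω} {ψ : D →* Ω} (hψ : ψ ∈ F.Hom D)
    (hP : P ≤ S) (hD : normalizerIn S P ≤ D) : UpTo F P (imgOf ψ P) :=
  ⟨_, restrict_mem F hψ hD, imgOf_restrict ψ hD (le_normalizerIn hP)⟩

theorem UpTo.isConj {F : FusionSystem S} {P W : Subgroup Ω} (h : UpTo F P W) (hP : P ≤ S) :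
    F.IsConj P W := by
  obtain ⟨θ, hθ, rfl⟩ := h
  exact isConj_imgOf F hθ (le_normalizerIn hP)

theorem UpTo.le_S {F : FusionSystem S} {P W : Subgroup Ω} (h : UpTo F P W) : W ≤ S := by
  obtain ⟨θ, hθ, rfl⟩ := h
  exact imgOf_le_S F hθ P

theorem UpTo.card_eq {F : FusionSystem S} {P W : Subgroup Ω} (h : UpTo F P W) (hP : P ≤ S) :
    Nat.card W = Nat.card P :=
  (card_eq_of_isConj F (h.isConj hP)).symm

theorem UpTo.card_normalizerIn_le [Finite S] {F : FusionSystem S} {P W : Subgroup Ω}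
    (h : UpTo F P W) : Nat.card (normalizerIn S P) ≤ Nat.card (normalizerIn S W) := by
  obtain ⟨θ, hθ, rfl⟩ := h
  exact card_le_card_normalizerIn_imgOf F hθ le_rfl

theorem UpTo.trans {F : FusionSystem S} {P W W' : Subgroup Ω} (h1 : UpTo F P W)
    (h2 : UpTo F W W') : UpTo F P W' := by
  obtain ⟨θ, hθ, rfl⟩ := h1
  obtain ⟨θ', hθ', rfl⟩ := h2
  have hm : ∀ x : normalizerIn S P, θ x ∈ normalizerIn S (imgOf θ P) := fun x =>
    range_le_normalizerIn_imgOf F hθ le_rfl ⟨x, rfl⟩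
  obtain ⟨χ, hχ, hχe⟩ := comp_mem' F hθ hθ' hm
  exact ⟨χ, hχ, imgOf_comp_eq hm hχe P⟩

/-- If the normalizer of the target is not bigger, the arrow can be reversed. -/
theorem UpTo.symm_of_card_le [Finite S] {F : FusionSystem S} {P W : Subgroup Ω}
    (h : UpTo F P W) (hP : P ≤ S)
    (hc : Nat.card (normalizerIn S W) ≤ Nat.card (normalizerIn S P)) : UpTo F W P := by
  obtain ⟨θ, hθ, rfl⟩ := h
  have hfin : Finite (normalizerIn S (imgOf θ P)) := finite_of_le (normalizerIn_le S _)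
  have h1 : Nat.card (normalizerIn S P) = Nat.card θ.range :=
    Nat.card_congr (MonoidHom.ofInjective (F.injective_of_mem hθ)).toEquiv
  have hr : θ.range = normalizerIn S (imgOf θ P) :=
    Subgroup.eq_of_le_of_card_ge (range_le_normalizerIn_imgOf F hθ le_rfl) (by rw [← h1]; exact hc)
  obtain ⟨ψ, hψ, hψinv, -⟩ := inv_exists F hθ hr
  exact ⟨ψ, hψ, imgOf_inv (le_normalizerIn hP) hψinv hr.le⟩

end Cfsg.Agent.Lib.Helper88
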