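import Cfsg.Agent.Lib.Helper88.TwDiag

set_option autoImplicit false

/-!
# One step of the construction of stable bisets

Given orbit multiplicities `m` on subgroups of `S × S`, generated by the fusion system and stable
on graphs of order `> k`, we add orbits of order `k` so as to make it stable on graphs of order `≥ k`.
-/

namespace Cfsg.Agent.Lib.Helper88

open Cfsg Cfsg.FusionSystem MulAction
open Cfsg.Agent.Lib.Helper87 (restrict_mem hom_le hom_mem_S isConj_refl isConj_symm isConj_trans
  card_eq_of_isConj)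

variable {Ω : Type*} [Group Ω] {S : Subgroup Ω}

/-- the mark of `V` on the biset with orbit multiplicities `m` -/
noncomputable def mark (m : Subgroup (S × S) → ℕ) (V : Subgroup (S × S)) : ℕ :=
  mkCount V (OrbSum m)

/-- all orbits are of the form `(S × S) / graph of a map of the system` -/
def Gen (F : FusionSystem S) (m : Subgroup (S × S) → ℕ) : Prop :=
  ∀ H, m H ≠ 0 → InTw F H

/-- the marks of graphs of order at least `k` depend only on the class of the source -/
def StabGe (F : FusionSystem S) (m : Subgroup (S × S) → ℕ) (k : ℕ) : Prop :=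
  ∀ D D' : Subgroup (S × S), InTw F D → InTw F D' → k ≤ Nat.card D →
    F.IsConj (pr1 D) (pr1 D') → mark m D = mark m D'

theorem mark_eq_sum [Finite S] [Fintype (Subgroup (S × S))] (m : Subgroup (S × S) → ℕ)
    (V : Subgroup (S × S)) : mark m V = ∑ H : Subgroup (S × S), m H * fixq H V :=
  mkCount_orbSum m V

theorem mark_add [Finite S] [Fintype (Subgroup (S × S))] (m a : Subgroup (S × S) → ℕ)
    (V : Subgroup (S × S)) :
    mark (m + a) V = mark m V + ∑ H : Subgroup (S × S), a H * fixq H V := by
  rw [mark_eq_sum, mark_eq_sum, ← Finset.sum_add_distrib]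
  refine Finset.sum_congr rfl fun H _ => ?_
  rw [Pi.add_apply, add_mul]

theorem mark_smul [Finite S] (c : ℕ) (m : Subgroup (S × S) → ℕ) (V : Subgroup (S × S)) :
    mark (c • m) V = c * mark m V := by
  classical
  have := Fintype.ofFinite (Subgroup (S × S))
  rw [mark_eq_sum, mark_eq_sum, Finset.mul_sum]
  refine Finset.sum_congr rfl fun H _ => ?_
  rw [Pi.smul_apply, smul_eq_mul, mul_assoc]

theorem mark_cjs (m : Subgroup (S × S) → ℕ) (g : S × S) (V : Subgroup (S × S)) :
    mark m (cjs g V) = mark m V := mkCount_cjs g V _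

/-- a subgroup with a nonzero mark is a graph, if all orbits are -/
theorem inTw_of_mark_ne_zero [Finite S] {F : FusionSystem S} {m : Subgroup (S × S) → ℕ}
    (hgen : Gen F m) {V : Subgroup (S × S)} (h : mark m V ≠ 0) : InTw F V := by
  classical
  have := Fintype.ofFinite (Subgroup (S × S))
  rw [mark_eq_sum] at h
  obtain ⟨H, -, hH⟩ := Finset.exists_ne_zero_of_sum_ne_zero h
  have h1 : m H ≠ 0 := fun h0 => hH (by rw [h0, zero_mul])
  have h2 : fixq H V ≠ 0 := fun h0 => hH (by rw [h0, mul_zero])
  obtain ⟨g, hg⟩ := exists_le_conj_of_fixq_ne_zero h2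
  exact ((hgen H h1).conj g).1.mono hg

/-- the class of a graph: the graphs with conjugate source -/
def twClass (F : FusionSystem S) (D : Subgroup (S × S)) : Set (Subgroup (S × S)) :=
  {D' | InTw F D' ∧ F.IsConj (pr1 D) (pr1 D')}

theorem twClass_eq {F : FusionSystem S} {D D' : Subgroup (S × S)} (h : D' ∈ twClass F D) :
    twClass F D' = twClass F D := by
  ext E
  constructor
  · rintro ⟨h1, h2⟩
    exact ⟨h1, isConj_trans F h.2 h2⟩
  · rintro ⟨h1, h2⟩
    exact ⟨h1, isConj_trans F (isConj_symm F h.2) h2⟩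

theorem mem_twClass_self {F : FusionSystem S} {D : Subgroup (S × S)} (h : InTw F D) :
    D ∈ twClass F D := ⟨h, isConj_refl F (pr1_le D)⟩

theorem cjs_mem_twClass {F : FusionSystem S} {D : Subgroup (S × S)} (h : InTw F D) (g : S × S) :
    cjs g D ∈ twClass F D := ⟨(h.conj g).1, (h.conj g).2⟩

theorem rep_mem_twClass {F : FusionSystem S} {D : Subgroup (S × S)} (h : InTw F D) :
    rep D ∈ twClass F D := by
  obtain ⟨g, hg⟩ := rep_spec D
  have h1 : rep D = cjs g⁻¹ D := by
    conv_rhs => rw [hg]
    rw [← cjs_mul, inv_mul_cancel, cjs_one]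
  rw [h1]
  exact cjs_mem_twClass h _

theorem card_eq_of_mem_twClass [Finite S] {F : FusionSystem S} {D D' : Subgroup (S × S)}
    (hD : InTw F D) (h : D' ∈ twClass F D) : Nat.card D' = Nat.card D := by
  rw [hD.card_eq, h.1.card_eq]
  exact (card_eq_of_isConj F h.2).symm

/-- the target value of the marks on a class -/
noncomputable def targetOf (m : Subgroup (S × S) → ℕ) (C : Set (Subgroup (S × S))) : ℕ := by
  classical
  exact if h : ∃ T : ℕ, ∀ D' ∈ C, mark m D' ≤ T ∧ fixq D' D' ∣ T - mark m D' then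
    Classical.choose h else 0

theorem targetOf_spec {m : Subgroup (S × S) → ℕ} {C : Set (Subgroup (S × S))}
    (h : ∃ T : ℕ, ∀ D' ∈ C, mark m D' ≤ T ∧ fixq D' D' ∣ T - mark m D') :
    ∀ D' ∈ C, mark m D' ≤ targetOf m C ∧ fixq D' D' ∣ targetOf m C - mark m D' := by
  unfold targetOf
  rw [dif_pos h]
  exact Classical.choose_spec h

/-- the orbits to add -/
noncomputable def addOrb (F : FusionSystem S) (m : Subgroup (S × S) → ℕ) (k : ℕ)
    (H : Subgroup (S × S)) : ℕ := by
  classical
  exact if InTw F H ∧ Nat.card H = k ∧ rep H = H then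
    (targetOf m (twClass F H) - mark m H) / fixq H H else 0

theorem addOrb_ne_zero {F : FusionSystem S} {m : Subgroup (S × S) → ℕ} {k : ℕ}
    {H : Subgroup (S × S)} (h : addOrb F m k H ≠ 0) : InTw F H ∧ Nat.card H = k ∧ rep H = H := by
  unfold addOrb at h
  by_contra hne
  rw [if_neg hne] at h
  exact h rfl

theorem addOrb_eq {F : FusionSystem S} {m : Subgroup (S × S) → ℕ} {k : ℕ}
    {H : Subgroup (S × S)} (h : InTw F H ∧ Nat.card H = k ∧ rep H = H) :
    addOrb F m k H = (targetOf m (twClass F H) - mark m H) / fixq H H := by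
  unfold addOrb
  rw [if_pos h]

/-- the effect of the added orbits on the marks of graphs of order `k` -/
theorem sum_addOrb_eq [Finite S] [Fintype (Subgroup (S × S))] {F : FusionSystem S}
    {m : Subgroup (S × S) → ℕ} {k : ℕ} {V : Subgroup (S × S)}
    (hk : Nat.card V = k) :
    ∑ H : Subgroup (S × S), addOrb F m k H * fixq H V =
      addOrb F m k (rep V) * fixq (rep V) (rep V) := by
  classical
  obtain ⟨g₀, hg₀⟩ := rep_spec V
  have hfix : fixq (rep V) V = fixq (rep V) (rep V) :=
    calc fixq (rep V) V = fixq (rep V) (cjs g₀ (rep V)) := by rw [← hg₀]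
      _ = fixq (rep V) (rep V) := mkCount_cjs g₀ (rep V) ((S × S) ⧸ rep V)
  rw [Finset.sum_eq_single (rep V)]
  · rw [hfix]
  · intro H _ hH
    by_contra hne
    have h1 : addOrb F m k H ≠ 0 := fun h0 => hne (by rw [h0, zero_mul])
    have h2 : fixq H V ≠ 0 := fun h0 => hne (by rw [h0, mul_zero])
    obtain ⟨-, hHk, hHrep⟩ := addOrb_ne_zero h1
    obtain ⟨g, hg⟩ := eq_conj_of_fixq_ne_zero (hHk.trans hk.symm) h2
    apply hH
    rw [← hHrep]
    exact (rep_eq_of_conj g hg).symm
  · intro h
    exact absurd (Finset.mem_univ _) h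

theorem sum_addOrb_eq_zero [Finite S] [Fintype (Subgroup (S × S))] {F : FusionSystem S}
    {m : Subgroup (S × S) → ℕ} {k : ℕ} {V : Subgroup (S × S)} (hk : k < Nat.card V) :
    ∑ H : Subgroup (S × S), addOrb F m k H * fixq H V = 0 := by
  apply Finset.sum_eq_zero
  intro H _
  by_cases h1 : addOrb F m k H = 0
  · rw [h1, zero_mul]
  · obtain ⟨-, hHk, -⟩ := addOrb_ne_zero h1
    rw [fixq_eq_zero_of_card_lt (by omega), mul_zero]

/-- **The step.** -/
theorem exists_step [Finite S] (F : FusionSystem S) (m : Subgroup (S × S) → ℕ) (k : ℕ)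
    (hgen : Gen F m) (hstab : StabGe F m (k + 1))
    (hT : ∀ D : Subgroup (S × S), InTw F D → Nat.card D = k →
      ∃ T : ℕ, ∀ D' ∈ twClass F D, mark m D' ≤ T ∧ fixq D' D' ∣ T - mark m D') :
    ∃ m' : Subgroup (S × S) → ℕ, Gen F m' ∧ StabGe F m' k ∧
      (∀ H : Subgroup (S × S), Nat.card H ≠ k → m' H = m H) ∧
      (∀ H : Subgroup (S × S), m H ≤ m' H) ∧
      (∀ V : Subgroup (S × S), k < Nat.card V → mark m' V = mark m V) := by
  classical
  have := Fintype.ofFinite (Subgroup (S × S))
  refine ⟨m + addOrb F m k, ?_, ?_, ?_, ?_, ?_⟩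
  · intro H hH
    by_cases h0 : m H = 0
    · have h1 : addOrb F m k H ≠ 0 := by
        intro h1
        apply hH
        rw [Pi.add_apply, h0, h1]
      exact (addOrb_ne_zero h1).1
    · exact hgen H h0
  · -- stability
    have hbig : ∀ V : Subgroup (S × S), k < Nat.card V →
        mark (m + addOrb F m k) V = mark m V := by
      intro V hV
      rw [mark_add, sum_addOrb_eq_zero hV, add_zero]
    have heq : ∀ V : Subgroup (S × S), InTw F V → Nat.card V = k →
        mark (m + addOrb F m k) V = targetOf m (twClass F V) := by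
      intro V hV hVk
      have hrepV : rep V ∈ twClass F V := rep_mem_twClass hV
      have hrep : InTw F (rep V) ∧ Nat.card (rep V) = k ∧ rep (rep V) = rep V :=
        ⟨hrepV.1, by rw [card_rep, hVk], rep_rep V⟩
      rw [mark_add, sum_addOrb_eq hVk, addOrb_eq hrep, twClass_eq hrepV]
      obtain ⟨h1, h2⟩ := targetOf_spec (hT V hV hVk) (rep V) hrepV
      rw [Nat.div_mul_cancel h2]
      obtain ⟨g₀, hg₀⟩ := rep_spec V
      have h3 : mark m V = mark m (rep V) := by
        conv_lhs => rw [hg₀]
        exact mark_cjs m g₀ (rep V)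
      rw [h3]
      omega
    intro D D' hD hD' hk hc
    have hD'mem : D' ∈ twClass F D := ⟨hD', hc⟩
    have hcard : Nat.card D' = Nat.card D := card_eq_of_mem_twClass hD hD'mem
    rcases Nat.lt_or_ge k (Nat.card D) with hlt | hge
    · rw [hbig D hlt, hbig D' (by omega)]
      exact hstab D D' hD hD' hlt hc
    · have hDk : Nat.card D = k := le_antisymm hge hk
      rw [heq D hD hDk, heq D' hD' (by omega), twClass_eq hD'mem]
  · intro H hH
    rw [Pi.add_apply]
    have : addOrb F m k H = 0 := by
      by_contra hne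
      exact hH (addOrb_ne_zero hne).2.1
    rw [this, add_zero]
  · intro H
    rw [Pi.add_apply]
    omega
  · intro V hV
    rw [mark_add, sum_addOrb_eq_zero hV, add_zero]

end Cfsg.Agent.Lib.Helper88
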