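import Cfsg.Agent.Lib.Helper88.Reduction4

set_option autoImplicit false

/-!
# Characteristic subgroups and factor systems
-/

namespace Cfsg.Agent.Lib.Helper88

open Cfsg Cfsg.FusionSystem
open Cfsg.Agent.Lib.Helper87 (hom_le hom_mem_S subtype_mem inv_exists mem_autGroup_iff finite_of_le)
open Cfsg.Agent.Lib.Helper85 (kerSub mem_kerSub rho rho_apply rho_mem rho_surj ker_rho_apply resHom
  resHom_coe resHom_surjective im_le_S' mem_im im_pre pre_im kerSub_le_pre)
open Cfsg.Agent.S5132 (mem_pre pre_le)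

universe u

/-- the nontrivial characteristic subgroups of `S` -/
def CharBad (Ω : Type u) [Group Ω] (S P : Subgroup Ω) (_ : MulAut P) : Prop :=
  P ≠ ⊥ ∧ (P.subgroupOf S).Characteristic

variable {Ω : Type*} [Group Ω] {S : Subgroup Ω} {Ω' : Type*} [Group Ω'] {S' : Subgroup Ω'}

theorem char_subgroupOf_congr {S₁ S₂ : Subgroup Ω} (h : S₁ = S₂) {P : Subgroup Ω}
    (hP : (P.subgroupOf S₁).Characteristic) : (P.subgroupOf S₂).Characteristic := by
  subst h
  exact hP

/-- the preimage of a characteristic subgroup under a homomorphism with characteristic kernel -/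
theorem characteristic_preimage (θ : S →* Ω') (hrange : θ.range = S') {Q : Subgroup Ω}
    (hker : ∀ s : S, θ s = 1 ↔ (s : Ω) ∈ Q) (hQ : (Q.subgroupOf S).Characteristic)
    {P' : Subgroup Ω'} (hP' : (P'.subgroupOf S').Characteristic) :
    ((preimageAlong θ P').subgroupOf S).Characteristic := by
  have hθS' : ∀ s : S, θ s ∈ S' := fun s => hrange ▸ ⟨s, rfl⟩
  let θ' : S →* S' := θ.codRestrict S' hθS'
  have hθ' : ∀ s : S, ((θ' s : S') : Ω') = θ s := fun s => rfl
  have hsurj : Function.Surjective θ' := by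
    rintro ⟨y, hy⟩
    rw [← hrange] at hy
    obtain ⟨s, rfl⟩ := hy
    exact ⟨s, rfl⟩
  have hkerθ' : θ'.ker = Q.subgroupOf S := by
    ext s
    rw [MonoidHom.mem_ker, Subgroup.mem_subgroupOf, ← hker s]
    constructor
    · intro h
      have := congrArg (fun z : S' => (z : Ω')) h
      exact this
    · intro h
      exact Subtype.ext h
  have hmem : ∀ s : S, s ∈ (preimageAlong θ P').subgroupOf S ↔ θ' s ∈ P'.subgroupOf S' := by
    intro s
    rw [Subgroup.mem_subgroupOf, Subgroup.mem_subgroupOf, mem_pre]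
    constructor
    · rintro ⟨_, h⟩
      exact h
    · intro h
      exact ⟨s.2, h⟩
  rw [Subgroup.characteristic_iff_le_comap]
  intro φ s hs
  rw [Subgroup.mem_comap]
  -- the induced automorphism of `S'`
  have hN : (θ'.ker).map (φ : S →* S) = θ'.ker := by
    rw [hkerθ']
    exact (Subgroup.characteristic_iff_map_eq.mp hQ) φ
  let q := QuotientGroup.quotientKerEquivOfSurjective θ' hsurj
  let e : S' ≃* S' := q.symm.trans ((QuotientGroup.congr θ'.ker θ'.ker φ hN).trans q)
  have hq : ∀ t : S, q (QuotientGroup.mk t) = θ' t := fun t => rfl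
  have he : ∀ t : S, e (θ' t) = θ' (φ t) := by
    intro t
    show q (QuotientGroup.congr θ'.ker θ'.ker φ hN (q.symm (θ' t))) = θ' (φ t)
    have h1 : q.symm (θ' t) = QuotientGroup.mk t := by
      rw [MulEquiv.symm_apply_eq, hq]
    rw [h1, QuotientGroup.congr_mk, hq]
  have h1 := (Subgroup.characteristic_iff_le_comap.mp hP') e ((hmem s).mp hs)
  rw [Subgroup.mem_comap] at h1
  have h2 : e.toMonoidHom (θ' s) = θ' (φ s) := he s
  rw [h2] at h1
  exact (hmem _).mpr h1

/-- **Lifting.** If the nontrivial characteristic subgroups of `S` have no nontrivial automorphisms of order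
prime to `p` in the system, the same holds in the factor system modulo a characteristic subgroup. -/
theorem hyp_charBad_factor {Ω : Type u} [Group Ω] {S : Subgroup Ω} {Ω' : Type u} [Group Ω']
    {S' : Subgroup Ω'} [Finite S] {p : ℕ} [Fact p.Prime] (hS : IsPGroup p S)
    (F : FusionSystem S) (F' : FusionSystem S') (θ : S →* Ω') (hθ : F.IsSurjectiveMorphism F' θ)
    {Q : Subgroup Ω} (hker : ∀ s : S, θ s = 1 ↔ (s : Ω) ∈ Q)
    (hQ : (Q.subgroupOf S).Characteristic) (hyp : Hyp CharBad F p) : Hyp CharBad F' p := by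
  have hp : p.Prime := Fact.out
  have hrange : θ.range = S' := hθ.2.1
  intro P' hP'S' β' hβ' hcop hbad
  obtain ⟨hP'1, hP'char⟩ := hbad
  set P := preimageAlong θ P' with hPdef
  have hPS : P ≤ S := pre_le θ P'
  have : Finite P := finite_of_le hPS
  have hPchar : (P.subgroupOf S).Characteristic :=
    characteristic_preimage θ hrange hker hQ hP'char
  have hKP : kerSub θ ≤ P := kerSub_le_pre θ P'
  have himP : imageAlong θ P = P' := im_pre θ (hrange ▸ hP'S')
  have hP1 : P ≠ ⊥ := by
    intro h0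
    apply hP'1
    rw [← himP, h0, eq_bot_iff]
    rintro _ ⟨s, hs, rfl⟩
    have hs' : (s : Ω) ∈ (⊥ : Subgroup Ω) := hs
    rw [Subgroup.mem_bot] at hs'
    have : s = 1 := Subtype.ext hs'
    rw [this, map_one]
    exact Subgroup.one_mem _
  clear_value P
  subst himP
  obtain ⟨γ, hγ⟩ := rho_surj hS F F' θ hθ hPS hKP β' hβ'
  obtain ⟨r, hr1, hr2⟩ := exists_pow_coprime (γ : MulAut P) (isOfFinOrder_of_finite _) hp hcop
  have hγr : rho hS F F' θ hθ hPS (γ ^ r) = β' := by
    rw [map_pow, hγ, pow_eq_self_of_modEq (pow_orderOf_eq_one β') hr2]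
  have h1 : ((γ ^ r : F.autGroup P) : MulAut P) = 1 :=
    hyp P hPS _ (γ ^ r).2 (by rw [Subgroup.coe_pow]; exact hr1) ⟨hP1, hPchar⟩
  have h2 : γ ^ r = 1 := Subtype.ext h1
  rw [← hγr, h2, map_one]

end Cfsg.Agent.Lib.Helper88
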