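import Cfsg.Agent.Lib.Helper88.SectionFreeRadical
import Cfsg.Agent.Lib.Helper88.FactorPrelim
import Cfsg.Agent.S5133
import Cfsg.Agent.S5134

set_option autoImplicit false

/-!
# Factor systems of free fusion systems are free
-/

namespace Cfsg.Agent.Lib.Helper88

open Cfsg Cfsg.FusionSystem
open Cfsg.Agent.Lib.Helper87 (hom_le hom_mem_S finite_of_le isConj_refl card_eq_of_isConj
  map_subgroupOf_eq_iff)
open Cfsg.Agent.Lib.Helper85 (mem_im im_pre pre_im)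
open Cfsg.Agent.S5132 (mem_pre pre_le pre_apply_mem)

universe u

variable {Ω : Type u} [Group Ω] {S : Subgroup Ω}

/-- **Factor systems of free systems are free.** -/
theorem isSectionFree_factor [Finite S] {p : ℕ} [Fact p.Prime] (hS : IsPGroup p S)
    (F : FusionSystem S) (hF : F.IsSaturated p) (H : Type*) [Group H]
    (hfree : F.IsSectionFree p H) {Q : Subgroup Ω} (hQ : F.IsNormal Q)
    {Ω' : Type*} [Group Ω'] {S' : Subgroup Ω'} (θ : S →* Ω') (E : FusionSystem S')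
    (hE : F.IsFactorSystem Q θ E) : E.IsSectionFree p H := by
  classical
  have hsc : F.StronglyClosed Q := Cfsg.Agent.Lib.Helper87.stronglyClosed_of_isNormal F hQ
  have hsur := Cfsg.Agent.S5134.result p hS F hF Q hsc θ E hE
  have hmor : F.IsMorphism E θ := hsur.1
  obtain ⟨hQS, hker, hrange, hEhom⟩ := hE
  have hfinS' : Finite S' := by
    rw [← hrange]
    exact Finite.of_surjective θ.rangeRestrict θ.rangeRestrict_surjective
  have hS'p : IsPGroup p S' := by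
    rw [← hrange]
    exact hS.of_surjective θ.rangeRestrict θ.rangeRestrict_surjective
  have hθS' : ∀ s : S, θ s ∈ S' := fun s => hrange ▸ ⟨s, rfl⟩
  intro R' hR'fn hR'c M' hM' L' _ ι' hL'
  have hR'S : R' ≤ S' := hR'fn.1
  have hR'r : R' ≤ θ.range := hrange ▸ hR'S
  -- the preimage
  set R := preimageAlong θ R' with hRdef
  have hRS : R ≤ S := pre_le θ R'
  have hRfn : F.IsFullyNormalized R := isFullyNormalized_preimage F E θ hsc hker hrange hmor hR'fn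
  have hRc : F.IsCentric R := isCentric_preimage F E θ hsc hker hrange hmor hR'c
  have himR : imageAlong θ R = R' := im_pre θ hR'r
  let NR := Cfsg.Agent.Lib.Helper84.normalizerSystem F R hRS
  have hNR : F.IsNormalizerSystem R NR := Cfsg.Agent.Lib.Helper84.normalizerSystem_spec F R hRS
  obtain ⟨LR, _, ιR, hLR⟩ := exists_model_normalizerSystem hS F hF hRfn hRc NR hNR
  have hLRfree : ¬ Involves H LR := hfree R hRfn hRc NR hNR LR ιR hLR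
  suffices hΦ : ∃ Φ : LR →* L', Function.Surjective Φ by
    obtain ⟨Φ, hΦs⟩ := hΦ
    exact fun hinv => hLRfree (involves_of_surjective Φ hΦs hinv)
  -- notation
  obtain ⟨hfinLR, hRLR, ⟨TLR, hTLR⟩, -⟩ := id hLR
  obtain ⟨hfinL', hRL', ⟨TL', hTL'⟩, -⟩ := id hL'
  have hinjR : Function.Injective ιR := hRLR.1
  have hinj' : Function.Injective ι' := hRL'.1
  have hfinT : Finite (normalizerIn S R) := finite_of_le inf_le_left
  have hTp : IsPGroup p (normalizerIn S R) := hS.to_le inf_le_left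
  have hfinT' : Finite (normalizerIn S' R') := finite_of_le inf_le_left
  have hT'p : IsPGroup p (normalizerIn S' R') := hS'p.to_le inf_le_left
  have hTS : normalizerIn S R ≤ S := inf_le_left
  have hRn : NR.IsNormal R := Cfsg.Agent.Lib.Helper87.normalizerSystem_isNormal F hRS hNR
  have hR'n : M'.IsNormal R' := Cfsg.Agent.Lib.Helper87.normalizerSystem_isNormal E hR'S hM'
  have hRT : R ≤ normalizerIn S R := hRn.1
  have hR'T' : R' ≤ normalizerIn S' R' := hR'n.1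
  have hR'cN : centralizerIn (normalizerIn S' R') R' ≤ R' :=
    fun x hx => hR'c.2 R' (isConj_refl E hR'S) ⟨hx.1.1, hx.2⟩
  -- the map on the normalizers
  have hj₀mem : ∀ s : normalizerIn S R, θ ⟨s, hTS s.2⟩ ∈ normalizerIn S' R' := by
    intro s
    refine ⟨hθS' _, ?_⟩
    have h1 := theta_map_mem_normalizer θ (P := R) ⟨s, hTS s.2⟩ s.2.2
    rw [himR] at h1
    exact h1
  let j₀ : normalizerIn S R →* normalizerIn S' R' :=
    (θ.comp (Subgroup.inclusion hTS)).codRestrict (normalizerIn S' R') hj₀mem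
  have hj₀ : ∀ s : normalizerIn S R, ((j₀ s : normalizerIn S' R') : Ω') = θ ⟨s, hTS s.2⟩ := fun s => rfl
  let j : normalizerIn S R →* L' := ι'.comp j₀
  -- membership in `R`
  have hmemR : ∀ s : normalizerIn S R, (s : Ω) ∈ R ↔ ((j₀ s : normalizerIn S' R') : Ω') ∈ R' := by
    intro s
    rw [hj₀]
    constructor
    · intro h
      exact (mem_pre.mp h).2
    · intro h
      exact mem_pre.mpr ⟨hTS s.2, h⟩
  -- the normal subgroups
  let N₁ : Subgroup LR := (R.subgroupOf (normalizerIn S R)).map ιR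
  let N₂ : Subgroup L' := (R'.subgroupOf (normalizerIn S' R')).map ι'
  haveI hN₁n : N₁.Normal := Cfsg.Agent.Lib.Helper87.model_map_normal hLR hRn
  haveI hN₂n : N₂.Normal := Cfsg.Agent.Lib.Helper87.model_map_normal hL' hR'n
  have hN₁ : N₁ ≤ ιR.range := by
    rintro _ ⟨s, -, rfl⟩
    exact ⟨s, rfl⟩
  have hmemN₁ : ∀ s : normalizerIn S R, ιR s ∈ N₁ ↔ (s : Ω) ∈ R := by
    intro s
    constructor
    · rintro ⟨s', hs', h⟩
      rw [← hinjR h]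
      exact Subgroup.mem_subgroupOf.mp hs'
    · intro hs
      exact ⟨s, Subgroup.mem_subgroupOf.mpr hs, rfl⟩
  have hmemN₂ : ∀ s : normalizerIn S' R', ι' s ∈ N₂ ↔ (s : Ω') ∈ R' := by
    intro s
    constructor
    · rintro ⟨s', hs', h⟩
      rw [← hinj' h]
      exact Subgroup.mem_subgroupOf.mp hs'
    · intro hs
      exact ⟨s, Subgroup.mem_subgroupOf.mpr hs, rfl⟩
  have hN₂ : N₂ ≤ j.range := by
    rintro _ ⟨y, hy, rfl⟩
    have hyR' : (y : Ω') ∈ R' := Subgroup.mem_subgroupOf.mp hy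
    obtain ⟨s, hs⟩ := hR'r hyR'
    have hsR : (s : Ω) ∈ R := mem_pre.mpr ⟨s.2, by rw [Subtype.coe_eta, hs]; exact hyR'⟩
    refine ⟨⟨s, hRT hsR⟩, ?_⟩
    show ι' (j₀ ⟨s, hRT hsR⟩) = ι' y
    congr 1
    apply Subtype.ext
    rw [hj₀]
    rw [← hs]
  have hN : ∀ s : normalizerIn S R, ιR s ∈ N₁ ↔ j s ∈ N₂ := by
    intro s
    rw [hmemN₁]
    show _ ↔ ι' (j₀ s) ∈ N₂
    rw [hmemN₂, hmemR]
  have hc₂ : Subgroup.centralizer (N₂ : Set L') ≤ N₂ :=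
    model_centralizer_le hT'p M' ι' hL' hR'n hR'cN
  have hidx : ¬ p ∣ ιR.range.index := by
    rw [← hTLR]
    exact TLR.not_dvd_index
  -- matching
  have hM : ∀ g₁ : LR, ∃ g₂ : L', ∀ a b : normalizerIn S R,
      ιR a * g₁ = g₁ * ιR b → j a * g₂ = g₂ * j b := by
    intro g₁
    let N : Subgroup LR := ιR.range.comap (MulAut.conj g₁).toMonoidHom
    let A : Subgroup Ω := preN ιR N
    have hAT : A ≤ normalizerIn S R := preN_le ιR N
    have hg : ∀ x : A, g₁ * ιR ⟨x, hAT x.2⟩ * g₁⁻¹ ∈ ιR.range := fun x => preN_mem ιR N x.2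
    have hψT : ∀ x : A, liftConj ιR hinjR hAT g₁ hg x ∈ normalizerIn S R :=
      liftConj_mem ιR hinjR hAT g₁ hg
    have hψ : liftConj ιR hinjR hAT g₁ hg ∈ NR.Hom A :=
      (hRLR.2 A hAT _ hψT).mpr ⟨g₁, fun x => ι_liftConj ιR hinjR hAT g₁ hg x _⟩
    set ψ := liftConj ιR hinjR hAT g₁ hg with hψdef
    obtain ⟨ψ₁, hψ₁, hψ₁e, hψ₁R⟩ := hRn.2 A ψ hψ
    obtain ⟨hψ₁R1, -⟩ := (map_subgroupOf_eq_iff ψ₁).mp hψ₁R
    have hψ₁F : ψ₁ ∈ F.Hom (A ⊔ R) := by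
      have h1 := hψ₁
      rw [hNR] at h1
      exact h1.1
    have hART : A ⊔ R ≤ normalizerIn S R := hom_le NR hψ₁
    have hψ₁T : ∀ x : ↥(A ⊔ R), ψ₁ x ∈ normalizerIn S R := hom_mem_S NR hψ₁
    obtain ⟨φ', hφ', hP, hφS, hP', hind⟩ := hmor.2 (A ⊔ R) ψ₁ hψ₁F
    -- every element of the image comes from `A ⊔ R`
    have hrep : ∀ y : imageAlong θ (A ⊔ R), ∃ x : ↥(A ⊔ R), y = ⟨θ ⟨x, hP x.2⟩, hP' x⟩ := by
      intro y
      obtain ⟨s, hs, hsy⟩ := mem_im.mp y.2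
      exact ⟨⟨s, hs⟩, Subtype.ext hsy.symm⟩
    have hB'N : imageAlong θ (A ⊔ R) ≤ normalizerIn S' R' := by
      intro y hy
      obtain ⟨s, hs, rfl⟩ := mem_im.mp hy
      exact hj₀mem ⟨s, hART hs⟩
    have hR'B' : R' ≤ imageAlong θ (A ⊔ R) := by
      intro y hy
      obtain ⟨s, hs⟩ := hR'r hy
      have hsR : (s : Ω) ∈ R := mem_pre.mpr ⟨s.2, by rw [Subtype.coe_eta, hs]; exact hy⟩
      exact mem_im.mpr ⟨s, (le_sup_right : R ≤ A ⊔ R) hsR, hs⟩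
    have hφ'N : ∀ y : imageAlong θ (A ⊔ R), φ' y ∈ normalizerIn S' R' := by
      intro y
      obtain ⟨x, rfl⟩ := hrep y
      rw [hind]
      exact hj₀mem ⟨ψ₁ x, hψ₁T x⟩
    have hφ'R' : ∀ y : imageAlong θ (A ⊔ R), (y : Ω') ∈ R' → φ' y ∈ R' := by
      intro y hy
      obtain ⟨x, rfl⟩ := hrep y
      rw [hind]
      have hxR : (x : Ω) ∈ R := mem_pre.mpr ⟨hP x.2, hy⟩
      have h1 : ψ₁ x ∈ R := hψ₁R1 x hxR
      obtain ⟨_, h2⟩ := mem_pre.mp h1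
      exact h2
    have hφ'M' : φ' ∈ M'.Hom (imageAlong θ (A ⊔ R)) := by
      rw [hM']
      exact mem_normalizerHom_of_le E hR'B' hB'N hφ' hφ'N hφ'R'
    obtain ⟨g₂, hg₂⟩ := (hRL'.2 _ hB'N φ' hφ'N).mp hφ'M'
    refine ⟨g₂, fun a b hab => ?_⟩
    have h1 : g₁ * ιR b * g₁⁻¹ = ιR a := by
      rw [← hab]
      group
    have hbA : (b : Ω) ∈ A := by
      refine mem_preN.mpr ⟨b.2, ?_⟩
      show g₁ * ιR ⟨(b : Ω), b.2⟩ * g₁⁻¹ ∈ ιR.range
      rw [Subtype.coe_eta, h1]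
      exact ⟨a, rfl⟩
    have h2 := ι_liftConj ιR hinjR hAT g₁ hg ⟨b, hbA⟩ (hψT _)
    have h3 : (⟨((⟨(b : Ω), hbA⟩ : A) : Ω), hAT hbA⟩ : normalizerIn S R) = b := Subtype.ext rfl
    rw [h3, h1] at h2
    have h4 : ψ ⟨b, hbA⟩ = (a : Ω) := congrArg (fun z : normalizerIn S R => (z : Ω)) (hinjR h2)
    let x : ↥(A ⊔ R) := ⟨b, (le_sup_left : A ≤ A ⊔ R) hbA⟩
    have h5 : ψ₁ x = (a : Ω) := by
      rw [← h4]
      exact hψ₁e ⟨b, hbA⟩
    have h6 := hg₂ ⟨θ ⟨x, hP x.2⟩, hP' x⟩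
    have e1 : (⟨φ' ⟨θ ⟨x, hP x.2⟩, hP' x⟩, hφ'N _⟩ : normalizerIn S' R') = j₀ a := by
      apply Subtype.ext
      show φ' ⟨θ ⟨x, hP x.2⟩, hP' x⟩ = _
      rw [hind, hj₀]
      congr 1
      exact Subtype.ext h5
    have e2 : (⟨((⟨θ ⟨x, hP x.2⟩, hP' x⟩ : imageAlong θ (A ⊔ R)) : Ω'),
        hB'N (⟨θ ⟨x, hP x.2⟩, hP' x⟩ : imageAlong θ (A ⊔ R)).2⟩ : normalizerIn S' R') = j₀ b := by
      apply Subtype.ext
      rfl
    rw [e1, e2] at h6
    show ι' (j₀ a) * g₂ = g₂ * ι' (j₀ b)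
    rw [h6]
    group
  obtain ⟨Φ, hΦ⟩ := exists_hom_of_match hTp ιR j hidx N₁ N₂ hN₁ hN₂ hN hc₂ hM
  refine ⟨Φ, surjective_of_hom ιR j N₂ hN₂ hc₂ Φ hΦ ?_⟩
  -- the reverse matching on `R`
  intro g₂
  have hg : ∀ y : R', g₂ * ι' ⟨y, hR'T' y.2⟩ * g₂⁻¹ ∈ ι'.range := by
    intro y
    have h1 : ι' ⟨y, hR'T' y.2⟩ ∈ N₂ := (hmemN₂ _).mpr y.2
    obtain ⟨z, -, hz⟩ := hN₂n.conj_mem _ h1 g₂
    exact ⟨z, hz⟩
  have hα'T : ∀ y : R', liftConj ι' hinj' hR'T' g₂ hg y ∈ normalizerIn S' R' :=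
    liftConj_mem ι' hinj' hR'T' g₂ hg
  have hα'M : liftConj ι' hinj' hR'T' g₂ hg ∈ M'.Hom R' :=
    (hRL'.2 R' hR'T' _ hα'T).mpr ⟨g₂, fun y => ι_liftConj ι' hinj' hR'T' g₂ hg y _⟩
  set α' := liftConj ι' hinj' hR'T' g₂ hg with hα'def
  have hα'ι : ∀ y : R', ι' ⟨α' y, hα'T y⟩ = g₂ * ι' ⟨y, hR'T' y.2⟩ * g₂⁻¹ := fun y =>
    ι_liftConj ι' hinj' hR'T' g₂ hg y _
  have hα'R' : ∀ y : R', α' y ∈ R' := by
    intro y
    have h1 : ι' ⟨y, hR'T' y.2⟩ ∈ N₂ := (hmemN₂ _).mpr y.2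
    have h2 := hN₂n.conj_mem _ h1 g₂
    rw [← hα'ι] at h2
    exact (hmemN₂ _).mp h2
  have hα'E : α' ∈ E.Hom R' := by
    have h1 := hα'M
    rw [hM'] at h1
    exact h1.1
  obtain ⟨-, α, hα, hP, hαS, hP', hind⟩ := (hEhom R' α').mp hα'E
  have hαR : ∀ x : R, α x ∈ R := by
    intro x
    refine mem_pre.mpr ⟨hαS x, ?_⟩
    rw [← hind x]
    exact hα'R' _
  have hαN : α ∈ NR.Hom R := by
    rw [hNR]
    exact mem_normalizerHom_of_le F le_rfl hRT hα (fun x => hRT (hαR x)) (fun x _ => hαR x)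
  obtain ⟨g₁, hg₁⟩ := (hRLR.2 R hRT α (fun x => hRT (hαR x))).mp hαN
  refine ⟨g₁, fun s hs => ?_⟩
  have hsR : (s : Ω) ∈ R := (hmemN₁ s).mp ((hN s).mpr hs)
  refine ⟨⟨α ⟨s, hsR⟩, hRT (hαR _)⟩, ?_, ?_⟩
  · have h1 := hg₁ ⟨s, hsR⟩
    have e : (⟨((⟨(s : Ω), hsR⟩ : R) : Ω), hRT hsR⟩ : normalizerIn S R) = s := Subtype.ext rfl
    rw [e] at h1
    exact h1.symm
  · show g₂ * ι' (j₀ s) * g₂⁻¹ = ι' (j₀ ⟨α ⟨s, hsR⟩, hRT (hαR _)⟩)
    have hy : ((j₀ s : normalizerIn S' R') : Ω') ∈ R' := (hmemR s).mp hsR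
    have h1 := hα'ι ⟨(j₀ s : normalizerIn S' R'), hy⟩
    have e1 : (⟨((⟨((j₀ s : normalizerIn S' R') : Ω'), hy⟩ : R') : Ω'), hR'T' hy⟩ :
        normalizerIn S' R') = j₀ s := Subtype.ext rfl
    rw [e1] at h1
    rw [← h1]
    congr 1
    apply Subtype.ext
    show α' ⟨((j₀ s : normalizerIn S' R') : Ω'), hy⟩ = θ ⟨α ⟨s, hsR⟩, _⟩
    have h2 := hind ⟨s, hsR⟩
    rw [← h2]
    congr 1

end Cfsg.Agent.Lib.Helper88
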