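import Cfsg.Agent.Lib.Helper88.ThompsonConstrained
import Cfsg.Agent.Lib.Helper88.SectionFreeNormalizer
import Cfsg.Agent.Lib.Helper88.SectionFreeFactor
import Cfsg.Agent.Lib.Helper84.CentralizerSystem

set_option autoImplicit false

/-!
# Thompson's normal `p`-complement theorem for saturated fusion systems
-/

namespace Cfsg.Agent.Lib.Helper88

open Cfsg Cfsg.FusionSystem
open Cfsg.Agent.Lib.Helper51 (zIn mem_zIn zIn_le thompsonAOf_le
  normalizer_le_normalizer_thompsonAOf normalizer_le_normalizer_zIn)
open Cfsg.Agent.Lib.Helper87 (hom_le hom_mem_S subtype_mem inv_exists mem_autGroup_iff finite_of_le)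

universe u

/-- the class is closed under normalizer systems of fully normalized subgroups -/
theorem thCls_normalizer (p : ℕ) [Fact p.Prime] (Ω : Type u) [Group Ω] (S : Subgroup Ω)
    (F : FusionSystem S) (hfin : Finite S) (hS : IsPGroup p S) (hF : F.IsSaturated p)
    (hcls : ThCls p Ω S F) (U : Subgroup Ω) (hfn : F.IsFullyNormalized U)
    (N : FusionSystem (normalizerIn S U)) (hN : F.IsNormalizerSystem U N) :
    ThCls p Ω (normalizerIn S U) N := by
  rcases hcls with h | h
  · exact Or.inl h
  · exact Or.inr (isSectionFree_normalizerSystem hS F hF _ h hfn N hN)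

/-- the class is closed under factor systems -/
theorem thCls_factor (p : ℕ) [Fact p.Prime] (Ω : Type u) [Group Ω] (S : Subgroup Ω)
    (F : FusionSystem S) (hfin : Finite S) (hS : IsPGroup p S) (hF : F.IsSaturated p)
    (hcls : ThCls p Ω S F) (Q : Subgroup Ω) (hQ : F.IsNormal Q)
    (Ω' : Type u) [Group Ω'] (S' : Subgroup Ω') (θ : S →* Ω') (E : FusionSystem S')
    (hE : F.IsFactorSystem Q θ E) : ThCls p Ω' S' E := by
  rcases hcls with h | h
  · exact Or.inl h
  · exact Or.inr (isSectionFree_factor hS F hF _ h hQ θ E hE)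

variable {Ω : Type u} [Group Ω] {S : Subgroup Ω}

/-- a saturated system in the class with a nontrivial automorphism of order prime to `p` contains a
constrained subsystem over `S`, in the class, with such an automorphism -/
theorem conclC_of_not_pFree_th [Finite S] {p : ℕ} [Fact p.Prime] (hS : IsPGroup p S)
    (F : FusionSystem S) (hF : F.IsSaturated p) (hcls : ThCls p Ω S F) (hnot : ¬ PFree F p) :
    ConclC (ThCls p) F p :=
  reduction_main_cls p (ThCls p) (thCls_normalizer p) (thCls_factor p) ThBad (thBad_loc p)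
    (thBad_grp p) _ _ Ω S F ⊥ inferInstance hS rfl hF hcls hnot (isNormal_bot F) rfl

/-- **Thompson's theorem for fusion systems.** -/
theorem pFree_of_hyp_th [Finite S] {p : ℕ} [Fact p.Prime] (hS : IsPGroup p S)
    (F : FusionSystem S) (hF : F.IsSaturated p) (hcls : ThCls p Ω S F) (hyp : Hyp ThBad F p) :
    PFree F p :=
  pFree_of_hyp_cls p (ThCls p) (thCls_normalizer p) (thCls_factor p) ThBad (thBad_loc p)
    (thBad_grp p) F inferInstance hS hF hcls hyp

/-- automorphisms centralizing `U` are automorphisms in the centralizer system -/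
theorem mem_autGroup_centralizerSystem [Finite S] (F : FusionSystem S) {U : Subgroup Ω}
    {E : FusionSystem (centralizerIn S U)} (hE : F.IsCentralizerSystem U E) {P : Subgroup Ω}
    (hUP : U ≤ P) (hPC : P ≤ centralizerIn S U) {α : MulAut P} (hα : α ∈ F.autGroup P)
    (hαU : ∀ x : P, (x : Ω) ∈ U → α x = x) : α ∈ E.autGroup P := by
  have hPS : P ≤ S := hPC.trans inf_le_left
  have : Finite P := finite_of_le hPS
  rw [mem_autGroup_iff E hPC, hE P]
  have hφ := (mem_autGroup_iff F hPS α).mp hα
  have hle : P ⊔ U ≤ P := sup_le le_rfl hUP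
  refine ⟨hφ, hPC, fun x => hPC (α x).2, (P.subtype.comp α.toMonoidHom).comp (Subgroup.inclusion hle),
    Cfsg.Agent.Lib.Helper87.restrict_mem F hφ hle, fun x => ?_, fun x => ?_⟩
  · show ((α _ : P) : Ω) = ((α x : P) : Ω)
    congr 2
  · show ((α ⟨(x : Ω), _⟩ : P) : Ω) = (x : Ω)
    rw [hαU ⟨(x : Ω), hUP x.2⟩ x.2]

/-- the hypotheses on the centralizer system of `Z(S)` and the normalizer system of `J(S)` -/
theorem hyp_th_of_inner [Finite S] {p : ℕ} [Fact p.Prime] (hS : IsPGroup p S)
    (F : FusionSystem S)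
    (hC : ∀ C : FusionSystem (centralizerIn S (S ⊓ Subgroup.centralizer (S : Set Ω))),
      F.IsCentralizerSystem (S ⊓ Subgroup.centralizer (S : Set Ω)) C → ∀ P : Subgroup Ω,
        C.Hom P = (innerFusionSystem (centralizerIn S (S ⊓ Subgroup.centralizer (S : Set Ω)))).Hom P)
    (hN : ∀ N : FusionSystem (normalizerIn S (thompsonSubgroupAOf S)),
      F.IsNormalizerSystem (thompsonSubgroupAOf S) N → ∀ P : Subgroup Ω,
        N.Hom P = (innerFusionSystem (normalizerIn S (thompsonSubgroupAOf S))).Hom P) :
    Hyp ThBad F p := by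
  intro P hP α hα hcop hbad
  rcases hbad with ⟨h1, h2⟩ | ⟨h1, h2⟩
  · have hJS : thompsonSubgroupAOf S ≤ S := thompsonAOf_le S
    let N := Cfsg.Agent.Lib.Helper84.normalizerSystem F (thompsonSubgroupAOf S) hJS
    have hN' : F.IsNormalizerSystem (thompsonSubgroupAOf S) N :=
      Cfsg.Agent.Lib.Helper84.normalizerSystem_spec F _ hJS
    have hfinN : Finite (normalizerIn S (thompsonSubgroupAOf S)) := finite_of_le inf_le_left
    have hNp : IsPGroup p (normalizerIn S (thompsonSubgroupAOf S)) := hS.to_le inf_le_left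
    have hNfree : PFree N p := pFree_of_eq_inner hNp N (hN N hN')
    have hPN : P ≤ normalizerIn S (thompsonSubgroupAOf S) :=
      fun x hx => ⟨hP hx, (Subgroup.le_normalizer.trans (normalizer_le_normalizer_thompsonAOf S))
        (hP hx)⟩
    exact hNfree P hPN α (mem_autGroup_normalizerSystem F hN' h1 hPN hα h2) hcop
  · have hZS : zIn S ≤ S := zIn_le S
    let C := Cfsg.Agent.Lib.Helper84.centralizerSystem F (zIn S) hZS
    have hC' : F.IsCentralizerSystem (zIn S) C :=
      Cfsg.Agent.Lib.Helper84.centralizerSystem_spec F _ hZS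
    have hfinC : Finite (centralizerIn S (zIn S)) := finite_of_le inf_le_left
    have hCp : IsPGroup p (centralizerIn S (zIn S)) := hS.to_le inf_le_left
    have hCfree : PFree C p := pFree_of_eq_inner hCp C (hC C hC')
    have hPC : P ≤ centralizerIn S (zIn S) := by
      intro x hx
      refine ⟨hP hx, ?_⟩
      show x ∈ Subgroup.centralizer ((zIn S : Subgroup Ω) : Set Ω)
      rw [Subgroup.mem_centralizer_iff]
      intro z hz
      exact ((mem_zIn.mp hz).2 x (hP hx)).symm
    exact hCfree P hPC α (mem_autGroup_centralizerSystem F hC' h1 hPC hα h2) hcop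

/-- **Thompson's normal `p`-complement theorem for fusion systems.** -/
theorem eq_inner_of_thompson [Finite S] {p : ℕ} [Fact p.Prime] (hS : IsPGroup p S)
    (F : FusionSystem S) (hF : F.IsSaturated p)
    (hp : p ≠ 2 ∨ F.IsSectionFree p (Equiv.Perm (Fin 4)))
    (hC : ∀ C : FusionSystem (centralizerIn S (S ⊓ Subgroup.centralizer (S : Set Ω))),
      F.IsCentralizerSystem (S ⊓ Subgroup.centralizer (S : Set Ω)) C → ∀ P : Subgroup Ω,
        C.Hom P = (innerFusionSystem (centralizerIn S (S ⊓ Subgroup.centralizer (S : Set Ω)))).Hom P)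
    (hN : ∀ N : FusionSystem (normalizerIn S (thompsonSubgroupAOf S)),
      F.IsNormalizerSystem (thompsonSubgroupAOf S) N → ∀ P : Subgroup Ω,
        N.Hom P = (innerFusionSystem (normalizerIn S (thompsonSubgroupAOf S))).Hom P) :
    ∀ P : Subgroup Ω, F.Hom P = (innerFusionSystem S).Hom P :=
  eq_inner_of_pFree hS F hF (pFree_of_hyp_th hS F hF hp (hyp_th_of_inner hS F hC hN))

end Cfsg.Agent.Lib.Helper88
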