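import Cfsg.Agent.Lib.Helper88.CharLift
import Cfsg.Agent.Lib.Helper88.ThompsonMain

set_option autoImplicit false

/-!
# The strengthened Frobenius criterion for saturated fusion systems
-/

namespace Cfsg.Agent.Lib.Helper88

open Cfsg Cfsg.FusionSystem
open Cfsg.Agent.Lib.Helper51 (zIn mem_zIn zIn_le thompsonAOf_le
  normalizer_le_normalizer_thompsonAOf normalizer_le_normalizer_zIn)
open Cfsg.Agent.Lib.Helper87 (hom_le hom_mem_S subtype_mem inv_exists mem_autGroup_iff finite_of_le)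

universe u

section basic

variable {Ω : Type*} [Group Ω]

/-- the normalizer of `S` normalizes the characteristic subgroups of `S` -/
theorem normalizer_le_of_characteristic {S P : Subgroup Ω} (hP : P ≤ S)
    (hchar : (P.subgroupOf S).Characteristic) :
    Subgroup.normalizer (S : Set Ω) ≤ Subgroup.normalizer (P : Set Ω) := by
  have key : ∀ g ∈ Subgroup.normalizer (S : Set Ω), ∀ x ∈ P, g * x * g⁻¹ ∈ P := by
    intro g hg x hx
    have h1 : (P.subgroupOf S).map (Subgroup.normalizerMonoidHom S ⟨g, hg⟩).toMonoidHom =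
        P.subgroupOf S := Subgroup.characteristic_iff_map_eq.mp hchar _
    have h2 : (Subgroup.normalizerMonoidHom S ⟨g, hg⟩) ⟨x, hP hx⟩ ∈ P.subgroupOf S := by
      rw [← h1]
      exact Subgroup.mem_map_of_mem _ (Subgroup.mem_subgroupOf.mpr hx)
    exact Subgroup.mem_subgroupOf.mp h2
  intro g hg
  rw [Subgroup.mem_normalizer_iff]
  intro x
  constructor
  · exact key g hg x
  · intro hx
    have h1 := key g⁻¹ (Subgroup.inv_mem _ hg) _ hx
    have e : g⁻¹ * (g * x * g⁻¹) * g⁻¹⁻¹ = x := by group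
    rwa [e] at h1

/-- `J(S)` is characteristic in `S` -/
theorem thompsonSubgroupAOf_char (S : Subgroup Ω) :
    ((thompsonSubgroupAOf S).subgroupOf S).Characteristic := by
  have h1 : (thompsonSubgroupAOf S).subgroupOf S = thompsonSubgroupA S := by
    unfold thompsonSubgroupAOf Subgroup.subgroupOf
    exact Subgroup.comap_map_eq_self_of_injective (Subgroup.subtype_injective S) _
  rw [h1, Subgroup.characteristic_iff_map_eq]
  intro φ
  exact Cfsg.Agent.Lib.Helper51.thompsonA_map_equiv φ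

/-- `Z(S)` is characteristic in `S` -/
theorem zIn_char (S : Subgroup Ω) : ((zIn S).subgroupOf S).Characteristic := by
  have h1 : (zIn S).subgroupOf S = Subgroup.center S := by
    ext x
    rw [Subgroup.mem_subgroupOf, mem_zIn, Subgroup.mem_center_iff]
    constructor
    · rintro ⟨-, h⟩ y
      exact Subtype.ext (h y y.2)
    · intro h
      exact ⟨x.2, fun y hy => congrArg (fun z : S => (z : Ω)) (h ⟨y, hy⟩)⟩
  rw [h1]
  infer_instance

end basic

theorem charBad_loc (p : ℕ) [Fact p.Prime] (Ω : Type u) [Group Ω] (S P : Subgroup Ω) (α : MulAut P)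
    (_ : Finite S) (_ : IsPGroup p S) (hP : P ≤ S) (_ : α ≠ 1) (hbad : CharBad Ω S P α) :
    ∃ W : Subgroup Ω, W ≠ ⊥ ∧ W ≤ P ∧ (∀ x : P, (x : Ω) ∈ W → ((α x : P) : Ω) ∈ W) ∧
      Subgroup.normalizer (S : Set Ω) ≤ Subgroup.normalizer (W : Set Ω) :=
  ⟨P, hbad.1, le_rfl, fun x _ => (α x).2, normalizer_le_of_characteristic hP hbad.2⟩

/-- the systems of the class over groups of order at most `n` -/
def CardCls (p n : ℕ) (Ω : Type u) [Group Ω] (S : Subgroup Ω) (F : FusionSystem S) : Prop :=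
  ThCls p Ω S F ∧ Nat.card S ≤ n

theorem cardCls_normalizer (p n : ℕ) [Fact p.Prime] (Ω : Type u) [Group Ω] (S : Subgroup Ω)
    (F : FusionSystem S) (hfin : Finite S) (hS : IsPGroup p S) (hF : F.IsSaturated p)
    (hcls : CardCls p n Ω S F) (U : Subgroup Ω) (hfn : F.IsFullyNormalized U)
    (N : FusionSystem (normalizerIn S U)) (hN : F.IsNormalizerSystem U N) :
    CardCls p n Ω (normalizerIn S U) N :=
  ⟨thCls_normalizer p Ω S F hfin hS hF hcls.1 U hfn N hN,
    (Subgroup.card_le_of_le inf_le_left).trans hcls.2⟩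

theorem cardCls_factor (p n : ℕ) [Fact p.Prime] (Ω : Type u) [Group Ω] (S : Subgroup Ω)
    (F : FusionSystem S) (hfin : Finite S) (hS : IsPGroup p S) (hF : F.IsSaturated p)
    (hcls : CardCls p n Ω S F) (Q : Subgroup Ω) (hQ : F.IsNormal Q)
    (Ω' : Type u) [Group Ω'] (S' : Subgroup Ω') (θ : S →* Ω') (E : FusionSystem S')
    (hE : F.IsFactorSystem Q θ E) : CardCls p n Ω' S' E := by
  refine ⟨thCls_factor p Ω S F hfin hS hF hcls.1 Q hQ Ω' S' θ E hE, ?_⟩
  obtain ⟨-, -, hrange, -⟩ := hE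
  rw [← hrange]
  exact (Nat.card_le_card_of_surjective θ.rangeRestrict θ.rangeRestrict_surjective).trans hcls.2

variable {Ω : Type u} [Group Ω] {S : Subgroup Ω}

/-- the normalizer system of a nontrivial characteristic subgroup, by induction -/
theorem nFree_of_char [Finite S] {p : ℕ} [Fact p.Prime] (hS : IsPGroup p S)
    (F : FusionSystem S) (hF : F.IsSaturated p) (hcls : ThCls p Ω S F) (hyp : Hyp CharBad F p)
    (ih : ∀ (Ω' : Type u) [Group Ω'] (S' : Subgroup Ω') (F' : FusionSystem S'), Finite S' →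
      IsPGroup p S' → Nat.card S' < Nat.card S → F'.IsSaturated p → ThCls p Ω' S' F' →
      Hyp CharBad F' p → PFree F' p)
    {C₀ : Subgroup Ω} (hC₀S : C₀ ≤ S) (hC₀1 : C₀ ≠ ⊥) (hC₀ : (C₀.subgroupOf S).Characteristic) :
    NFree F p C₀ := by
  have hSN : S ≤ Subgroup.normalizer (C₀ : Set Ω) :=
    Subgroup.le_normalizer.trans (normalizer_le_of_characteristic hC₀S hC₀)
  have hS₁ : normalizerIn S C₀ = S := normalizerIn_eq_of_le_normalizer hSN
  have hfin₁ : Finite (normalizerIn S C₀) := finite_of_le inf_le_left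
  have hp₁ : IsPGroup p (normalizerIn S C₀) := hS.to_le inf_le_left
  let N := Cfsg.Agent.Lib.Helper84.normalizerSystem F C₀ hC₀S
  have hN : F.IsNormalizerSystem C₀ N := Cfsg.Agent.Lib.Helper84.normalizerSystem_spec F C₀ hC₀S
  have hfn : F.IsFullyNormalized C₀ :=
    Cfsg.Agent.Lib.Helper87.fullyNormalized_of_le_normalizer F hC₀S hSN
  have hNsat : N.IsSaturated p :=
    Cfsg.Agent.Lib.Helper84.KN.normalizerSystem_isSaturated hS F hF hfn hN
  have hNcls : ThCls p Ω (normalizerIn S C₀) N :=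
    thCls_normalizer p Ω S F inferInstance hS hF hcls C₀ hfn N hN
  have hC₀n : N.IsNormal C₀ := Cfsg.Agent.Lib.Helper87.normalizerSystem_isNormal F hC₀S hN
  have hC₀S₁ : C₀ ≤ normalizerIn S C₀ := hC₀n.1
  have hsc : N.StronglyClosed C₀ := Cfsg.Agent.Lib.Helper87.stronglyClosed_of_isNormal N hC₀n
  have hC₀' : (C₀.subgroupOf (normalizerIn S C₀)).Characteristic :=
    char_subgroupOf_congr hS₁.symm hC₀
  have : (C₀.subgroupOf (normalizerIn S C₀)).Normal := inferInstance
  obtain ⟨E', hE'⟩ := Cfsg.Agent.S5132.result p hp₁ N C₀ hsc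
  have hsur := Cfsg.Agent.S5134.result p hp₁ N hNsat C₀ hsc _ E' hE'
  have hE'sat := Cfsg.Agent.S5133.result p hp₁ N hNsat E' _ hsur
  have hE'cls : ThCls p (normalizerIn S C₀ ⧸ C₀.subgroupOf (normalizerIn S C₀)) ⊤ E' :=
    thCls_factor p Ω (normalizerIn S C₀) N hfin₁ hp₁ hNsat hNcls C₀ hC₀n _ _ _ E' hE'
  have hNhyp : Hyp CharBad N p := fun P hP α hα hcop hbad =>
    hyp P (hP.trans inf_le_left) α (autGroup_normalizerSystem_le F hN P hα) hcop
      ⟨hbad.1, char_subgroupOf_congr hS₁ hbad.2⟩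
  have hE'hyp : Hyp CharBad E' p := hyp_charBad_factor hp₁ N E' _ hsur hE'.2.1 hC₀' hNhyp
  -- the factor group is smaller
  have hfin' : Finite (⊤ : Subgroup (normalizerIn S C₀ ⧸ C₀.subgroupOf (normalizerIn S C₀))) :=
    inferInstance
  have hp' : IsPGroup p (⊤ : Subgroup (normalizerIn S C₀ ⧸ C₀.subgroupOf (normalizerIn S C₀))) :=
    (hp₁.to_quotient (C₀.subgroupOf (normalizerIn S C₀))).to_subgroup ⊤
  have hcard' : Nat.card (⊤ : Subgroup (normalizerIn S C₀ ⧸ C₀.subgroupOf (normalizerIn S C₀))) <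
      Nat.card S := by
    have hc : Nat.card (normalizerIn S C₀) = Nat.card S := by rw [hS₁]
    rw [Subgroup.card_top, ← hc]
    have h1 := Subgroup.card_eq_card_quotient_mul_card_subgroup (C₀.subgroupOf (normalizerIn S C₀))
    have h2 : 1 < Nat.card (C₀.subgroupOf (normalizerIn S C₀)) := by
      rw [Subgroup.one_lt_card_iff_ne_bot]
      intro h0
      apply hC₀1
      rw [eq_bot_iff]
      intro x hx
      have : (⟨x, hC₀S₁ hx⟩ : normalizerIn S C₀) ∈ C₀.subgroupOf (normalizerIn S C₀) :=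
        Subgroup.mem_subgroupOf.mpr hx
      rw [h0, Subgroup.mem_bot] at this
      rw [Subgroup.mem_bot]
      exact congrArg Subtype.val this
    have h3 : 0 < Nat.card (normalizerIn S C₀ ⧸ C₀.subgroupOf (normalizerIn S C₀)) := Nat.card_pos
    nlinarith
  have hE'free : PFree E' p := ih _ _ E' hfin' hp' hcard' hE'sat hE'cls hE'hyp
  have hQfree : ∀ β ∈ N.autGroup C₀, (orderOf β).Coprime p → β = 1 := fun β hβ hcop =>
    hNhyp C₀ hC₀S₁ β hβ hcop ⟨hC₀1, hC₀'⟩
  have hNfree : PFree N p :=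
    pFree_of_pFree_factor hp₁ N E' _ hsur hC₀n (fun s hs => (hE'.2.1 s).mp hs) hQfree hE'free
  intro P hC₀P hPN α hα hαC hcop
  exact hNfree P hPN α (mem_autGroup_normalizerSystem F hN hC₀P hPN hα hαC) hcop

/-- **The strengthened Frobenius criterion**, by induction on the order of `S`. -/
theorem char_main (p : ℕ) [Fact p.Prime] : ∀ (n : ℕ) (Ω : Type u) [Group Ω] (S : Subgroup Ω)
    (F : FusionSystem S), Finite S → IsPGroup p S → Nat.card S = n → F.IsSaturated p →
    ThCls p Ω S F → Hyp CharBad F p → PFree F p := by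
  intro n
  induction n using Nat.strong_induction_on with
  | _ n ih =>
    intro Ω _ S F hfin hS hn hF hcls hyp
    apply pFree_of_hyp_cls p (CardCls p n) (cardCls_normalizer p n) (cardCls_factor p n) CharBad
      (charBad_loc p) ?_ F hfin hS hF ⟨hcls, hn.le⟩ hyp
    intro Ω₁ _ S₁ F₁ hfin₁ hS₁ hcon₁ hcls₁ hyp₁
    obtain ⟨hcls₁, hcard₁⟩ := hcls₁
    rcases hcard₁.lt_or_eq with hlt | heq
    · exact ih _ hlt Ω₁ S₁ F₁ hfin₁ hS₁ rfl hcon₁.1 hcls₁ hyp₁
    · by_cases hS1 : S₁ = ⊥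
      · intro P hP α hα hcop
        have hbot : ∀ y : P, (y : Ω₁) = 1 := by
          intro y
          have h1 : (y : Ω₁) ∈ (⊥ : Subgroup Ω₁) := hS1 ▸ hP y.2
          exact Subgroup.mem_bot.mp h1
        ext x
        rw [MulAut.one_apply, hbot x, hbot (α x)]
      · apply thBad_grp p Ω₁ S₁ F₁ hfin₁ hS₁ hcon₁ hcls₁
        have ih' : ∀ (Ω' : Type u) [Group Ω'] (S' : Subgroup Ω') (F' : FusionSystem S'), Finite S' →
            IsPGroup p S' → Nat.card S' < Nat.card S₁ → F'.IsSaturated p → ThCls p Ω' S' F' →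
            Hyp CharBad F' p → PFree F' p := by
          intro Ω' _ S' F' hfin' hS' hlt hF' hcls' hyp'
          exact ih _ (heq ▸ hlt) Ω' S' F' hfin' hS' rfl hF' hcls' hyp'
        have hJ := nFree_of_char hS₁ F₁ hcon₁.1 hcls₁ hyp₁ ih' (thompsonAOf_le S₁)
          (thompsonSubgroupAOf_ne_bot' hS1) (thompsonSubgroupAOf_char S₁)
        have hZ := nFree_of_char hS₁ F₁ hcon₁.1 hcls₁ hyp₁ ih' (zIn_le S₁)
          (zIn_ne_bot' hS₁ hS1) (zIn_char S₁)
        intro P hP α hα hcop hbad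
        rcases hbad with ⟨h1, h2⟩ | ⟨h1, h2⟩
        · refine hJ P h1 (fun x hx => ⟨hP hx, ?_⟩) α hα h2 hcop
          exact (Subgroup.le_normalizer.trans (normalizer_le_normalizer_thompsonAOf S₁)) (hP hx)
        · refine hZ P h1 (fun x hx => ⟨hP hx, ?_⟩) α hα (fun x hx => ?_) hcop
          · exact (Subgroup.le_normalizer.trans (normalizer_le_normalizer_zIn S₁)) (hP hx)
          · rw [h2 x hx]
            exact hx

/-- **The strengthened Frobenius criterion for fusion systems.** -/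
theorem eq_inner_of_char [Finite S] {p : ℕ} [Fact p.Prime] (hS : IsPGroup p S)
    (F : FusionSystem S) (hF : F.IsSaturated p)
    (hp : p ≠ 2 ∨ F.IsSectionFree p (Equiv.Perm (Fin 4)))
    (h : ∀ Q : Subgroup Ω, Q ≤ S → Q ≠ ⊥ → (Q.subgroupOf S).Characteristic →
      IsPGroup p (F.autGroup Q)) :
    ∀ P : Subgroup Ω, F.Hom P = (innerFusionSystem S).Hom P := by
  apply eq_inner_of_pFree hS F hF
  apply char_main p _ Ω S F inferInstance hS rfl hF hp
  intro P hP α hα hcop hbad
  obtain ⟨k, hk⟩ := h P hP hbad.1 hbad.2 ⟨α, hα⟩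
  have hk' : α ^ p ^ k = 1 := congrArg Subtype.val hk
  exact eq_one_of_pow_of_coprime hk' hcop

end Cfsg.Agent.Lib.Helper88
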