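import Cfsg.Agent.Lib.Helper88.PPrimeResMin
import Cfsg.Agent.Lib.Helper88.NormalTransport

/-!
# Definitions for Craven's theorem: the `p'`-residual of a weakly normal subsystem is normal
-/

set_option autoImplicit false

namespace Cfsg.Agent.Lib.Helper88.Crav

open Cfsg Cfsg.FusionSystem Cfsg.Agent.Lib.Helper88

variable {Ω : Type*} [Group Ω] {S T : Subgroup Ω}

/-- the maps of `E` with source `P` that extend, in `F`, to a map on `P C_S(T)` acting trivially
modulo `T` -/
def niceHom (F : FusionSystem S) (E : FusionSystem T) (P : Subgroup Ω) : Set (P →* Ω) :=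
  {φ | φ ∈ E.Hom P ∧ ∃ ψ ∈ F.Hom (P ⊔ centralizerIn S T),
    (∀ x : P, ψ (Subgroup.inclusion le_sup_left x) = φ x) ∧
    ∀ z : ↥(P ⊔ centralizerIn S T), (z : Ω)⁻¹ * ψ z ∈ T}

/-- the standing hypotheses: `E` is weakly normal in `F` -/
structure WN (p : ℕ) (F : FusionSystem S) (E : FusionSystem T) : Prop where
  hS : IsPGroup p S
  hF : F.IsSaturated p
  hE : E.IsSaturated p
  hinvar : E.IsInvariantIn F

end Cfsg.Agent.Lib.Helper88.Crav
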