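import Cfsg.Agent.Lib.Helper88.CravDefs
import Cfsg.Agent.Lib.Helper88.Centric
import Cfsg.Agent.Lib.Helper87.NRInvariant
import Cfsg.Agent.Lib.Helper87.ModExt
import Cfsg.Agent.Lib.Helper84.FusionBasic
import Cfsg.Agent.Lib.Helper85.DirectFactor2

/-!
# Craven's theorem, part 1: the system generated by the nice maps between `E`-centric subgroups
-/

set_option autoImplicit false

namespace Cfsg.Agent.Lib.Helper88.Crav

open Cfsg Cfsg.FusionSystem Cfsg.Agent.Lib.Helper88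
open Cfsg.Agent.Lib.Helper87 (restrict_mem hom_le hom_mem_S subtype_mem forall_sup_of_subgroup
  inv_exists)

variable {Ω : Type*} [Group Ω] {S T : Subgroup Ω} {F : FusionSystem S} {E : FusionSystem T}

theorem niceHom_restrict {P P' : Subgroup Ω} {φ : P →* Ω} (hφ : φ ∈ niceHom F E P)
    (hP' : P' ≤ P) : φ.comp (Subgroup.inclusion hP') ∈ niceHom F E P' := by
  obtain ⟨hφE, ψ, hψ, hψe, hψn⟩ := hφ
  have hle : P' ⊔ centralizerIn S T ≤ P ⊔ centralizerIn S T := sup_le_sup_right hP' _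
  refine ⟨restrict_mem E hφE hP', ψ.comp (Subgroup.inclusion hle), restrict_mem F hψ hle,
    fun x => ?_, fun z => ?_⟩
  · exact hψe (Subgroup.inclusion hP' x)
  · exact hψn (Subgroup.inclusion hle z)

/-- the defect `c⁻¹ ψ(c)` of a nice extension at `c ∈ C_S(T)` centralizes the image -/
theorem nice_defect_mem {P : Subgroup Ω} (hPT : P ≤ T) {φ : P →* Ω} (hφT : ∀ x : P, φ x ∈ T)
    {ψ : ↥(P ⊔ centralizerIn S T) →* Ω}
    (hψe : ∀ x : P, ψ (Subgroup.inclusion le_sup_left x) = φ x)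
    (hψn : ∀ z : ↥(P ⊔ centralizerIn S T), (z : Ω)⁻¹ * ψ z ∈ T) {c : Ω}
    (hc : c ∈ centralizerIn S T) :
    c⁻¹ * ψ ⟨c, (le_sup_right : centralizerIn S T ≤ P ⊔ centralizerIn S T) hc⟩ ∈
      centralizerIn T φ.range := by
  refine ⟨hψn ⟨c, _⟩, ?_⟩
  show c⁻¹ * ψ _ ∈ Subgroup.centralizer (φ.range : Set Ω)
  rw [Subgroup.mem_centralizer_iff]
  rintro _ ⟨x, rfl⟩
  set cc : ↥(P ⊔ centralizerIn S T) := ⟨c, (le_sup_right : centralizerIn S T ≤ _) hc⟩ with hcc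
  have h1 : c * (x : Ω) = (x : Ω) * c := (Subgroup.mem_centralizer_iff.mp hc.2 _ (hPT x.2)).symm
  have h2 : cc * Subgroup.inclusion le_sup_left x = Subgroup.inclusion le_sup_left x * cc :=
    Subtype.ext h1
  have h3 := congrArg ψ h2
  rw [map_mul, map_mul, hψe] at h3
  have h4 : φ x * c = c * φ x := Subgroup.mem_centralizer_iff.mp hc.2 _ (hφT x)
  have h5 : φ x * c⁻¹ = c⁻¹ * φ x := by
    calc φ x * c⁻¹ = c⁻¹ * (c * φ x) * c⁻¹ := by group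
      _ = c⁻¹ * (φ x * c) * c⁻¹ := by rw [h4]
      _ = c⁻¹ * φ x := by group
  calc φ x * (c⁻¹ * ψ cc) = (φ x * c⁻¹) * ψ cc := by rw [mul_assoc]
    _ = c⁻¹ * (φ x * ψ cc) := by rw [h5, mul_assoc]
    _ = c⁻¹ * (ψ cc * φ x) := by rw [h3]
    _ = c⁻¹ * ψ cc * φ x := by rw [mul_assoc]

/-- a nice extension maps `P C` into `Q C` -/
theorem nice_maps_into {P Q : Subgroup Ω} (hPT : P ≤ T) {φ : P →* Ω} (hφT : ∀ x : P, φ x ∈ T)
    {ψ : ↥(P ⊔ centralizerIn S T) →* Ω}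
    (hψe : ∀ x : P, ψ (Subgroup.inclusion le_sup_left x) = φ x)
    (hψn : ∀ z : ↥(P ⊔ centralizerIn S T), (z : Ω)⁻¹ * ψ z ∈ T) (hφQ : ∀ x : P, φ x ∈ Q)
    (hcen : centralizerIn T φ.range ≤ Q) :
    ∀ z : ↥(P ⊔ centralizerIn S T), ψ z ∈ Q ⊔ centralizerIn S T := by
  have := forall_sup_of_subgroup (P := P) (Q := centralizerIn S T)
    ((Q ⊔ centralizerIn S T).comap ψ) ?_ ?_
  · intro z; exact this z
  · intro x hx
    show ψ _ ∈ Q ⊔ centralizerIn S T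
    have := hψe ⟨x, hx⟩
    have e : (⟨x, (le_sup_left : P ≤ P ⊔ centralizerIn S T) hx⟩ : ↥(P ⊔ centralizerIn S T)) =
        Subgroup.inclusion le_sup_left (⟨x, hx⟩ : P) := rfl
    rw [e, this]
    exact (le_sup_left : Q ≤ Q ⊔ centralizerIn S T) (hφQ _)
  · intro c hc
    show ψ _ ∈ Q ⊔ centralizerIn S T
    have h1 := nice_defect_mem hPT hφT hψe hψn hc
    have e : ψ ⟨c, (le_sup_right : centralizerIn S T ≤ P ⊔ centralizerIn S T) hc⟩ =
        c * (c⁻¹ * ψ ⟨c, (le_sup_right : centralizerIn S T ≤ P ⊔ centralizerIn S T) hc⟩) := by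
      rw [mul_inv_cancel_left]
    rw [e]
    exact Subgroup.mul_mem _ ((le_sup_right : centralizerIn S T ≤ Q ⊔ centralizerIn S T) hc)
      ((le_sup_left : Q ≤ Q ⊔ centralizerIn S T) (hcen h1))

theorem niceHom_comp {P Q : Subgroup Ω} {φ : P →* Ω} {χ : Q →* Ω}
    (hφ : φ ∈ niceHom F E P) (hχ : χ ∈ niceHom F E Q) (h : ∀ x : P, φ x ∈ Q)
    (hcen : centralizerIn T φ.range ≤ Q) :
    χ.comp (φ.codRestrict Q h) ∈ niceHom F E P := by
  obtain ⟨hφE, ψ₁, hψ₁, hψ₁e, hψ₁n⟩ := hφ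
  obtain ⟨hχE, ψ₂, hψ₂, hψ₂e, hψ₂n⟩ := hχ
  have hPT : P ≤ T := hom_le E hφE
  have hφT : ∀ x : P, φ x ∈ T := fun x => hom_mem_S E hφE x
  have hmaps := nice_maps_into hPT hφT hψ₁e hψ₁n h hcen
  refine ⟨E.comp_mem hφE hχE h, _, F.comp_mem hψ₁ hψ₂ hmaps, fun x => ?_, fun z => ?_⟩
  · show ψ₂ ⟨ψ₁ (Subgroup.inclusion le_sup_left x), hmaps _⟩ = χ ⟨φ x, h x⟩
    have e : (⟨ψ₁ (Subgroup.inclusion le_sup_left x), hmaps _⟩ : ↥(Q ⊔ centralizerIn S T)) =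
        Subgroup.inclusion le_sup_left (⟨φ x, h x⟩ : Q) := Subtype.ext (hψ₁e x)
    rw [e, hψ₂e]
  · show (z : Ω)⁻¹ * ψ₂ ⟨ψ₁ z, hmaps z⟩ ∈ T
    have e : (z : Ω)⁻¹ * ψ₂ ⟨ψ₁ z, hmaps z⟩ =
        ((z : Ω)⁻¹ * ψ₁ z) * ((ψ₁ z)⁻¹ * ψ₂ ⟨ψ₁ z, hmaps z⟩) := by
      rw [mul_assoc, mul_inv_cancel_left]
    rw [e]
    exact T.mul_mem (hψ₁n z) (hψ₂n ⟨ψ₁ z, hmaps z⟩)

theorem niceHom_inv {P : Subgroup Ω} {φ : P →* Ω} (hφ : φ ∈ niceHom F E P)
    (hcen : centralizerIn T φ.range ≤ φ.range) :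
    ∃ φ' ∈ niceHom F E φ.range, ∀ x : P, φ' ⟨φ x, ⟨x, rfl⟩⟩ = x := by
  obtain ⟨hφE, ψ, hψ, hψe, hψn⟩ := hφ
  have hPT : P ≤ T := hom_le E hφE
  have hφT : ∀ x : P, φ x ∈ T := fun x => hom_mem_S E hφE x
  obtain ⟨φ', hφ', hφ'e⟩ := E.inv_mem hφE
  have hmaps := nice_maps_into hPT hφT hψe hψn (fun x => (⟨x, rfl⟩ : φ x ∈ φ.range)) hcen
  have hr : ψ.range = φ.range ⊔ centralizerIn S T := by
    apply le_antisymm
    · rintro _ ⟨z, rfl⟩
      exact hmaps z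
    · apply sup_le
      · rintro _ ⟨x, rfl⟩
        exact ⟨Subgroup.inclusion le_sup_left x, hψe x⟩
      · intro c hc
        have h1 := nice_defect_mem hPT hφT hψe hψn hc
        obtain ⟨x, hx⟩ := hcen h1
        set cc : ↥(P ⊔ centralizerIn S T) := ⟨c, (le_sup_right : centralizerIn S T ≤ _) hc⟩
        have e : c = ψ cc * (c⁻¹ * ψ cc)⁻¹ := by group
        rw [e, ← hx, ← hψe x, ← map_inv, ← map_mul]
        exact ⟨_, rfl⟩
  obtain ⟨ψ', hψ', hψ'e, -⟩ := inv_exists F hψ hr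
  refine ⟨φ', ⟨hφ', ψ', hψ', ?_, ?_⟩, hφ'e⟩
  · rintro ⟨_, x, rfl⟩
    have hm : ψ (Subgroup.inclusion le_sup_left x) ∈ φ.range ⊔ centralizerIn S T := hmaps _
    have h1 := hψ'e (Subgroup.inclusion le_sup_left x) hm
    have e : (Subgroup.inclusion (le_sup_left : φ.range ≤ φ.range ⊔ centralizerIn S T)
        (⟨φ x, ⟨x, rfl⟩⟩ : φ.range)) =
        ⟨ψ (Subgroup.inclusion le_sup_left x), hm⟩ := Subtype.ext (hψe x).symm
    rw [e, h1, hφ'e]
    rfl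
  · intro w
    have hw : (w : Ω) ∈ ψ.range := by rw [hr]; exact w.2
    obtain ⟨z, hz⟩ := hw
    have hm : ψ z ∈ φ.range ⊔ centralizerIn S T := hmaps z
    have e : w = ⟨ψ z, hm⟩ := Subtype.ext hz.symm
    rw [e, hψ'e z hm]
    show (ψ z)⁻¹ * (z : Ω) ∈ T
    have := T.inv_mem (hψn z)
    rwa [mul_inv_rev, inv_inv] at this

theorem conj_mem_niceHom (hT : F.StronglyClosed T) {g : Ω}
    (hg : g ∈ T) : conjHom T g ∈ niceHom F E T := by
  have hTS : T ≤ S := hT.1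
  have hle : T ⊔ centralizerIn S T ≤ S := sup_le hTS inf_le_left
  refine ⟨E.conj_mem le_rfl hg, conjHom _ g, F.conj_mem hle (hTS hg), fun x => rfl, fun z => ?_⟩
  show (z : Ω)⁻¹ * (g * (z : Ω) * g⁻¹) ∈ T
  have h1 : (z : Ω)⁻¹ * g * ((z : Ω)⁻¹)⁻¹ ∈ T :=
    Cfsg.Agent.Lib.Helper85.conj_mem_of_stronglyClosed F hT (S.inv_mem (hle z.2)) hg
  have e : (z : Ω)⁻¹ * (g * (z : Ω) * g⁻¹) = ((z : Ω)⁻¹ * g * ((z : Ω)⁻¹)⁻¹) * g⁻¹ := by group
  rw [e]
  exact T.mul_mem h1 (T.inv_mem hg)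

/-! ### The generated system -/

/-- maps generated by restrictions of nice maps with `E`-centric source -/
inductive GenN (F : FusionSystem S) (E : FusionSystem T) : (P : Subgroup Ω) → (P →* Ω) → Prop
  | base {P Q : Subgroup Ω} (hQ : E.IsCentric Q) (φ : Q →* Ω) (hφ : φ ∈ niceHom F E Q)
      (hPQ : P ≤ Q) : GenN F E P (φ.comp (Subgroup.inclusion hPQ))
  | comp {P Q : Subgroup Ω} {φ : P →* Ω} {ψ : Q →* Ω} (hφ : GenN F E P φ)
      (hψ : GenN F E Q ψ) (h : ∀ x : P, φ x ∈ Q) : GenN F E P (ψ.comp (φ.codRestrict Q h))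

theorem GenN.mem_hom {P : Subgroup Ω} {φ : P →* Ω} (h : GenN F E P φ) : φ ∈ E.Hom P := by
  induction h with
  | base hQ φ hφ hPQ => exact restrict_mem E hφ.1 hPQ
  | comp _ _ h ih1 ih2 => exact E.comp_mem ih1 ih2 h

theorem GenN.restrict {P : Subgroup Ω} {φ : P →* Ω} (h : GenN F E P φ) :
    ∀ {P' : Subgroup Ω} (hP' : P' ≤ P), GenN F E P' (φ.comp (Subgroup.inclusion hP')) := by
  induction h with
  | base hQ φ hφ hPQ =>
    intro P' hP'
    exact GenN.base hQ φ hφ (hP'.trans hPQ)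
  | @comp P Q φ ψ _ hψ h ih1 _ =>
    intro P' hP'
    have := GenN.comp (ih1 hP') hψ (fun x => h _)
    exact this

theorem GenN.inv {P : Subgroup Ω} {φ : P →* Ω} (h : GenN F E P φ) :
    ∃ ψ : φ.range →* Ω, GenN F E φ.range ψ ∧ ∀ x : P, ψ ⟨φ x, ⟨x, rfl⟩⟩ = x := by
  induction h with
  | @base P Q hQ φ hφ hPQ =>
    have hcen : centralizerIn T φ.range ≤ φ.range := hQ.2 _ ⟨φ, hφ.1, rfl⟩
    have hQ' : E.IsCentric φ.range := isCentric_of_isConj E hQ ⟨φ, hφ.1, rfl⟩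
    obtain ⟨ψ, hψ, hψe⟩ := niceHom_inv hφ hcen
    have hle : (φ.comp (Subgroup.inclusion hPQ)).range ≤ φ.range := by
      rintro _ ⟨x, rfl⟩
      exact ⟨_, rfl⟩
    refine ⟨_, GenN.base hQ' ψ hψ hle, fun x => ?_⟩
    exact hψe (Subgroup.inclusion hPQ x)
  | @comp P Q φ ψ _ _ h ih1 ih2 =>
    obtain ⟨φi, hφi, hφinv⟩ := ih1
    obtain ⟨ψi, hψi, hψinv⟩ := ih2
    have hle : (ψ.comp (φ.codRestrict Q h)).range ≤ ψ.range := by
      rintro _ ⟨x, rfl⟩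
      exact ⟨_, rfl⟩
    have hmaps : ∀ y : (ψ.comp (φ.codRestrict Q h)).range,
        (ψi.comp (Subgroup.inclusion hle)) y ∈ φ.range := by
      rintro ⟨_, x, rfl⟩
      show ψi ⟨ψ ⟨φ x, h x⟩, _⟩ ∈ φ.range
      rw [hψinv ⟨φ x, h x⟩]
      exact ⟨x, rfl⟩
    refine ⟨_, GenN.comp (hψi.restrict hle) hφi hmaps, fun x => ?_⟩
    show φi ⟨ψi ⟨ψ ⟨φ x, h x⟩, _⟩, _⟩ = x
    rw [← hφinv x]
    congr 1
    exact Subtype.ext (hψinv ⟨φ x, h x⟩)

/-- the fusion system over `T` generated by the nice maps between `E`-centric subgroups -/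
def niceSys [Finite T] (hT : F.StronglyClosed T) : FusionSystem T where
  Hom P := {φ | GenN F E P φ}
  le_of_mem h := E.le_of_mem (GenN.mem_hom h)
  injective_of_mem h := E.injective_of_mem (GenN.mem_hom h)
  conj_mem := by
    intro P g hP hg
    have h1 := GenN.base (isCentric_self E) (conjHom T g) (conj_mem_niceHom hT hg) hP
    have e : (conjHom T g).comp (Subgroup.inclusion hP) = conjHom P g := by
      ext x; rfl
    rw [e] at h1
    exact h1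
  comp_mem := fun hφ hψ h => GenN.comp hφ hψ h
  inv_mem := fun h => by
    obtain ⟨ψ, hψ, hψe⟩ := GenN.inv h
    exact ⟨ψ, hψ, hψe⟩

theorem niceSys_le [Finite T] (hT : F.StronglyClosed T) :
    niceSys (E := E) hT ≤ E := fun _ _ h => GenN.mem_hom h

/-- a generated map with `E`-centric source is nice -/
theorem mem_niceHom_of_genN {P : Subgroup Ω} {φ : P →* Ω} (h : GenN F E P φ) :
    E.IsCentric P → φ ∈ niceHom F E P := by
  induction h with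
  | base hQ φ hφ hPQ =>
    intro _
    exact niceHom_restrict hφ hPQ
  | @comp P Q φ ψ hφ hψ h ih1 ih2 =>
    intro hPc
    have hφE := hφ.mem_hom
    have hr : E.IsCentric φ.range := isCentric_of_isConj E hPc ⟨φ, hφE, rfl⟩
    have hrQ : φ.range ≤ Q := by
      rintro _ ⟨x, rfl⟩
      exact h x
    have hQc : E.IsCentric Q := isCentric_of_le E hr hrQ (hom_le E hψ.mem_hom)
    have hcen : centralizerIn T φ.range ≤ Q := (hr.2 _ (Cfsg.Agent.Lib.Helper87.isConj_refl E hr.1)).trans hrQ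
    exact niceHom_comp (ih1 hPc) (ih2 hQc) h hcen

theorem niceHom_subset_niceSys [Finite T] (hT : F.StronglyClosed T)
    {P : Subgroup Ω} (hPc : E.IsCentric P) {φ : P →* Ω} (hφ : φ ∈ niceHom F E P) :
    φ ∈ (niceSys (E := E) hT).Hom P := by
  have h1 := GenN.base hPc φ hφ le_rfl
  have e : φ.comp (Subgroup.inclusion le_rfl) = φ := by
    ext x; rfl
  rw [e] at h1
  exact h1

theorem mem_niceHom_of_mem_niceSys [Finite T] (hT : F.StronglyClosed T)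
    {P : Subgroup Ω} (hPc : E.IsCentric P) {φ : P →* Ω} (hφ : φ ∈ (niceSys (E := E) hT).Hom P) :
    φ ∈ niceHom F E P := mem_niceHom_of_genN hφ hPc

end Cfsg.Agent.Lib.Helper88.Crav
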