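import Cfsg.Agent.Lib.Helper53.CravP
import Cfsg.Agent.Lib.Helper51.CravL2
import Cfsg.Agent.Lib.Helper79.CravI
import Cfsg.Agent.Lib.Helper86.CravY1
import Cfsg.Agent.Lib.Helper88.CravSys
import Cfsg.Agent.Lib.Helper85.PPowerNormal4
import Cfsg.Agent.Lib.Helper87.Inner

/-!
# Craven's theorem, part 2: extending to `T C_S(T)`
-/

set_option autoImplicit false

namespace Cfsg.Agent.Lib.Helper88.Crav

open Cfsg Cfsg.FusionSystem Cfsg.Agent.Lib.Helper88
open Cfsg.Agent.Lib.Helper87 (restrict_mem hom_le hom_mem_S subtype_mem forall_sup_of_subgroup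
  inv_exists mem_autGroup_iff)
open Cfsg.Agent.Lib.Helper85 (extSub)

variable {Ω : Type*} [Group Ω] {S T : Subgroup Ω} [Finite S] {p : ℕ} [Fact p.Prime]
  {F : FusionSystem S} {E : FusionSystem T}

/-- Lemma Y: a `p'`-automorphism in `F` of `P C_S(T)` fixing the `E`-centric subgroup `P`
pointwise extends to an automorphism of `T C_S(T)` fixing `T` pointwise. -/
theorem ext_top (h : WN p F E) : ∀ (n : ℕ) {P : Subgroup Ω}, E.IsCentric P →
    Nat.card T - Nat.card P ≤ n →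
    ∀ (ζ : MulAut ↥(P ⊔ centralizerIn S T)), ζ ∈ F.autGroup (P ⊔ centralizerIn S T) →
    (∀ z : ↥(P ⊔ centralizerIn S T), (z : Ω) ∈ P → ζ z = z) →
    ∀ m : ℕ, m.Coprime p → ζ ^ m = 1 →
    ∃ η ∈ F.autGroup (T ⊔ centralizerIn S T),
      (∀ z : ↥(T ⊔ centralizerIn S T), (z : Ω) ∈ T → η z = z) ∧
      ∀ (c : Ω) (hc : c ∈ centralizerIn S T),
        ((η ⟨c, (le_sup_right : centralizerIn S T ≤ T ⊔ centralizerIn S T) hc⟩ :
          ↥(T ⊔ centralizerIn S T)) : Ω) =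
        ((ζ ⟨c, (le_sup_right : centralizerIn S T ≤ P ⊔ centralizerIn S T) hc⟩ :
          ↥(P ⊔ centralizerIn S T)) : Ω) := by
  have hTS : T ≤ S := h.hinvar.2.1.1
  haveI : Finite T := Cfsg.Agent.Lib.Helper87.finite_of_le hTS
  have hTp : IsPGroup p T := h.hS.to_le hTS
  intro n
  induction n with
  | zero =>
    intro P hPc hn ζ hζ hfix m hm hζm
    have hPT : P ≤ T := hPc.1
    haveI : Finite P := Cfsg.Agent.Lib.Helper87.finite_of_le (hPT.trans hTS)
    have hcard : Nat.card T ≤ Nat.card P := Nat.sub_eq_zero_iff_le.mp (Nat.le_zero.mp hn)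
    have hPeq : P = T := Subgroup.eq_of_le_of_card_ge hPT hcard
    subst hPeq
    exact ⟨ζ, hζ, hfix, fun c hc => rfl⟩
  | succ n ih =>
    intro P hPc hn ζ hζ hfix m hm hζm
    have hPT : P ≤ T := hPc.1
    by_cases hPeq : P = T
    · subst hPeq
      exact ⟨ζ, hζ, hfix, fun c hc => rfl⟩
    · obtain ⟨ζ₁, hζ₁, hfix₁, hζ₁m, hζ₁c⟩ := ext_step h hPc ζ hζ hfix m hm hζm
      have hlt := Cfsg.Agent.Lib.Helper87.card_lt_card_normalizerIn (S := T) hTp hPT hPeq
      have hNT : normalizerIn T P ≤ T := inf_le_left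
      have hNc : E.IsCentric (normalizerIn T P) :=
        isCentric_of_le E hPc (Cfsg.Agent.Lib.Helper87.le_normalizerIn hPT) hNT
      have hn' : Nat.card T - Nat.card (normalizerIn T P) ≤ n := by omega
      obtain ⟨η, hη, hηT, hηc⟩ := ih hNc hn' ζ₁ hζ₁ hfix₁ m hm hζ₁m
      exact ⟨η, hη, hηT, fun c hc => (hηc c hc).trans (hζ₁c c hc)⟩

/-- every element of `Aut_F(T)` extends to an automorphism in `F` of `T C_S(T)` -/
theorem exists_ext_aut (hS : IsPGroup p S) (hF : F.IsSaturated p) (hTsc : F.StronglyClosed T)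
    {α : MulAut T} (hα : α ∈ F.autGroup T) :
    ∃ γ ∈ F.autGroup (T ⊔ centralizerIn S T), ∀ x : T,
      ((γ (Subgroup.inclusion le_sup_left x) : ↥(T ⊔ centralizerIn S T)) : Ω) = ((α x : T) : Ω) := by
  have hTS := hTsc.1
  have hMS : T ⊔ centralizerIn S T ≤ S := sup_le hTS (Cfsg.Agent.Lib.Helper87.centralizerIn_le S T)
  haveI : Finite ↥(T ⊔ centralizerIn S T) := Cfsg.Agent.Lib.Helper87.finite_of_le hMS
  have hrec : F.IsReceptive T :=
    Cfsg.Agent.Lib.Helper87.receptive_of_fullyNormalized hS F hF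
      (Cfsg.Agent.Lib.Helper85.fullyNormalized_of_stronglyClosed' F hTsc)
  have hφ : T.subtype.comp α.toMonoidHom ∈ F.Hom T :=
    Cfsg.Agent.Lib.Helper85.subtype_aut_mem F hTS hα
  have hr : (T.subtype.comp α.toMonoidHom).range = T :=
    (Cfsg.Agent.Lib.Helper87.weaklyClosed_of_stronglyClosed F hTsc).2 _ hφ
  have hM : T ⊔ centralizerIn S T ≤ extender S T (T.subtype.comp α.toMonoidHom) :=
    sup_le (Cfsg.Agent.Lib.Helper87.self_le_extender F hφ)
      (Cfsg.Agent.Lib.Helper87.centralizerIn_le_extender' T _)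
  obtain ⟨ψ, hψ, hψe⟩ := Cfsg.Agent.Lib.Helper87.extend_to_sub F hφ hr hrec hM
  have hψT : ∀ x : T, ψ (Subgroup.inclusion le_sup_left x) = ((α x : T) : Ω) :=
    fun x => hψe x x.2 _
  have hψM : ∀ z : ↥(T ⊔ centralizerIn S T), ψ z ∈ T ⊔ centralizerIn S T := by
    have := forall_sup_of_subgroup (P := T) (Q := centralizerIn S T)
      ((T ⊔ centralizerIn S T).comap ψ) ?_ ?_
    · intro z; exact this z
    · intro x hx
      show ψ _ ∈ T ⊔ centralizerIn S T
      have := hψT ⟨x, hx⟩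
      have e : (⟨x, (le_sup_left : T ≤ T ⊔ centralizerIn S T) hx⟩ : ↥(T ⊔ centralizerIn S T)) =
          Subgroup.inclusion le_sup_left (⟨x, hx⟩ : T) := rfl
      rw [e, this]
      exact (le_sup_left : T ≤ T ⊔ centralizerIn S T) (α _).2
    · intro c hc
      show ψ _ ∈ T ⊔ centralizerIn S T
      apply (le_sup_right : centralizerIn S T ≤ T ⊔ centralizerIn S T)
      exact ⟨hom_mem_S F hψ _,
        Cfsg.Agent.Lib.Helper85.map_mem_centralizer le_sup_left ψ α hψT hc.2⟩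
  obtain ⟨γ, hγ, hγe⟩ := Cfsg.Agent.Lib.Helper87.exists_aut_of_hom F hψ hψM
  exact ⟨γ, hγ, fun x => by rw [hγe]; exact hψT x⟩

/-- an automorphism of `T C_S(T)` in `F` that is trivial modulo `T` witnesses the extension
condition for its restriction to `T` -/
theorem mem_extSub_of_nice_aut (hTS : T ≤ S) {α : MulAut T}
    {β : MulAut ↥(T ⊔ centralizerIn S T)} (hβ : β ∈ F.autGroup (T ⊔ centralizerIn S T))
    (hβe : ∀ x : T, ((β (Subgroup.inclusion le_sup_left x) : ↥(T ⊔ centralizerIn S T)) : Ω) =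
      ((α x : T) : Ω))
    (hβn : ∀ z : ↥(T ⊔ centralizerIn S T), (z : Ω)⁻¹ * ((β z : ↥(T ⊔ centralizerIn S T)) : Ω) ∈ T) :
    α ∈ extSub F hTS := by
  refine ⟨β, hβ, hβe, fun c hc => ⟨hβn c, ?_⟩⟩
  apply Subgroup.mul_mem _ (Subgroup.inv_mem _ hc.2)
  exact Cfsg.Agent.Lib.Helper85.map_mem_centralizer le_sup_left
    ((T ⊔ centralizerIn S T).subtype.comp β.toMonoidHom) α hβe hc.2

/-- a nice extension of an automorphism of `T` witnesses the extension condition -/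
theorem mem_extSub_of_niceHom (hTS : T ≤ S) {α : MulAut T}
    (hα : T.subtype.comp α.toMonoidHom ∈ niceHom F E T) : α ∈ extSub F hTS := by
  obtain ⟨-, ψ, hψ, hψe, hψn⟩ := hα
  have hMS : T ⊔ centralizerIn S T ≤ S := sup_le hTS (Cfsg.Agent.Lib.Helper87.centralizerIn_le S T)
  haveI : Finite ↥(T ⊔ centralizerIn S T) := Cfsg.Agent.Lib.Helper87.finite_of_le hMS
  have hψM : ∀ z : ↥(T ⊔ centralizerIn S T), ψ z ∈ T ⊔ centralizerIn S T := by
    intro z
    have e : ψ z = (z : Ω) * ((z : Ω)⁻¹ * ψ z) := by rw [mul_inv_cancel_left]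
    rw [e]
    exact Subgroup.mul_mem _ z.2 ((le_sup_left : T ≤ T ⊔ centralizerIn S T) (hψn z))
  obtain ⟨β, hβ, hβe⟩ := Cfsg.Agent.Lib.Helper87.exists_aut_of_hom F hψ hψM
  refine mem_extSub_of_nice_aut hTS hβ (fun x => ?_) (fun z => ?_)
  · rw [hβe, hψe]; rfl
  · rw [hβe]; exact hψn z

/-- conversely, an automorphism of `T` in `E` satisfying the extension condition is nice -/
theorem niceHom_of_mem_extSub (hTsc : F.StronglyClosed T) {α : MulAut T} (hαE : α ∈ E.autGroup T)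
    (hα : α ∈ extSub F hTsc.1) : T.subtype.comp α.toMonoidHom ∈ niceHom F E T := by
  obtain ⟨β, hβ, hβe, hβc⟩ := hα
  have hTS := hTsc.1
  have hMS : T ⊔ centralizerIn S T ≤ S := sup_le hTS (Cfsg.Agent.Lib.Helper87.centralizerIn_le S T)
  refine ⟨(mem_autGroup_iff E le_rfl α).mp hαE, _, (mem_autGroup_iff F hMS β).mp hβ,
    fun x => hβe x, ?_⟩
  intro z
  have hz : (z : Ω) ∈ centralizerIn S T ⊔ T := by rw [sup_comm]; exact z.2
  have hn : centralizerIn S T ≤ Subgroup.normalizer (T : Set Ω) :=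
    inf_le_right.trans (Subgroup.centralizer_le_normalizer _)
  obtain ⟨c, hc, t, ht, hzct⟩ := Cfsg.Agent.Lib.Helper85.mem_sup_of_le_normalizer hn hz
  have e : z = Subgroup.inclusion le_sup_right (⟨c, hc⟩ : centralizerIn S T) *
      Subgroup.inclusion le_sup_left (⟨t, ht⟩ : T) := Subtype.ext hzct
  show (z : Ω)⁻¹ * (((T ⊔ centralizerIn S T).subtype.comp β.toMonoidHom) z) ∈ T
  rw [e, map_mul]
  have h1 := (hβc (Subgroup.inclusion le_sup_right (⟨c, hc⟩ : centralizerIn S T)) hc).1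
  have h2 : ((T ⊔ centralizerIn S T).subtype.comp β.toMonoidHom)
      (Subgroup.inclusion le_sup_left (⟨t, ht⟩ : T)) = ((α ⟨t, ht⟩ : T) : Ω) := hβe ⟨t, ht⟩
  rw [h2]
  have e2 : ((Subgroup.inclusion le_sup_right (⟨c, hc⟩ : centralizerIn S T) *
      Subgroup.inclusion le_sup_left (⟨t, ht⟩ : T) : ↥(T ⊔ centralizerIn S T)) : Ω)⁻¹ *
      (((T ⊔ centralizerIn S T).subtype.comp β.toMonoidHom)
        (Subgroup.inclusion le_sup_right (⟨c, hc⟩ : centralizerIn S T)) * ((α ⟨t, ht⟩ : T) : Ω)) =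
      t⁻¹ * (c⁻¹ * ((β (Subgroup.inclusion le_sup_right (⟨c, hc⟩ : centralizerIn S T)) :
        ↥(T ⊔ centralizerIn S T)) : Ω)) * ((α ⟨t, ht⟩ : T) : Ω) := by
    show (c * t)⁻¹ * (_ * _) = _
    rw [mul_inv_rev]
    simp only [mul_assoc]
    rfl
  rw [e2]
  exact T.mul_mem (T.mul_mem (T.inv_mem ht) h1) (α _).2

end Cfsg.Agent.Lib.Helper88.Crav
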