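import Cfsg.Agent.Lib.Helper88.CravMain1

/-!
# Craven's theorem, part 3: an automorphism of `T` in `E` with a nice restriction satisfies the
extension condition
-/

set_option autoImplicit false

namespace Cfsg.Agent.Lib.Helper88.Crav

open Cfsg Cfsg.FusionSystem Cfsg.Agent.Lib.Helper88
open Cfsg.Agent.Lib.Helper87 (restrict_mem hom_le hom_mem_S subtype_mem forall_sup_of_subgroup
  inv_exists mem_autGroup_iff)
open Cfsg.Agent.Lib.Helper85 (extSub)

variable {Ω : Type*} [Group Ω] {S T : Subgroup Ω} [Finite S] {p : ℕ} [Fact p.Prime]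
  {F : FusionSystem S} {E : FusionSystem T}

theorem pow_fix {M P : Subgroup Ω} (ζ : MulAut M) (hfix : ∀ z : M, (z : Ω) ∈ P → ζ z = z)
    (k : ℕ) : ∀ z : M, (z : Ω) ∈ P → (ζ ^ k) z = z := by
  induction k with
  | zero => intro z _; simp
  | succ k ih =>
    intro z hz
    rw [pow_succ, MulAut.mul_apply, hfix z hz, ih z hz]

/-- The main step. -/
theorem aut_mem_extSub_of_restrict (h : WN p F E) (α : MulAut T) (hα : α ∈ E.autGroup T)
    {P : Subgroup Ω} (hPT : P ≤ T) (hPc : E.IsCentric P)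
    (hres : resAutHom α P hPT ∈ niceHom F E P) : α ∈ extSub F h.hinvar.2.1.1 := by
  have hp : p.Prime := Fact.out
  have hTsc : F.StronglyClosed T := h.hinvar.2.1
  have hTS : T ≤ S := hTsc.1
  have hEF : E.IsSubsystemOf F := h.hinvar.1
  haveI : Finite T := Cfsg.Agent.Lib.Helper87.finite_of_le hTS
  have hMS : T ⊔ centralizerIn S T ≤ S := sup_le hTS (Cfsg.Agent.Lib.Helper87.centralizerIn_le S T)
  have hle : P ⊔ centralizerIn S T ≤ T ⊔ centralizerIn S T := sup_le_sup_right hPT _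
  have hPCS : P ⊔ centralizerIn S T ≤ S := hle.trans hMS
  haveI : Finite ↥(T ⊔ centralizerIn S T) := Cfsg.Agent.Lib.Helper87.finite_of_le hMS
  haveI : Finite ↥(P ⊔ centralizerIn S T) := Cfsg.Agent.Lib.Helper87.finite_of_le hPCS
  obtain ⟨hresE, ψ, hψ, hψe, hψn⟩ := hres
  have hαF : α ∈ F.autGroup T :=
    Cfsg.Agent.Lib.Helper87.NR.autGroup_le_of_isSubsystemOf hEF T hα
  obtain ⟨γ, hγ, hγe⟩ := exists_ext_aut h.hS h.hF hTsc hαF
  -- `γ` as an equation in the subtype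
  have hγe' : ∀ x : T, γ (Subgroup.inclusion le_sup_left x) = Subgroup.inclusion le_sup_left (α x) :=
    fun x => Subtype.ext (hγe x)
  have hγinv : ∀ x : T, γ⁻¹ (Subgroup.inclusion le_sup_left x) =
      Subgroup.inclusion le_sup_left (α⁻¹ x) := by
    intro x
    have := hγe' (α⁻¹ x)
    rw [MulAut.apply_inv_self] at this
    rw [← this, MulAut.inv_apply_self]
  have hψM : ∀ z : ↥(P ⊔ centralizerIn S T), ψ z ∈ T ⊔ centralizerIn S T := by
    intro z
    have e : ψ z = (z : Ω) * ((z : Ω)⁻¹ * ψ z) := by rw [mul_inv_cancel_left]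
    rw [e]
    exact Subgroup.mul_mem _ (hle z.2) ((le_sup_left : T ≤ T ⊔ centralizerIn S T) (hψn z))
  have hγinvF : (T ⊔ centralizerIn S T).subtype.comp (γ⁻¹).toMonoidHom ∈
      F.Hom (T ⊔ centralizerIn S T) :=
    (mem_autGroup_iff F hMS _).mp ((F.autGroup _).inv_mem hγ)
  have hζhom := F.comp_mem hψ hγinvF hψM
  set ζhom : ↥(P ⊔ centralizerIn S T) →* Ω :=
    ((T ⊔ centralizerIn S T).subtype.comp (γ⁻¹).toMonoidHom).comp
      (ψ.codRestrict (T ⊔ centralizerIn S T) hψM) with hζhomdef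
  have hζapp : ∀ z : ↥(P ⊔ centralizerIn S T),
      ζhom z = ((γ⁻¹ ⟨ψ z, hψM z⟩ : ↥(T ⊔ centralizerIn S T)) : Ω) := fun z => rfl
  -- on `P`, `ζhom` is the identity
  have hζP : ∀ (x : Ω) (hx : x ∈ P),
      ζhom ⟨x, (le_sup_left : P ≤ P ⊔ centralizerIn S T) hx⟩ = x := by
    intro x hx
    rw [hζapp]
    have e1 : (⟨ψ ⟨x, (le_sup_left : P ≤ P ⊔ centralizerIn S T) hx⟩, hψM _⟩ :
        ↥(T ⊔ centralizerIn S T)) = Subgroup.inclusion le_sup_left (α ⟨x, hPT hx⟩) := by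
      apply Subtype.ext
      exact hψe ⟨x, hx⟩
    rw [e1, hγinv, MulAut.inv_apply_self]
    rfl
  have hrange : centralizerIn T (resAutHom α P hPT).range ≤ (resAutHom α P hPT).range :=
    hPc.2 _ ⟨_, hresE, rfl⟩
  have hφT : ∀ x : P, resAutHom α P hPT x ∈ T := fun x => (α _).2
  -- `γ⁻¹` maps `C` into `C`
  have hγinvC : ∀ (c : Ω) (hc : c ∈ centralizerIn S T),
      ((γ⁻¹ ⟨c, (le_sup_right : centralizerIn S T ≤ T ⊔ centralizerIn S T) hc⟩ :
        ↥(T ⊔ centralizerIn S T)) : Ω) ∈ centralizerIn S T := by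
    intro c hc
    refine ⟨hMS (γ⁻¹ _).2, ?_⟩
    exact Cfsg.Agent.Lib.Helper85.map_mem_centralizer le_sup_left
      ((T ⊔ centralizerIn S T).subtype.comp (γ⁻¹).toMonoidHom) α⁻¹
      (fun x => by
        show ((γ⁻¹ (Subgroup.inclusion le_sup_left x) : ↥(T ⊔ centralizerIn S T)) : Ω) = _
        rw [hγinv x]; rfl) hc.2
  have hζM : ∀ z : ↥(P ⊔ centralizerIn S T), ζhom z ∈ P ⊔ centralizerIn S T := by
    have := forall_sup_of_subgroup (P := P) (Q := centralizerIn S T)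
      ((P ⊔ centralizerIn S T).comap ζhom) ?_ ?_
    · intro z; exact this z
    · intro x hx
      show ζhom _ ∈ P ⊔ centralizerIn S T
      rw [hζP x hx]
      exact (le_sup_left : P ≤ P ⊔ centralizerIn S T) hx
    · intro c hc
      show ζhom _ ∈ P ⊔ centralizerIn S T
      rw [hζapp]
      have h1 := nice_defect_mem (S := S) hPT hφT hψe hψn hc
      obtain ⟨x₀, hx₀⟩ := hrange h1
      set cc : ↥(P ⊔ centralizerIn S T) := ⟨c, (le_sup_right : centralizerIn S T ≤ _) hc⟩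
      have e1 : (⟨ψ cc, hψM cc⟩ : ↥(T ⊔ centralizerIn S T)) =
          ⟨c, (le_sup_right : centralizerIn S T ≤ T ⊔ centralizerIn S T) hc⟩ *
            Subgroup.inclusion le_sup_left (α ⟨x₀, hPT x₀.2⟩) := by
        apply Subtype.ext
        show ψ cc = c * ((α ⟨x₀, hPT x₀.2⟩ : T) : Ω)
        have : ((α ⟨x₀, hPT x₀.2⟩ : T) : Ω) = c⁻¹ * ψ cc := hx₀
        rw [this, mul_inv_cancel_left]
      rw [e1, map_mul, hγinv, MulAut.inv_apply_self]
      exact Subgroup.mul_mem _ ((le_sup_right : centralizerIn S T ≤ P ⊔ centralizerIn S T)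
        (hγinvC c hc)) ((le_sup_left : P ≤ P ⊔ centralizerIn S T) x₀.2)
  obtain ⟨ζ, hζ, hζe⟩ := Cfsg.Agent.Lib.Helper87.exists_aut_of_hom F hζhom hζM
  have hfix : ∀ z : ↥(P ⊔ centralizerIn S T), (z : Ω) ∈ P → ζ z = z := by
    intro z hz
    apply Subtype.ext
    rw [hζe]
    exact hζP z hz
  -- `γ (ζ z) = ψ z`
  have hR1 : ∀ z : ↥(P ⊔ centralizerIn S T),
      γ (Subgroup.inclusion hle (ζ z)) = ⟨ψ z, hψM z⟩ := by
    intro z
    have e1 : Subgroup.inclusion hle (ζ z) = γ⁻¹ ⟨ψ z, hψM z⟩ := by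
      apply Subtype.ext
      show ((ζ z : ↥(P ⊔ centralizerIn S T)) : Ω) = _
      rw [hζe, hζapp]
    rw [e1, MulAut.apply_inv_self]
  -- the order of `ζ`
  obtain ⟨b, m, hm, hn⟩ := Nat.exists_eq_pow_mul_and_not_dvd (orderOf_pos ζ).ne' p hp.ne_one
  have hmcop : m.Coprime p := ((Nat.Prime.coprime_iff_not_dvd hp).mpr hm).symm
  have hmpos : 0 < m := Nat.pos_of_ne_zero (fun h0 => hm (h0 ▸ dvd_zero p))
  have hco : Nat.Coprime m (p ^ b) := Nat.Coprime.pow_right b hmcop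
  obtain ⟨k₀, hk₀1, hk₀2⟩ := Nat.chineseRemainder hco 1 0
  set k := k₀ + m * p ^ b with hkdef
  have hk1 : k ≡ 1 [MOD m] := by
    have : k₀ + m * p ^ b ≡ k₀ [MOD m] := by
      have h0 : m * p ^ b ≡ 0 [MOD m] := (Nat.modEq_zero_iff_dvd).mpr (dvd_mul_right _ _)
      exact Nat.ModEq.add_left k₀ h0
    exact this.trans hk₀1
  have hk2 : p ^ b ∣ k := by
    have h0 : p ^ b ∣ k₀ := (Nat.modEq_zero_iff_dvd).mp hk₀2
    exact dvd_add h0 (dvd_mul_left _ _)
  have hkpos : 1 ≤ k := by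
    have : 0 < m * p ^ b := Nat.mul_pos hmpos (pow_pos hp.pos b)
    omega
  have hmk : m ∣ k - 1 := (Nat.modEq_iff_dvd' hkpos).mp hk1.symm
  -- the `p'`-part
  have hζ'm : (ζ ^ k) ^ m = 1 := by
    rw [← pow_mul]
    apply orderOf_dvd_iff_pow_eq_one.mp
    rw [hn]
    exact Nat.mul_dvd_mul_right hk2 m
  obtain ⟨η, hη, hηT, hηc⟩ := ext_top h _ hPc le_rfl (ζ ^ k) ((F.autGroup _).pow_mem hζ k)
    (pow_fix ζ hfix k) m hmcop hζ'm
  -- `η` restricted to `P C` is `ζ ^ k`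
  have hηζ : ∀ z : ↥(P ⊔ centralizerIn S T),
      η (Subgroup.inclusion hle z) = Subgroup.inclusion hle ((ζ ^ k) z) := by
    have := forall_sup_of_subgroup (P := P) (Q := centralizerIn S T)
      ((η.toMonoidHom.comp (Subgroup.inclusion hle)).eqLocus
        ((Subgroup.inclusion hle).comp (ζ ^ k).toMonoidHom)) ?_ ?_
    · intro z; exact this z
    · intro x hx
      show η _ = Subgroup.inclusion hle ((ζ ^ k) _)
      rw [pow_fix ζ hfix k _ hx]
      exact hηT _ (hPT hx)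
    · intro c hc
      show η _ = Subgroup.inclusion hle ((ζ ^ k) _)
      apply Subtype.ext
      exact hηc c hc
  -- the new extension
  have hγ' : γ * η ∈ F.autGroup (T ⊔ centralizerIn S T) := (F.autGroup _).mul_mem hγ hη
  have hγ'e : ∀ x : T, (((γ * η) (Subgroup.inclusion le_sup_left x) :
      ↥(T ⊔ centralizerIn S T)) : Ω) = ((α x : T) : Ω) := by
    intro x
    rw [MulAut.mul_apply, hηT _ x.2]
    exact hγe x
  have hγ'T : ∀ z : ↥(T ⊔ centralizerIn S T), (z : Ω) ∈ T →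
      (((γ * η) z : ↥(T ⊔ centralizerIn S T)) : Ω) ∈ T := by
    intro z hz
    have e : z = Subgroup.inclusion le_sup_left (⟨z, hz⟩ : T) := rfl
    rw [e, hγ'e]
    exact (α _).2
  have hσfix := pow_fix ζ hfix (k - 1)
  have hσn : (ζ ^ (k - 1)) ^ (p ^ b) = 1 := by
    rw [← pow_mul]
    apply orderOf_dvd_iff_pow_eq_one.mp
    rw [hn, mul_comm (k - 1)]
    exact Nat.mul_dvd_mul_left _ hmk
  have hγψ : ∀ z : ↥(P ⊔ centralizerIn S T),
      (((γ * η) (Subgroup.inclusion (sup_le_sup_right hPT _) z) :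
        ↥(T ⊔ centralizerIn S T)) : Ω) = ψ ((ζ ^ (k - 1)) z) := by
    intro z
    rw [MulAut.mul_apply]
    have e0 : η (Subgroup.inclusion (sup_le_sup_right hPT _) z) =
        Subgroup.inclusion hle ((ζ ^ k) z) := hηζ z
    rw [e0]
    have e1 : (ζ ^ k) z = ζ ((ζ ^ (k - 1)) z) := by
      have : k = (k - 1) + 1 := by omega
      conv_lhs => rw [this, pow_succ']
      rfl
    rw [e1, hR1]
  have hTn : ∀ s ∈ S, ∀ t ∈ T, s * t * s⁻¹ ∈ T := fun s hs t ht =>
    Cfsg.Agent.Lib.Helper85.conj_mem_of_stronglyClosed F hTsc hs ht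
  have hnice := pow_nice hTS hTn hPT (γ * η) hγ'T ψ hψn (ζ ^ (k - 1)) hσfix (p ^ b) hσn hγψ
  -- `α ^ (p ^ b)` satisfies the extension condition
  have h1 : α ^ (p ^ b) ∈ extSub F hTS := by
    refine mem_extSub_of_nice_aut hTS ((F.autGroup _).pow_mem hγ' _) (fun x => ?_) hnice
    exact Cfsg.Agent.Lib.Helper85.pow_restrict (le_sup_left : T ≤ T ⊔ centralizerIn S T)
      (γ * η) α hγ'e (p ^ b) x
  -- the `p`-part of `α`
  obtain ⟨a, m', hm', hn'⟩ := Nat.exists_eq_pow_mul_and_not_dvd (orderOf_pos α).ne' p hp.ne_one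
  have hm'pos : 0 < m' := Nat.pos_of_ne_zero (fun h0 => hm' (h0 ▸ dvd_zero p))
  have h2 : α ^ m' ∈ extSub F hTS := by
    apply mem_extSub_of_niceHom (E := E) hTS
    have hk : orderOf (α ^ m') = p ^ a := by
      rw [orderOf_pow' α hm'pos.ne', hn', Nat.gcd_mul_left_left, Nat.mul_div_cancel _ hm'pos]
    exact pElt_mem_niceHom h (isCentric_self E) (α ^ m') ((E.autGroup T).pow_mem hα m') a hk
  have hcop : Nat.Coprime (p ^ b) m' :=
    Nat.Coprime.pow_left b ((Nat.Prime.coprime_iff_not_dvd hp).mpr hm')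
  have hc : IsCoprime ((p ^ b : ℕ) : ℤ) (m' : ℤ) := Nat.isCoprime_iff_coprime.mpr hcop
  obtain ⟨u, v, huv⟩ := hc
  have e : α = (α ^ (p ^ b)) ^ u * (α ^ m') ^ v := by
    calc α = α ^ (1 : ℤ) := (zpow_one α).symm
      _ = α ^ (u * ((p ^ b : ℕ) : ℤ) + v * (m' : ℤ)) := by rw [huv]
      _ = (α ^ (p ^ b)) ^ u * (α ^ m') ^ v := by
          rw [zpow_add, zpow_mul', zpow_mul', zpow_natCast, zpow_natCast]
  rw [e]
  exact (extSub F hTS).mul_mem ((extSub F hTS).zpow_mem h1 u) ((extSub F hTS).zpow_mem h2 v)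

end Cfsg.Agent.Lib.Helper88.Crav
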