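import Cfsg.Agent.Lib.Helper88.CravMain2

/-!
# Craven's theorem: the `p'`-residual of a weakly normal subsystem is normal
-/

set_option autoImplicit false

namespace Cfsg.Agent.Lib.Helper88.Crav

open Cfsg Cfsg.FusionSystem Cfsg.Agent.Lib.Helper88
open Cfsg.Agent.Lib.Helper87 (restrict_mem hom_le hom_mem_S subtype_mem mem_autGroup_iff)
open Cfsg.Agent.Lib.Helper85 (extSub)

variable {Ω : Type*} [Group Ω] {S T : Subgroup Ω} [Finite S] {p : ℕ} [Fact p.Prime]
  {F : FusionSystem S} {E : FusionSystem T}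

/-- the residual lies in the system generated by the nice maps -/
theorem residual_le_niceSys (h : WN p F E) [Finite T] (D : FusionSystem T)
    (hD : E.IsPPrimeResidual p D) :
    ∀ P, D.Hom P ⊆ (niceSys (E := E) h.hinvar.2.1).Hom P := by
  have hTsc : F.StronglyClosed T := h.hinvar.2.1
  have hTS : T ≤ S := hTsc.1
  have hTp : IsPGroup p T := h.hS.to_le hTS
  refine residual_le_of_closed hTp E h.hE D hD (niceSys (E := E) hTsc) ?_ ?_
  · intro P hPc
    rw [Subgroup.map_le_iff_le_comap, Subgroup.closure_le]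
    rintro a ⟨k, hk⟩
    show (a : MulAut P) ∈ (niceSys (E := E) hTsc).autGroup P
    rw [mem_autGroup_iff _ hPc.1]
    apply niceHom_subset_niceSys hTsc hPc
    refine pElt_mem_niceHom h hPc (a : MulAut P) a.2 k ?_
    rw [Subgroup.orderOf_coe]
    exact hk
  · intro α hα P hPT hPc hres
    have h1 : resAutHom α P hPT ∈ niceHom F E P := mem_niceHom_of_mem_niceSys hTsc hPc hres
    have h2 := aut_mem_extSub_of_restrict h α hα hPT hPc h1
    have h3 := niceHom_of_mem_extSub (E := E) hTsc hα h2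
    rw [mem_autGroup_iff _ le_rfl]
    exact niceHom_subset_niceSys hTsc (isCentric_self E) h3

/-- Craven's theorem -/
theorem craven_main (hS : IsPGroup p S) (F : FusionSystem S) (hF : F.IsSaturated p)
    (E : FusionSystem T) (hE : E.IsWeaklyNormalIn F p) (D : FusionSystem T)
    (hD : E.IsPPrimeResidual p D) : D.IsNormalIn F p := by
  obtain ⟨hEsat, -, hEinv⟩ := hE
  have h : WN p F E := ⟨hS, hF, hEsat, hEinv⟩
  have hTsc : F.StronglyClosed T := hEinv.2.1
  have hTS : T ≤ S := hTsc.1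
  haveI : Finite T := Cfsg.Agent.Lib.Helper87.finite_of_le hTS
  have hTp : IsPGroup p T := hS.to_le hTS
  have hDeq : ∀ P, D.Hom P = (ppRes p E).Hom P :=
    hom_eq_ppRes_of_isPPrimeResidual hTp E hEsat D hD
  have hDE : ∀ P, D.Hom P ⊆ E.Hom P := hD.2.1.1
  refine ⟨⟨hD.1, hF, fun P φ hφ => hEinv.1 P (hDE P hφ), hTsc, ?_, ?_⟩, ?_⟩
  · -- invariance
    intro P hPT φ hφ α hα
    rw [hDeq] at hφ
    obtain ⟨χ, hχ, hχe⟩ := ppRes_invProp h P hPT φ hφ α hα
    rw [← hDeq] at hχ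
    exact ⟨χ, hχ, hχe⟩
  · -- Frattini
    intro P hPT φ hφ
    obtain ⟨α, hα, φ₀, hφ₀, he⟩ := hEinv.2.2.2 P hPT φ hφ
    obtain ⟨-, hfrat, -⟩ := ppRes_facts hTp E hEsat
    obtain ⟨β, hβ, φ₁, hφ₁, he'⟩ := hfrat P φ₀ hφ₀
    have hβF : β ∈ F.autGroup T :=
      Cfsg.Agent.Lib.Helper87.NR.autGroup_le_of_isSubsystemOf hEinv.1 T hβ
    rw [← hDeq] at hφ₁
    refine ⟨α * β, (F.autGroup T).mul_mem hα hβF, φ₁, hφ₁, fun x hx => ?_⟩
    have hφ₀T : φ₀ x ∈ T := hom_mem_S E hφ₀ x
    rw [he x hφ₀T, MulAut.mul_apply]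
    congr 2
    exact Subtype.ext (he' x hx)
  · -- the extension condition
    intro α hα
    have h1 : T.subtype.comp α.toMonoidHom ∈ D.Hom T := (mem_autGroup_iff D le_rfl α).mp hα
    have h2 := residual_le_niceSys h D hD T h1
    have h3 : T.subtype.comp α.toMonoidHom ∈ niceHom F E T :=
      mem_niceHom_of_mem_niceSys hTsc (isCentric_self E) h2
    exact mem_extSub_of_niceHom (E := E) hTS h3

end Cfsg.Agent.Lib.Helper88.Crav
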