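import Cfsg.Agent.Lib.Helper88.CravMain3
import Cfsg.Agent.Lib.Helper87.Essential
import Cfsg.Agent.Lib.Helper84.KSatMain
import Cfsg.Agent.Lib.Helper54.FusFoc

/-!
# Definitions for: the focal subgroup of `C_F(T)` centralizes a normal subsystem over `T`
-/

set_option autoImplicit false

namespace Cfsg.Agent.Lib.Helper88.Cs

open Cfsg Cfsg.FusionSystem Cfsg.Agent.Lib.Helper88

variable {Ω : Type*} [Group Ω] {S T : Subgroup Ω}

/-- the maps of `E` with source `P` that extend, in `F`, to a map on `P X` fixing `X` pointwise -/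
def fixHom (F : FusionSystem S) (E : FusionSystem T) (X P : Subgroup Ω) : Set (P →* Ω) :=
  {φ | φ ∈ E.Hom P ∧ ∃ ψ ∈ F.Hom (P ⊔ X),
    (∀ x : P, ψ (Subgroup.inclusion le_sup_left x) = φ x) ∧
    ∀ x : X, ψ (Subgroup.inclusion le_sup_right x) = x}

/-- the subgroup `[U, γ]` generated by the `c⁻¹ γ(c)` -/
def commSub {U : Subgroup Ω} (γ : MulAut U) : Subgroup Ω :=
  Subgroup.closure {y : Ω | ∃ c : U, y = (c : Ω)⁻¹ * ((γ c : U) : Ω)}

end Cfsg.Agent.Lib.Helper88.Cs
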