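import Cfsg.Agent.Lib.Helper88.CsNice
import Cfsg.Agent.Lib.Helper55.CsALP
import Cfsg.Agent.Lib.Helper55.CsFOC
import Cfsg.Agent.Lib.Helper72.CsCOMM
import Cfsg.Agent.Lib.Helper72.CsPP
import Cfsg.Agent.S5099

/-!
# S5293: the focal subgroup of `C_F(T)` centralizes a normal subsystem `E` over `T` (assembly)

Leaves: helper55 (CS-SYS, CS-ALP, CS-FOC), helper2 (CS-GEN), helper95 (CS-SZ, CS-ABS), helper72 (CS-COMM, CS-PP).
-/

set_option autoImplicit false

namespace Cfsg.Agent.Lib.Helper88.Cs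

open Cfsg Cfsg.FusionSystem Cfsg.Agent.Lib.Helper88 Cfsg.Agent.Lib.Helper88.Crav
open Cfsg.Agent.Lib.Helper87 (restrict_mem hom_le hom_mem_S subtype_mem mem_autGroup_iff)

variable {Ω : Type*} [Group Ω] {S T : Subgroup Ω} {p : ℕ} [Fact p.Prime]
  {F : FusionSystem S} {E : FusionSystem T}

/-- the focal subgroup of `C_F(T)` lies in `C_S(E)` -/
theorem cs_main [Finite S] (hS : IsPGroup p S) (F : FusionSystem S) (hF : F.IsSaturated p)
    (E : FusionSystem T) (hE : E.IsNormalIn F p) (C : Subgroup Ω)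
    (hC : C = sSup {X : Subgroup Ω | X ≤ centralizerIn S T ∧
      ∀ P : Subgroup Ω, E.Hom P ⊆ F.centralizerHom X P})
    (D : FusionSystem (centralizerIn S T)) (hD : F.IsCentralizerSystem T D) :
    D.focalSubgroup ≤ C := by
  have hTsc : F.StronglyClosed T := hE.1.2.2.2.1
  have hTS : T ≤ S := hTsc.1
  haveI : Finite T := Cfsg.Agent.Lib.Helper87.finite_of_le hTS
  have hTp : IsPGroup p T := hS.to_le hTS
  have hRS : centralizerIn S T ≤ S := inf_le_left
  haveI : Finite (centralizerIn S T) := Cfsg.Agent.Lib.Helper87.finite_of_le hRS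
  have hRp : IsPGroup p (centralizerIn S T) := hS.to_le hRS
  have hTfc : F.IsFullyCentralized T := by
    refine ⟨hTS, fun Q hQ => ?_⟩
    obtain ⟨φ, hφ, hr⟩ := hQ
    have hQT : Q ≤ T := by
      rw [← hr]
      rintro _ ⟨x, rfl⟩
      exact hTsc.2 T le_rfl φ hφ x
    have hcard : Nat.card Q = Nat.card T := by
      rw [← hr]
      exact (Nat.card_congr (Equiv.ofInjective φ (F.injective_of_mem hφ))).symm
    have : Q = T := Subgroup.eq_of_le_of_card_ge hQT hcard.ge
    rw [this]
  have hDsat : D.IsSaturated p := Cfsg.Agent.S5099.result p hS F hF T hTfc D hD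
  have key : ∀ X : Subgroup Ω, X ≤ centralizerIn S T →
      (∀ Q : Subgroup Ω, E.IsCentric Q → ∀ β : MulAut Q, β ∈ E.autGroup Q →
        Q.subtype.comp β.toMonoidHom ∈ fixHom F E X Q) → X ≤ C := by
    intro X hX h
    rw [hC]
    exact le_sSup ⟨hX, hom_subset_centralizerHom hTp hTS hE.1.1 hX h⟩
  refine focal_le_of hRp D hDsat C ?_ ?_
  · refine key _ (Subgroup.commutator_le.mpr fun a ha b hb => ?_) ?_
    · rw [commutatorElement_def]
      exact mul_mem (mul_mem (mul_mem ha hb) (inv_mem ha)) (inv_mem hb)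
    intro Q hQc β hβ
    exact comm_fix hQc β (normal_hom_nice hS hE hQc ((mem_autGroup_iff E hQc.1 β).mp hβ))
  · intro U γ hγ hcop c
    rw [hD U] at hγ
    have hUR : U ≤ centralizerIn S T := hγ.2.1
    have hle : commSub γ ≤ C := by
      refine key _ ?_ ?_
      · unfold commSub
        rw [Subgroup.closure_le]
        rintro _ ⟨c, rfl⟩
        exact hUR (U.mul_mem (U.inv_mem c.2) (γ c).2)
      · intro Q hQc β hβ
        exact pprime_fix hS hTS hQc β
          (normal_hom_nice hS hE hQc ((mem_autGroup_iff E hQc.1 β).mp hβ)) γ hγ hcop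
    exact hle (Subgroup.subset_closure ⟨c, rfl⟩)

end Cfsg.Agent.Lib.Helper88.Cs
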