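import Cfsg.Agent.Lib.Helper88.CsDefs

/-!
# S5293, leaf CS-NICE: for a normal subsystem every map on a centric subgroup is nice
-/

set_option autoImplicit false

namespace Cfsg.Agent.Lib.Helper88.Cs

open Cfsg Cfsg.FusionSystem Cfsg.Agent.Lib.Helper88 Cfsg.Agent.Lib.Helper88.Crav
open Cfsg.Agent.Lib.Helper87 (restrict_mem hom_le hom_mem_S subtype_mem mem_autGroup_iff)
open Cfsg.Agent.Lib.Helper85 (extSub)

variable {Ω : Type*} [Group Ω] {S T : Subgroup Ω} {p : ℕ} [Fact p.Prime]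
  {F : FusionSystem S} {E : FusionSystem T}

/-- **CS-NICE**: for a normal subsystem every map on a centric subgroup is nice. -/
theorem normal_hom_nice [Finite S] (hS : IsPGroup p S) (hE : E.IsNormalIn F p)
    {P : Subgroup Ω} (hPc : E.IsCentric P) {φ : P →* Ω} (hφ : φ ∈ E.Hom P) :
    φ ∈ niceHom F E P := by
  obtain ⟨⟨hEsat, hFsat, hEinv⟩, hext⟩ := hE
  have h : WN p F E := ⟨hS, hFsat, hEsat, hEinv⟩
  have hTsc : F.StronglyClosed T := hEinv.2.1
  have hTS : T ≤ S := hTsc.1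
  haveI : Finite T := Cfsg.Agent.Lib.Helper87.finite_of_le hTS
  have hTp : IsPGroup p T := hS.to_le hTS
  obtain ⟨-, hfrat, -⟩ := ppRes_facts hTp E hEsat
  obtain ⟨α, hα, φ₁, hφ₁, he⟩ := hfrat P φ hφ
  have hres := residual_le_niceSys h (ppRes p E) (isPPrimeResidual_ppRes hTp E hEsat) P hφ₁
  have h1 : φ₁ ∈ niceHom F E P := mem_niceHom_of_mem_niceSys hTsc hPc hres
  have hαext : α ∈ extSub F hTS := hext α hα
  have h2 : T.subtype.comp α.toMonoidHom ∈ niceHom F E T := niceHom_of_mem_extSub hTsc hα hαext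
  have hφ₁T : ∀ x : P, φ₁ x ∈ T := fun x => hom_mem_S E h1.1 x
  have h3 := niceHom_comp h1 h2 hφ₁T inf_le_left
  have e : φ = (T.subtype.comp α.toMonoidHom).comp (φ₁.codRestrict T hφ₁T) := by
    ext x
    rw [he x (hφ₁T x)]
    rfl
  rw [e]
  exact h3

end Cfsg.Agent.Lib.Helper88.Cs
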