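import Cfsg.Agent.Lib.Helper88.EssOut
import Cfsg.Agent.Lib.Helper84.FusionIso

set_option autoImplicit false

namespace Cfsg.Agent.Lib.Helper88

open Cfsg Cfsg.FusionSystem Subgroup
open Cfsg.Agent.Lib.Helper84 (IsIso)
open Cfsg.Agent.Lib.Helper87 (hom_le hom_mem_S le_normalizerIn finite_of_le)

variable {Ω : Type*} [Group Ω] {S : Subgroup Ω}

/-- `e : P ≃* Q` is a marking: it extends to a map of `F` defined on `N_S(P)`. -/
def Marking (F : FusionSystem S) (Q P : Subgroup Ω) (e : P ≃* Q) : Prop :=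
  P ≤ S ∧ ∃ ν ∈ F.Hom (normalizerIn S P),
    ∀ (x : P) (hx : (x : Ω) ∈ normalizerIn S P), ν ⟨x, hx⟩ = ((e x : Q) : Ω)

/-- the isomorphism `f : P ≃* P'`, read through markings, lies in `H` -/
def Good (F : FusionSystem S) (Q : Subgroup Ω) (H : Subgroup (MulAut Q)) (P P' : Subgroup Ω)
    (f : P ≃* P') : Prop :=
  ∀ (e : P ≃* Q) (e' : P' ≃* Q), Marking F Q P e → Marking F Q P' e' →
    ((e.symm.trans f).trans e' : MulAut Q) ∈ H

/-- the key property of the subgroup `H` of `Aut_F(Q)` -/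
def KeyProp (F : FusionSystem S) (Q : Subgroup Ω) (H : Subgroup (MulAut Q)) : Prop :=
  ∀ α ∈ F.autGroup Q, ∀ u ∈ normalizerIn S Q, u ∉ Q → ∀ s ∈ S,
    (∀ (x : Q) (hx : u * (x : Ω) * u⁻¹ ∈ Q),
      ((α ⟨u * x * u⁻¹, hx⟩ : Q) : Ω) = s * ((α x : Q) : Ω) * s⁻¹) → α ∈ H

theorem Marking.isIso {F : FusionSystem S} {Q P : Subgroup Ω} {e : P ≃* Q}
    (h : Marking F Q P e) : IsIso F e := by
  obtain ⟨hP, ν, hν, hνe⟩ := h
  have h1 := Cfsg.Agent.Lib.Helper87.restrict_mem F hν (le_normalizerIn hP)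
  have e1 : ν.comp (Subgroup.inclusion (le_normalizerIn hP)) = Q.subtype.comp e.toMonoidHom := by
    ext x
    exact hνe x _
  rw [e1] at h1
  exact h1

theorem Marking.isConj {F : FusionSystem S} {Q P : Subgroup Ω} {e : P ≃* Q}
    (h : Marking F Q P e) : F.IsConj P Q :=
  (Cfsg.Agent.Lib.Helper84.isConj_iff_exists_iso F).mpr ⟨e, h.isIso⟩

theorem marking_refl (F : FusionSystem S) {Q : Subgroup Ω} (hQ : Q ≤ S) :
    Marking F Q Q (MulEquiv.refl Q) :=
  ⟨hQ, (normalizerIn S Q).subtype,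
    Cfsg.Agent.Lib.Helper87.subtype_mem F (Cfsg.Agent.Lib.Helper87.normalizerIn_le S Q),
    fun _ _ => rfl⟩

theorem exists_marking [Finite S] {p : ℕ} [Fact p.Prime] (hS : IsPGroup p S) (F : FusionSystem S)
    {Q : Subgroup Ω} (hfa : F.IsFullyAutomized p Q) (hrec : F.IsReceptive Q) {P : Subgroup Ω}
    (hc : F.IsConj P Q) : ∃ e : P ≃* Q, Marking F Q P e := by
  have hP : P ≤ S := Cfsg.Agent.Lib.Helper87.isConj_le_left F hc
  obtain ⟨ψ, hψ, -, h2, h3⟩ := Cfsg.Agent.Lib.Helper87.exists_normalizer_map hS F hfa hrec hc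
  have hPN := le_normalizerIn hP
  let g : P →* Q := (ψ.comp (Subgroup.inclusion hPN)).codRestrict Q (fun x => h2 _ x.2)
  have hginj : Function.Injective g := by
    intro a b hab
    have h4 : ψ (Subgroup.inclusion hPN a) = ψ (Subgroup.inclusion hPN b) := congrArg Subtype.val hab
    exact Subgroup.inclusion_injective hPN (F.injective_of_mem hψ h4)
  have hgsurj : Function.Surjective g := by
    rintro ⟨q, hq⟩
    obtain ⟨x, hx, hxq⟩ := h3 q hq
    exact ⟨⟨x, hx⟩, Subtype.ext hxq⟩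
  exact ⟨MulEquiv.ofBijective g ⟨hginj, hgsurj⟩, hP, ψ, hψ, fun _ _ => rfl⟩

theorem good_symm {F : FusionSystem S} {Q : Subgroup Ω} {H : Subgroup (MulAut Q)}
    {P P' : Subgroup Ω} {f : P ≃* P'} (h : Good F Q H P P' f) : Good F Q H P' P f.symm := by
  intro e' e hm' hm
  have h1 := H.inv_mem (h e e' hm hm')
  have e2 : ((e'.symm.trans f.symm).trans e : MulAut Q) = ((e.symm.trans f).trans e' : MulAut Q)⁻¹ := by
    ext x
    rfl
  rw [e2]
  exact h1

theorem good_trans [Finite S] {p : ℕ} [Fact p.Prime] (hS : IsPGroup p S) {F : FusionSystem S}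
    {Q : Subgroup Ω} (hfa : F.IsFullyAutomized p Q) (hrec : F.IsReceptive Q)
    {H : Subgroup (MulAut Q)} {P P' P'' : Subgroup Ω} {f : P ≃* P'} {g : P' ≃* P''}
    (hf : IsIso F f) (h1 : Good F Q H P P' f) (h2 : Good F Q H P' P'' g) :
    Good F Q H P P'' (f.trans g) := by
  intro e e'' hm hm''
  have hc : F.IsConj P' Q :=
    (Cfsg.Agent.Lib.Helper84.isConj_iff_exists_iso F).mpr ⟨f.symm.trans e, hf.symm.trans hm.isIso⟩
  obtain ⟨e', hm'⟩ := exists_marking hS F hfa hrec hc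
  have h3 := H.mul_mem (h2 e' e'' hm' hm'') (h1 e e' hm hm')
  have e2 : ((e.symm.trans (f.trans g)).trans e'' : MulAut Q) =
      ((e'.symm.trans g).trans e'' : MulAut Q) * ((e.symm.trans f).trans e' : MulAut Q) := by
    ext x
    simp [MulAut.mul_apply]
  rw [e2]
  exact h3

/-- The restriction of a map of `F` to a proper subgroup of its source is good. -/
theorem good_of_restrict [Finite S] {p : ℕ} [Fact p.Prime] (hS : IsPGroup p S) {F : FusionSystem S}
    {Q : Subgroup Ω} {H : Subgroup (MulAut Q)} (hkey : KeyProp F Q H)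
    {R P P' : Subgroup Ω} {ψ : R →* Ω} (hψ : ψ ∈ F.Hom R) (hPR : P ≤ R) (hne : P ≠ R)
    (f : P ≃* P') (hf : ∀ x : P, ((f x : P') : Ω) = ψ (Subgroup.inclusion hPR x)) :
    Good F Q H P P' f := by
  rintro e e' ⟨hPS, ν, hν, hνe⟩ ⟨hP'S, ν', hν', hν'e⟩
  have hRS : R ≤ S := hom_le F hψ
  have hfinR : Finite R := finite_of_le hRS
  have hfinP' : Finite P' := finite_of_le hP'S
  have hRp : IsPGroup p R := hS.to_le hRS
  have hfiso : IsIso F f := by
    have h1 := Cfsg.Agent.Lib.Helper87.restrict_mem F hψ hPR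
    have e1 : ψ.comp (Subgroup.inclusion hPR) = P'.subtype.comp f.toMonoidHom := by
      ext x
      exact (hf x).symm
    rw [e1] at h1
    exact h1
  have hm : Marking F Q P e := ⟨hPS, ν, hν, hνe⟩
  have hm' : Marking F Q P' e' := ⟨hP'S, ν', hν', hν'e⟩
  have hQS : Q ≤ S := hm.isIso.le_right
  have hfinQ : Finite Q := finite_of_le hQS
  -- an element of N_R(P) outside P
  have hlt := Cfsg.Agent.Lib.Helper87.card_lt_card_normalizerIn (S := R) hRp hPR hne
  obtain ⟨w, hwN, hwP⟩ : ∃ w ∈ normalizerIn R P, w ∉ P := by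
    by_contra hcon
    push Not at hcon
    have hle : normalizerIn R P ≤ P := hcon
    have hfinP : Finite P := finite_of_le hPS
    exact absurd (Subgroup.card_le_of_le hle) (not_le.mpr hlt)
  have hwR : w ∈ R := hwN.1
  have hwn : w ∈ normalizer (P : Set Ω) := hwN.2
  have hwNS : w ∈ normalizerIn S P := ⟨hRS hwR, hwn⟩
  have hconjP : ∀ y : P, w * (y : Ω) * w⁻¹ ∈ P := fun y => (mem_normalizer_iff.mp hwn _).mp y.2
  have hPN : P ≤ normalizerIn S P := le_normalizerIn hPS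
  -- ν on conjugates
  have hνconj : ∀ y : P, ν ⟨w, hwNS⟩ * ((e y : Q) : Ω) * (ν ⟨w, hwNS⟩)⁻¹ =
      ((e ⟨w * y * w⁻¹, hconjP y⟩ : Q) : Ω) := by
    intro y
    rw [← hνe y (hPN y.2), ← hνe ⟨w * y * w⁻¹, hconjP y⟩ (hPN (hconjP y)), ← map_inv, ← map_mul,
      ← map_mul]
    rfl
  set u := ν ⟨w, hwNS⟩ with hu
  have huS : u ∈ S := hom_mem_S F hν _
  have huN : u ∈ normalizer (Q : Set Ω) := by
    apply mem_normalizer_of_conj_mem_finite
    intro q hq
    have h1 := hνconj (e.symm ⟨q, hq⟩)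
    rw [MulEquiv.apply_symm_apply] at h1
    rw [h1]
    exact (e _).2
  have huQ : u ∉ Q := by
    intro hmem
    apply hwP
    have h1 : ν ⟨w, hwNS⟩ = ν ⟨(e.symm ⟨u, hmem⟩ : P), hPN (e.symm ⟨u, hmem⟩).2⟩ := by
      rw [hνe _ (hPN (e.symm ⟨u, hmem⟩).2), MulEquiv.apply_symm_apply]
    have h2 := F.injective_of_mem hν h1
    have h3 : w = ((e.symm ⟨u, hmem⟩ : P) : Ω) := congrArg Subtype.val h2
    rw [h3]
    exact (e.symm ⟨u, hmem⟩).2
  -- ψ w
  have hψconj : ∀ y : P, ψ ⟨w, hwR⟩ * ((f y : P') : Ω) * (ψ ⟨w, hwR⟩)⁻¹ =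
      ((f ⟨w * y * w⁻¹, hconjP y⟩ : P') : Ω) := by
    intro y
    rw [hf y, hf ⟨w * y * w⁻¹, hconjP y⟩, ← map_inv, ← map_mul, ← map_mul]
    rfl
  set t := ψ ⟨w, hwR⟩ with ht
  have htS : t ∈ S := hom_mem_S F hψ _
  have htN : t ∈ normalizer (P' : Set Ω) := by
    apply mem_normalizer_of_conj_mem_finite
    intro q hq
    have h1 := hψconj (f.symm ⟨q, hq⟩)
    rw [MulEquiv.apply_symm_apply] at h1
    rw [h1]
    exact (f _).2
  have htNS : t ∈ normalizerIn S P' := ⟨htS, htN⟩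
  have hP'N : P' ≤ normalizerIn S P' := le_normalizerIn hP'S
  have hconjP' : ∀ z : P', t * (z : Ω) * t⁻¹ ∈ P' := fun z => (mem_normalizer_iff.mp htN _).mp z.2
  have hν'conj : ∀ z : P', ν' ⟨t, htNS⟩ * ((e' z : Q) : Ω) * (ν' ⟨t, htNS⟩)⁻¹ =
      ((e' ⟨t * z * t⁻¹, hconjP' z⟩ : Q) : Ω) := by
    intro z
    rw [← hν'e z (hP'N z.2), ← hν'e ⟨t * z * t⁻¹, hconjP' z⟩ (hP'N (hconjP' z)), ← map_inv,
      ← map_mul, ← map_mul]
    rfl
  set s := ν' ⟨t, htNS⟩ with hs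
  have hsS : s ∈ S := hom_mem_S F hν' _
  -- the automorphism
  have hαA : ((e.symm.trans f).trans e' : MulAut Q) ∈ F.autGroup Q :=
    (Cfsg.Agent.Lib.Helper84.mem_autGroup_iff F hQS _).mpr
      ((hm.isIso.symm.trans hfiso).trans hm'.isIso)
  refine hkey _ hαA u ⟨huS, huN⟩ huQ s hsS ?_
  intro x hx
  have h1 := hνconj (e.symm x)
  rw [MulEquiv.apply_symm_apply] at h1
  have e1 : (⟨u * (x : Ω) * u⁻¹, hx⟩ : Q) = e ⟨w * (e.symm x : P) * w⁻¹, hconjP (e.symm x)⟩ :=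
    Subtype.ext h1
  rw [e1]
  show ((e' (f (e.symm (e ⟨w * (e.symm x : P) * w⁻¹, hconjP (e.symm x)⟩))) : Q) : Ω) =
    s * ((e' (f (e.symm x)) : Q) : Ω) * s⁻¹
  rw [MulEquiv.symm_apply_apply, hν'conj (f (e.symm x))]
  congr 2
  exact Subtype.ext (hψconj (e.symm x)).symm

theorem not_marking_top [Finite S] {F : FusionSystem S} {Q : Subgroup Ω} (hQS : Q ≤ S) (hQne : Q ≠ S)
    {e : S ≃* Q} : ¬ Marking F Q S e := by
  intro _
  apply hQne
  exact Subgroup.eq_of_le_of_card_ge hQS (Nat.card_congr e.toEquiv).le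

/-- the maps of the subsystem that omits (part of) `Aut_F(Q)` -/
def essHom (F : FusionSystem S) (Q : Subgroup Ω) (H : Subgroup (MulAut Q)) (P : Subgroup Ω) :
    Set (P →* Ω) :=
  {φ | φ ∈ F.Hom P ∧ ∀ (P' : Subgroup Ω) (f : P ≃* P'), (∀ x : P, ((f x : P') : Ω) = φ x) →
    Good F Q H P P' f}

/-- The fusion system obtained from `F` by cutting `Aut_F(Q)` down to `H`. -/
def essSystem [Finite S] {p : ℕ} [Fact p.Prime] (hS : IsPGroup p S) (F : FusionSystem S)
    (Q : Subgroup Ω) (H : Subgroup (MulAut Q)) (hQS : Q ≤ S) (hQne : Q ≠ S)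
    (hfa : F.IsFullyAutomized p Q) (hrec : F.IsReceptive Q) (hkey : KeyProp F Q H) :
    FusionSystem S where
  Hom P := essHom F Q H P
  le_of_mem h := F.le_of_mem h.1
  injective_of_mem h := F.injective_of_mem h.1
  conj_mem := by
    intro P g hP hg
    refine ⟨F.conj_mem hP hg, fun P' f hf => ?_⟩
    by_cases hPS : P = S
    · subst hPS
      intro e e' hm _
      exact absurd hm (not_marking_top hQS hQne)
    · exact good_of_restrict hS hkey (F.conj_mem le_rfl hg) hP hPS f (fun x => hf x)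
  comp_mem := by
    intro P P₁ φ ψ hφ hψ h
    refine ⟨F.comp_mem hφ.1 hψ.1 h, fun P'' f'' hf'' => ?_⟩
    obtain ⟨P', f, hfiso, hfx⟩ : ∃ (P' : Subgroup Ω) (f : P ≃* P'), IsIso F f ∧
        ∀ x : P, ((f x : P') : Ω) = φ x := by
      obtain ⟨f, hf1, hf2⟩ := Cfsg.Agent.Lib.Helper84.exists_iso_of_hom F hφ.1
      exact ⟨_, f, hf1, hf2⟩
    have hP'P₁ : P' ≤ P₁ := by
      intro y hy
      have h1 := hfx (f.symm ⟨y, hy⟩)
      rw [MulEquiv.apply_symm_apply] at h1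
      have h2 : y = φ (f.symm ⟨y, hy⟩) := h1
      rw [h2]
      exact h _
    have hg : ∀ y : P', (((f.symm.trans f'') y : P'') : Ω) = ψ (Subgroup.inclusion hP'P₁ y) := by
      intro y
      show ((f'' (f.symm y) : P'') : Ω) = _
      rw [hf'' (f.symm y)]
      show ψ ⟨φ (f.symm y), _⟩ = ψ (Subgroup.inclusion hP'P₁ y)
      congr 1
      apply Subtype.ext
      show φ (f.symm y) = (y : Ω)
      rw [← hfx (f.symm y), MulEquiv.apply_symm_apply]
    have hgood1 : Good F Q H P P' f := hφ.2 P' f hfx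
    have hgood2 : Good F Q H P' P'' (f.symm.trans f'') := by
      by_cases hPP : P' = P₁
      · subst hPP
        exact hψ.2 P'' _ (fun y => by rw [hg y]; rfl)
      · exact good_of_restrict hS hkey hψ.1 hP'P₁ hPP _ hg
    have e2 : f'' = f.trans (f.symm.trans f'') := by
      ext x
      simp
    rw [e2]
    exact good_trans hS hfa hrec hfiso hgood1 hgood2
  inv_mem := by
    intro P φ hφ
    obtain ⟨ψ, hψ, hinv⟩ := F.inv_mem hφ.1
    refine ⟨ψ, ⟨hψ, fun P'' g hg => ?_⟩, hinv⟩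
    have hPP : P'' = P := by
      ext z
      constructor
      · intro hz
        obtain ⟨x, hx⟩ := (g.symm ⟨z, hz⟩).2
        have h1 := hg (g.symm ⟨z, hz⟩)
        rw [MulEquiv.apply_symm_apply] at h1
        have h2 : g.symm ⟨z, hz⟩ = ⟨φ x, ⟨x, rfl⟩⟩ := Subtype.ext hx.symm
        rw [h2, hinv x] at h1
        have h3 : z = (x : Ω) := h1
        rw [h3]
        exact x.2
      · intro hz
        have h1 := hg ⟨φ ⟨z, hz⟩, ⟨⟨z, hz⟩, rfl⟩⟩
        rw [hinv ⟨z, hz⟩] at h1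
        have h3 : ((g ⟨φ ⟨z, hz⟩, ⟨⟨z, hz⟩, rfl⟩⟩ : P'') : Ω) = z := h1
        rw [← h3]
        exact (g _).2
    subst hPP
    have hgf : g = (MonoidHom.ofInjective (F.injective_of_mem hφ.1)).symm := by
      ext y
      obtain ⟨x, hx⟩ := y.2
      have h2 : y = ⟨φ x, ⟨x, rfl⟩⟩ := Subtype.ext hx.symm
      rw [hg y, h2, hinv x]
      have h3 : (⟨φ x, ⟨x, rfl⟩⟩ : φ.range) = MonoidHom.ofInjective (F.injective_of_mem hφ.1) x := rfl
      rw [h3, MulEquiv.symm_apply_apply]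
    rw [hgf]
    exact good_symm (hφ.2 _ (MonoidHom.ofInjective (F.injective_of_mem hφ.1)) (fun _ => rfl))

theorem essSystem_hom [Finite S] {p : ℕ} [Fact p.Prime] (hS : IsPGroup p S) (F : FusionSystem S)
    (Q : Subgroup Ω) (H : Subgroup (MulAut Q)) (hQS : Q ≤ S) (hQne : Q ≠ S)
    (hfa : F.IsFullyAutomized p Q) (hrec : F.IsReceptive Q) (hkey : KeyProp F Q H) (P : Subgroup Ω) :
    (essSystem hS F Q H hQS hQne hfa hrec hkey).Hom P = essHom F Q H P := rfl

/-- off the class of `Q` nothing is lost -/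
theorem essHom_of_not_conj (F : FusionSystem S) (Q : Subgroup Ω) (H : Subgroup (MulAut Q))
    {R : Subgroup Ω} (hR : ¬ F.IsConj Q R) {φ : R →* Ω} (hφ : φ ∈ F.Hom R) : φ ∈ essHom F Q H R := by
  refine ⟨hφ, fun P' f _ e e' hm _ => ?_⟩
  exact absurd (Cfsg.Agent.Lib.Helper87.isConj_symm F hm.isConj) hR

/-- an automorphism of `Q` that survives lies in `H` -/
theorem mem_of_essHom (F : FusionSystem S) {Q : Subgroup Ω} (H : Subgroup (MulAut Q)) (hQS : Q ≤ S)
    {α : MulAut Q} (hα : Q.subtype.comp α.toMonoidHom ∈ essHom F Q H Q) : α ∈ H := by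
  have h1 := hα.2 Q α (fun _ => rfl) (MulEquiv.refl Q) (MulEquiv.refl Q) (marking_refl F hQS)
    (marking_refl F hQS)
  have e1 : (((MulEquiv.refl Q).symm.trans α).trans (MulEquiv.refl Q) : MulAut Q) = α := by
    ext x
    rfl
  rw [e1] at h1
  exact h1

end Cfsg.Agent.Lib.Helper88
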