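import Cfsg.Agent.Lib.Helper88.Ez_TLAcore
import Cfsg.Prelude.Def_ChevE6

/-! # Ez hive (helper83), leaf T6-LA: `TabLA chevE6` (72 roots, checked in 3 chunks of 24). -/

set_option autoImplicit false

namespace Cfsg.Agent.Lib.Helper83.Ez

open Cfsg Cfsg.Lie Cfsg.Agent.Lib.Helper76.E8m

theorem tla_E6_c0 : tla_chunk chevE6 0 24 = true := by decide +kernel
theorem tla_E6_c1 : tla_chunk chevE6 24 24 = true := by decide +kernel
theorem tla_E6_c2 : tla_chunk chevE6 48 24 = true := by decide +kernel

theorem tla_E6_nroots : chevE6.nroots = 72 := by decide +kernel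

/-- T6-LA -/
theorem tabLA_E6 : TabLA chevE6 := by
  apply tla_spec
  intro a ha
  rw [tla_E6_nroots] at ha
  by_cases h1 : a < 24
  · exact tla_chunk_row chevE6 0 24 tla_E6_c0 a (by omega) (by omega)
  by_cases h2 : a < 48
  · exact tla_chunk_row chevE6 24 24 tla_E6_c1 a (by omega) (by omega)
  · exact tla_chunk_row chevE6 48 24 tla_E6_c2 a (by omega) (by omega)

end Cfsg.Agent.Lib.Helper83.Ez
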