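import Cfsg.Agent.Lib.Helper76.E8mDefs

/-! # Ez hive (S1079 + S2106 + S2105, helper83), leaves T7-LA + T6-LA, generic part: every commuting pair `(a, b)`
of roots has a decomposition `a = c + d` with `b` commuting with `c` and `d`.
Generic Boolean checker `tla_row D a` (witness search in the row of `-a` of the chain table), to be verified in
chunks of `a` (memory), + soundness `tla_spec`. -/

set_option autoImplicit false

namespace Cfsg.Agent.Lib.Helper83.Ez

open Cfsg Cfsg.Lie Cfsg.Agent.Lib.Helper76.E8m

/-- Boolean version of `Cm` -/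
def tla_cm (D : ChevalleyDatum) (a b : ℕ) : Bool :=
  decide (a < D.nroots) && (decide (b < D.nroots) && ((b != D.neg a) && (D.chainEntry a b).isEmpty))

theorem tla_cm_iff (D : ChevalleyDatum) (a b : ℕ) : tla_cm D a b = true ↔ Cm D a b := by
  unfold tla_cm Cm
  simp only [Bool.and_eq_true, decide_eq_true_eq, bne_iff_ne, ne_eq, List.isEmpty_iff]

/-- the candidate decompositions `a = c + d`, read off the row of `-a` -/
def tla_cands (D : ChevalleyDatum) (a : ℕ) : List (ℕ × ℕ) :=
  (D.chain.getD (D.neg a) #[]).toList.map fun p => (p.1, D.neg ((p.2.toList.head?.map Prod.fst).getD 0))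

/-- some candidate works -/
def tla_wit (D : ChevalleyDatum) (a b : ℕ) : Bool :=
  (tla_cands D a).any fun cd => (sm D cd.1 cd.2 == some a) && (tla_cm D b cd.1 && tla_cm D b cd.2)

/-- the Boolean check for the root `a` -/
def tla_row (D : ChevalleyDatum) (a : ℕ) : Bool :=
  (List.range D.nroots).all fun b => !(tla_cm D a b) || tla_wit D a b

/-- the Boolean check for the roots `lo ≤ a < lo + len` -/
def tla_chunk (D : ChevalleyDatum) (lo len : ℕ) : Bool :=
  (List.range' lo len).all fun a => tla_row D a

theorem tla_chunk_row (D : ChevalleyDatum) (lo len : ℕ) (h : tla_chunk D lo len = true) (a : ℕ)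
    (h1 : lo ≤ a) (h2 : a < lo + len) : tla_row D a = true := by
  unfold tla_chunk at h
  rw [List.all_eq_true] at h
  apply h a
  rw [List.mem_range'_1]
  exact ⟨h1, h2⟩

theorem tla_spec (D : ChevalleyDatum) (h : ∀ a < D.nroots, tla_row D a = true) : TabLA D := by
  intro a b hab
  have h1 := h a hab.1
  unfold tla_row at h1
  rw [List.all_eq_true] at h1
  have h2 := h1 b (List.mem_range.2 hab.2.1)
  have hcm : tla_cm D a b = true := (tla_cm_iff D a b).2 hab
  rw [hcm] at h2
  simp only [Bool.not_true, Bool.false_or] at h2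
  unfold tla_wit at h2
  rw [List.any_eq_true] at h2
  obtain ⟨cd, -, hcd⟩ := h2
  simp only [Bool.and_eq_true, beq_iff_eq] at hcd
  exact ⟨cd.1, cd.2, hcd.1, (tla_cm_iff D b cd.1).1 hcd.2.1, (tla_cm_iff D b cd.2).1 hcd.2.2⟩

end Cfsg.Agent.Lib.Helper83.Ez
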