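import Cfsg.Agent.Lib.Helper88.InvCore
import Cfsg.Agent.Lib.Helper88.Centric
import Cfsg.Agent.Lib.Helper84.FusionIso
import Cfsg.Agent.Lib.Helper85.Sylow

set_option autoImplicit false

namespace Cfsg.Agent.Lib.Helper88

open Cfsg Cfsg.FusionSystem
open Cfsg.Agent.Lib.Helper87 (restrict_mem hom_le hom_mem_S subtype_mem)
open Cfsg.Agent.Lib.Helper85 (cj cj_apply cj_injective)

section pgen

variable {X X' : Type*} [Group X] [Group X']

/-- the subgroup generated by the elements of `p`-power order of `A` (i.e. `O^{p'}(A)`) -/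
def pGen (p : ℕ) (A : Subgroup X) : Subgroup X :=
  Subgroup.closure {x | x ∈ A ∧ ∃ k : ℕ, orderOf x = p ^ k}

theorem map_closure_eq_pGen (p : ℕ) (A : Subgroup X) :
    (Subgroup.closure {α : A | ∃ k : ℕ, orderOf α = p ^ k}).map A.subtype = pGen p A := by
  unfold pGen
  rw [MonoidHom.map_closure]
  congr 1
  ext x
  constructor
  · rintro ⟨a, ⟨k, hk⟩, rfl⟩
    refine ⟨a.2, k, ?_⟩
    rw [← hk]
    exact Subgroup.orderOf_coe a
  · rintro ⟨hx, k, hk⟩
    refine ⟨⟨x, hx⟩, ⟨k, ?_⟩, rfl⟩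
    rw [← hk]
    exact (Subgroup.orderOf_coe (⟨x, hx⟩ : A)).symm

theorem pGen_le (p : ℕ) (A : Subgroup X) : pGen p A ≤ A :=
  (Subgroup.closure_le _).mpr (fun _ hx => hx.1)

theorem pGen_map_le (p : ℕ) {A : Subgroup X} {A' : Subgroup X'} (c : X →* X')
    (hc : Function.Injective c) (hA : ∀ x ∈ A, c x ∈ A') : (pGen p A).map c ≤ pGen p A' := by
  unfold pGen
  rw [MonoidHom.map_closure]
  apply Subgroup.closure_mono
  rintro _ ⟨x, ⟨hxA, k, hk⟩, rfl⟩
  exact ⟨hA x hxA, k, by rw [orderOf_injective c hc, hk]⟩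

theorem pGen_conj_mem (p : ℕ) {A : Subgroup X} {χ a : X} (hχ : χ ∈ A) (ha : a ∈ pGen p A) :
    χ * a * χ⁻¹ ∈ pGen p A :=
  pGen_map_le p (cj χ) (cj_injective χ)
    (fun x hx => A.mul_mem (A.mul_mem hχ hx) (A.inv_mem hχ)) ⟨a, ha, rfl⟩

theorem le_pGen_of_isPGroup (p : ℕ) [Fact p.Prime] {A B : Subgroup X} (hBA : B ≤ A)
    (hB : IsPGroup p B) : B ≤ pGen p A := by
  intro b hb
  apply Subgroup.subset_closure
  obtain ⟨k, hk⟩ := (IsPGroup.iff_orderOf.mp hB) ⟨b, hb⟩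
  refine ⟨hBA hb, k, ?_⟩
  rw [← hk]
  exact Subgroup.orderOf_coe (⟨b, hb⟩ : B)

end pgen

variable {Ω : Type*} [Group Ω] {S : Subgroup Ω}

/-- the isomorphism `P ≃* α(P)` induced by an automorphism `α` of `S` -/
noncomputable def imgEquiv (α : MulAut S) {P : Subgroup Ω} (hPS : P ≤ S) : P ≃* img α P :=
  MulEquiv.ofBijective
    (((S.subtype.comp α.toMonoidHom).comp (Subgroup.inclusion hPS)).codRestrict (img α P)
      (fun x => mem_img.mpr ⟨⟨x, hPS x.2⟩, x.2, rfl⟩))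
    ⟨by
      intro a b hab
      have h1 : ((α ⟨a, hPS a.2⟩ : S) : Ω) = ((α ⟨b, hPS b.2⟩ : S) : Ω) :=
        congrArg (fun z : img α P => (z : Ω)) hab
      have h2 := α.injective (Subtype.ext h1)
      exact Subtype.ext (congrArg (fun z : S => (z : Ω)) h2),
     by
      rintro ⟨y, hy⟩
      obtain ⟨x0, hx0, hx0y⟩ := mem_img.mp hy
      exact ⟨⟨x0, hx0⟩, Subtype.ext hx0y⟩⟩

theorem imgEquiv_coe (α : MulAut S) {P : Subgroup Ω} (hPS : P ≤ S) (x : P) :
    ((imgEquiv α hPS x : img α P) : Ω) = ((α ⟨x, hPS x.2⟩ : S) : Ω) := rfl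

theorem imgEquiv_isIso (F : FusionSystem S) {α : MulAut S} (hα : α ∈ F.autGroup S)
    {P : Subgroup Ω} (hPS : P ≤ S) : Cfsg.Agent.Lib.Helper84.IsIso F (imgEquiv α hPS) := by
  have hαF := (Cfsg.Agent.Lib.Helper87.mem_autGroup_iff F le_rfl α).mp hα
  have h1 := restrict_mem F hαF hPS
  have e : (img α P).subtype.comp (imgEquiv α hPS).toMonoidHom =
      (S.subtype.comp α.toMonoidHom).comp (Subgroup.inclusion hPS) := by
    ext x; rfl
  unfold Cfsg.Agent.Lib.Helper84.IsIso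
  rw [e]
  exact h1

theorem congr_mem_autGroup (F : FusionSystem S) {P Q : Subgroup Ω} (hQ : Q ≤ S) {e : P ≃* Q}
    (he : Cfsg.Agent.Lib.Helper84.IsIso F e) {γ : MulAut P} (hγ : γ ∈ F.autGroup P) :
    MulAut.congr e γ ∈ F.autGroup Q := by
  have hP : P ≤ S := he.le_left
  rw [Cfsg.Agent.Lib.Helper84.mem_autGroup_iff F hQ]
  have hγ' := (Cfsg.Agent.Lib.Helper84.mem_autGroup_iff F hP γ).mp hγ
  exact Cfsg.Agent.Lib.Helper84.IsIso.trans (Cfsg.Agent.Lib.Helper84.IsIso.symm he)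
    (Cfsg.Agent.Lib.Helper84.IsIso.trans hγ' he)

theorem congr_apply {P Q : Subgroup Ω} (e : P ≃* Q) (γ : MulAut P) (x : P) :
    (MulAut.congr e γ) (e x) = e (γ x) := by
  simp [MulAut.congr]

/-- the hypothesis `O^{p'}(Aut_F(P)) ≤ Aut_E(P)` for `F`-centric `P` passes to the invariant core -/
theorem pGen_le_invCore_autGroup {p : ℕ} {E F : FusionSystem S}
    (h : ∀ P : Subgroup Ω, F.IsCentric P → pGen p (F.autGroup P) ≤ E.autGroup P)
    {P : Subgroup Ω} (hP : F.IsCentric P) :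
    pGen p (F.autGroup P) ≤ (invCore E F).autGroup P := by
  intro γ hγ
  have hPS : P ≤ S := hP.1
  rw [Cfsg.Agent.Lib.Helper87.mem_autGroup_iff (invCore E F) hPS]
  refine ⟨(Cfsg.Agent.Lib.Helper87.mem_autGroup_iff E hPS γ).mp (h P hP hγ), fun α hα => ?_⟩
  have he := imgEquiv_isIso F hα hPS
  have hP'S : img α P ≤ S := img_le α P
  have hP'c : F.IsCentric (img α P) :=
    isCentric_of_isConj F hP ((Cfsg.Agent.Lib.Helper84.isConj_iff_exists_iso F).mpr ⟨_, he⟩)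
  have h1 : MulAut.congr (imgEquiv α hPS) γ ∈ pGen p (F.autGroup (img α P)) :=
    pGen_map_le p (MulAut.congr (imgEquiv α hPS)).toMonoidHom
      (MulAut.congr (imgEquiv α hPS)).injective
      (fun x hx => congr_mem_autGroup F hP'S he hx) ⟨γ, hγ, rfl⟩
  have h2 := h _ hP'c h1
  refine ⟨_, (Cfsg.Agent.Lib.Helper87.mem_autGroup_iff E hP'S _).mp h2, ?_⟩
  intro x hx hφx hαx
  have e1 : (⟨((α ⟨(x : Ω), hx⟩ : S) : Ω), hαx⟩ : img α P) = imgEquiv α hPS x := Subtype.ext rfl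
  rw [e1]
  show (((MulAut.congr (imgEquiv α hPS) γ) (imgEquiv α hPS x) : img α P) : Ω) = _
  rw [congr_apply, imgEquiv_coe]
  rfl

end Cfsg.Agent.Lib.Helper88
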