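import Cfsg.Agent.Lib.Helper88.FratInduction2
import Cfsg.Agent.Lib.Helper88.PGen

/-!
# Consequences of the Frattini factorization `F = Aut_F(S) ∘ E` (extracted from S5114)
-/

set_option autoImplicit false

namespace Cfsg.Agent.Lib.Helper88

open Cfsg Cfsg.FusionSystem
open Cfsg.Agent.Lib.Helper87 (restrict_mem hom_le hom_mem_S subtype_mem conjAut
  conjAut_mem_autInducedBy autInducedBy_le_autGroup mem_autInducedBy_iff fc_fa_of_fullyNormalized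
  exists_fullyNormalized_conj)
open Cfsg.Agent.Lib.Helper85 (cj cj_apply SylIn)

/-- If every map of the saturated system `F` is an element of `Aut_F(S)` composed with a map of the
subsystem `E` (over the same `S`), then `E` has index prime to `p` in `F` and has the same centric
subgroups. -/
theorem facts_of_frattini {Ω : Type*} [Group Ω] {S : Subgroup Ω} [Finite S] (p : ℕ) [Fact p.Prime]
    (hS : IsPGroup p S) (F : Cfsg.FusionSystem S) (hF : F.IsSaturated p) (E : Cfsg.FusionSystem S)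
    (hEF : E.IsSubsystemOf F)
    (hb' : ∀ (P : Subgroup Ω) (φ : P →* Ω), φ ∈ F.Hom P → ∃ α ∈ F.autGroup S,
      ∃ φ₀ ∈ E.Hom P, ∀ (x : P) (hx : φ₀ x ∈ S), φ x = ((α ⟨φ₀ x, hx⟩ : S) : Ω)) :
    E.HasPrimeToPIndexIn F p ∧ ∀ P : Subgroup Ω, E.IsCentric P ↔ F.IsCentric P := by
  refine ⟨⟨hEF, fun P hPS => ?_⟩, fun P => ⟨fun hPc => ?_, fun hPc => ?_⟩⟩
  · -- (a)
    rw [map_closure_eq_pGen]
    unfold pGen
    rw [Subgroup.closure_le]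
    rintro γ ⟨hγ, k, hk⟩
    show γ ∈ E.autGroup P
    obtain ⟨Q, hPQ, hfn⟩ := exists_fullyNormalized_conj F hPS
    obtain ⟨e, he⟩ := (Cfsg.Agent.Lib.Helper84.isConj_iff_exists_iso F).mp hPQ
    have hQS : Q ≤ S := he.le_right
    have hQfin : Finite Q := Cfsg.Agent.Lib.Helper87.finite_of_le hQS
    have hγ' : MulAut.congr e γ ∈ F.autGroup Q := congr_mem_autGroup F hQS he hγ
    have hfa : SylIn p (autInducedBy S Q) (F.autGroup Q) :=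
      (fc_fa_of_fullyNormalized hS F hF hfn).2.2
    have hord : orderOf (MulAut.congr e γ) = p ^ k := by
      rw [← hk]
      exact orderOf_injective (MulAut.congr e).toMonoidHom (MulAut.congr e).injective γ
    have hL : IsPGroup p (Subgroup.zpowers (MulAut.congr e γ)) := by
      apply IsPGroup.of_card (n := k)
      rw [Nat.card_zpowers, hord]
    have hLH : Subgroup.zpowers (MulAut.congr e γ) ≤ F.autGroup Q :=
      Subgroup.zpowers_le.mpr hγ'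
    obtain ⟨θ, hθA, hθ⟩ := hfa.exists_conj_le hLH hL
    have h1 : θ * MulAut.congr e γ * θ⁻¹ ∈ autInducedBy S Q :=
      hθ ⟨_, Subgroup.mem_zpowers _, rfl⟩
    obtain ⟨s, hsS, hs⟩ := (mem_autInducedBy_iff S Q _).mp h1
    have hθF := (Cfsg.Agent.Lib.Helper87.mem_autGroup_iff F hQS θ).mp hθA
    have hψ := he.comp_hom hθF
    obtain ⟨α, hα, ψ₀, hψ₀, hψe⟩ := hb' P _ hψ
    have hψ₀S : ∀ x : P, ψ₀ x ∈ S := hom_mem_S E hψ₀
    -- ψ (γ x) = s ψ(x) s⁻¹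
    have key : ∀ x : P, ((θ (e (γ x)) : Q) : Ω) = s * ((θ (e x) : Q) : Ω) * s⁻¹ := by
      intro x
      have h2 := hs (θ (e x))
      have e1 : (θ * MulAut.congr e γ * θ⁻¹) (θ (e x)) = θ (e (γ x)) := by
        rw [MulAut.mul_apply, MulAut.mul_apply, MulAut.inv_apply_self, congr_apply]
      rw [e1] at h2
      exact h2
    have key2 : ∀ x : P, ψ₀ (γ x) =
        ((α⁻¹ ⟨s, hsS⟩ : S) : Ω) * ψ₀ x * ((α⁻¹ ⟨s, hsS⟩ : S) : Ω)⁻¹ := by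
      intro x
      have h3 : ((α ⟨ψ₀ (γ x), hψ₀S _⟩ : S) : Ω) = s * ((α ⟨ψ₀ x, hψ₀S _⟩ : S) : Ω) * s⁻¹ := by
        rw [← hψe (γ x) (hψ₀S _), ← hψe x (hψ₀S _)]
        exact key x
      have h4 : α ⟨ψ₀ (γ x), hψ₀S _⟩ = ⟨s, hsS⟩ * α ⟨ψ₀ x, hψ₀S _⟩ * ⟨s, hsS⟩⁻¹ :=
        Subtype.ext h3
      have h5 : (⟨ψ₀ (γ x), hψ₀S _⟩ : S) =
          α⁻¹ ⟨s, hsS⟩ * ⟨ψ₀ x, hψ₀S _⟩ * (α⁻¹ ⟨s, hsS⟩)⁻¹ := by
        have := congrArg (fun z => α⁻¹ z) h4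
        simp only [MulAut.inv_apply_self, map_mul, map_inv] at this
        exact this
      exact congrArg (fun z : S => (z : Ω)) h5
    rw [Cfsg.Agent.Lib.Helper87.mem_autGroup_iff E hPS]
    have hrS : ψ₀.range ≤ S := by
      rintro _ ⟨x, rfl⟩
      exact hψ₀S x
    have hcj : conjHom ψ₀.range ((α⁻¹ ⟨s, hsS⟩ : S) : Ω) ∈ E.Hom ψ₀.range :=
      E.conj_mem hrS (α⁻¹ ⟨s, hsS⟩).2
    have hγP : ∀ x : P, (P.subtype.comp γ.toMonoidHom) x ∈ P := fun x => (γ x).2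
    have hfac : ψ₀.comp ((P.subtype.comp γ.toMonoidHom).codRestrict P hγP) ∈ E.Hom P :=
      mem_of_factor E hψ₀ (fun x => (⟨x, rfl⟩ : ψ₀ x ∈ ψ₀.range)) hcj
        (fun x => (key2 x).symm)
    exact mem_of_comp_mem E hψ₀ hγP hfac
  · -- E-centric ⇒ F-centric
    refine ⟨hPc.1, ?_⟩
    rintro Q ⟨φ, hφ, rfl⟩
    obtain ⟨α, hα, φ₀, hφ₀, hφe⟩ := hb' P φ hφ
    have hφ₀S : ∀ x : P, φ₀ x ∈ S := hom_mem_S E hφ₀
    have hQ₀ := hPc.2 φ₀.range ⟨φ₀, hφ₀, rfl⟩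
    intro c hc
    have hc' : ((α⁻¹ ⟨c, hc.1⟩ : S) : Ω) ∈ centralizerIn S φ₀.range := by
      refine ⟨(α⁻¹ ⟨c, hc.1⟩).2, Subgroup.mem_centralizer_iff.mpr ?_⟩
      rintro _ ⟨x, rfl⟩
      have h1 := Subgroup.mem_centralizer_iff.mp hc.2 (φ x) ⟨x, rfl⟩
      rw [hφe x (hφ₀S x)] at h1
      have h2 : α ⟨φ₀ x, hφ₀S x⟩ * ⟨c, hc.1⟩ = ⟨c, hc.1⟩ * α ⟨φ₀ x, hφ₀S x⟩ := Subtype.ext h1
      have h3 := congrArg (fun z => α⁻¹ z) h2
      simp only [MulAut.inv_apply_self, map_mul] at h3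
      exact congrArg (fun z : S => (z : Ω)) h3
    obtain ⟨x₁, hx₁⟩ := hQ₀ hc'
    refine ⟨x₁, ?_⟩
    rw [hφe x₁ (hφ₀S x₁)]
    have h4 : (⟨φ₀ x₁, hφ₀S x₁⟩ : S) = α⁻¹ ⟨c, hc.1⟩ := Subtype.ext hx₁
    rw [h4, MulAut.apply_inv_self]
  · -- F-centric ⇒ E-centric
    refine ⟨hPc.1, ?_⟩
    rintro Q ⟨φ, hφ, hr⟩
    exact hPc.2 Q ⟨φ, hEF _ hφ, hr⟩

end Cfsg.Agent.Lib.Helper88
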