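import Cfsg.Agent.Lib.Helper88.PPrimeRes
import Cfsg.Agent.Lib.Helper88.FratFacts

/-!
# The residual construction relative to a family of centric subgroups, part 1: the Frattini
factorization
-/

set_option autoImplicit false

namespace Cfsg.Agent.Lib.Helper88

open Cfsg Cfsg.FusionSystem
open Cfsg.Agent.Lib.Helper87 (restrict_mem hom_le hom_mem_S subtype_mem inv_exists finite_of_le
  le_normalizerIn normalizerIn_le card_lt_card_normalizerIn conjAut conjAut_mem_autInducedBy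
  autInducedBy_le_autGroup mem_autInducedBy_iff fc_fa_of_fullyNormalized
  receptive_of_fullyNormalized exists_normalizer_map exists_fullyNormalized_conj conjAut_coe)
open Cfsg.Agent.Lib.Helper85 (cj cj_apply SylIn)

variable {Ω : Type*} [Group Ω] {S : Subgroup Ω}

/-- a family of `F`-centric subgroups, closed under `F`-conjugacy, containing `S`, such that every
fully normalized `F`-centric subgroup outside it has a witness: an element `g ∈ N_S(P) ∖ P` with
`c_g` in a `p`-subgroup of `Aut(P)` normalized by `Aut_F(P)`; together with a normal subgroup `N`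
of `Aut_F(S)` -/
structure Fam (p : ℕ) (F : FusionSystem S) (ℋ : Set (Subgroup Ω)) (N : Subgroup (MulAut S)) :
    Prop where
  centric : ∀ P ∈ ℋ, F.IsCentric P
  conj : ∀ P ∈ ℋ, ∀ Q, F.IsConj P Q → Q ∈ ℋ
  top : S ∈ ℋ
  witness : ∀ P, F.IsCentric P → F.IsFullyNormalized P → P ∉ ℋ →
    ∃ (g : Ω) (hg : g ∈ normalizerIn S P), g ∉ P ∧ ∃ U : Subgroup (MulAut P), IsPGroup p U ∧
      (∀ γ ∈ F.autGroup P, ∀ u ∈ U, γ * u * γ⁻¹ ∈ U) ∧ conjAut P g hg.2 ∈ U
  hN : N ≤ F.autGroup S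
  hNn : ∀ α ∈ F.autGroup S, ∀ ν ∈ N, α * ν * α⁻¹ ∈ N

/-- the class of subsystems over which we intersect -/
def famClass (p : ℕ) (F : FusionSystem S) (ℋ : Set (Subgroup Ω)) (N : Subgroup (MulAut S)) :
    Set (FusionSystem S) :=
  {D | (∀ P ∈ ℋ, pGen p (F.autGroup P) ≤ D.autGroup P) ∧
    (∀ α ∈ F.autGroup S, ∀ (P : Subgroup Ω) (hP : P ≤ S), P ∈ ℋ →
      resAutHom α P hP ∈ D.Hom P → α ∈ D.autGroup S) ∧ N ≤ D.autGroup S}

/-- the relative residual -/
def famRes (p : ℕ) (F : FusionSystem S) (ℋ : Set (Subgroup Ω)) (N : Subgroup (MulAut S)) :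
    FusionSystem S := interSystem F (famClass p F ℋ N)

theorem famRes_le (p : ℕ) (F : FusionSystem S) (ℋ : Set (Subgroup Ω)) (N : Subgroup (MulAut S)) :
    famRes p F ℋ N ≤ F := interSystem_le F _

theorem famRes_le_of_mem {p : ℕ} {F D : FusionSystem S} {ℋ : Set (Subgroup Ω)}
    {N : Subgroup (MulAut S)} (hD : D ∈ famClass p F ℋ N) : famRes p F ℋ N ≤ D :=
  interSystem_le_of_mem F hD

section

variable {p : ℕ} {F : FusionSystem S} {ℋ : Set (Subgroup Ω)} {N : Subgroup (MulAut S)}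

theorem famRes_pGen (hfam : Fam p F ℋ N) : ∀ P ∈ ℋ,
    pGen p (F.autGroup P) ≤ (famRes p F ℋ N).autGroup P := by
  intro P hP α hα
  rw [famRes, mem_autGroup_interSystem F _ (hfam.centric P hP).1]
  exact ⟨pGen_le p _ hα, fun D hD => hD.1 P hP hα⟩

theorem famRes_resClosed (p : ℕ) (F : FusionSystem S) (ℋ : Set (Subgroup Ω))
    (N : Subgroup (MulAut S)) : ∀ α ∈ F.autGroup S, ∀ (P : Subgroup Ω) (hP : P ≤ S), P ∈ ℋ →
      resAutHom α P hP ∈ (famRes p F ℋ N).Hom P → α ∈ (famRes p F ℋ N).autGroup S := by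
  intro α hα P hP hPH hres
  rw [famRes, mem_autGroup_interSystem F _ le_rfl]
  exact ⟨hα, fun D hD => hD.2.1 α hα P hP hPH (hres.2 D hD)⟩

theorem famRes_N (hfam : Fam p F ℋ N) : N ≤ (famRes p F ℋ N).autGroup S := by
  intro ν hν
  rw [famRes, mem_autGroup_interSystem F _ le_rfl]
  exact ⟨hfam.hN hν, fun D hD => hD.2.2 hν⟩

theorem famRes_mem_famClass (hfam : Fam p F ℋ N) : famRes p F ℋ N ∈ famClass p F ℋ N :=
  ⟨famRes_pGen hfam, famRes_resClosed p F ℋ N, famRes_N hfam⟩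

end

/-- the hypothesis `O^{p'}(Aut_F(P)) ≤ Aut_E(P)` for `P` in a conjugation-closed family passes to
the invariant core -/
theorem pGen_le_invCore_autGroup_fam {p : ℕ} {E F : FusionSystem S} {ℋ : Set (Subgroup Ω)}
    (hℋS : ∀ P ∈ ℋ, P ≤ S) (hℋ : ∀ P ∈ ℋ, ∀ Q, F.IsConj P Q → Q ∈ ℋ)
    (h : ∀ P ∈ ℋ, pGen p (F.autGroup P) ≤ E.autGroup P)
    {P : Subgroup Ω} (hP : P ∈ ℋ) :
    pGen p (F.autGroup P) ≤ (invCore E F).autGroup P := by
  intro γ hγ
  have hPS : P ≤ S := hℋS P hP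
  rw [Cfsg.Agent.Lib.Helper87.mem_autGroup_iff (invCore E F) hPS]
  refine ⟨(Cfsg.Agent.Lib.Helper87.mem_autGroup_iff E hPS γ).mp (h P hP hγ), fun α hα => ?_⟩
  have he := imgEquiv_isIso F hα hPS
  have hP'S : img α P ≤ S := img_le α P
  have hP'c : img α P ∈ ℋ :=
    hℋ P hP _ ((Cfsg.Agent.Lib.Helper84.isConj_iff_exists_iso F).mpr ⟨_, he⟩)
  have h1 : MulAut.congr (imgEquiv α hPS) γ ∈ pGen p (F.autGroup (img α P)) :=
    pGen_map_le p (MulAut.congr (imgEquiv α hPS)).toMonoidHom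
      (MulAut.congr (imgEquiv α hPS)).injective
      (fun x hx => congr_mem_autGroup F hP'S he hx) ⟨γ, hγ, rfl⟩
  have h2 := h _ hP'c h1
  refine ⟨_, (Cfsg.Agent.Lib.Helper87.mem_autGroup_iff E hP'S _).mp h2, ?_⟩
  intro x hx hφx hαx
  have e1 : (⟨((α ⟨(x : Ω), hx⟩ : S) : Ω), hαx⟩ : img α P) = imgEquiv α hPS x := Subtype.ext rfl
  rw [e1]
  show (((MulAut.congr (imgEquiv α hPS) γ) (imgEquiv α hPS x) : img α P) : Ω) = _
  rw [congr_apply, imgEquiv_coe]
  rfl

section witness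

variable [Finite S] {p : ℕ} [Fact p.Prime]

/-- automorphisms of a fully normalized subgroup with a witness extend to a larger subgroup -/
theorem aut_mem_fratClosure_of_witness (hS : IsPGroup p S) {F : FusionSystem S}
    (hF : F.IsSaturated p) {E : FusionSystem S} (hinv : InvProp E F)
    {Q : Subgroup Ω} (hfn : F.IsFullyNormalized Q)
    {g : Ω} (hgN : g ∈ normalizerIn S Q) (hgQ : g ∉ Q)
    (U : Subgroup (MulAut Q)) (hUp : IsPGroup p U)
    (hUn : ∀ γ ∈ F.autGroup Q, ∀ u ∈ U, γ * u * γ⁻¹ ∈ U) (hgU : conjAut Q g hgN.2 ∈ U)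
    (IH : ∀ R : Subgroup Ω, R ≤ S → Nat.card Q < Nat.card R → ∀ ρ ∈ F.Hom R,
      ρ ∈ (fratClosure E F hinv).Hom R)
    (χ : MulAut Q) (hχ : χ ∈ F.autGroup Q) :
    Q.subtype.comp χ.toMonoidHom ∈ (fratClosure E F hinv).Hom Q := by
  have hQS : Q ≤ S := hfn.1
  have hQfin : Finite Q := finite_of_le hQS
  have hfa : SylIn p (autInducedBy S Q) (F.autGroup Q) :=
    (fc_fa_of_fullyNormalized hS F hF hfn).2.2
  have hrec := receptive_of_fullyNormalized hS F hF hfn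
  have hASA : autInducedBy S Q ≤ F.autGroup Q := autInducedBy_le_autGroup F hQS
  -- `U ⊓ Aut_F(Q)` is a normal `p`-subgroup of `Aut_F(Q)`, hence inside `Aut_S(Q)`
  have hU'p : IsPGroup p ↥(U ⊓ F.autGroup Q) := hUp.to_le inf_le_left
  have hU'le : U ⊓ F.autGroup Q ≤ autInducedBy S Q := by
    obtain ⟨a, haA, ha⟩ := hfa.exists_conj_le (inf_le_right : U ⊓ F.autGroup Q ≤ _) hU'p
    intro u hu
    have h1 : a⁻¹ * u * a⁻¹⁻¹ ∈ U ⊓ F.autGroup Q :=
      ⟨hUn a⁻¹ ((F.autGroup Q).inv_mem haA) u hu.1,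
        (F.autGroup Q).mul_mem ((F.autGroup Q).mul_mem ((F.autGroup Q).inv_mem haA) hu.2)
          ((F.autGroup Q).inv_mem ((F.autGroup Q).inv_mem haA))⟩
    have h2 : cj a (a⁻¹ * u * a⁻¹⁻¹) ∈ autInducedBy S Q := ha ⟨_, h1, rfl⟩
    have e : cj a (a⁻¹ * u * a⁻¹⁻¹) = u := by
      rw [cj_apply]; group
    rwa [e] at h2
  have hcg : conjAut Q g hgN.2 ∈ U ⊓ F.autGroup Q :=
    ⟨hgU, hASA (conjAut_mem_autInducedBy hgN.1 hgN.2)⟩
  have hχcg : χ * conjAut Q g hgN.2 * χ⁻¹ ∈ autInducedBy S Q :=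
    hU'le ⟨hUn χ hχ _ hcg.1,
      (F.autGroup Q).mul_mem ((F.autGroup Q).mul_mem hχ hcg.2) ((F.autGroup Q).inv_mem hχ)⟩
  obtain ⟨s, hsS, hs⟩ := (mem_autInducedBy_iff S Q _).mp hχcg
  have hχF : Q.subtype.comp χ.toMonoidHom ∈ F.Hom Q :=
    (Cfsg.Agent.Lib.Helper87.mem_autGroup_iff F hQS _).mp hχ
  have hχr : (Q.subtype.comp χ.toMonoidHom).range = Q := by
    ext y
    constructor
    · rintro ⟨x, rfl⟩
      exact (χ x).2
    · intro hy
      refine ⟨χ.symm ⟨y, hy⟩, ?_⟩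
      show ((χ (χ.symm ⟨y, hy⟩) : Q) : Ω) = y
      rw [MulEquiv.apply_symm_apply]
  obtain ⟨νt, hνt, hνte⟩ := hrec.2 Q _ hχF hχr
  have hQext : Q ≤ extender S Q (Q.subtype.comp χ.toMonoidHom) :=
    Cfsg.Agent.Lib.Helper87.self_le_extender F hχF
  have hgext : g ∈ extender S Q (Q.subtype.comp χ.toMonoidHom) := by
    apply Subgroup.subset_closure
    refine ⟨hgN.1, hgN.2, s, hsS, fun x hx => ?_⟩
    have h1 := hs (χ x)
    have e1 : (χ * conjAut Q g hgN.2 * χ⁻¹) (χ x) = χ (conjAut Q g hgN.2 x) := by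
      rw [MulAut.mul_apply, MulAut.mul_apply, MulAut.inv_apply_self]
    rw [e1] at h1
    have e2 : conjAut Q g hgN.2 x = ⟨g * (x : Ω) * g⁻¹, hx⟩ := Subtype.ext (conjAut_coe Q g hgN.2 x)
    rw [e2] at h1
    exact h1
  have hRS : extender S Q (Q.subtype.comp χ.toMonoidHom) ≤ S :=
    (Cfsg.Agent.Lib.Helper84.extender_le Q _).trans (normalizerIn_le S Q)
  have hRfin : Finite ↥(extender S Q (Q.subtype.comp χ.toMonoidHom)) := finite_of_le hRS
  have hlt : Nat.card Q < Nat.card ↥(extender S Q (Q.subtype.comp χ.toMonoidHom)) := by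
    apply lt_of_le_of_ne (Subgroup.card_le_of_le hQext)
    intro h
    have := Subgroup.eq_of_le_of_card_ge hQext h.ge
    exact hgQ (this ▸ hgext)
  have h4 := IH _ hRS hlt _ hνt
  have h5 := restrict_mem (fratClosure E F hinv) h4 hQext
  have e5 : νt.comp (Subgroup.inclusion hQext) = Q.subtype.comp χ.toMonoidHom := by
    ext x
    exact hνte x x.2 _
  rwa [e5] at h5

/-- the Frattini factorization for the relative residual -/
theorem famRes_frattini (hS : IsPGroup p S) (F : FusionSystem S) (hF : F.IsSaturated p)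
    {ℋ : Set (Subgroup Ω)} {N : Subgroup (MulAut S)} (hfam : Fam p F ℋ N) :
    ∀ (P : Subgroup Ω) (φ : P →* Ω), φ ∈ F.Hom P → ∃ α ∈ F.autGroup S,
      ∃ φ₀ ∈ (famRes p F ℋ N).Hom P, ∀ (x : P) (hx : φ₀ x ∈ S),
        φ x = ((α ⟨φ₀ x, hx⟩ : S) : Ω) := by
  have hℋS : ∀ P ∈ ℋ, P ≤ S := fun P hP => (hfam.centric P hP).1
  have hinv : InvProp (invCore (famRes p F ℋ N) F) F := invCore_invProp _ F
  have h₁ : ∀ P ∈ ℋ, pGen p (F.autGroup P) ≤ (invCore (famRes p F ℋ N) F).autGroup P :=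
    fun P hP => pGen_le_invCore_autGroup_fam hℋS hfam.conj (famRes_pGen hfam) hP
  have hTop : F.StronglyClosed S := ⟨le_rfl, fun R _ φ hφ x => hom_mem_S F hφ x⟩
  have hb : ∀ (P : Subgroup Ω) (φ : P →* Ω), φ ∈ F.Hom P →
      φ ∈ (fratClosure (invCore (famRes p F ℋ N) F) F hinv).Hom P := by
    intro P φ hφ
    have hPS := hom_le F hφ
    refine mem_fratClosure_of_aut hS hF hTop hinv ?_ _ P hPS rfl φ hφ
    intro Q hQS hQne hfn IH χ hχ
    by_cases hc : F.IsCentric Q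
    · by_cases hQH : Q ∈ ℋ
      · have hfa : SylIn p (autInducedBy S Q) (F.autGroup Q) :=
          (fc_fa_of_fullyNormalized hS F hF hfn).2.2
        have hASA := autInducedBy_le_autGroup F hQS
        refine aut_mem_fratClosure_of_normal hS hF le_rfl hinv hQS hQne hfn IH
          (pGen p (F.autGroup Q)) (pGen_le p _) (fun χ' hχ' a ha => pGen_conj_mem p hχ' ha)
          (fun a ha => ?_) (fun g hg => ?_) χ hχ
        · exact le_fratClosure hinv
            ((Cfsg.Agent.Lib.Helper87.mem_autGroup_iff (invCore (famRes p F ℋ N) F) hQS a).mp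
              (h₁ Q hQH ha))
        · apply le_pGen_of_isPGroup p hASA (hfa.isPGroup hASA)
          exact conjAut_mem_autInducedBy hg.1 hg.2
      · obtain ⟨g, hg, hgQ, U, hUp, hUn, hgU⟩ := hfam.witness Q hc hfn hQH
        exact aut_mem_fratClosure_of_witness hS hF hinv hfn hg hgQ U hUp hUn hgU IH χ hχ
    · exact aut_mem_fratClosure_of_not_centric hS hF hinv hfn hc IH χ hχ
  intro P φ hφ
  obtain ⟨α, hα, φ₀, hφ₀, hφe⟩ := hb P φ hφ
  exact ⟨α, hα, φ₀, invCore_le _ F hφ₀, hφe⟩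

/-- index prime to `p` and equality of the centric subgroups for the relative residual -/
theorem famRes_facts (hS : IsPGroup p S) (F : FusionSystem S) (hF : F.IsSaturated p)
    {ℋ : Set (Subgroup Ω)} {N : Subgroup (MulAut S)} (hfam : Fam p F ℋ N) :
    (famRes p F ℋ N).HasPrimeToPIndexIn F p ∧
      ∀ P : Subgroup Ω, (famRes p F ℋ N).IsCentric P ↔ F.IsCentric P :=
  facts_of_frattini p hS F hF (famRes p F ℋ N) (famRes_le p F ℋ N)
    (famRes_frattini hS F hF hfam)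

end witness

end Cfsg.Agent.Lib.Helper88
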