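import Cfsg.Agent.Lib.Helper88.FamRes1
import Cfsg.Agent.Lib.Helper88.BcgloMain
import Cfsg.Agent.Lib.Helper88.AlperinUse

/-!
# The residual construction relative to a family of centric subgroups, part 2: saturation
-/

set_option autoImplicit false

namespace Cfsg.Agent.Lib.Helper88

open Cfsg Cfsg.FusionSystem
open Cfsg.Agent.Lib.Helper87 (restrict_mem hom_le hom_mem_S subtype_mem inv_exists finite_of_le
  le_normalizerIn normalizerIn_le comp_mem' range_le isConj_trans isConj_refl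
  fc_fa_of_fullyNormalized receptive_of_fullyNormalized exists_fullyNormalized_conj
  autInducedBy_le_autGroup self_le_extender conjAut conjAut_mem_autInducedBy conjAut_coe)
open Cfsg.Agent.Lib.Helper85 (SylIn)

variable {Ω : Type*} [Group Ω] {S : Subgroup Ω} [Finite S] {p : ℕ} [Fact p.Prime]
  {F : FusionSystem S} {ℋ : Set (Subgroup Ω)} {N : Subgroup (MulAut S)}

/-- every subgroup of `S` has a `famRes`-conjugate that is fully normalized in `F` -/
theorem famRes_exists_fn (hS : IsPGroup p S) (hF : F.IsSaturated p) (hfam : Fam p F ℋ N)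
    {P : Subgroup Ω} (hPS : P ≤ S) :
    ∃ Q, (famRes p F ℋ N).IsConj P Q ∧ F.IsFullyNormalized Q := by
  have hfrat := famRes_frattini hS F hF hfam
  obtain ⟨P', hPP', hfn⟩ := exists_fullyNormalized_conj F hPS
  obtain ⟨φ, hφ, hφr⟩ := hPP'
  obtain ⟨α, hα, φ₀, hφ₀, he⟩ := hfrat P φ hφ
  have hφ₀S : ∀ x : P, φ₀ x ∈ S := fun x => hom_mem_S _ hφ₀ x
  have hQS : φ₀.range ≤ S := range_le _ hφ₀
  have hFconj : F.IsConj P φ₀.range := ⟨φ₀, famRes_le p F ℋ N _ hφ₀, rfl⟩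
  have hup : UpTo F P' φ₀.range := by
    have hα' : α⁻¹ ∈ F.autGroup S := (F.autGroup S).inv_mem hα
    refine ⟨resAutHom α⁻¹ (normalizerIn S P') (normalizerIn_le S P'),
      resAutHom_mem F hα' _ _, ?_⟩
    ext y
    rw [mem_imgOf]
    constructor
    · rintro ⟨x, hx, rfl⟩
      have hx' : (x : Ω) ∈ φ.range := by rw [hφr]; exact hx
      obtain ⟨z, hz⟩ := hx'
      refine ⟨z, ?_⟩
      rw [resAutHom_apply]
      have h1 : (⟨(x : Ω), normalizerIn_le S P' x.2⟩ : S) = α ⟨φ₀ z, hφ₀S z⟩ := by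
        apply Subtype.ext
        rw [← he z (hφ₀S z), hz]
      rw [h1]
      simp
    · rintro ⟨z, rfl⟩
      have hzP' : φ z ∈ P' := hφr ▸ ⟨z, rfl⟩
      refine ⟨⟨φ z, le_normalizerIn hfn.1 hzP'⟩, hzP', ?_⟩
      rw [resAutHom_apply]
      have h1 : (⟨φ z, normalizerIn_le S P' (le_normalizerIn hfn.1 hzP')⟩ : S) =
          α ⟨φ₀ z, hφ₀S z⟩ := by
        apply Subtype.ext
        rw [← he z (hφ₀S z)]
      rw [h1]
      simp
  refine ⟨φ₀.range, ⟨φ₀, hφ₀, rfl⟩, hQS, fun R hR => ?_⟩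
  have h1 : F.IsConj P' R :=
    isConj_trans F (Cfsg.Agent.Lib.Helper87.isConj_symm F ⟨φ, hφ, hφr⟩) (isConj_trans F hFconj hR)
  exact (hfn.2 R h1).trans hup.card_normalizerIn_le

/-- a map of `F` whose restriction to a member of the family lies in `famRes` lies in `famRes` -/
theorem famRes_mem_of_restrict (hS : IsPGroup p S) (hF : F.IsSaturated p) (hfam : Fam p F ℋ N)
    {R N' : Subgroup Ω} (hRN : R ≤ N') (hRH : R ∈ ℋ) {ψ : N' →* Ω} (hψ : ψ ∈ F.Hom N')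
    (hres : ψ.comp (Subgroup.inclusion hRN) ∈ (famRes p F ℋ N).Hom R) :
    ψ ∈ (famRes p F ℋ N).Hom N' := by
  obtain ⟨α, hα, ψ₀, hψ₀, he⟩ := famRes_frattini hS F hF hfam N' ψ hψ
  have hψ₀S : ∀ x : N', ψ₀ x ∈ S := fun x => hom_mem_S _ hψ₀ x
  have hρ₀ : ψ₀.comp (Subgroup.inclusion hRN) ∈ (famRes p F ℋ N).Hom R := restrict_mem _ hψ₀ hRN
  set ρ₀ := ψ₀.comp (Subgroup.inclusion hRN) with hρ₀def
  have hR₀S : ρ₀.range ≤ S := range_le _ hρ₀
  have hR₀H : ρ₀.range ∈ ℋ := hfam.conj R hRH _ ⟨ρ₀, famRes_le p F ℋ N _ hρ₀, rfl⟩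
  obtain ⟨θ, hθ, hθe, -⟩ := exists_comp_inv (famRes p F ℋ N) hρ₀ hres rfl
  have hθα : resAutHom α ρ₀.range hR₀S = θ := by
    ext ⟨_, x, rfl⟩
    rw [hθe x ⟨x, rfl⟩, resAutHom_apply]
    show _ = ψ (Subgroup.inclusion hRN x)
    rw [he _ (hψ₀S _)]
    rfl
  have hαE : α ∈ (famRes p F ℋ N).autGroup S :=
    famRes_resClosed p F ℋ N α hα ρ₀.range hR₀S hR₀H (hθα ▸ hθ)
  have hαE' := (Cfsg.Agent.Lib.Helper87.mem_autGroup_iff (famRes p F ℋ N) le_rfl α).mp hαE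
  exact mem_of_factor (famRes p F ℋ N) hψ₀ hψ₀S hαE' (fun x => (he x (hψ₀S x)).symm)

theorem famRes_hsat (hS : IsPGroup p S) (hF : F.IsSaturated p) (hfam : Fam p F ℋ N)
    {P : Subgroup Ω} (hPH : P ∈ ℋ) :
    ∃ Q, (famRes p F ℋ N).IsConj P Q ∧ (famRes p F ℋ N).IsFullyAutomized p Q ∧
      (famRes p F ℋ N).IsReceptive Q := by
  have hPS : P ≤ S := (hfam.centric P hPH).1
  obtain ⟨Q, hEconj, hQfn⟩ := famRes_exists_fn hS hF hfam hPS
  have hQS : Q ≤ S := hQfn.1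
  have hFconj : F.IsConj P Q := by
    obtain ⟨φ, hφ, hφr⟩ := hEconj
    exact ⟨φ, famRes_le p F ℋ N _ hφ, hφr⟩
  have hfaF : F.IsFullyAutomized p Q := (fc_fa_of_fullyNormalized hS F hF hQfn).2
  have hrecF : F.IsReceptive Q := receptive_of_fullyNormalized hS F hF hQfn
  refine ⟨Q, hEconj, ⟨hQS, ?_⟩, ⟨hQS, ?_⟩⟩
  · have hQfin : Finite Q := finite_of_le hQS
    have h1 : SylIn p (autInducedBy S Q) (F.autGroup Q) := hfaF.2
    exact h1.of_le (autInducedBy_le_autGroup (famRes p F ℋ N) hQS)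
      (autGroup_le_of_sub (famRes_le p F ℋ N) _)
  · intro R χ hχ hχr
    have hχF : χ ∈ F.Hom R := famRes_le p F ℋ N _ hχ
    obtain ⟨ψ, hψ, hagree⟩ := hrecF.2 R χ hχF hχr
    have hRN : R ≤ extender S R χ := self_le_extender F hχF
    have hRH : R ∈ ℋ :=
      hfam.conj P hPH R
        (isConj_trans F hFconj (Cfsg.Agent.Lib.Helper87.isConj_symm F ⟨χ, hχF, hχr⟩))
    have hres : ψ.comp (Subgroup.inclusion hRN) = χ := by
      ext x
      exact hagree x x.2 (hRN x.2)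
    exact ⟨ψ, famRes_mem_of_restrict hS hF hfam hRN hRH hψ (by rw [hres]; exact hχ), hagree⟩

omit [Finite S] [Fact (Nat.Prime p)] in
theorem famRes_hgen (hfam : Fam p F ℋ N) (E' : FusionSystem S)
    (h : ∀ P ∈ ℋ, (famRes p F ℋ N).Hom P ⊆ E'.Hom P) : famRes p F ℋ N ≤ E' := by
  have hmem : interSystem (famRes p F ℋ N) {E'} ∈ famClass p F ℋ N := by
    refine ⟨?_, ?_, ?_⟩
    · intro P hPH α hα
      have hPS : P ≤ S := (hfam.centric P hPH).1
      have h1 := famRes_pGen hfam P hPH hα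
      rw [mem_autGroup_interSystem _ _ hPS]
      refine ⟨h1, fun D hD => ?_⟩
      rw [Set.mem_singleton_iff.mp hD]
      rw [Cfsg.Agent.Lib.Helper87.mem_autGroup_iff _ hPS] at h1 ⊢
      exact h P hPH h1
    · intro α hα P hP hPH hres
      have h1 := famRes_resClosed p F ℋ N α hα P hP hPH hres.1
      rw [mem_autGroup_interSystem _ _ le_rfl]
      refine ⟨h1, fun D hD => ?_⟩
      rw [Set.mem_singleton_iff.mp hD]
      rw [Cfsg.Agent.Lib.Helper87.mem_autGroup_iff _ le_rfl] at h1 ⊢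
      exact h S hfam.top h1
    · intro ν hν
      have h1 := famRes_N hfam hν
      rw [mem_autGroup_interSystem _ _ le_rfl]
      refine ⟨h1, fun D hD => ?_⟩
      rw [Set.mem_singleton_iff.mp hD]
      rw [Cfsg.Agent.Lib.Helper87.mem_autGroup_iff _ le_rfl] at h1 ⊢
      exact h S hfam.top h1
  intro P φ hφ
  exact (famRes_le_of_mem hmem P hφ).2 E' rfl

theorem famRes_hstar (hS : IsPGroup p S) (hF : F.IsSaturated p) (hfam : Fam p F ℋ N)
    {P : Subgroup Ω} (hPc : (famRes p F ℋ N).IsCentric P) (hPH : P ∉ ℋ) :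
    ∃ Q, (famRes p F ℋ N).IsConj P Q ∧
      ¬ (autInducedBy S Q ⊓ (pCore p ↥((famRes p F ℋ N).autGroup Q)).map
        ((famRes p F ℋ N).autGroup Q).subtype ≤ Inn Q) := by
  have hcen := (famRes_facts hS F hF hfam).2
  have hPcF : F.IsCentric P := (hcen P).mp hPc
  obtain ⟨Q, hEconj, hQfn⟩ := famRes_exists_fn hS hF hfam hPcF.1
  have hQS : Q ≤ S := hQfn.1
  have hFconj : F.IsConj P Q := by
    obtain ⟨φ, hφ, hφr⟩ := hEconj
    exact ⟨φ, famRes_le p F ℋ N _ hφ, hφr⟩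
  have hQc : F.IsCentric Q := isCentric_of_isConj F hPcF hFconj
  have hQH : Q ∉ ℋ := fun h =>
    hPH (hfam.conj Q h P (Cfsg.Agent.Lib.Helper87.isConj_symm F hFconj))
  obtain ⟨g, hg, hgQ, U, hUp, hUn, hgU⟩ := hfam.witness Q hQc hQfn hQH
  refine ⟨Q, hEconj, fun hle => ?_⟩
  have hAle : (famRes p F ℋ N).autGroup Q ≤ F.autGroup Q :=
    autGroup_le_of_sub (famRes_le p F ℋ N) Q
  have hcgS : conjAut Q g hg.2 ∈ autInducedBy S Q := conjAut_mem_autInducedBy hg.1 hg.2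
  have hcgE : conjAut Q g hg.2 ∈ (famRes p F ℋ N).autGroup Q :=
    autInducedBy_le_autGroup (famRes p F ℋ N) hQS hcgS
  -- the normal `p`-subgroup
  have hnorm : (U.subgroupOf ((famRes p F ℋ N).autGroup Q)).Normal := by
    constructor
    rintro ⟨u, huA⟩ hu ⟨γ, hγ⟩
    exact hUn γ (hAle hγ) u hu
  have hpg : IsPGroup p ↥(U.subgroupOf ((famRes p F ℋ N).autGroup Q)) :=
    hUp.comap_subtype
  have hcore := Cfsg.Agent.Lib.Helper84.le_pCore hnorm hpg
  have hmem : conjAut Q g hg.2 ∈ (pCore p ↥((famRes p F ℋ N).autGroup Q)).map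
      ((famRes p F ℋ N).autGroup Q).subtype :=
    ⟨⟨conjAut Q g hg.2, hcgE⟩, hcore (Subgroup.mem_subgroupOf.mpr hgU), rfl⟩
  have h1 : conjAut Q g hg.2 ∈ Inn Q := hle ⟨hcgS, hmem⟩
  obtain ⟨r, hr⟩ := h1
  have hcent : (r : Ω)⁻¹ * g ∈ centralizerIn S Q := by
    refine ⟨S.mul_mem (S.inv_mem (hQS r.2)) hg.1, Subgroup.mem_centralizer_iff.mpr ?_⟩
    intro x hx
    have h2 := congrArg (fun a : MulAut Q => ((a ⟨x, hx⟩ : Q) : Ω)) hr
    simp only [conjAut_coe] at h2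
    have h3 : (r : Ω) * x * (r : Ω)⁻¹ = g * x * g⁻¹ := h2
    calc x * ((r : Ω)⁻¹ * g) = (r : Ω)⁻¹ * ((r : Ω) * x * (r : Ω)⁻¹) * g := by group
      _ = (r : Ω)⁻¹ * (g * x * g⁻¹) * g := by rw [h3]
      _ = (r : Ω)⁻¹ * g * x := by group
  have h4 := hQc.2 Q (isConj_refl F hQS) hcent
  apply hgQ
  have : g = r * ((r : Ω)⁻¹ * g) := by group
  rw [this]
  exact Q.mul_mem r.2 h4

/-- the relative residual is saturated -/
theorem famRes_saturated (hS : IsPGroup p S) (hF : F.IsSaturated p) (hfam : Fam p F ℋ N) :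
    (famRes p F ℋ N).IsSaturated p := by
  refine bcglo_saturated p hS (famRes p F ℋ N) ℋ ?_ ?_ ?_ ?_
  · intro P hP Q hPQ
    obtain ⟨φ, hφ, hφr⟩ := hPQ
    exact hfam.conj P hP Q ⟨φ, famRes_le p F ℋ N _ hφ, hφr⟩
  · intro P hP
    exact famRes_hsat hS hF hfam hP
  · intro E' h
    exact famRes_hgen hfam E' h
  · intro P hPc hP
    exact famRes_hstar hS hF hfam hPc hP

end Cfsg.Agent.Lib.Helper88
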