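import Cfsg.Agent.Lib.Helper88.Marks

set_option autoImplicit false

/-!
# Congruences between numbers of fixed points

If `D` is a normal subgroup of the finite group `K` and the marks of all `V > D` on two `K`-sets agree, then
the marks of `D` are congruent modulo `|K : D|`.
-/

namespace Cfsg.Agent.Lib.Helper88

open MulAction

variable {K : Type*} [Group K]

/-- the fixed points of a normal subgroup, as a sub-action -/
def fixSub (Y : Type*) [MulAction K Y] (D : Subgroup K) [hD : D.Normal] : SubMulAction K Y where
  carrier := {y | D ≤ stabilizer K y}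
  smul_mem' := by
    intro k y hy d hd
    rw [mem_stabilizer_iff]
    have h1 : k⁻¹ * d * k ∈ D := by
      have := hD.conj_mem d hd k⁻¹
      simpa using this
    have h2 := hy h1
    rw [mem_stabilizer_iff] at h2
    calc d • k • y = k • ((k⁻¹ * d * k) • y) := by
          rw [smul_smul, smul_smul]
          congr 1
          group
      _ = k • y := by rw [h2]

theorem card_fixSub (Y : Type*) [MulAction K Y] (D : Subgroup K) [D.Normal] :
    Nat.card (fixSub Y D) = mkCount D Y := rfl

theorem mkCount_fixSub (Y : Type*) [MulAction K Y] (D : Subgroup K) [D.Normal] {V : Subgroup K}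
    (h : D ≤ V) : mkCount V (fixSub Y D) = mkCount V Y := by
  rw [mkCount_sub]
  unfold mkCount
  refine Nat.card_congr (Equiv.subtypeEquiv (Equiv.refl _) fun y => ?_)
  constructor
  · rintro ⟨-, h2⟩
    exact h2
  · intro h2
    exact ⟨h.trans h2, h2⟩

theorem le_stabilizer_fixSub (Y : Type*) [MulAction K Y] (D : Subgroup K) [D.Normal]
    (y : fixSub Y D) : D ≤ stabilizer K y := by
  rw [SubMulAction.stabilizer_of_subMul]
  exact y.2

/-- the marks of a normal subgroup are congruent modulo its index, if the marks of all larger subgroups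
agree -/
theorem mkCount_modEq_of_normal [Finite K] {Y Y' : Type*} [MulAction K Y] [MulAction K Y']
    [Finite Y] [Finite Y'] (D : Subgroup K) [D.Normal]
    (h : ∀ V : Subgroup K, D < V → mkCount V Y = mkCount V Y') :
    mkCount D Y ≡ mkCount D Y' [MOD Nat.card K / Nat.card D] := by
  rw [← card_fixSub, ← card_fixSub]
  apply card_modEq_of_mkCount_eq D (le_stabilizer_fixSub Y D) (le_stabilizer_fixSub Y' D)
  intro V hV
  rw [mkCount_fixSub Y D hV.le, mkCount_fixSub Y' D hV.le]
  exact h V hV

/-- the same for two pullbacks of an action -/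
theorem mkCount_map_modEq [Finite K] {G : Type*} [Group G] {X : Type*} [MulAction G X] [Finite X]
    (j₁ j₂ : K →* G) (D : Subgroup K) [D.Normal]
    (h : ∀ V : Subgroup K, D < V → mkCount (V.map j₁) X = mkCount (V.map j₂) X) :
    mkCount (D.map j₁) X ≡ mkCount (D.map j₂) X [MOD Nat.card K / Nat.card D] := by
  rw [← mkCount_pull, ← mkCount_pull]
  apply mkCount_modEq_of_normal
  intro V hV
  rw [mkCount_pull, mkCount_pull]
  exact h V hV

end Cfsg.Agent.Lib.Helper88
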