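import Cfsg.Agent.Lib.Helper88.NormalTransport
import Cfsg.Agent.Lib.Helper87.Lemma26
import Cfsg.Agent.Lib.Helper84.FusionIso
import Cfsg.Agent.Lib.Helper85.Sylow

set_option autoImplicit false

namespace Cfsg.Agent.Lib.Helper88

open Cfsg Cfsg.FusionSystem
open Cfsg.Agent.Lib.Helper87 (restrict_mem hom_le hom_mem_S subtype_mem)

variable {Ω : Type*} [Group Ω] {S T : Subgroup Ω}

/-- The maps `α ∘ φ₀` with `α ∈ Aut_F(T)` and `φ₀` a map of `E`: a fusion system over `T`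
when `E` is `Aut_F(T)`-invariant. -/
def fratClosure (E : FusionSystem T) (F : FusionSystem S) (hinv : InvProp E F) :
    FusionSystem T where
  Hom P := {φ | ∃ α ∈ F.autGroup T, ∃ φ₀ ∈ E.Hom P,
    ∀ (x : P) (hx : φ₀ x ∈ T), φ x = ((α ⟨φ₀ x, hx⟩ : T) : Ω)}
  le_of_mem := by
    rintro P φ ⟨α, -, φ₀, hφ₀, h⟩
    refine ⟨hom_le E hφ₀, fun x => ?_⟩
    rw [h x (hom_mem_S E hφ₀ x)]
    exact (α _).2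
  injective_of_mem := by
    rintro P φ ⟨α, -, φ₀, hφ₀, h⟩ a b hab
    rw [h a (hom_mem_S E hφ₀ a), h b (hom_mem_S E hφ₀ b)] at hab
    have h1 := α.injective (Subtype.ext hab)
    have h2 : φ₀ a = φ₀ b := congrArg (fun t : T => (t : Ω)) h1
    exact E.injective_of_mem hφ₀ h2
  conj_mem := by
    intro P g hP hg
    exact ⟨1, Subgroup.one_mem _, conjHom P g, E.conj_mem hP hg, fun x hx => rfl⟩
  comp_mem := by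
    rintro P Q φ ψ ⟨α, hα, φ₀, hφ₀, hφe⟩ ⟨β, hβ, ψ₀, hψ₀, hψe⟩ h
    have hQT : Q ≤ T := hom_le E hψ₀
    have hPT : P ≤ T := hom_le E hφ₀
    have hφ₀T : ∀ x : P, φ₀ x ∈ T := hom_mem_S E hφ₀
    have hψ₀T : ∀ y : Q, ψ₀ y ∈ T := hom_mem_S E hψ₀
    obtain ⟨χ, hχ, hχe⟩ := hinv Q hQT ψ₀ hψ₀ α⁻¹ (inv_mem hα)
    -- φ₀ x = α⁻¹ (φ x)
    have e1 : ∀ x : P, (α⁻¹ ⟨φ x, hQT (h x)⟩ : T) = ⟨φ₀ x, hφ₀T x⟩ := by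
      intro x
      have : (⟨φ x, hQT (h x)⟩ : T) = α ⟨φ₀ x, hφ₀T x⟩ := Subtype.ext (hφe x (hφ₀T x))
      rw [this, MulAut.inv_apply_self]
    have hmem : ∀ x : P, φ₀ x ∈ (Q.subgroupOf T).map (T.subtype.comp (α⁻¹).toMonoidHom) := by
      intro x
      refine ⟨⟨φ x, hQT (h x)⟩, Subgroup.mem_subgroupOf.mpr (h x), ?_⟩
      show ((α⁻¹ ⟨φ x, hQT (h x)⟩ : T) : Ω) = φ₀ x
      rw [e1]
    refine ⟨β * α, mul_mem hβ hα, _, E.comp_mem hφ₀ hχ hmem, fun x hx => ?_⟩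
    show ψ ⟨φ x, h x⟩ = ((β (α ⟨χ ⟨φ₀ x, hmem x⟩, hx⟩) : T) : Ω)
    have hαx : ((α⁻¹ ⟨((⟨φ x, h x⟩ : Q) : Ω), hQT (h x)⟩ : T) : Ω) ∈
        (Q.subgroupOf T).map (T.subtype.comp (α⁻¹).toMonoidHom) := by
      show ((α⁻¹ ⟨φ x, hQT (h x)⟩ : T) : Ω) ∈ _
      rw [e1]
      exact hmem x
    have h2 := hχe ⟨φ x, h x⟩ (hψ₀T _) hαx
    have e2 : (⟨φ₀ x, hmem x⟩ : ↥((Q.subgroupOf T).map (T.subtype.comp (α⁻¹).toMonoidHom))) =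
        ⟨((α⁻¹ ⟨((⟨φ x, h x⟩ : Q) : Ω), hQT (h x)⟩ : T) : Ω), hαx⟩ := by
      apply Subtype.ext
      show φ₀ x = ((α⁻¹ ⟨φ x, hQT (h x)⟩ : T) : Ω)
      rw [e1]
    have e3 : (⟨χ ⟨φ₀ x, hmem x⟩, hx⟩ : T) = α⁻¹ ⟨ψ₀ ⟨φ x, h x⟩, hψ₀T _⟩ := by
      apply Subtype.ext
      show χ ⟨φ₀ x, hmem x⟩ = _
      rw [e2, h2]
    rw [e3, MulAut.apply_inv_self, hψe ⟨φ x, h x⟩ (hψ₀T _)]
  inv_mem := by
    rintro P φ ⟨α, hα, φ₀, hφ₀, hφe⟩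
    have hPT : P ≤ T := hom_le E hφ₀
    have hφ₀T : ∀ x : P, φ₀ x ∈ T := hom_mem_S E hφ₀
    obtain ⟨ρ₀, hρ₀, hρ₀e⟩ := E.inv_mem hφ₀
    have hrT : φ₀.range ≤ T := by
      rintro _ ⟨x, rfl⟩
      exact hφ₀T x
    have hP' : φ.range = img α φ₀.range := by
      ext y
      rw [mem_img]
      constructor
      · rintro ⟨x, rfl⟩
        exact ⟨⟨φ₀ x, hφ₀T x⟩, ⟨x, rfl⟩, (hφe x (hφ₀T x)).symm⟩
      · rintro ⟨t, ⟨x, hx⟩, rfl⟩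
        refine ⟨x, ?_⟩
        rw [hφe x (hφ₀T x)]
        congr 2
        exact Subtype.ext hx
    obtain ⟨χ, hχ, hχe⟩ := transport_hom hinv hrT hρ₀ hα hP'
    have hχT : ∀ y, χ y ∈ T := hom_mem_S E hχ
    refine ⟨(T.subtype.comp (α⁻¹).toMonoidHom).comp (χ.codRestrict T hχT),
      ⟨α⁻¹, inv_mem hα, χ, hχ, fun x hx => rfl⟩, fun x => ?_⟩
    show ((α⁻¹ ⟨χ ⟨φ x, ⟨x, rfl⟩⟩, hχT _⟩ : T) : Ω) = x
    have hρT : ρ₀ ⟨φ₀ x, ⟨x, rfl⟩⟩ ∈ T := by rw [hρ₀e]; exact hPT x.2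
    have hmem : ((α ⟨((⟨φ₀ x, ⟨x, rfl⟩⟩ : φ₀.range) : Ω), hrT ⟨x, rfl⟩⟩ : T) : Ω) ∈ φ.range := by
      refine ⟨x, ?_⟩
      exact hφe x (hφ₀T x)
    have h1 := hχe ⟨φ₀ x, ⟨x, rfl⟩⟩ hρT hmem
    have e1 : (⟨φ x, ⟨x, rfl⟩⟩ : φ.range) =
        ⟨((α ⟨((⟨φ₀ x, ⟨x, rfl⟩⟩ : φ₀.range) : Ω), hrT ⟨x, rfl⟩⟩ : T) : Ω), hmem⟩ :=
      Subtype.ext (hφe x (hφ₀T x))
    have e2 : (⟨χ ⟨φ x, ⟨x, rfl⟩⟩, hχT _⟩ : T) = α ⟨ρ₀ ⟨φ₀ x, ⟨x, rfl⟩⟩, hρT⟩ := by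
      apply Subtype.ext
      show χ ⟨φ x, ⟨x, rfl⟩⟩ = _
      rw [e1, h1]
    rw [e2, MulAut.inv_apply_self]
    exact hρ₀e x

theorem mem_fratClosure {E : FusionSystem T} {F : FusionSystem S} {hinv : InvProp E F}
    {P : Subgroup Ω} {φ : P →* Ω} : φ ∈ (fratClosure E F hinv).Hom P ↔
      ∃ α ∈ F.autGroup T, ∃ φ₀ ∈ E.Hom P,
        ∀ (x : P) (hx : φ₀ x ∈ T), φ x = ((α ⟨φ₀ x, hx⟩ : T) : Ω) := Iff.rfl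

theorem le_fratClosure {E : FusionSystem T} {F : FusionSystem S} (hinv : InvProp E F)
    {P : Subgroup Ω} {φ : P →* Ω} (hφ : φ ∈ E.Hom P) : φ ∈ (fratClosure E F hinv).Hom P :=
  ⟨1, Subgroup.one_mem _, φ, hφ, fun x hx => rfl⟩

end Cfsg.Agent.Lib.Helper88
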