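import Cfsg.Agent.Lib.Helper88.FratInduction
import Cfsg.Agent.S5104

set_option autoImplicit false

namespace Cfsg.Agent.Lib.Helper88

open Cfsg Cfsg.FusionSystem
open Cfsg.Agent.Lib.Helper87 (restrict_mem hom_le hom_mem_S subtype_mem inv_exists finite_of_le
  le_normalizerIn normalizerIn_le card_lt_card_normalizerIn conjAut conjAut_mem_autInducedBy
  autInducedBy_le_autGroup mem_autInducedBy_iff fc_fa_of_fullyNormalized
  receptive_of_fullyNormalized exists_normalizer_map exists_fullyNormalized_conj)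
open Cfsg.Agent.Lib.Helper85 (cj cj_apply SylIn)

variable {Ω : Type*} [Group Ω] {S T : Subgroup Ω} [Finite S] {p : ℕ} [Fact p.Prime]

/-- generalized form of `aut_mem_fratClosure`: `A₀` is any subgroup of `Aut_F(Q)` normalized by
`Aut_F(Q)`, containing `Aut_T(Q)`, all of whose elements lie in the Frattini closure. -/
theorem aut_mem_fratClosure_of_normal (hS : IsPGroup p S) {F : FusionSystem S}
    (hF : F.IsSaturated p) {E : FusionSystem T} (hTS : T ≤ S) (hinv : InvProp E F)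
    {Q : Subgroup Ω} (hQT : Q ≤ T) (hne : Q ≠ T) (hfn : F.IsFullyNormalized Q)
    (IH : ∀ R : Subgroup Ω, R ≤ T → Nat.card Q < Nat.card R → ∀ ρ ∈ F.Hom R,
      ρ ∈ (fratClosure E F hinv).Hom R)
    (A₀ : Subgroup (MulAut Q)) (hA₀A : A₀ ≤ F.autGroup Q)
    (hA₀n : ∀ χ ∈ F.autGroup Q, ∀ a ∈ A₀, χ * a * χ⁻¹ ∈ A₀)
    (hA₀E : ∀ a ∈ A₀, Q.subtype.comp a.toMonoidHom ∈ (fratClosure E F hinv).Hom Q)
    (hA₀T : ∀ (g : Ω) (hg : g ∈ normalizerIn T Q), conjAut Q g hg.2 ∈ A₀)
    (χ : MulAut Q) (hχ : χ ∈ F.autGroup Q) :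
    Q.subtype.comp χ.toMonoidHom ∈ (fratClosure E F hinv).Hom Q := by
  have hQS : Q ≤ S := hQT.trans hTS
  have hTfin : Finite T := finite_of_le hTS
  have hQfin : Finite Q := finite_of_le hQS
  have hfa : SylIn p (autInducedBy S Q) (F.autGroup Q) :=
    (fc_fa_of_fullyNormalized hS F hF hfn).2.2
  have hrec := receptive_of_fullyNormalized hS F hF hfn
  have hASA : autInducedBy S Q ≤ F.autGroup Q := autInducedBy_le_autGroup F hQS
  have hnormal : F.autGroup Q ≤ Subgroup.normalizer (A₀ : Set (MulAut Q)) := by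
    intro χ' hχ'
    apply mem_normalizer_of_map_cj_le
    rintro _ ⟨a, ha, rfl⟩
    exact hA₀n χ' hχ' a ha
  have hR : SylIn p (autInducedBy S Q ⊓ A₀) A₀ := hfa.inf_normal hASA hA₀A hnormal
  have hL : (autInducedBy S Q ⊓ A₀).map (cj χ) ≤ A₀ := by
    rintro _ ⟨a, ha, rfl⟩
    exact hA₀n χ hχ a ha.2
  have hLp : IsPGroup p ((autInducedBy S Q ⊓ A₀).map (cj χ)) :=
    (hR.isPGroup inf_le_right).map _
  obtain ⟨a, haA₀, ha⟩ := hR.exists_conj_le hL hLp
  have hνR : ∀ r ∈ autInducedBy S Q ⊓ A₀, (a * χ) * r * (a * χ)⁻¹ ∈ autInducedBy S Q := by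
    intro r hr
    have h1 : cj a (cj χ r) ∈ autInducedBy S Q ⊓ A₀ := ha ⟨_, ⟨r, hr, rfl⟩, rfl⟩
    have e : cj a (cj χ r) = (a * χ) * r * (a * χ)⁻¹ := by
      rw [cj_apply, cj_apply]; group
    rw [e] at h1
    exact h1.1
  have hνA : a * χ ∈ F.autGroup Q := mul_mem (hA₀A haA₀) hχ
  have hνF : Q.subtype.comp (a * χ).toMonoidHom ∈ F.Hom Q :=
    (Cfsg.Agent.Lib.Helper87.mem_autGroup_iff F hQS _).mp hνA
  have hνr : (Q.subtype.comp (a * χ).toMonoidHom).range = Q := by
    ext y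
    constructor
    · rintro ⟨x, rfl⟩
      exact ((a * χ) x).2
    · intro hy
      refine ⟨(a * χ).symm ⟨y, hy⟩, ?_⟩
      show (((a * χ) ((a * χ).symm ⟨y, hy⟩) : Q) : Ω) = y
      rw [MulEquiv.apply_symm_apply]
  obtain ⟨νt, hνt, hνte⟩ := hrec.2 Q _ hνF hνr
  have hNext : normalizerIn T Q ≤ extender S Q (Q.subtype.comp (a * χ).toMonoidHom) := by
    intro g hg
    apply Subgroup.subset_closure
    have hgN : g ∈ Subgroup.normalizer (Q : Set Ω) := hg.2
    have hcS : conjAut Q g hgN ∈ autInducedBy S Q := conjAut_mem_autInducedBy (hTS hg.1) hgN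
    have hcE : conjAut Q g hgN ∈ A₀ := hA₀T g hg
    have h1 := hνR _ ⟨hcS, hcE⟩
    obtain ⟨h, hhS, hh⟩ := (mem_autInducedBy_iff S Q _).mp h1
    refine ⟨hTS hg.1, hgN, h, hhS, fun x hx => ?_⟩
    have h2 := hh ((a * χ) x)
    have e : ((a * χ) * conjAut Q g hgN * (a * χ)⁻¹) ((a * χ) x) =
        (a * χ) (conjAut Q g hgN x) := by
      rw [MulAut.mul_apply, MulAut.mul_apply, MulAut.inv_apply_self]
    rw [e] at h2
    exact h2
  have hQN : Q ≤ normalizerIn T Q := le_normalizerIn hQT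
  have hlt : Nat.card Q < Nat.card (normalizerIn T Q) :=
    card_lt_card_normalizerIn (S := T) (hS.to_le hTS) hQT hne
  have h3 := restrict_mem F hνt hNext
  have h4 := IH _ (normalizerIn_le T Q) hlt _ h3
  have h5 := restrict_mem (fratClosure E F hinv) h4 hQN
  have e5 : (νt.comp (Subgroup.inclusion hNext)).comp (Subgroup.inclusion hQN) =
      Q.subtype.comp (a * χ).toMonoidHom := by
    ext x
    exact hνte x x.2 _
  rw [e5] at h5
  have ha' : Q.subtype.comp (a⁻¹).toMonoidHom ∈ (fratClosure E F hinv).Hom Q :=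
    hA₀E _ (inv_mem haA₀)
  have h6 := (fratClosure E F hinv).comp_mem h5 ha' (fun x => ((a * χ) x).2)
  have e6 : (Q.subtype.comp (a⁻¹).toMonoidHom).comp
      ((Q.subtype.comp (a * χ).toMonoidHom).codRestrict Q (fun x => ((a * χ) x).2)) =
      Q.subtype.comp χ.toMonoidHom := by
    ext x
    show ((a⁻¹ ((a * χ) x) : Q) : Ω) = χ x
    rw [MulAut.mul_apply, MulAut.inv_apply_self]
  rwa [e6] at h6

/-- automorphisms of a fully normalized non-centric subgroup extend to a larger subgroup -/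
theorem aut_mem_fratClosure_of_not_centric (hS : IsPGroup p S) {F : FusionSystem S}
    (hF : F.IsSaturated p) {E : FusionSystem S} (hinv : InvProp E F)
    {Q : Subgroup Ω} (hfn : F.IsFullyNormalized Q) (hnc : ¬ F.IsCentric Q)
    (IH : ∀ R : Subgroup Ω, R ≤ S → Nat.card Q < Nat.card R → ∀ ρ ∈ F.Hom R,
      ρ ∈ (fratClosure E F hinv).Hom R)
    (χ : MulAut Q) (hχ : χ ∈ F.autGroup Q) :
    Q.subtype.comp χ.toMonoidHom ∈ (fratClosure E F hinv).Hom Q := by
  have hQS : Q ≤ S := hfn.1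
  have hfc := (fc_fa_of_fullyNormalized hS F hF hfn).1
  have hrec := receptive_of_fullyNormalized hS F hF hfn
  have hCQ : ¬ centralizerIn S Q ≤ Q := fun h => hnc (Cfsg.Agent.S5104.result p hS F hF Q hfc h)
  have hχF : Q.subtype.comp χ.toMonoidHom ∈ F.Hom Q :=
    (Cfsg.Agent.Lib.Helper87.mem_autGroup_iff F hQS _).mp hχ
  have hχr : (Q.subtype.comp χ.toMonoidHom).range = Q := by
    ext y
    constructor
    · rintro ⟨x, rfl⟩
      exact (χ x).2
    · intro hy
      refine ⟨χ.symm ⟨y, hy⟩, ?_⟩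
      show ((χ (χ.symm ⟨y, hy⟩) : Q) : Ω) = y
      rw [MulEquiv.apply_symm_apply]
  obtain ⟨νt, hνt, hνte⟩ := hrec.2 Q _ hχF hχr
  have hQext : Q ≤ extender S Q (Q.subtype.comp χ.toMonoidHom) :=
    Cfsg.Agent.Lib.Helper87.self_le_extender F hχF
  have hCext : centralizerIn S Q ≤ extender S Q (Q.subtype.comp χ.toMonoidHom) := by
    intro c hc
    apply Subgroup.subset_closure
    have hcx : ∀ x ∈ Q, c * x * c⁻¹ = x := by
      intro x hx
      have := Subgroup.mem_centralizer_iff.mp hc.2 x hx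
      rw [← this]; group
    refine ⟨hc.1, (inf_le_right.trans (Subgroup.centralizer_le_normalizer _) : centralizerIn S Q ≤ _) hc,
      1, S.one_mem, fun x hx => ?_⟩
    have : (⟨c * (x : Ω) * c⁻¹, hx⟩ : Q) = x := Subtype.ext (hcx x x.2)
    rw [this]
    simp
  have hRext : Q ⊔ centralizerIn S Q ≤ extender S Q (Q.subtype.comp χ.toMonoidHom) :=
    sup_le hQext hCext
  have hRS : Q ⊔ centralizerIn S Q ≤ S := sup_le hQS inf_le_left
  have hRfin : Finite ↥(Q ⊔ centralizerIn S Q) := finite_of_le hRS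
  have hlt : Nat.card Q < Nat.card ↥(Q ⊔ centralizerIn S Q) := by
    apply lt_of_le_of_ne (Subgroup.card_le_of_le le_sup_left)
    intro h
    have := Subgroup.eq_of_le_of_card_ge (le_sup_left : Q ≤ Q ⊔ centralizerIn S Q) h.ge
    exact hCQ (le_sup_right.trans this.symm.le)
  have h3 := restrict_mem F hνt hRext
  have h4 := IH _ hRS hlt _ h3
  have h5 := restrict_mem (fratClosure E F hinv) h4 (le_sup_left : Q ≤ Q ⊔ centralizerIn S Q)
  have e5 : (νt.comp (Subgroup.inclusion hRext)).comp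
      (Subgroup.inclusion (le_sup_left : Q ≤ Q ⊔ centralizerIn S Q)) =
      Q.subtype.comp χ.toMonoidHom := by
    ext x
    exact hνte x x.2 _
  rwa [e5] at h5

/-- the main induction, with the automorphism step as a hypothesis -/
theorem mem_fratClosure_of_aut (hS : IsPGroup p S) {F : FusionSystem S} (hF : F.IsSaturated p)
    {E : FusionSystem T} (hT : F.StronglyClosed T) (hinv : InvProp E F)
    (HB : ∀ Q : Subgroup Ω, Q ≤ T → Q ≠ T → F.IsFullyNormalized Q →
      (∀ R : Subgroup Ω, R ≤ T → Nat.card Q < Nat.card R → ∀ ρ ∈ F.Hom R,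
        ρ ∈ (fratClosure E F hinv).Hom R) →
      ∀ χ ∈ F.autGroup Q, Q.subtype.comp χ.toMonoidHom ∈ (fratClosure E F hinv).Hom Q) :
    ∀ (n : ℕ) (P : Subgroup Ω), P ≤ T → Nat.card T - Nat.card P = n → ∀ φ ∈ F.Hom P,
      φ ∈ (fratClosure E F hinv).Hom P := by
  intro n
  induction n using Nat.strong_induction_on with
  | _ n ih =>
  intro P hPT hn φ hφ
  have hTS := hT.1
  have hTfin : Finite T := finite_of_le hTS
  by_cases hPeq : P = T
  · subst hPeq
    have hφT : ∀ x : P, φ x ∈ P := fun x => hT.2 P le_rfl φ hφ x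
    have hle : φ.range ≤ P := by
      rintro _ ⟨x, rfl⟩
      exact hφT x
    have hrfin : Finite φ.range :=
      Finite.of_injective _ (Subgroup.inclusion_injective hle)
    have hr : φ.range = P := by
      apply Subgroup.eq_of_le_of_card_ge hle
      exact Nat.card_le_card_of_injective (fun x : P => (⟨φ x, ⟨x, rfl⟩⟩ : φ.range))
          (fun a b hab => F.injective_of_mem hφ (congrArg (fun z : φ.range => (z : Ω)) hab))
    obtain ⟨e, he, hex⟩ := Cfsg.Agent.Lib.Helper84.exists_iso_of_hom_range F hφ hr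
    refine ⟨e, (Cfsg.Agent.Lib.Helper84.mem_autGroup_iff F hTS e).mpr he, P.subtype,
      subtype_mem E le_rfl, fun x hx => ?_⟩
    exact (hex x).symm
  · have hPS := hPT.trans hTS
    have hcardlt : Nat.card P < Nat.card T :=
      lt_of_le_of_ne (Subgroup.card_le_of_le hPT)
        (fun h => hPeq (Subgroup.eq_of_le_of_card_ge hPT h.ge))
    have IH : ∀ R : Subgroup Ω, R ≤ T → Nat.card P < Nat.card R → ∀ ρ ∈ F.Hom R,
        ρ ∈ (fratClosure E F hinv).Hom R := by
      intro R hRT hlt ρ hρ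
      have hRle : Nat.card R ≤ Nat.card T := Subgroup.card_le_of_le hRT
      exact ih (Nat.card T - Nat.card R) (by omega) R hRT rfl ρ hρ
    obtain ⟨Q, hPQ, hfn⟩ := exists_fullyNormalized_conj F hPS
    have hQT : Q ≤ T := le_of_isConj_stronglyClosed hT hPT hPQ
    have hQcard : Nat.card Q = Nat.card P := card_eq_of_isConj F hPQ
    have hQne : Q ≠ T := by
      intro h
      rw [h] at hQcard
      omega
    have hfa := (fc_fa_of_fullyNormalized hS F hF hfn).2
    have hrec := receptive_of_fullyNormalized hS F hF hfn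
    have step2 : ∀ Q' : Subgroup Ω, Q' ≤ T → F.IsConj Q' Q →
        ∃ ψ ∈ (fratClosure E F hinv).Hom Q', ψ ∈ F.Hom Q' ∧ ψ.range = Q := by
      intro Q' hQ'T hc
      obtain ⟨ψ, hψ, h1, h2, h3⟩ := exists_normalizer_map hS F hfa hrec hc
      have hQ'card : Nat.card Q' = Nat.card P := by
        rw [← hQcard]
        exact (card_eq_of_isConj F hc).symm
      have hQ'ne : Q' ≠ T := by
        intro h
        rw [h] at hQ'card
        omega
      have hQ'N : Q' ≤ normalizerIn T Q' := le_normalizerIn hQ'T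
      have hNTS : normalizerIn T Q' ≤ normalizerIn S Q' := inf_le_inf hTS le_rfl
      have hlt : Nat.card Q' < Nat.card (normalizerIn T Q') :=
        card_lt_card_normalizerIn (S := T) (hS.to_le hTS) hQ'T hQ'ne
      have h4 := restrict_mem F hψ hNTS
      have h5 := IH _ (normalizerIn_le T Q') (by omega) _ h4
      have h6 := restrict_mem (fratClosure E F hinv) h5 hQ'N
      have h7 := restrict_mem F h4 hQ'N
      refine ⟨_, h6, h7, ?_⟩
      ext y
      constructor
      · rintro ⟨x, rfl⟩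
        exact h2 _ x.2
      · intro hy
        obtain ⟨x, hxQ', hx⟩ := h3 y hy
        exact ⟨⟨x, hxQ'⟩, hx⟩
    have hP'T : φ.range ≤ T := by
      rintro _ ⟨x, rfl⟩
      exact hT.2 P hPT φ hφ x
    have hcP' : F.IsConj φ.range Q :=
      Cfsg.Agent.Lib.Helper87.isConj_trans F
        (Cfsg.Agent.Lib.Helper87.isConj_symm F ⟨φ, hφ, rfl⟩) hPQ
    obtain ⟨ψP, hψPE, hψPF, hψPr⟩ := step2 P hPT hPQ
    obtain ⟨ψP', hψP'E, hψP'F, hψP'r⟩ := step2 φ.range hP'T hcP'
    have hφP' : ∀ x : P, φ x ∈ φ.range := fun x => ⟨x, rfl⟩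
    have hρ := F.comp_mem hφ hψP'F hφP'
    have hρr : (ψP'.comp (φ.codRestrict φ.range hφP')).range = Q := by
      ext y
      constructor
      · rintro ⟨x, rfl⟩
        rw [← hψP'r]
        exact ⟨_, rfl⟩
      · intro hy
        rw [← hψP'r] at hy
        obtain ⟨⟨_, x, rfl⟩, rfl⟩ := hy
        exact ⟨x, rfl⟩
    obtain ⟨θ, hθ, hθe, hθr⟩ := exists_comp_inv F hψPF hρ hψPr
    obtain ⟨e, he, hee⟩ :=
      Cfsg.Agent.Lib.Helper84.exists_iso_of_hom_range F hθ (hθr.trans hρr)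
    have hχ : (e : MulAut Q) ∈ F.autGroup Q :=
      (Cfsg.Agent.Lib.Helper84.mem_autGroup_iff F (hQT.trans hTS) e).mpr he
    have hθE := HB Q hQT hQne hfn (fun R hRT hlt => IH R hRT (by omega)) e hχ
    have eθ : Q.subtype.comp (e : MulAut Q).toMonoidHom = θ := by
      ext x
      exact hee x
    rw [eθ] at hθE
    have hψPQ : ∀ x : P, ψP x ∈ Q := fun x => hψPr ▸ ⟨x, rfl⟩
    have hρE := mem_of_factor (fratClosure E F hinv) hψPE hψPQ hθE (fun x => hθe x (hψPQ x))
    exact mem_of_comp_mem (fratClosure E F hinv) hψP'E hφP' hρE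

end Cfsg.Agent.Lib.Helper88
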