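import Cfsg.Agent.Lib.Helper88.ModelFree
import Cfsg.Agent.Lib.Helper88.RealizedNormal
import Cfsg.Agent.Lib.Helper54.FusWP

set_option autoImplicit false

/-!
# Glauberman functors: the constrained case
-/

namespace Cfsg.Agent.Lib.Helper88

open Cfsg Cfsg.FusionSystem
open Cfsg.Agent.Lib.Helper87 (hom_le hom_mem_S map_subgroupOf_eq_iff)

universe u

section realized

variable {Ω G : Type*} [Group Ω] [Group G] {S : Subgroup Ω}

/-- the preimage of a normal subgroup of a realizing group contained in the image of `S` is normal in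
the system -/
theorem isNormal_preN_of_realized (F : FusionSystem S) {ι : S →* G} (hR : F.IsRealizedBy ι)
    (N : Subgroup G) [hN : N.Normal] (hNle : N ≤ ι.range) : F.IsNormal (preN ι N) := by
  have hinj := hR.1
  refine ⟨preN_le ι N, fun P φ hφ => ?_⟩
  have hP : P ≤ S := hom_le F hφ
  have hφS := hom_mem_S F hφ
  obtain ⟨g, hg⟩ := (hR.2 P hP φ hφS).mp hφ
  have hPQ : P ⊔ preN ι N ≤ S := sup_le hP (preN_le ι N)
  have hgr : ∀ x : ↥(P ⊔ preN ι N), g * ι ⟨x, hPQ x.2⟩ * g⁻¹ ∈ ι.range := by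
    let M : Subgroup Ω := ((ι.range).comap ((MulAut.conj g).toMonoidHom.comp ι)).map S.subtype
    have hM : ∀ x : Ω, x ∈ M ↔ ∃ hx : x ∈ S, g * ι ⟨x, hx⟩ * g⁻¹ ∈ ι.range := by
      intro x
      constructor
      · rintro ⟨s, hs, rfl⟩
        exact ⟨s.2, hs⟩
      · rintro ⟨hx, h⟩
        exact ⟨⟨x, hx⟩, h, rfl⟩
    have hle : P ⊔ preN ι N ≤ M := by
      apply sup_le
      · intro x hx
        refine (hM x).mpr ⟨hP hx, ?_⟩
        rw [← hg ⟨x, hx⟩]
        exact ⟨_, rfl⟩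
      · intro x hx
        refine (hM x).mpr ⟨preN_le ι N hx, ?_⟩
        exact hNle (hN.conj_mem _ (preN_mem ι N hx) g)
    intro x
    exact ((hM x).mp (hle x.2)).2
  have hψS : ∀ x : ↥(P ⊔ preN ι N), liftConj ι hinj hPQ g hgr x ∈ S :=
    liftConj_mem ι hinj hPQ g hgr
  have hψ : liftConj ι hinj hPQ g hgr ∈ F.Hom (P ⊔ preN ι N) :=
    (hR.2 _ hPQ _ hψS).mpr ⟨g, fun x => ι_liftConj ι hinj hPQ g hgr x _⟩
  refine ⟨_, hψ, fun x => ?_, ?_⟩
  · have e1 := ι_liftConj ι hinj hPQ g hgr (Subgroup.inclusion le_sup_left x) (hψS _)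
    have e2 := hg x
    have e3 : (⟨((Subgroup.inclusion (le_sup_left : P ≤ P ⊔ preN ι N) x : ↥(P ⊔ preN ι N)) : Ω),
        hPQ (Subgroup.inclusion (le_sup_left : P ≤ P ⊔ preN ι N) x).2⟩ : S) = ⟨x, hP x.2⟩ :=
      Subtype.ext rfl
    rw [e3, ← e2] at e1
    exact ι_eq ι hinj e1
  · rw [map_subgroupOf_eq_iff]
    refine ⟨fun y hy => ?_, fun q hq => ?_⟩
    · refine mem_preN.mpr ⟨hψS y, ?_⟩
      rw [ι_liftConj ι hinj hPQ g hgr y (hψS y)]
      exact hN.conj_mem _ (preN_mem ι N hy) g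
    · have hqN : ι ⟨q, preN_le ι N hq⟩ ∈ N := preN_mem ι N hq
      have h1 : g⁻¹ * ι ⟨q, preN_le ι N hq⟩ * g⁻¹⁻¹ ∈ N := hN.conj_mem _ hqN g⁻¹
      obtain ⟨s, hs⟩ := hNle h1
      have hsQ : (s : Ω) ∈ preN ι N := mem_preN.mpr ⟨s.2, by
        have : (⟨(s : Ω), s.2⟩ : S) = s := Subtype.ext rfl
        rw [this, hs]; exact h1⟩
      refine ⟨⟨s, (le_sup_right : preN ι N ≤ P ⊔ preN ι N) hsQ⟩, hsQ, ?_⟩
      have e1 := ι_liftConj ι hinj hPQ g hgr
        ⟨s, (le_sup_right : preN ι N ≤ P ⊔ preN ι N) hsQ⟩ (hψS _)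
      have e3 : (⟨((⟨(s : Ω), (le_sup_right : preN ι N ≤ P ⊔ preN ι N) hsQ⟩ :
          ↥(P ⊔ preN ι N)) : Ω), hPQ ((le_sup_right : preN ι N ≤ P ⊔ preN ι N) hsQ)⟩ : S) = s :=
        Subtype.ext rfl
      rw [e3, hs] at e1
      have e4 : g * (g⁻¹ * ι ⟨q, preN_le ι N hq⟩ * g⁻¹⁻¹) * g⁻¹ = ι ⟨q, preN_le ι N hq⟩ := by
        group
      rw [e4] at e1
      exact ι_eq ι hinj e1

end realized

variable {Ω : Type u} [Group Ω] {S : Subgroup Ω} {p : ℕ}

/-- **The constrained case**: the value of a Glauberman functor at `S` is normal in a constrained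
`Qd(p)`-free system. -/
theorem isNormal_induced_of_constrained [Finite S] [Fact p.Prime] (hS : IsPGroup p S)
    (W : ∀ (Q : Type u) [Group Q], Subgroup Q)
    (hW2 : ∀ (Q R : Type u) [Group Q] [Group R] [Finite Q], IsPGroup p Q → ∀ φ : Q ≃* R,
      (W Q).map φ.toMonoidHom = W R)
    (hW3 : ∀ (L : Type u) [Group L] [Finite L] (P : Sylow p L),
      Subgroup.centralizer ((Cfsg.pCore p L : Subgroup L) : Set L) =
        Cfsg.pCore p L ⊓ Subgroup.centralizer ((Cfsg.pCore p L : Subgroup L) : Set L) →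
      ¬ Cfsg.Involves ↥(Cfsg.qd p) L →
      (((W ↥(P : Subgroup L)).map (P : Subgroup L).subtype : Subgroup L)).Normal)
    (F : FusionSystem S) (hcon : F.IsConstrained p) (hfree : F.IsSectionFree p ↥(Cfsg.qd p)) :
    F.IsNormal (inducedFunctor W S) := by
  obtain ⟨G, _, ι, hM, hninv⟩ := exists_model_not_involves hS F hcon ↥(Cfsg.qd p) hfree
  obtain ⟨hfin, hR, ⟨T, hT⟩, hcent⟩ := hM
  have hinj := hR.1
  have h1 := hW3 G T (le_antisymm (le_inf hcent le_rfl) inf_le_right) hninv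
  have h2 : (inducedFunctor W (T : Subgroup G)).Normal := h1
  rw [hT, Cfsg.Agent.Lib.Helper54.FusWP.induced_range' hW2 hS ι hinj] at h2
  have hle : (W ↥S).map ι ≤ ι.range := by
    rintro _ ⟨s, -, rfl⟩
    exact ⟨s, rfl⟩
  have h3 := isNormal_preN_of_realized F hR ((W ↥S).map ι) hle
  have e : preN ι ((W ↥S).map ι) = inducedFunctor W S := by
    unfold preN inducedFunctor
    rw [Subgroup.comap_map_eq_self_of_injective hinj]
  rw [e] at h3
  exact h3

end Cfsg.Agent.Lib.Helper88
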