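import Cfsg.Agent.Lib.Helper84.KSatMain
import Cfsg.Agent.Lib.Helper84.FusionSup
import Cfsg.Agent.Lib.Helper87.Saturation

set_option autoImplicit false

/-!
# The system `S C_F(Q)` for `Q` normalized by `S`

Its maps are the maps of `F` that extend to `P Q` so as to induce on `Q` the conjugation by an
element of `S`.
-/

namespace Cfsg.Agent.Lib.Helper88

open Cfsg Cfsg.FusionSystem
open Cfsg.Agent.Lib.Helper87 (hom_le hom_mem_S restrict_mem cast_mem map_subgroupOf_eq_iff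
  conjAut conjAut_coe conjAut_mem_autInducedBy mem_autInducedBy_iff finite_of_le)
open Cfsg.Agent.Lib.Helper84 (sup_hom_mem)

variable {Ω : Type*} [Group Ω] {S : Subgroup Ω}

/-- the maps of `S C_F(Q)` with source `P` -/
def scHom (F : FusionSystem S) (Q P : Subgroup Ω) : Set (P →* Ω) :=
  {φ | φ ∈ F.Hom P ∧ ∃ ψ ∈ F.Hom (P ⊔ Q),
    (∀ x : P, ψ (Subgroup.inclusion le_sup_left x) = φ x) ∧
      ∃ s ∈ S, ∀ x : Q, ψ (Subgroup.inclusion le_sup_right x) = s * (x : Ω) * s⁻¹}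

theorem conj_mem_of_normalizer {Q : Subgroup Ω} {s : Ω}
    (hs : s ∈ Subgroup.normalizer (Q : Set Ω)) {x : Ω} (hx : x ∈ Q) : s * x * s⁻¹ ∈ Q :=
  (Subgroup.mem_normalizer_iff.mp hs x).mp hx

theorem scHom_conj (F : FusionSystem S) {Q : Subgroup Ω} (hQ : Q ≤ S) {P : Subgroup Ω} {g : Ω}
    (hP : P ≤ S) (hg : g ∈ S) : conjHom P g ∈ scHom F Q P :=
  ⟨F.conj_mem hP hg, conjHom (P ⊔ Q) g, F.conj_mem (sup_le hP hQ) hg, fun _ => rfl, g, hg,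
    fun _ => rfl⟩

theorem scHom_comp (F : FusionSystem S) {Q : Subgroup Ω}
    (hQn : S ≤ Subgroup.normalizer (Q : Set Ω)) {P P' : Subgroup Ω}
    {φ : P →* Ω} {φ' : P' →* Ω} (hφ : φ ∈ scHom F Q P) (hφ' : φ' ∈ scHom F Q P')
    (h : ∀ x : P, φ x ∈ P') : φ'.comp (φ.codRestrict P' h) ∈ scHom F Q P := by
  obtain ⟨hφF, ψ, hψ, hψP, s, hs, hψQ⟩ := hφ
  obtain ⟨hφ'F, ψ', hψ', hψ'P, s', hs', hψ'Q⟩ := hφ'
  have hsQ : ∀ x : Q, s * (x : Ω) * s⁻¹ ∈ Q := fun x => conj_mem_of_normalizer (hQn hs) x.2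
  have hmaps : ∀ z : ↥(P ⊔ Q), ψ z ∈ P' ⊔ Q := by
    apply sup_hom_mem
    · intro x
      rw [hψP]
      exact (le_sup_left : P' ≤ P' ⊔ Q) (h x)
    · intro x
      rw [hψQ]
      exact (le_sup_right : Q ≤ P' ⊔ Q) (hsQ x)
  refine ⟨F.comp_mem hφF hφ'F h, ψ'.comp (ψ.codRestrict (P' ⊔ Q) hmaps),
    F.comp_mem hψ hψ' hmaps, ?_, s' * s, S.mul_mem hs' hs, ?_⟩
  · intro x
    show ψ' ⟨ψ (Subgroup.inclusion le_sup_left x), _⟩ = φ' ⟨φ x, _⟩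
    rw [← hψ'P ⟨φ x, h x⟩]
    congr 1
    apply Subtype.ext
    exact hψP x
  · intro x
    show ψ' ⟨ψ (Subgroup.inclusion le_sup_right x), _⟩ = s' * s * (x : Ω) * (s' * s)⁻¹
    have e : (⟨ψ (Subgroup.inclusion le_sup_right x), hmaps _⟩ : ↥(P' ⊔ Q)) =
        Subgroup.inclusion le_sup_right (⟨s * (x : Ω) * s⁻¹, hsQ x⟩ : Q) := Subtype.ext (hψQ x)
    rw [e, hψ'Q]
    show s' * (s * (x : Ω) * s⁻¹) * s'⁻¹ = _
    group

theorem scHom_inv (F : FusionSystem S) {Q : Subgroup Ω}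
    (hQn : S ≤ Subgroup.normalizer (Q : Set Ω)) {P : Subgroup Ω}
    {φ : P →* Ω} (hφ : φ ∈ scHom F Q P) :
    ∃ ψ ∈ scHom F Q φ.range, ∀ x : P, ψ ⟨φ x, ⟨x, rfl⟩⟩ = (x : Ω) := by
  obtain ⟨hφF, φ', hφ', hφext, s, hs, hφQ⟩ := hφ
  obtain ⟨θ, hθ, hθinv⟩ := F.inv_mem hφ'
  have hsi : s⁻¹ ∈ Subgroup.normalizer (Q : Set Ω) := Subgroup.inv_mem _ (hQn hs)
  have hle1 : φ.range ≤ φ'.range := by
    rintro _ ⟨x, rfl⟩
    exact ⟨Subgroup.inclusion le_sup_left x, hφext x⟩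
  have hpre : ∀ (y : Ω) (hy : y ∈ Q), φ' (Subgroup.inclusion le_sup_right
      (⟨s⁻¹ * y * s⁻¹⁻¹, conj_mem_of_normalizer hsi hy⟩ : Q)) = y := by
    intro y hy
    rw [hφQ]
    show s * (s⁻¹ * y * s⁻¹⁻¹) * s⁻¹ = y
    group
  have hle2 : Q ≤ φ'.range := fun y hy => ⟨_, hpre y hy⟩
  have hle : φ.range ⊔ Q ≤ φ'.range := sup_le hle1 hle2
  refine ⟨θ.comp (Subgroup.inclusion hle1), ⟨restrict_mem F hθ hle1,
    θ.comp (Subgroup.inclusion hle), restrict_mem F hθ hle, fun x => rfl, s⁻¹, S.inv_mem hs, ?_⟩, ?_⟩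
  · intro x
    show θ ⟨(x : Ω), _⟩ = s⁻¹ * (x : Ω) * s⁻¹⁻¹
    have h2 : (⟨(x : Ω), hle (le_sup_right (a := φ.range) x.2)⟩ : φ'.range) =
        ⟨φ' (Subgroup.inclusion le_sup_right
          (⟨s⁻¹ * (x : Ω) * s⁻¹⁻¹, conj_mem_of_normalizer hsi x.2⟩ : Q)), ⟨_, rfl⟩⟩ :=
      Subtype.ext (hpre x x.2).symm
    rw [h2, hθinv]
    rfl
  · intro x
    show θ ⟨φ x, _⟩ = x
    have h2 : (⟨φ x, hle1 ⟨x, rfl⟩⟩ : φ'.range) =
        ⟨φ' (Subgroup.inclusion le_sup_left x), ⟨_, rfl⟩⟩ := Subtype.ext (hφext x).symm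
    rw [h2, hθinv]
    rfl

/-- the fusion system `S C_F(Q)` over `S` -/
def scSystem (F : FusionSystem S) (Q : Subgroup Ω) (hQ : Q ≤ S)
    (hQn : S ≤ Subgroup.normalizer (Q : Set Ω)) : FusionSystem S where
  Hom P := scHom F Q P
  le_of_mem h := F.le_of_mem h.1
  injective_of_mem h := F.injective_of_mem h.1
  conj_mem hP hg := scHom_conj F hQ hP hg
  comp_mem hφ hψ h := scHom_comp F hQn hφ hψ h
  inv_mem hφ := scHom_inv F hQn hφ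

variable (F : FusionSystem S) {Q : Subgroup Ω} (hQ : Q ≤ S)
  (hQn : S ≤ Subgroup.normalizer (Q : Set Ω))

theorem scSystem_le (P : Subgroup Ω) : (scSystem F Q hQ hQn).Hom P ⊆ F.Hom P := fun _ h => h.1

/-- a map defined on a subgroup containing `Q` and inducing an inner automorphism of `Q` -/
theorem mem_scSystem_of_conj {P : Subgroup Ω} {φ : P →* Ω} (hφ : φ ∈ F.Hom P) (hQP : Q ≤ P)
    {s : Ω} (hs : s ∈ S) (h : ∀ x : Q, φ ⟨x, hQP x.2⟩ = s * (x : Ω) * s⁻¹) :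
    φ ∈ (scSystem F Q hQ hQn).Hom P := by
  have e : P = P ⊔ Q := (sup_eq_left.mpr hQP).symm
  exact ⟨hφ, φ.comp (Subgroup.inclusion e.ge), cast_mem F e hφ, fun x => rfl, s, hs, fun x => h x⟩

theorem exists_conj_of_mem_scSystem {P : Subgroup Ω} {φ : P →* Ω}
    (hφ : φ ∈ (scSystem F Q hQ hQn).Hom P) (hQP : Q ≤ P) :
    ∃ s ∈ S, ∀ x : Q, φ ⟨x, hQP x.2⟩ = s * (x : Ω) * s⁻¹ := by
  obtain ⟨-, ψ, -, hψP, s, hs, hψQ⟩ := hφ
  refine ⟨s, hs, fun x => ?_⟩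
  rw [← hψP ⟨x, hQP x.2⟩, ← hψQ x]
  rfl

/-- `Q` is normal in `S C_F(Q)` -/
theorem scSystem_isNormal : (scSystem F Q hQ hQn).IsNormal Q := by
  refine ⟨hQ, fun P φ hφ => ?_⟩
  obtain ⟨hφF, ψ, hψ, hψP, s, hs, hψQ⟩ := hφ
  have e : P ⊔ Q = (P ⊔ Q) ⊔ Q := by rw [sup_assoc, sup_idem]
  have hsi : s⁻¹ ∈ Subgroup.normalizer (Q : Set Ω) := Subgroup.inv_mem _ (hQn hs)
  refine ⟨ψ, ⟨hψ, ψ.comp (Subgroup.inclusion e.ge), cast_mem F e hψ, fun x => rfl, s, hs,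
    fun x => hψQ x⟩, hψP, ?_⟩
  rw [map_subgroupOf_eq_iff]
  refine ⟨fun y hy => ?_, fun q hq => ?_⟩
  · have e1 : y = Subgroup.inclusion le_sup_right (⟨(y : Ω), hy⟩ : Q) := Subtype.ext rfl
    rw [e1, hψQ]
    exact conj_mem_of_normalizer (hQn hs) hy
  · refine ⟨Subgroup.inclusion le_sup_right
      (⟨s⁻¹ * q * s⁻¹⁻¹, conj_mem_of_normalizer hsi hq⟩ : Q),
      conj_mem_of_normalizer hsi hq, ?_⟩
    rw [hψQ]
    show s * (s⁻¹ * q * s⁻¹⁻¹) * s⁻¹ = q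
    group

include hQn in
theorem nk_autInducedBy_eq : Cfsg.Agent.Lib.Helper84.KN.nk S Q (autInducedBy S Q) Q.subtype = S := by
  apply le_antisymm (Cfsg.Agent.Lib.Helper84.KN.nk_le _ _ _)
  intro y hy
  exact ⟨hy, conjAut Q y (hQn hy), conjAut_mem_autInducedBy hy (hQn hy), fun x => rfl⟩

theorem scSystem_isKNS :
    Cfsg.Agent.Lib.Helper84.KN.IsKNS F Q (autInducedBy S Q) (scSystem F Q hQ hQn) := by
  constructor
  · intro y
    rw [nk_autInducedBy_eq hQn]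
  · intro P φ
    constructor
    · rintro ⟨hφF, ψ, hψ, hψP, s, hs, hψQ⟩
      refine ⟨hφF, hom_le F hφF, hom_mem_S F hφF, ψ, hψ, hψP, conjAut Q s (hQn hs),
        conjAut_mem_autInducedBy hs (hQn hs), fun x => ?_⟩
      rw [hψQ]
      rfl
    · rintro ⟨hφF, -, -, ψ, hψ, hψP, k, hk, hψQ⟩
      obtain ⟨s, hs, hks⟩ := (mem_autInducedBy_iff S Q k).mp hk
      refine ⟨hφF, ψ, hψ, hψP, s, hs, fun x => ?_⟩
      rw [hψQ, hks]

theorem scSystem_isSaturated [Finite S] {p : ℕ} [Fact p.Prime] (hS : IsPGroup p S)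
    (hF : F.IsSaturated p) : (scSystem F Q hQ hQn).IsSaturated p := by
  refine Cfsg.Agent.Lib.Helper84.KN.isSaturated_of_isKNS hS F hF hQ ?_ (scSystem_isKNS F hQ hQn)
  intro φ _
  rw [nk_autInducedBy_eq hQn]
  exact Subgroup.card_le_of_le (Cfsg.Agent.Lib.Helper84.KN.nk_le _ _ _)

end Cfsg.Agent.Lib.Helper88
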