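import Cfsg.Agent.Lib.Helper88.GFAlperin
import Cfsg.Agent.Lib.Helper88.GFKSystem
import Cfsg.Agent.Lib.Helper88.EssOut
import Cfsg.Agent.Lib.Helper85.Sylow
import Cfsg.Agent.Lib.Helper87.Inner
import Cfsg.Agent.Lib.Helper87.HypAct
import Cfsg.Agent.Lib.Helper87.ConstrainedNormal
import Cfsg.Agent.Lib.Helper32.PPrimeP

set_option autoImplicit false

/-!
# `F = ⟨S C_F(Q), N_F(Q C_S(Q))⟩` for `Q` normal in `F`, in membership form
(Kessar–Linckelmann 3.?; Frattini argument)
-/

namespace Cfsg.Agent.Lib.Helper88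

open Cfsg Cfsg.FusionSystem
open Cfsg.Agent.Lib.Helper87 (hom_le hom_mem_S finite_of_le isConj_refl card_eq_of_isConj
  map_subgroupOf_eq_iff mem_autGroup_iff conjAut conjAut_coe conjAut_mem_autInducedBy
  autInducedBy_le_autGroup cast_mem mem_autInducedBy_iff)

section group

variable {G : Type*} [Group G]

/-- Frattini argument for `T ⊓ N`, elementwise -/
theorem frattini_inter [Finite G] {p : ℕ} [Fact p.Prime] (T : Sylow p G) (N : Subgroup G)
    [N.Normal] (g : G) :
    ∃ m ∈ Subgroup.normalizer (((T : Subgroup G) ⊓ N : Subgroup G) : Set G), ∃ n ∈ N, g = m * n := by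
  have h1 : IsPGroup p (((T : Subgroup G) ⊓ N).subgroupOf N) :=
    (T.isPGroup'.to_le inf_le_left).comap_subtype
  have h2 : ¬ p ∣ (((T : Subgroup G) ⊓ N).subgroupOf N).index :=
    Cfsg.Agent.Lib.Helper32.not_dvd_relIndex_inf_normal T N
  have h3 := Sylow.normalizer_sup_eq_top (h1.toSylow h2)
  rw [IsPGroup.toSylow_coe, Subgroup.map_subgroupOf_eq_of_le inf_le_right] at h3
  have h4 : g ∈ (↑(Subgroup.normalizer (((T : Subgroup G) ⊓ N : Subgroup G) : Set G) ⊔ N) : Set G) := by
    rw [h3]; trivial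
  rw [Subgroup.mul_normal] at h4
  obtain ⟨m, hm, n, hn, rfl⟩ := Set.mem_mul.mp h4
  exact ⟨m, hm, n, hn, rfl⟩

end group

variable {Ω : Type*} [Group Ω] {S : Subgroup Ω}

theorem conj_mem_centralizerIn {Q : Subgroup Ω} (hQn : S ≤ Subgroup.normalizer (Q : Set Ω))
    {s c : Ω} (hs : s ∈ S) (hc : c ∈ centralizerIn S Q) : s * c * s⁻¹ ∈ centralizerIn S Q := by
  refine ⟨S.mul_mem (S.mul_mem hs hc.1) (S.inv_mem hs), ?_⟩
  show s * c * s⁻¹ ∈ Subgroup.centralizer (Q : Set Ω)
  rw [Subgroup.mem_centralizer_iff]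
  intro q hq
  have hq' : s⁻¹ * q * s⁻¹⁻¹ ∈ Q :=
    conj_mem_of_normalizer (Subgroup.inv_mem _ (hQn hs)) hq
  have h1 := (Subgroup.mem_centralizer_iff.mp hc.2) _ hq'
  calc q * (s * c * s⁻¹) = s * ((s⁻¹ * q * s⁻¹⁻¹) * c) * s⁻¹ := by group
    _ = s * (c * (s⁻¹ * q * s⁻¹⁻¹)) * s⁻¹ := by rw [h1]
    _ = s * c * s⁻¹ * q := by group

theorem le_normalizer_centralizerIn [Finite S] {Q : Subgroup Ω}
    (hQn : S ≤ Subgroup.normalizer (Q : Set Ω)) :
    S ≤ Subgroup.normalizer ((centralizerIn S Q : Subgroup Ω) : Set Ω) := by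
  intro s hs
  have : Finite (centralizerIn S Q) := finite_of_le inf_le_left
  apply mem_normalizer_of_conj_mem_finite
  intro c hc
  exact conj_mem_centralizerIn hQn hs hc

theorem gf_le_normalizer_sup_centralizerIn [Finite S] {Q : Subgroup Ω} (hQ : Q ≤ S)
    (hQn : S ≤ Subgroup.normalizer (Q : Set Ω)) :
    S ≤ Subgroup.normalizer ((Q ⊔ centralizerIn S Q : Subgroup Ω) : Set Ω) := by
  intro s hs
  have hRS : Q ⊔ centralizerIn S Q ≤ S := sup_le hQ inf_le_left
  have : Finite ↥(Q ⊔ centralizerIn S Q) := finite_of_le hRS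
  apply mem_normalizer_of_conj_mem_finite
  intro x hx
  obtain ⟨q, hq, c, hc, rfl⟩ := Cfsg.Agent.Lib.Helper85.mem_sup_of_le_normalizer
    (hQ.trans (le_normalizer_centralizerIn hQn)) hx
  have e : s * (q * c) * s⁻¹ = (s * q * s⁻¹) * (s * c * s⁻¹) := by group
  rw [e]
  exact Subgroup.mul_mem _
    ((le_sup_left : Q ≤ Q ⊔ centralizerIn S Q) (conj_mem_of_normalizer (hQn hs) hq))
    ((le_sup_right : centralizerIn S Q ≤ Q ⊔ centralizerIn S Q) (conj_mem_centralizerIn hQn hs hc))

/-- in a `p`-group, if `N_C(U) ≤ U` for a subgroup `C` normalized by `U`, then `C ≤ U` -/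
theorem le_of_normalizer_inf_le [Finite S] {p : ℕ} [Fact p.Prime] (hS : IsPGroup p S)
    {U C : Subgroup Ω} (hU : U ≤ S) (hC : C ≤ S) (hUC : U ≤ Subgroup.normalizer (C : Set Ω))
    (h : ∀ c ∈ C, c ∈ Subgroup.normalizer (U : Set Ω) → c ∈ U) : C ≤ U := by
  by_contra hCU
  have hPT : U ≤ U ⊔ C := le_sup_left
  have hTS : U ⊔ C ≤ S := sup_le hU hC
  have hfinT : Finite ↥(U ⊔ C) := finite_of_le hTS
  have hTp : IsPGroup p ↥(U ⊔ C) := hS.to_le hTS
  have hne : U ≠ U ⊔ C := by
    intro h'
    apply hCU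
    rw [h']
    exact le_sup_right
  have hlt := Cfsg.Agent.Lib.Helper87.card_lt_card_normalizerIn hTp hPT hne
  have hex : ∃ g ∈ normalizerIn (U ⊔ C) U, g ∉ U := by
    by_contra hcon
    push Not at hcon
    have hle : normalizerIn (U ⊔ C) U ≤ U := hcon
    have hfinU : Finite U := finite_of_le hU
    have := Subgroup.card_le_of_le hle
    omega
  obtain ⟨g, hg, hgU⟩ := hex
  obtain ⟨u, hu, v, hv, rfl⟩ := Cfsg.Agent.Lib.Helper85.mem_sup_of_le_normalizer hUC hg.1
  have hvN : v ∈ Subgroup.normalizer (U : Set Ω) := by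
    have h1 : u⁻¹ * (u * v) ∈ Subgroup.normalizer (U : Set Ω) :=
      Subgroup.mul_mem _ (Subgroup.inv_mem _ (Subgroup.le_normalizer hu)) hg.2
    simpa using h1
  exact hgU (U.mul_mem hu (h v hv hvN))

/-- automorphisms of `U` fixing `Q` elementwise -/
def gfFixSub (U Q : Subgroup Ω) : Subgroup (MulAut U) where
  carrier := {α | ∀ x : U, (x : Ω) ∈ Q → α x = x}
  one_mem' := fun _ _ => rfl
  mul_mem' := by
    intro α β hα hβ x hx
    rw [MulAut.mul_apply, hβ x hx, hα x hx]
  inv_mem' := by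
    intro α hα x hx
    have h := hα x hx
    rw [MulAut.inv_apply]
    exact (MulEquiv.symm_apply_eq α).mpr h.symm

/-- **Generation by `S C_F(Q)` and `N_F(Q C_S(Q))`.** -/
theorem mem_of_sc_of_normalizer [Finite S] {p : ℕ} [Fact p.Prime] (hS : IsPGroup p S)
    (F : FusionSystem S) (hF : F.IsSaturated p) {Q : Subgroup Ω} (hQn : F.IsNormal Q)
    {S₀ : Subgroup Ω} (E : FusionSystem S₀)
    (h1 : ∀ (P : Subgroup Ω) (φ : P →* Ω), φ ∈ F.normalizerHom (Q ⊔ centralizerIn S Q) P →
      φ ∈ E.Hom P)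
    (h2 : ∀ (P : Subgroup Ω) (φ : P →* Ω), φ ∈ scHom F Q P → φ ∈ E.Hom P) :
    ∀ (P : Subgroup Ω) (φ : P →* Ω), φ ∈ F.Hom P → φ ∈ E.Hom P := by
  classical
  have hQS : Q ≤ S := hQn.1
  have hsc := Cfsg.Agent.Lib.Helper87.stronglyClosed_of_isNormal F hQn
  have hwc := Cfsg.Agent.Lib.Helper87.weaklyClosed_of_stronglyClosed F hsc
  have hSNQ : S ≤ Subgroup.normalizer (Q : Set Ω) :=
    Cfsg.Agent.Lib.Helper87.stronglyClosed_le_normalizer F hsc
  have hCS : centralizerIn S Q ≤ S := inf_le_left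
  have hRS : Q ⊔ centralizerIn S Q ≤ S := sup_le hQS hCS
  have hSNR := gf_le_normalizer_sup_centralizerIn hQS hSNQ
  have hSNC := le_normalizer_centralizerIn (S := S) hSNQ
  apply alperin_family hS F E {U | F.IsFullyNormalized U}
  · intro P hP
    obtain ⟨U, hc, hUfn⟩ := Cfsg.Agent.Lib.Helper87.exists_fullyNormalized_conj F hP
    exact ⟨U, hUfn, hc, (Cfsg.Agent.Lib.Helper87.fc_fa_of_fullyNormalized hS F hF hUfn).2,
      Cfsg.Agent.Lib.Helper87.receptive_of_fullyNormalized hS F hF hUfn⟩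
  · intro U hUfn IH ψ hψ hψr
    have hUS : U ≤ S := hUfn.1
    have hfinU : Finite U := finite_of_le hUS
    have hψmem : ∀ z : U, ψ z ∈ U := fun z => by
      have : ψ z ∈ ψ.range := ⟨z, rfl⟩
      rwa [hψr] at this
    by_cases hQU : Q ≤ U
    · by_cases hRU : Q ⊔ centralizerIn S Q ≤ U
      · -- `ψ` is a map of `N_F(R)`
        apply h1
        have hψQ : ∀ q : Ω, ∀ hq : q ∈ Q, ψ ⟨q, hQU hq⟩ ∈ Q := fun q hq =>
          hsc.2 Q le_rfl _ (Cfsg.Agent.Lib.Helper87.restrict_mem F hψ hQU) ⟨q, hq⟩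
        have hψQsurj : ∀ q ∈ Q, ∃ q₁ : Ω, ∃ hq₁ : q₁ ∈ Q, ψ ⟨q₁, hQU hq₁⟩ = q := by
          intro q hq
          have hr := hwc.2 _ (Cfsg.Agent.Lib.Helper87.restrict_mem F hψ hQU)
          have : q ∈ (ψ.comp (Subgroup.inclusion hQU)).range := by rw [hr]; exact hq
          obtain ⟨q₁, hq₁⟩ := this
          exact ⟨q₁, q₁.2, hq₁⟩
        have hψC : ∀ c : Ω, ∀ hc : c ∈ centralizerIn S Q,
            ψ ⟨c, hRU ((le_sup_right : centralizerIn S Q ≤ _) hc)⟩ ∈ centralizerIn S Q := by
          intro c hc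
          refine ⟨hom_mem_S F hψ _, ?_⟩
          show _ ∈ Subgroup.centralizer (Q : Set Ω)
          rw [Subgroup.mem_centralizer_iff]
          intro q hq
          obtain ⟨q₁, hq₁, rfl⟩ := hψQsurj q hq
          rw [← map_mul, ← map_mul]
          congr 1
          apply Subtype.ext
          exact (Subgroup.mem_centralizer_iff.mp hc.2) q₁ hq₁
        have hψR : ∀ y : U, (y : Ω) ∈ Q ⊔ centralizerIn S Q → ψ y ∈ Q ⊔ centralizerIn S Q := by
          intro y hy
          obtain ⟨q, hq, c, hc, hyqc⟩ := Cfsg.Agent.Lib.Helper85.mem_sup_of_le_normalizer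
            (hQS.trans hSNC) hy
          have e : y = ⟨q, hQU hq⟩ * ⟨c, hRU ((le_sup_right : centralizerIn S Q ≤ _) hc)⟩ :=
            Subtype.ext hyqc
          rw [e, map_mul]
          exact Subgroup.mul_mem _ ((le_sup_left : Q ≤ Q ⊔ centralizerIn S Q) (hψQ q hq))
            ((le_sup_right : centralizerIn S Q ≤ Q ⊔ centralizerIn S Q) (hψC c hc))
        have hψRsurj : ∀ r ∈ Q ⊔ centralizerIn S Q, ∃ y : U, (y : Ω) ∈ Q ⊔ centralizerIn S Q ∧
            ψ y = r := by
          have hfinR : Finite ↥(Q ⊔ centralizerIn S Q) := finite_of_le hRS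
          let f : ↥(Q ⊔ centralizerIn S Q) → ↥(Q ⊔ centralizerIn S Q) := fun x =>
            ⟨ψ (Subgroup.inclusion hRU x), hψR _ x.2⟩
          have hinj : Function.Injective f := by
            intro a b hab
            have h1 : ψ (Subgroup.inclusion hRU a) = ψ (Subgroup.inclusion hRU b) :=
              congrArg (fun z : ↥(Q ⊔ centralizerIn S Q) => (z : Ω)) hab
            exact Subgroup.inclusion_injective hRU (F.injective_of_mem hψ h1)
          have hsurj : Function.Surjective f := Finite.injective_iff_surjective.mp hinj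
          intro r hr
          obtain ⟨x, hx⟩ := hsurj ⟨r, hr⟩
          exact ⟨Subgroup.inclusion hRU x, x.2, congrArg (fun z : ↥(Q ⊔ centralizerIn S Q) => (z : Ω)) hx⟩
        have hSN : S ≤ normalizerIn S (Q ⊔ centralizerIn S Q) := fun s hs => ⟨hs, hSNR hs⟩
        have e : U = U ⊔ (Q ⊔ centralizerIn S Q) := (sup_eq_left.mpr hRU).symm
        refine ⟨hψ, hUS.trans hSN, fun x => hSN (hom_mem_S F hψ x),
          ψ.comp (Subgroup.inclusion e.ge), cast_mem F e hψ, fun x => rfl, ?_⟩
        rw [map_subgroupOf_eq_iff]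
        refine ⟨fun y hy => hψR _ hy, fun r hr => ?_⟩
        obtain ⟨y, hy, hyr⟩ := hψRsurj r hr
        exact ⟨Subgroup.inclusion e.le y, hy, hyr⟩
      · -- the Frattini argument
        obtain ⟨γ, hγA, hγψ⟩ := Cfsg.Agent.Lib.Helper87.exists_aut_of_hom F hψ hψmem
        have hψeq : ψ = U.subtype.comp γ.toMonoidHom := by
          ext z
          exact (hγψ z).symm
        obtain ⟨-, T, hT⟩ := (Cfsg.Agent.Lib.Helper87.fc_fa_of_fullyNormalized hS F hF hUfn).2
        have hrec := Cfsg.Agent.Lib.Helper87.receptive_of_fullyNormalized hS F hF hUfn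
        have hfinA : Finite (F.autGroup U) := inferInstance
        -- the normal subgroup `N`
        have hAQ : ∀ α ∈ F.autGroup U, ∀ x : U, (x : Ω) ∈ Q → ((α x : U) : Ω) ∈ Q := by
          intro α hα x hx
          have h := (mem_autGroup_iff F hUS α).mp hα
          exact hsc.2 Q le_rfl _ (Cfsg.Agent.Lib.Helper87.restrict_mem F h hQU) ⟨x, hx⟩
        have hNn : ((gfFixSub U Q).subgroupOf (F.autGroup U)).Normal := by
          constructor
          rintro ⟨α, hαA⟩ hα ⟨β, hβA⟩
          rw [Subgroup.mem_subgroupOf] at hα ⊢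
          show β * α * β⁻¹ ∈ gfFixSub U Q
          intro x hx
          have h1 := hAQ β⁻¹ (Subgroup.inv_mem _ hβA) x hx
          show β (α (β⁻¹ x)) = x
          rw [hα _ h1]
          simp
        obtain ⟨ν, hν, κ, hκ, hγνκ⟩ := frattini_inter T ((gfFixSub U Q).subgroupOf (F.autGroup U))
          ⟨γ, hγA⟩
        -- `κ`
        have hκA : (κ : MulAut U) ∈ F.autGroup U := κ.2
        have hκF := (mem_autGroup_iff F hUS _).mp hκA
        have hκfix : ∀ x : U, (x : Ω) ∈ Q → (κ : MulAut U) x = x := Subgroup.mem_subgroupOf.mp hκ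
        have hκE : U.subtype.comp (κ : MulAut U).toMonoidHom ∈ E.Hom U := by
          apply h2
          apply mem_scSystem_of_conj F hQS hSNQ hκF hQU S.one_mem
          intro x
          show (((κ : MulAut U) ⟨x, hQU x.2⟩ : U) : Ω) = 1 * (x : Ω) * 1⁻¹
          rw [hκfix ⟨x, hQU x.2⟩ x.2]
          simp
        -- `ν`
        have hνA : (ν : MulAut U) ∈ F.autGroup U := ν.2
        have hνF := (mem_autGroup_iff F hUS _).mp hνA
        have hνr : (U.subtype.comp (ν : MulAut U).toMonoidHom).range = U := by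
          ext y
          constructor
          · rintro ⟨x, rfl⟩
            exact ((ν : MulAut U) x).2
          · intro hy
            exact ⟨(ν : MulAut U)⁻¹ ⟨y, hy⟩, by simp⟩
        have hD : U ⊔ (normalizerIn S U ⊓ centralizerIn S Q) ≤
            extender S U (U.subtype.comp (ν : MulAut U).toMonoidHom) := by
          apply sup_le (Cfsg.Agent.Lib.Helper87.self_le_extender F hνF)
          intro g hg
          have hgS : g ∈ S := hg.1.1
          have hgN : g ∈ Subgroup.normalizer (U : Set Ω) := hg.1.2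
          have hgC : g ∈ Subgroup.centralizer (Q : Set Ω) := hg.2.2
          -- `c_g` lies in `T ⊓ N`
          have hcgA : conjAut U g hgN ∈ F.autGroup U :=
            autInducedBy_le_autGroup F hUS (conjAut_mem_autInducedBy hgS hgN)
          have hcgT : (⟨conjAut U g hgN, hcgA⟩ : F.autGroup U) ∈ (T : Subgroup (F.autGroup U)) := by
            rw [hT, Subgroup.mem_subgroupOf]
            exact conjAut_mem_autInducedBy hgS hgN
          have hcgN : (⟨conjAut U g hgN, hcgA⟩ : F.autGroup U) ∈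
              (gfFixSub U Q).subgroupOf (F.autGroup U) := by
            rw [Subgroup.mem_subgroupOf]
            intro x hx
            apply Subtype.ext
            show g * (x : Ω) * g⁻¹ = x
            have := (Subgroup.mem_centralizer_iff.mp hgC) x hx
            calc g * (x : Ω) * g⁻¹ = (x : Ω) * g * g⁻¹ := by rw [this]
              _ = x := by group
          have h3 := (Subgroup.mem_normalizer_iff.mp hν ⟨conjAut U g hgN, hcgA⟩).mp ⟨hcgT, hcgN⟩
          have h4 : ν * ⟨conjAut U g hgN, hcgA⟩ * ν⁻¹ ∈ (T : Subgroup (F.autGroup U)) := h3.1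
          rw [hT, Subgroup.mem_subgroupOf] at h4
          obtain ⟨h, hhS, hh⟩ := (mem_autInducedBy_iff S U _).mp h4
          refine Subgroup.subset_closure ⟨hgS, hgN, h, hhS, fun x hx => ?_⟩
          have h5 := hh ((ν : MulAut U) x)
          have e1 : ((ν * ⟨conjAut U g hgN, hcgA⟩ * ν⁻¹ : F.autGroup U) : MulAut U)
              ((ν : MulAut U) x) = (ν : MulAut U) (conjAut U g hgN x) := by
            show (ν : MulAut U) (conjAut U g hgN ((ν : MulAut U)⁻¹ ((ν : MulAut U) x))) = _
            simp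
          rw [e1] at h5
          show (((ν : MulAut U) ⟨g * x * g⁻¹, hx⟩ : U) : Ω) = h * (((ν : MulAut U) x : U) : Ω) * h⁻¹
          rw [← h5]
          rfl
        obtain ⟨χ, hχ, hχe⟩ := Cfsg.Agent.Lib.Helper87.extend_to_sub F hνF hνr hrec hD
        -- the larger subgroup
        have hlt : Nat.card U < Nat.card ↥(U ⊔ (normalizerIn S U ⊓ centralizerIn S Q)) := by
          have hDS : U ⊔ (normalizerIn S U ⊓ centralizerIn S Q) ≤ S :=
            sup_le hUS (inf_le_left.trans inf_le_left)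
          have : Finite ↥(U ⊔ (normalizerIn S U ⊓ centralizerIn S Q)) := finite_of_le hDS
          by_contra hcon
          push Not at hcon
          have heq : U = U ⊔ (normalizerIn S U ⊓ centralizerIn S Q) :=
            Subgroup.eq_of_le_of_card_ge le_sup_left hcon
          have hCU : normalizerIn S U ⊓ centralizerIn S Q ≤ U :=
            le_sup_right.trans heq.ge
          apply hRU
          apply sup_le hQU
          apply le_of_normalizer_inf_le hS hUS hCS (hUS.trans hSNC)
          intro c hc hcN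
          exact hCU ⟨⟨hc.1, hcN⟩, hc⟩
        have hχE := IH _ hlt χ hχ
        have hνE : U.subtype.comp (ν : MulAut U).toMonoidHom ∈ E.Hom U := by
          have h6 := Cfsg.Agent.Lib.Helper87.restrict_mem E hχE
            (le_sup_left : U ≤ U ⊔ (normalizerIn S U ⊓ centralizerIn S Q))
          convert h6 using 1
          ext x
          exact (hχe x x.2 _).symm
        -- compose
        have hκU : ∀ x : U, (U.subtype.comp (κ : MulAut U).toMonoidHom) x ∈ U := fun x =>
          ((κ : MulAut U) x).2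
        have hcomp := E.comp_mem hκE hνE hκU
        rw [hψeq]
        convert hcomp using 1
        ext x
        have e2 : γ = (ν : MulAut U) * (κ : MulAut U) := by
          have := congrArg (fun a : F.autGroup U => (a : MulAut U)) hγνκ
          exact this
        rw [e2]
        rfl
    · -- extend to `U Q`
      obtain ⟨ψ', hψ', hext, -⟩ := hQn.2 U ψ hψ
      have hDS : U ⊔ Q ≤ S := sup_le hUS hQS
      have : Finite ↥(U ⊔ Q) := finite_of_le hDS
      have hlt : Nat.card U < Nat.card ↥(U ⊔ Q) := by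
        by_contra hcon
        push Not at hcon
        have heq : U = U ⊔ Q := Subgroup.eq_of_le_of_card_ge le_sup_left hcon
        exact hQU (le_sup_right.trans heq.ge)
      have hψ'E := IH _ hlt ψ' hψ'
      have h6 := Cfsg.Agent.Lib.Helper87.restrict_mem E hψ'E (le_sup_left : U ≤ U ⊔ Q)
      convert h6 using 1
      ext x
      exact (hext x).symm

end Cfsg.Agent.Lib.Helper88
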