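import Cfsg.Agent.Lib.Helper88.GFKSystem
import Cfsg.Agent.Lib.Helper88.SectionFreeNormalizer

set_option autoImplicit false

/-!
# `S C_F(Q)` inherits freeness
-/

namespace Cfsg.Agent.Lib.Helper88

open Cfsg Cfsg.FusionSystem
open Cfsg.Agent.Lib.Helper87 (hom_le hom_mem_S subtype_mem restrict_mem finite_of_le isConj_refl
  card_eq_of_isConj comp_mem' inv_exists)

universe u

variable {Ω : Type u} [Group Ω] {S : Subgroup Ω}

/-- a subgroup containing `Q ⊴ F` that is centric in `S C_F(Q)` is centric in `F` -/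
theorem isCentric_of_isCentric_scSystem [Finite S] {p : ℕ} [Fact p.Prime] (hS : IsPGroup p S)
    (F : FusionSystem S) (hF : F.IsSaturated p) {Q : Subgroup Ω} (hQn : F.IsNormal Q)
    (hQS' : S ≤ Subgroup.normalizer (Q : Set Ω)) {R : Subgroup Ω} (hQR : Q ≤ R)
    (hRc : (scSystem F Q hQn.1 hQS').IsCentric R) : F.IsCentric R := by
  have hQS : Q ≤ S := hQn.1
  have hRS : R ≤ S := hRc.1
  have hsc := Cfsg.Agent.Lib.Helper87.stronglyClosed_of_isNormal F hQn
  have hwc := Cfsg.Agent.Lib.Helper87.weaklyClosed_of_stronglyClosed F hsc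
  have hQfn : F.IsFullyNormalized Q :=
    Cfsg.Agent.Lib.Helper87.fullyNormalized_of_le_normalizer F hQS hQS'
  have hQrec : F.IsReceptive Q := Cfsg.Agent.Lib.Helper87.receptive_of_fullyNormalized hS F hF hQfn
  refine ⟨hRS, ?_⟩
  rintro R' ⟨θ, hθ, rfl⟩
  have hθS : ∀ x : R, θ x ∈ S := hom_mem_S F hθ
  have hθinj : Function.Injective θ := F.injective_of_mem hθ
  -- the restriction to `Q`
  have hθQF : θ.comp (Subgroup.inclusion hQR) ∈ F.Hom Q := Cfsg.Agent.Lib.Helper87.restrict_mem F hθ hQR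
  have hθQr : (θ.comp (Subgroup.inclusion hQR)).range = Q := hwc.2 _ hθQF
  obtain ⟨β, hβ, hβinv, hβr⟩ := inv_exists F hθQF hθQr
  have hθQmem : ∀ x : Q, θ (Subgroup.inclusion hQR x) ∈ Q := by
    intro x
    have : (θ.comp (Subgroup.inclusion hQR)) x ∈ (θ.comp (Subgroup.inclusion hQR)).range :=
      ⟨x, rfl⟩
    rw [hθQr] at this
    exact this
  have hβθ : ∀ x : Q, β ⟨θ (Subgroup.inclusion hQR x), hθQmem x⟩ = x := fun x =>
    hβinv x (hθQmem x)
  have hβsurj : ∀ y : Q, ∃ x : Q, θ (Subgroup.inclusion hQR x) = y := by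
    intro y
    have : (y : Ω) ∈ (θ.comp (Subgroup.inclusion hQR)).range := by rw [hθQr]; exact y.2
    obtain ⟨x, hx⟩ := this
    exact ⟨x, hx⟩
  have hQθ : Q ≤ θ.range := by
    intro y hy
    obtain ⟨x, hx⟩ := hβsurj ⟨y, hy⟩
    exact ⟨_, hx⟩
  -- the extension of `β`
  have hM : θ.range ⊔ centralizerIn S Q ≤ extender S Q β := by
    apply sup_le
    · rintro _ ⟨r, rfl⟩
      refine Subgroup.subset_closure ⟨hθS r, hQS' (hθS r), (r : Ω), hRS r.2, fun y hy => ?_⟩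
      obtain ⟨x, hx⟩ := hβsurj y
      have hrx : (r : Ω) * x * (r : Ω)⁻¹ ∈ Q := conj_mem_of_normalizer (hQS' (hRS r.2)) x.2
      have e1 : (⟨θ r * (y : Ω) * (θ r)⁻¹, hy⟩ : Q) =
          ⟨θ (Subgroup.inclusion hQR ⟨(r : Ω) * x * (r : Ω)⁻¹, hrx⟩), hθQmem _⟩ := by
        apply Subtype.ext
        show θ r * (y : Ω) * (θ r)⁻¹ = θ (Subgroup.inclusion hQR ⟨(r : Ω) * x * (r : Ω)⁻¹, hrx⟩)
        have e2 : Subgroup.inclusion hQR ⟨(r : Ω) * x * (r : Ω)⁻¹, hrx⟩ =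
            r * Subgroup.inclusion hQR x * r⁻¹ := Subtype.ext rfl
        rw [e2, map_mul, map_mul, map_inv, hx]
      have e3 : y = ⟨θ (Subgroup.inclusion hQR x), hθQmem x⟩ := Subtype.ext hx.symm
      rw [e1, hβθ, e3, hβθ]
    · exact Cfsg.Agent.Lib.Helper87.centralizerIn_le_extender' Q β
  obtain ⟨ψ, hψ, hψe⟩ := Cfsg.Agent.Lib.Helper87.extend_to_sub F hβ hβr hQrec hM
  have hψinj : Function.Injective ψ := F.injective_of_mem hψ
  -- the composite
  have hθM : ∀ x : R, θ x ∈ θ.range ⊔ centralizerIn S Q := fun x =>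
    (le_sup_left : θ.range ≤ θ.range ⊔ centralizerIn S Q) ⟨x, rfl⟩
  obtain ⟨ζ, hζ, hζv⟩ := comp_mem' F hθ hψ hθM
  have hζ₂ : ζ ∈ (scSystem F Q hQS hQS').Hom R := by
    apply mem_scSystem_of_conj F hQS hQS' hζ hQR S.one_mem
    intro x
    rw [hζv]
    have h1 := hψe (θ (Subgroup.inclusion hQR x)) (hθQmem x) (hθM _)
    have e : (⟨θ ⟨(x : Ω), hQR x.2⟩, hθM ⟨(x : Ω), hQR x.2⟩⟩ :
        ↥(θ.range ⊔ centralizerIn S Q)) = ⟨θ (Subgroup.inclusion hQR x), hθM _⟩ := rfl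
    rw [e, h1, hβθ]
    simp
  have hζc : centralizerIn S ζ.range ≤ ζ.range := hRc.2 _ ⟨ζ, hζ₂, rfl⟩
  -- the centralizer
  intro c hc
  have hcS : c ∈ S := hc.1
  have hcC : c ∈ Subgroup.centralizer (θ.range : Set Ω) := hc.2
  have hcQ : c ∈ centralizerIn S Q :=
    ⟨hcS, Subgroup.centralizer_le (show (Q : Set Ω) ⊆ θ.range from hQθ) hcC⟩
  have hcM : c ∈ θ.range ⊔ centralizerIn S Q :=
    (le_sup_right : centralizerIn S Q ≤ θ.range ⊔ centralizerIn S Q) hcQ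
  have h1 : ψ ⟨c, hcM⟩ ∈ centralizerIn S ζ.range := by
    refine ⟨hom_mem_S F hψ _, ?_⟩
    show ψ ⟨c, hcM⟩ ∈ Subgroup.centralizer (ζ.range : Set Ω)
    rw [Subgroup.mem_centralizer_iff]
    rintro _ ⟨x, rfl⟩
    rw [hζv, ← map_mul, ← map_mul]
    congr 1
    apply Subtype.ext
    show θ x * c = c * θ x
    rw [Subgroup.mem_centralizer_iff] at hcC
    exact hcC _ ⟨x, rfl⟩
  obtain ⟨x, hx⟩ := hζc h1
  rw [hζv] at hx
  have h2 := hψinj hx
  exact ⟨x, congrArg (fun z : ↥(θ.range ⊔ centralizerIn S Q) => (z : Ω)) h2⟩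

/-- **`S C_F(Q)` inherits freeness**, for `Q` normal in `F`. -/
theorem isSectionFree_scSystem [Finite S] {p : ℕ} [Fact p.Prime] (hS : IsPGroup p S)
    (F : FusionSystem S) (hF : F.IsSaturated p) (H : Type*) [Group H]
    (hfree : F.IsSectionFree p H) {Q : Subgroup Ω} (hQn : F.IsNormal Q)
    (hQS' : S ≤ Subgroup.normalizer (Q : Set Ω)) :
    (scSystem F Q hQn.1 hQS').IsSectionFree p H := by
  have hQS : Q ≤ S := hQn.1
  have hsat : (scSystem F Q hQS hQS').IsSaturated p := scSystem_isSaturated F hQS hQS' hS hF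
  have hQn₂ : (scSystem F Q hQS hQS').IsNormal Q := scSystem_isNormal F hQS hQS'
  apply isSectionFree_of_radical hS _ hsat H
  intro R hRfn hRcen hRrad M hM L _ ι hL
  have hQR : Q ≤ R := Cfsg.Agent.Lib.Helper87.isNormal_le_centric_radical hS _ hQn₂ hRcen hRrad
  have hRS : R ≤ S := hRcen.1
  have hRF : F.IsCentric R := isCentric_of_isCentric_scSystem hS F hF hQn hQS' hQR hRcen
  obtain ⟨X, hconj, hXfn⟩ := Cfsg.Agent.Lib.Helper87.exists_fullyNormalized_conj F hRS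
  have hXcen : F.IsCentric X := isCentric_of_isConj F hRF hconj
  have hXS : X ≤ S := hXfn.1
  have hXc : centralizerIn S X ≤ X := hXcen.2 X (isConj_refl F hXS)
  let NX := Cfsg.Agent.Lib.Helper84.normalizerSystem F X hXS
  have hNX : F.IsNormalizerSystem X NX := Cfsg.Agent.Lib.Helper84.normalizerSystem_spec F X hXS
  obtain ⟨LX, _, ιX, hLX⟩ := exists_model_normalizerSystem hS F hF hXfn hXcen NX hNX
  have hLXfree : ¬ Involves H LX := hfree X hXfn hXcen NX hNX LX ιX hLX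
  have hsub : ∀ A : Subgroup Ω, M.Hom A ⊆ F.Hom A := by
    intro A φ hφ
    rw [hM A] at hφ
    exact hφ.1.1
  have hRn : M.IsNormal R := Cfsg.Agent.Lib.Helper87.normalizerSystem_isNormal _ hRS hM
  have hRc : centralizerIn (normalizerIn S R) R ≤ R := by
    intro x hx
    exact hRcen.2 R (isConj_refl _ hRS) ⟨hx.1.1, hx.2⟩
  obtain ⟨Φ, hΦ⟩ := exists_model_embedding hS F hF M hsub hRn hRc le_rfl hXfn hXc hconj NX hNX
    ιX hLX ι hL
  exact fun hinv => hLXfree (involves_of_injective Φ hΦ hinv)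

end Cfsg.Agent.Lib.Helper88
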