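import Cfsg.Agent.Lib.Helper88.FactorPrelim
import Cfsg.Agent.Lib.Helper88.EssOut
import Cfsg.Agent.Lib.Helper85.Sylow
import Cfsg.Agent.Lib.Helper87.Inner
import Cfsg.Agent.Lib.Helper87.PCore
import Cfsg.Agent.Lib.Helper87.ConstrainedNormal
import Cfsg.Agent.S5134
import Cfsg.Agent.S5086

set_option autoImplicit false

/-!
# Lifting normal subgroups from the factor system `G/Q` when `Aut_G(Q) = Aut_S(Q)`
(Kessar–Linckelmann 3.4)
-/

namespace Cfsg.Agent.Lib.Helper88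

open Cfsg Cfsg.FusionSystem
open Cfsg.Agent.Lib.Helper87 (hom_le hom_mem_S finite_of_le isConj_refl card_eq_of_isConj
  map_subgroupOf_eq_iff mem_autGroup_iff conjAut conjAut_coe conjAut_mem_autInducedBy
  autInducedBy_le_autGroup)
open Cfsg.Agent.Lib.Helper85 (mem_im im_pre pre_im)
open Cfsg.Agent.S5132 (mem_pre pre_le pre_apply_mem)

section abstract

theorem pow_mod {Γ : Type*} [Group Γ] {Ω' : Type*} [Group Ω'] (π : Γ →* Ω') (α : MulAut Γ) (ρ : Ω')
    (h : ∀ x, π (α x) = ρ * π x * ρ⁻¹) (n : ℕ) (x : Γ) :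
    π ((α ^ n) x) = ρ ^ n * π x * (ρ ^ n)⁻¹ := by
  induction n generalizing x with
  | zero => simp
  | succ n ih =>
    rw [pow_succ', MulAut.mul_apply, h, ih, pow_succ']
    group

theorem pow_eq_one_of_stab {Γ : Type*} [Group Γ] (Q₀ : Subgroup Γ) (γ : MulAut Γ)
    (h1 : ∀ q ∈ Q₀, γ q = q) (h2 : ∀ x, γ x * x⁻¹ ∈ Q₀) (N : ℕ) (hN : ∀ q ∈ Q₀, q ^ N = 1) :
    γ ^ N = 1 := by
  have key : ∀ n : ℕ, ∀ x : Γ, (γ ^ n) x = (γ x * x⁻¹) ^ n * x := by
    intro n
    induction n with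
    | zero => intro x; simp
    | succ n ih =>
      intro x
      rw [pow_succ', MulAut.mul_apply, ih, map_mul, map_pow, h1 _ (h2 x), pow_succ]
      group
  ext x
  rw [key N x, hN _ (h2 x)]
  simp

variable {Ω : Type*} [Group Ω]

theorem pow_conj_on {P Q : Subgroup Ω} (β : MulAut P) (s : Ω)
    (hsQ : s ∈ Subgroup.normalizer (Q : Set Ω))
    (h : ∀ x : P, (x : Ω) ∈ Q → ((β x : P) : Ω) = s * x * s⁻¹) (n : ℕ) :
    ∀ x : P, (x : Ω) ∈ Q → (((β ^ n) x : P) : Ω) = s ^ n * x * (s ^ n)⁻¹ := by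
  induction n with
  | zero => intro x _; simp
  | succ n ih =>
    intro x hx
    have h1 := ih x hx
    have hsn : s ^ n ∈ Subgroup.normalizer (Q : Set Ω) := Subgroup.pow_mem _ hsQ n
    have h2 : (((β ^ n) x : P) : Ω) ∈ Q := by
      rw [h1]
      exact (Subgroup.mem_normalizer_iff.mp hsn x).mp hx
    rw [pow_succ', MulAut.mul_apply, h _ h2, h1, pow_succ']
    group

end abstract

variable {Ω : Type*} [Group Ω] {S : Subgroup Ω} {Ω' : Type*} [Group Ω'] {S' : Subgroup Ω'}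

/-- automorphisms of `P` in `Aut_G(P)` acting modulo the kernel of `θ` as an element of
`N_V(P)` -/
def modSub (G : FusionSystem S) (θ : S →* Ω') (V P : Subgroup Ω) (hPS : P ≤ S) :
    Subgroup (MulAut P) where
  carrier := {α | α ∈ G.autGroup P ∧ ∃ r : S, (r : Ω) ∈ V ∧
    (r : Ω) ∈ Subgroup.normalizer (P : Set Ω) ∧
    ∀ x : P, (θ.comp (Subgroup.inclusion hPS)) (α x) =
      θ r * (θ.comp (Subgroup.inclusion hPS)) x * (θ r)⁻¹}
  one_mem' := ⟨Subgroup.one_mem _, 1, V.one_mem, Subgroup.one_mem _, fun x => by simp⟩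
  mul_mem' := by
    rintro α β ⟨hα, r, hrV, hrN, hαr⟩ ⟨hβ, r', hr'V, hr'N, hβr⟩
    refine ⟨Subgroup.mul_mem _ hα hβ, r * r', V.mul_mem hrV hr'V, Subgroup.mul_mem _ hrN hr'N,
      fun x => ?_⟩
    rw [MulAut.mul_apply, hαr (β x), hβr x, map_mul]
    group
  inv_mem' := by
    rintro α ⟨hα, r, hrV, hrN, hαr⟩
    refine ⟨Subgroup.inv_mem _ hα, r⁻¹, V.inv_mem hrV, Subgroup.inv_mem _ hrN, fun x => ?_⟩
    have h := hαr (α⁻¹ x)
    have e : α (α⁻¹ x) = x := by simp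
    rw [e] at h
    rw [h, map_inv]
    group

/-- **Lifting normal subgroups.** -/
theorem isNormal_preimage_of_factor [Finite S] {p : ℕ} [Fact p.Prime] (hS : IsPGroup p S)
    (G : FusionSystem S) (hG : G.IsSaturated p) {Q : Subgroup Ω} (hQn : G.IsNormal Q)
    (hinn : ∀ (P : Subgroup Ω) (hQP : Q ≤ P) (φ : P →* Ω), φ ∈ G.Hom P →
      ∃ s ∈ S, ∀ x : Q, φ ⟨x, hQP x.2⟩ = s * (x : Ω) * s⁻¹)
    (θ : S →* Ω') (E : FusionSystem S') (hE : G.IsFactorSystem Q θ E)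
    {V' : Subgroup Ω'} (hV' : E.IsNormal V') : G.IsNormal (preimageAlong θ V') := by
  classical
  have hsc := Cfsg.Agent.Lib.Helper87.stronglyClosed_of_isNormal G hQn
  have hQS : Q ≤ S := hQn.1
  have hSNQ : S ≤ Subgroup.normalizer (Q : Set Ω) :=
    Cfsg.Agent.Lib.Helper87.stronglyClosed_le_normalizer G hsc
  have hsur := Cfsg.Agent.S5134.result p hS G hG Q hsc θ E hE
  have hmor : G.IsMorphism E θ := hsur.1
  obtain ⟨-, hker, hrange, -⟩ := hE
  have hV'sc := Cfsg.Agent.Lib.Helper87.stronglyClosed_of_isNormal E hV'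
  have hVS : preimageAlong θ V' ≤ S := pre_le θ V'
  have hVsc : G.StronglyClosed (preimageAlong θ V') := by
    refine ⟨hVS, ?_⟩
    intro A hAV φ hφ x
    obtain ⟨φ', hφ', hP, hφS, hP', hind⟩ := hmor.2 A φ hφ
    have hAle : imageAlong θ A ≤ V' := by
      intro y hy
      obtain ⟨s, hs, rfl⟩ := mem_im.mp hy
      obtain ⟨_, h⟩ := mem_pre.mp (hAV hs)
      exact h
    have h1 := hV'sc.2 (imageAlong θ A) hAle φ' hφ' ⟨θ ⟨x, hP x.2⟩, hP' x⟩
    rw [hind] at h1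
    exact mem_pre.mpr ⟨hφS x, h1⟩
  have hSNV : S ≤ Subgroup.normalizer ((preimageAlong θ V' : Subgroup Ω) : Set Ω) :=
    Cfsg.Agent.Lib.Helper87.stronglyClosed_le_normalizer G hVsc
  rw [Cfsg.Agent.S5086.result p hS G hG (preimageAlong θ V')]
  refine ⟨hVsc, ?_⟩
  intro P hPc hPr
  have hPS : P ≤ S := hPc.1
  have hQP : Q ≤ P := Cfsg.Agent.Lib.Helper87.isNormal_le_centric_radical hS G hQn hPc hPr
  have hfinP : Finite P := finite_of_le hPS
  have hCP : centralizerIn S P ≤ P := hPc.2 P (isConj_refl G hPS)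
  -- exponents
  have hSN : ∀ s : S, s ^ Nat.card S = 1 := fun s => pow_card_eq_one'
  have hΩN : ∀ x : Ω, x ∈ S → x ^ Nat.card S = 1 := by
    intro x hx
    have := hSN ⟨x, hx⟩
    exact congrArg (fun s : S => (s : Ω)) this
  have hkerP : ∀ a b : P, (θ.comp (Subgroup.inclusion hPS)) a = (θ.comp (Subgroup.inclusion hPS)) b →
      (a : Ω) * (b : Ω)⁻¹ ∈ Q := by
    intro a b hab
    have h1 : θ (Subgroup.inclusion hPS a * (Subgroup.inclusion hPS b)⁻¹) = 1 := by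
      rw [map_mul, map_inv]
      show (θ.comp (Subgroup.inclusion hPS)) a * ((θ.comp (Subgroup.inclusion hPS)) b)⁻¹ = 1
      rw [hab, mul_inv_cancel]
    exact (hker _).mp h1
  -- the subgroup `B₁` is a `p`-group
  have hB₁p : ∀ α ∈ modSub G θ (preimageAlong θ V') P hPS,
      α ^ (Nat.card S * Nat.card S * Nat.card S) = 1 := by
    rintro α ⟨hαA, r, -, -, hαr⟩
    -- `β = α ^ N` acts trivially modulo `Q`
    have hβ : ∀ x : P, (θ.comp (Subgroup.inclusion hPS)) ((α ^ Nat.card S) x) =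
        (θ.comp (Subgroup.inclusion hPS)) x := by
      intro x
      rw [pow_mod _ α (θ r) hαr, ← map_pow, hSN r, map_one]
      simp
    have hβA : α ^ Nat.card S ∈ G.autGroup P := Subgroup.pow_mem _ hαA _
    obtain ⟨s, hs, hβs⟩ := hinn P hQP _ ((mem_autGroup_iff G hPS _).mp hβA)
    have hβs' : ∀ x : P, (x : Ω) ∈ Q → (((α ^ Nat.card S) x : P) : Ω) = s * x * s⁻¹ := by
      intro x hx
      exact hβs ⟨x, hx⟩
    -- `γ = β ^ N` fixes `Q` and acts trivially modulo `Q`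
    have hγ1 : ∀ x : P, (x : Ω) ∈ Q → ((α ^ Nat.card S) ^ Nat.card S) x = x := by
      intro x hx
      apply Subtype.ext
      rw [pow_conj_on (α ^ Nat.card S) s (hSNQ hs) hβs' (Nat.card S) x hx, hΩN s hs]
      simp
    have hγ2 : ∀ x : P, (θ.comp (Subgroup.inclusion hPS)) (((α ^ Nat.card S) ^ Nat.card S) x) =
        (θ.comp (Subgroup.inclusion hPS)) x := by
      intro x
      have h1 : ∀ y : P, (θ.comp (Subgroup.inclusion hPS)) ((α ^ Nat.card S) y) =
          1 * (θ.comp (Subgroup.inclusion hPS)) y * 1⁻¹ := fun y => by rw [hβ y]; simp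
      rw [pow_mod _ (α ^ Nat.card S) 1 h1]
      simp
    have h3 := pow_eq_one_of_stab (Q.subgroupOf P) ((α ^ Nat.card S) ^ Nat.card S)
      (fun q hq => hγ1 q (Subgroup.mem_subgroupOf.mp hq))
      (fun x => by
        rw [Subgroup.mem_subgroupOf]
        have := hkerP _ _ (hγ2 x)
        simpa using this)
      (Nat.card S)
      (fun q _ => by
        apply Subtype.ext
        have := hΩN (q : Ω) (hPS q.2)
        simpa using this)
    rw [pow_mul, pow_mul]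
    exact h3
  obtain ⟨a, ha⟩ := IsPGroup.iff_card.mp hS
  have hBp : IsPGroup p ((modSub G θ (preimageAlong θ V') P hPS).subgroupOf (G.autGroup P)) := by
    intro g
    refine ⟨3 * a, ?_⟩
    apply Subtype.ext
    apply Subtype.ext
    have h1 := hB₁p (g : G.autGroup P) (Subgroup.mem_subgroupOf.mp g.2)
    have e : p ^ (3 * a) = Nat.card S * Nat.card S * Nat.card S := by
      rw [ha]; ring
    rw [e]
    simpa using h1
  -- normality
  have hBn : ((modSub G θ (preimageAlong θ V') P hPS).subgroupOf (G.autGroup P)).Normal := by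
    constructor
    rintro ⟨α, hαA'⟩ hα ⟨β, hβA⟩
    rw [Subgroup.mem_subgroupOf] at hα ⊢
    obtain ⟨hαA, r, hrV, hrN, hαr⟩ := hα
    show β * α * β⁻¹ ∈ _
    have hβhom := (mem_autGroup_iff G hPS _).mp hβA
    obtain ⟨b', hb', hP, hφS, hP', hind⟩ := hmor.2 P _ hβhom
    obtain ⟨ψ', hψ', hψ'e, hψ'V⟩ := hV'.2 _ b' hb'
    obtain ⟨hψ'1, -⟩ := (map_subgroupOf_eq_iff ψ').mp hψ'V
    have hrV' : θ r ∈ V' := by
      obtain ⟨_, h⟩ := mem_pre.mp hrV
      exact h
    have hr'V' : ψ' ⟨θ r, (le_sup_right : V' ≤ imageAlong θ P ⊔ V') hrV'⟩ ∈ V' := hψ'1 _ hrV'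
    have hr'range : ψ' ⟨θ r, (le_sup_right : V' ≤ imageAlong θ P ⊔ V') hrV'⟩ ∈ θ.range := by
      rw [hrange]; exact hV'.1 hr'V'
    obtain ⟨r', hr'⟩ := hr'range
    have hind' : ∀ y : P, b' ⟨(θ.comp (Subgroup.inclusion hPS)) y, hP' y⟩ =
        (θ.comp (Subgroup.inclusion hPS)) (β y) := fun y => hind y
    have hmain : ∀ x : P, (θ.comp (Subgroup.inclusion hPS))
        ((β * α * β⁻¹) x) =
        θ r' * (θ.comp (Subgroup.inclusion hPS)) x * (θ r')⁻¹ := by
      intro x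
      set y := β⁻¹ x with hy
      have hβy : β y = x := by rw [hy]; simp
      have h1 : (β * α * β⁻¹) x = β (α y) := rfl
      rw [h1, ← hind' (α y), ← hψ'e]
      have e1 : (Subgroup.inclusion (le_sup_left : imageAlong θ P ≤ imageAlong θ P ⊔ V')
          ⟨(θ.comp (Subgroup.inclusion hPS)) (α y), hP' (α y)⟩) =
          ⟨θ r, (le_sup_right : V' ≤ imageAlong θ P ⊔ V') hrV'⟩ *
          (Subgroup.inclusion (le_sup_left : imageAlong θ P ≤ imageAlong θ P ⊔ V')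
            ⟨(θ.comp (Subgroup.inclusion hPS)) y, hP' y⟩) *
          ⟨θ r, (le_sup_right : V' ≤ imageAlong θ P ⊔ V') hrV'⟩⁻¹ := by
        apply Subtype.ext
        exact hαr y
      rw [e1, map_mul, map_mul, map_inv, hψ'e, hind' y, hβy, hr']
    refine ⟨Subgroup.mul_mem _ (Subgroup.mul_mem _ hβA hαA) (Subgroup.inv_mem _ hβA), r', ?_, ?_,
      hmain⟩
    · refine mem_pre.mpr ⟨r'.2, ?_⟩
      have : (⟨(r' : Ω), r'.2⟩ : S) = r' := Subtype.ext rfl
      rw [this, hr']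
      exact hr'V'
    · apply mem_normalizer_of_conj_mem_finite
      intro x hx
      have h1 := hmain ⟨x, hx⟩
      set z := (β * α * β⁻¹) ⟨x, hx⟩ with hz
      have h2 : θ (r' * ⟨x, hPS hx⟩ * r'⁻¹ * (Subgroup.inclusion hPS z)⁻¹) = 1 := by
        rw [map_mul, map_mul, map_mul, map_inv, map_inv]
        have : θ (Subgroup.inclusion hPS z) = (θ.comp (Subgroup.inclusion hPS)) z := rfl
        rw [this, h1]
        show θ r' * θ ⟨x, hPS hx⟩ * (θ r')⁻¹ *
          (θ r' * θ ⟨x, hPS hx⟩ * (θ r')⁻¹)⁻¹ = 1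
        rw [mul_inv_cancel]
      have h3 := (hker _).mp h2
      have h4 : (r' : Ω) * x * (r' : Ω)⁻¹ * (z : Ω)⁻¹ ∈ P := hQP h3
      have h5 := P.mul_mem h4 z.2
      simpa using h5
  have hBle := Cfsg.Agent.Lib.Helper87.le_pCore hBn hBp
  have hB₁Inn : ∀ α ∈ modSub G θ (preimageAlong θ V') P hPS, α ∈ Inn P := by
    intro α hα
    have hαA : α ∈ G.autGroup P := hα.1
    have h1 : (⟨α, hαA⟩ : G.autGroup P) ∈ pCore p (G.autGroup P) :=
      hBle (Subgroup.mem_subgroupOf.mpr hα)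
    rw [← hPr.2]
    exact ⟨⟨α, hαA⟩, h1, rfl⟩
  -- `N_V(P) ≤ P`
  have hNV : ∀ r : Ω, r ∈ preimageAlong θ V' → r ∈ Subgroup.normalizer (P : Set Ω) → r ∈ P := by
    intro r hrV hrN
    have hrS : r ∈ S := hVS hrV
    have h1 : conjAut P r hrN ∈ modSub G θ (preimageAlong θ V') P hPS := by
      refine ⟨autInducedBy_le_autGroup G hPS (conjAut_mem_autInducedBy hrS hrN), ⟨r, hrS⟩, hrV, hrN,
        fun x => ?_⟩
      show θ ⟨((conjAut P r hrN x : P) : Ω), _⟩ = θ ⟨r, hrS⟩ * θ ⟨x, hPS x.2⟩ * (θ ⟨r, hrS⟩)⁻¹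
      rw [← map_inv, ← map_mul, ← map_mul]
      congr 1
    obtain ⟨t, ht⟩ := hB₁Inn _ h1
    have h2 : t⁻¹.1 * r ∈ centralizerIn S P := by
      refine ⟨S.mul_mem (hPS t⁻¹.2) hrS, ?_⟩
      show t⁻¹.1 * r ∈ Subgroup.centralizer (P : Set Ω)
      rw [Subgroup.mem_centralizer_iff]
      intro x hx
      have h3 : (MulAut.conj t) ⟨x, hx⟩ = conjAut P r hrN ⟨x, hx⟩ := by rw [ht]
      have h4 : (t : Ω) * x * (t : Ω)⁻¹ = r * x * r⁻¹ := congrArg (fun z : P => (z : Ω)) h3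
      have e : ((t⁻¹ : P) : Ω) = (t : Ω)⁻¹ := rfl
      rw [e]
      calc x * ((t : Ω)⁻¹ * r) = (t : Ω)⁻¹ * ((t : Ω) * x * (t : Ω)⁻¹) * r := by group
        _ = (t : Ω)⁻¹ * (r * x * r⁻¹) * r := by rw [h4]
        _ = (t : Ω)⁻¹ * r * x := by group
    have h5 := hCP h2
    have h6 := P.mul_mem t.2 h5
    have e : (t : Ω) * (t⁻¹.1 * r) = r := by
      have e : ((t⁻¹ : P) : Ω) = (t : Ω)⁻¹ := rfl
      rw [e]; group
    rwa [e] at h6
  -- conclusion
  by_contra hVP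
  have hPT : P ≤ P ⊔ preimageAlong θ V' := le_sup_left
  have hTS : P ⊔ preimageAlong θ V' ≤ S := sup_le hPS hVS
  have hfinT : Finite ↥(P ⊔ preimageAlong θ V') := finite_of_le hTS
  have hTp : IsPGroup p ↥(P ⊔ preimageAlong θ V') := hS.to_le hTS
  have hne : P ≠ P ⊔ preimageAlong θ V' := by
    intro h
    apply hVP
    rw [h]
    exact le_sup_right
  have hlt := Cfsg.Agent.Lib.Helper87.card_lt_card_normalizerIn hTp hPT hne
  have hex : ∃ g ∈ normalizerIn (P ⊔ preimageAlong θ V') P, g ∉ P := by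
    by_contra hcon
    push Not at hcon
    have hle : normalizerIn (P ⊔ preimageAlong θ V') P ≤ P := hcon
    have := Subgroup.card_le_of_le hle
    omega
  obtain ⟨g, hg, hgP⟩ := hex
  obtain ⟨u, hu, v, hv, rfl⟩ :=
    Cfsg.Agent.Lib.Helper85.mem_sup_of_le_normalizer (hPS.trans hSNV) hg.1
  have hvN : v ∈ Subgroup.normalizer (P : Set Ω) := by
    have h1 : u⁻¹ * (u * v) ∈ Subgroup.normalizer (P : Set Ω) :=
      Subgroup.mul_mem _ (Subgroup.inv_mem _ (Subgroup.le_normalizer hu)) hg.2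
    simpa using h1
  exact hgP (P.mul_mem hu (hNV v hv hvN))

end Cfsg.Agent.Lib.Helper88
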