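import Cfsg.Agent.Lib.Helper88.GFAlperin
import Cfsg.Agent.Lib.Helper54.FusLocal
import Cfsg.Agent.Lib.Helper84.NormalizerSystem

set_option autoImplicit false

/-!
# Local-to-global principle for positive characteristic functors (Kessar–Linckelmann 5.3)

If `W(N_S(U))` is normal in `N_F(U)` for every nontrivial fully normalized `U`, then `W(S)` is
normal in `F`.
-/

namespace Cfsg.Agent.Lib.Helper88

open Cfsg Cfsg.FusionSystem Cfsg.Agent.Lib.Helper87 Cfsg.Agent.Lib.Helper54.FusWP

universe u

variable {Ω : Type u} [Group Ω] {S : Subgroup Ω} {p : ℕ}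

theorem induced_ne_bot (W : ∀ (Q : Type u) [Group Q], Subgroup Q)
    (hW1 : ∀ (Q : Type u) [Group Q] [Finite Q], IsPGroup p Q → Nontrivial Q → W Q ≠ ⊥)
    {R : Subgroup Ω} [Finite R] (hR : IsPGroup p R) (hne : R ≠ ⊥) : inducedFunctor W R ≠ ⊥ := by
  have hnt : Nontrivial R := (Subgroup.nontrivial_iff_ne_bot R).mpr hne
  have h := hW1 ↥R hR hnt
  intro h0
  apply h
  unfold inducedFunctor at h0
  exact (Subgroup.map_eq_bot_iff_of_injective _ R.subtype_injective).mp h0

theorem wp_chain [Finite S] [Fact p.Prime] (hS : IsPGroup p S)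
    (W : ∀ (Q : Type u) [Group Q], Subgroup Q)
    (hW1 : ∀ (Q : Type u) [Group Q] [Finite Q], IsPGroup p Q → Nontrivial Q → W Q ≠ ⊥)
    (hW2 : ∀ (Q R : Type u) [Group Q] [Group R] [Finite Q], IsPGroup p Q → ∀ φ : Q ≃* R,
      (W Q).map φ.toMonoidHom = W R)
    (F : FusionSystem S)
    (hloc : ∀ U : Subgroup Ω, F.IsFullyNormalized U → U ≠ ⊥ →
      ∀ N : FusionSystem (normalizerIn S U), F.IsNormalizerSystem U N →
        N.IsNormal (inducedFunctor W (normalizerIn S U))) :
    ∀ n : ℕ, ∀ U : Subgroup Ω, IsWP W F U → U ≠ ⊥ →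
      Nat.card S - Nat.card (normalizerIn S U) = n →
      ∀ (P : Subgroup Ω) (φ : P →* Ω), φ ∈ F.normalizerHom U P →
        φ ∈ F.normalizerHom (inducedFunctor W S) P := by
  intro n
  induction n using Nat.strong_induction_on with
  | _ n ih =>
  intro U hWP hne hn P φ hφ
  obtain ⟨hUfn, hVWP⟩ := (isWP_iff F U).mp hWP
  have hUS : U ≤ S := hUfn.1
  have hRS' : normalizerIn S U ≤ S := normalizerIn_le S U
  have hfinR : Finite (normalizerIn S U) := finite_of_le hRS'
  have hRp : IsPGroup p (normalizerIn S U) := hS.to_le hRS'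
  have hRne : normalizerIn S U ≠ ⊥ := by
    intro h0
    apply hne
    have : U ≤ normalizerIn S U := le_normalizerIn hUS
    rw [h0] at this
    exact le_bot_iff.mp this
  have hN := Cfsg.Agent.Lib.Helper84.normalizerSystem_spec F U hUS
  have hVn := hloc U hUfn hne _ hN
  have hφN : φ ∈ (Cfsg.Agent.Lib.Helper84.normalizerSystem F U hUS).Hom P := hφ
  obtain ⟨ψ, hψ, hψP, hψV⟩ := hVn.2 P φ hφN
  have hψF : ψ ∈ F.Hom _ := hψ.1
  have hNUV : normalizerIn S U ≤ normalizerIn S (inducedFunctor W (normalizerIn S U)) :=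
    (le_normalizerIn hRS').trans (normalizerIn_le_normalizerIn_induced hS hW2 hRS')
  have hA : φ ∈ F.normalizerHom (inducedFunctor W (normalizerIn S U)) P :=
    ⟨hφ.1, hφ.2.1.trans hNUV, fun x => hNUV (hφ.2.2.1 x), ψ, hψF, hψP, hψV⟩
  by_cases hRS : normalizerIn S U = S
  · rw [hRS] at hA
    exact hA
  · have hNRNV : normalizerIn S (normalizerIn S U) ≤
        normalizerIn S (inducedFunctor W (normalizerIn S U)) :=
      normalizerIn_le_normalizerIn_induced hS hW2 hRS'
    have hc1 : Nat.card (normalizerIn S U) < Nat.card (normalizerIn S (normalizerIn S U)) :=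
      card_lt_card_normalizerIn hS hRS' hRS
    have : Finite (normalizerIn S (inducedFunctor W (normalizerIn S U))) :=
      finite_of_le (normalizerIn_le S _)
    have hc2 : Nat.card (normalizerIn S (normalizerIn S U)) ≤
        Nat.card (normalizerIn S (inducedFunctor W (normalizerIn S U))) :=
      Subgroup.card_le_of_le hNRNV
    have hc3 : Nat.card (normalizerIn S (inducedFunctor W (normalizerIn S U))) ≤ Nat.card S :=
      Subgroup.card_le_of_le (normalizerIn_le S _)
    exact ih (Nat.card S - Nat.card (normalizerIn S (inducedFunctor W (normalizerIn S U))))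
      (by omega) _ hVWP (induced_ne_bot W hW1 hRp hRne) rfl P φ hA

/-- **Local-to-global.** -/
theorem isNormal_induced_of_local [Finite S] [Fact p.Prime] (hS : IsPGroup p S)
    (W : ∀ (Q : Type u) [Group Q], Subgroup Q)
    (hW1 : ∀ (Q : Type u) [Group Q] [Finite Q], IsPGroup p Q → Nontrivial Q → W Q ≠ ⊥)
    (hW2 : ∀ (Q R : Type u) [Group Q] [Group R] [Finite Q], IsPGroup p Q → ∀ φ : Q ≃* R,
      (W Q).map φ.toMonoidHom = W R)
    (F : FusionSystem S) (hF : F.IsSaturated p)
    (hloc : ∀ U : Subgroup Ω, F.IsFullyNormalized U → U ≠ ⊥ →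
      ∀ N : FusionSystem (normalizerIn S U), F.IsNormalizerSystem U N →
        N.IsNormal (inducedFunctor W (normalizerIn S U))) :
    F.IsNormal (inducedFunctor W S) := by
  have hQS : inducedFunctor W S ≤ S := induced_le W S
  have hE := Cfsg.Agent.Lib.Helper84.normalizerSystem_spec F (inducedFunctor W S) hQS
  have hall := alperin_family hS F (Cfsg.Agent.Lib.Helper84.normalizerSystem F (inducedFunctor W S) hQS)
    {U | IsWP W F U} ?_ ?_
  · refine ⟨hQS, fun P φ hφ => ?_⟩
    have h := hall P φ hφ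
    exact h.2.2.2
  · intro P hP
    obtain ⟨U, hc, hWP⟩ := exists_wp_conj hS hW2 F hF hP
    have hUfn : F.IsFullyNormalized U := ((isWP_iff F U).mp hWP).1
    exact ⟨U, hWP, hc, (fc_fa_of_fullyNormalized hS F hF hUfn).2,
      receptive_of_fullyNormalized hS F hF hUfn⟩
  · intro U hU _ ψ hψ hr
    have hUfn : F.IsFullyNormalized U := ((isWP_iff F U).mp hU).1
    have hUS : U ≤ S := hUfn.1
    by_cases hne : U = ⊥
    · subst hne
      have h1 := (Cfsg.Agent.Lib.Helper84.normalizerSystem F (inducedFunctor W S) hQS).conj_mem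
        (P := ⊥) (g := 1) bot_le (Subgroup.one_mem _)
      have e : ψ = conjHom ⊥ 1 := by
        ext x
        have hx : x = 1 := Subsingleton.elim _ _
        subst hx
        simp
      rw [e]
      exact h1
    · have : Finite U := finite_of_le hUS
      have h1 := Cfsg.Agent.Lib.Helper54.FusLocal.mem_normalizerSystem_of_range_eq F hUS
        (Cfsg.Agent.Lib.Helper84.normalizerSystem_spec F U hUS) hψ hr
      exact wp_chain hS W hW1 hW2 F hloc _ U hU hne rfl U ψ h1

end Cfsg.Agent.Lib.Helper88
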