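import Cfsg.Agent.Lib.Helper88.GFLocal
import Cfsg.Agent.Lib.Helper88.GFConstrained
import Cfsg.Agent.Lib.Helper88.GFKFree
import Cfsg.Agent.Lib.Helper88.GFLift
import Cfsg.Agent.Lib.Helper88.GFFrattini
import Cfsg.Agent.Lib.Helper88.SectionFreeFactor
import Cfsg.Agent.Lib.Helper88.SectionFreeNormalizer
import Cfsg.Agent.Lib.Helper88.PFree
import Cfsg.Agent.S5133

set_option autoImplicit false

/-!
# Glauberman functors and `Qd(p)`-free fusion systems (Kessar–Linckelmann, Theorem B)
-/

namespace Cfsg.Agent.Lib.Helper88

open Cfsg Cfsg.FusionSystem
open Cfsg.Agent.Lib.Helper87 (hom_le hom_mem_S finite_of_le)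
open Cfsg.Agent.Lib.Helper54.FusWP (induced_le normalizerIn_le_normalizerIn_induced)
open Cfsg.Agent.S5132 (mem_pre pre_le)

universe u

variable {p : ℕ} [Fact p.Prime]

/-- a map of a subsystem in which `W(S)` is normal is a map of `N_F(W(S))` -/
theorem mem_normalizerHom_of_sub {Ω : Type u} [Group Ω] {S : Subgroup Ω} (F : FusionSystem S)
    {V : Subgroup Ω} (hSV : S ≤ normalizerIn S V)
    {S₁ : Subgroup Ω} (F₁ : FusionSystem S₁) (hsub : ∀ A : Subgroup Ω, F₁.Hom A ⊆ F.Hom A)
    (hVn : F₁.IsNormal V) {P : Subgroup Ω} {φ : P →* Ω} (hφ : φ ∈ F₁.Hom P) :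
    φ ∈ F.normalizerHom V P := by
  obtain ⟨ψ, hψ, hext, hmap⟩ := hVn.2 P φ hφ
  have hφF := hsub P hφ
  exact ⟨hφF, (hom_le F hφF).trans hSV, fun x => hSV (hom_mem_S F hφF x), ψ, hsub _ hψ, hext, hmap⟩

theorem glauberman_main (W : ∀ (Q : Type u) [Group Q], Subgroup Q)
    (hW1 : ∀ (Q : Type u) [Group Q] [Finite Q], IsPGroup p Q → Nontrivial Q → W Q ≠ ⊥)
    (hW2 : ∀ (Q R : Type u) [Group Q] [Group R] [Finite Q], IsPGroup p Q → ∀ φ : Q ≃* R,
      (W Q).map φ.toMonoidHom = W R)
    (hW3 : ∀ (L : Type u) [Group L] [Finite L] (P : Sylow p L),
      Subgroup.centralizer ((Cfsg.pCore p L : Subgroup L) : Set L) =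
        Cfsg.pCore p L ⊓ Subgroup.centralizer ((Cfsg.pCore p L : Subgroup L) : Set L) →
      ¬ Cfsg.Involves ↥(Cfsg.qd p) L →
      (((W ↥(P : Subgroup L)).map (P : Subgroup L).subtype : Subgroup L)).Normal) :
    ∀ (n k : ℕ) (Ω : Type u) [Group Ω] (S : Subgroup Ω) (F : FusionSystem S) (Q : Subgroup Ω),
      Finite S → IsPGroup p S → Nat.card S = n → F.IsSaturated p →
      F.IsSectionFree p ↥(Cfsg.qd p) → F.IsNormal Q → Nat.card S - Nat.card Q = k →
      F.IsNormal (inducedFunctor W S) := by
  intro n
  induction n using Nat.strong_induction_on with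
  | _ n ihn =>
    intro k
    induction k using Nat.strong_induction_on with
    | _ k ihk =>
      intro Ω _ S F Q hfin hS hn hF hfree hQn hk
      have hQS : Q ≤ S := hQn.1
      have hsc : F.StronglyClosed Q := Cfsg.Agent.Lib.Helper87.stronglyClosed_of_isNormal F hQn
      have hSNQ : S ≤ Subgroup.normalizer (Q : Set Ω) :=
        Cfsg.Agent.Lib.Helper87.stronglyClosed_le_normalizer F hsc
      have hfinQ : Finite Q := finite_of_le hQS
      have hcardQ : Nat.card Q ≤ Nat.card S := Subgroup.card_le_of_le hQS
      by_cases hcen : centralizerIn S Q ≤ Q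
      · -- the constrained case
        exact isNormal_induced_of_constrained hS W hW2 hW3 F
          ⟨hF, Q, hQn, Cfsg.Agent.Lib.Helper87.isCentric_of_stronglyClosed F hsc hcen⟩ hfree
      · by_cases hQ1 : Q = ⊥
        · -- local to global
          apply isNormal_induced_of_local hS W hW1 hW2 F hF
          intro U hUfn hUne N hN
          have hUS : U ≤ S := hUfn.1
          have hRS : normalizerIn S U ≤ S := inf_le_left
          have hfinR : Finite (normalizerIn S U) := finite_of_le hRS
          have hRp : IsPGroup p (normalizerIn S U) := hS.to_le hRS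
          have hNsat : N.IsSaturated p :=
            Cfsg.Agent.Lib.Helper84.KN.normalizerSystem_isSaturated hS F hF hUfn hN
          have hNfree : N.IsSectionFree p ↥(Cfsg.qd p) :=
            isSectionFree_normalizerSystem hS F hF ↥(Cfsg.qd p) hfree hUfn N hN
          have hUn : N.IsNormal U := Cfsg.Agent.Lib.Helper87.normalizerSystem_isNormal F hUS hN
          have hcardR : Nat.card (normalizerIn S U) ≤ Nat.card S := Subgroup.card_le_of_le hRS
          by_cases hlt : Nat.card (normalizerIn S U) < n
          · exact ihn _ hlt _ Ω (normalizerIn S U) N U hfinR hRp rfl hNsat hNfree hUn rfl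
          · have hcardR' : Nat.card (normalizerIn S U) = n := by omega
            have hfinU : Finite U := finite_of_le hUS
            have hU1 : 1 < Nat.card U := (Subgroup.one_lt_card_iff_ne_bot U).mpr hUne
            have hUle : Nat.card U ≤ Nat.card (normalizerIn S U) :=
              Subgroup.card_le_of_le hUn.1
            have hk' : Nat.card (normalizerIn S U) - Nat.card U < k := by
              rw [hQ1, Subgroup.card_bot] at hk
              omega
            exact ihk _ hk' Ω (normalizerIn S U) N U hfinR hRp hcardR' hNsat hNfree hUn rfl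
        · -- the two subsystems
          have hWS : inducedFunctor W S ≤ S := induced_le W S
          have hSNW : S ≤ normalizerIn S (inducedFunctor W S) :=
            (Cfsg.Agent.Lib.Helper87.le_normalizerIn le_rfl).trans
              (normalizerIn_le_normalizerIn_induced hS hW2 (le_refl S))
          have hall : ∀ (P : Subgroup Ω) (φ : P →* Ω), φ ∈ F.Hom P →
              φ ∈ (Cfsg.Agent.Lib.Helper84.normalizerSystem F (inducedFunctor W S) hWS).Hom P := by
            apply mem_of_sc_of_normalizer hS F hF hQn
            · -- the normalizer of `Q C_S(Q)`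
              have hRS : Q ⊔ centralizerIn S Q ≤ S := sup_le hQS inf_le_left
              have hSNR := gf_le_normalizer_sup_centralizerIn hQS hSNQ
              have hS₁ : normalizerIn S (Q ⊔ centralizerIn S Q) = S :=
                le_antisymm inf_le_left (le_inf le_rfl hSNR)
              have hfn : F.IsFullyNormalized (Q ⊔ centralizerIn S Q) :=
                Cfsg.Agent.Lib.Helper87.fullyNormalized_of_le_normalizer F hRS hSNR
              have hF₁ := Cfsg.Agent.Lib.Helper84.normalizerSystem_spec F (Q ⊔ centralizerIn S Q) hRS
              have hfin₁ : Finite (normalizerIn S (Q ⊔ centralizerIn S Q)) :=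
                finite_of_le inf_le_left
              have hp₁ : IsPGroup p (normalizerIn S (Q ⊔ centralizerIn S Q)) :=
                hS.to_le inf_le_left
              have hsat₁ := Cfsg.Agent.Lib.Helper84.KN.normalizerSystem_isSaturated hS F hF hfn hF₁
              have hfree₁ := isSectionFree_normalizerSystem hS F hF ↥(Cfsg.qd p) hfree hfn _ hF₁
              have hRn := Cfsg.Agent.Lib.Helper87.normalizerSystem_isNormal F hRS hF₁
              have hcard₁ : Nat.card (normalizerIn S (Q ⊔ centralizerIn S Q)) = n := by
                rw [hS₁]; exact hn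
              have hfinR : Finite ↥(Q ⊔ centralizerIn S Q) := finite_of_le hRS
              have hlt : Nat.card Q < Nat.card ↥(Q ⊔ centralizerIn S Q) := by
                by_contra hcon
                push Not at hcon
                have heq : Q = Q ⊔ centralizerIn S Q :=
                  Subgroup.eq_of_le_of_card_ge le_sup_left hcon
                exact hcen (le_sup_right.trans heq.ge)
              have hle : Nat.card ↥(Q ⊔ centralizerIn S Q) ≤ Nat.card S :=
                Subgroup.card_le_of_le hRS
              have hk' : Nat.card (normalizerIn S (Q ⊔ centralizerIn S Q)) -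
                  Nat.card ↥(Q ⊔ centralizerIn S Q) < k := by
                rw [hcard₁]; omega
              have hWn₁ := ihk _ hk' Ω _ _ _ hfin₁ hp₁ hcard₁ hsat₁ hfree₁ hRn rfl
              have e : inducedFunctor W (normalizerIn S (Q ⊔ centralizerIn S Q)) =
                  inducedFunctor W S := by rw [hS₁]
              rw [e] at hWn₁
              intro P φ hφ
              exact mem_normalizerHom_of_sub F hSNW
                (Cfsg.Agent.Lib.Helper84.normalizerSystem F (Q ⊔ centralizerIn S Q) hRS)
                (fun A ψ hψ => hψ.1) hWn₁ hφ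
            · -- the system `S C_F(Q)`
              have hsat₂ := scSystem_isSaturated F hQS hSNQ hS hF
              have hfree₂ := isSectionFree_scSystem hS F hF ↥(Cfsg.qd p) hfree hQn hSNQ
              have hQn₂ := scSystem_isNormal F hQS hSNQ
              have hsc₂ := Cfsg.Agent.Lib.Helper87.stronglyClosed_of_isNormal _ hQn₂
              have : (Q.subgroupOf S).Normal := by
                constructor
                intro x hx s
                rw [Subgroup.mem_subgroupOf] at hx ⊢
                exact (Subgroup.mem_normalizer_iff.mp (hSNQ s.2) _).mp hx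
              obtain ⟨E', hE'⟩ := Cfsg.Agent.S5132.result p hS (scSystem F Q hQS hSNQ) Q hsc₂
              have hsur := Cfsg.Agent.S5134.result p hS _ hsat₂ Q hsc₂ _ E' hE'
              have hE'sat := Cfsg.Agent.S5133.result p hS _ hsat₂ E' _ hsur
              have hE'free : E'.IsSectionFree p ↥(Cfsg.qd p) :=
                isSectionFree_factor hS _ hsat₂ ↥(Cfsg.qd p) hfree₂ hQn₂ _ E' hE'
              have hfin' : Finite (⊤ : Subgroup (S ⧸ Q.subgroupOf S)) := inferInstance
              have hp' : IsPGroup p (⊤ : Subgroup (S ⧸ Q.subgroupOf S)) :=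
                (hS.to_quotient (Q.subgroupOf S)).to_subgroup ⊤
              have hcard' : Nat.card (⊤ : Subgroup (S ⧸ Q.subgroupOf S)) < n := by
                rw [Subgroup.card_top, ← hn]
                have h1 := Subgroup.card_eq_card_quotient_mul_card_subgroup (Q.subgroupOf S)
                have h2 : 1 < Nat.card (Q.subgroupOf S) := by
                  rw [Subgroup.one_lt_card_iff_ne_bot]
                  intro h0
                  apply hQ1
                  rw [eq_bot_iff]
                  intro x hx
                  have : (⟨x, hQS hx⟩ : S) ∈ Q.subgroupOf S := Subgroup.mem_subgroupOf.mpr hx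
                  rw [h0, Subgroup.mem_bot] at this
                  rw [Subgroup.mem_bot]
                  exact congrArg Subtype.val this
                have h3 : 0 < Nat.card (S ⧸ Q.subgroupOf S) := Nat.card_pos
                nlinarith
              have hV' := ihn _ hcard' _ _ (⊤ : Subgroup (S ⧸ Q.subgroupOf S)) E' ⊥ hfin' hp' rfl
                hE'sat hE'free (isNormal_bot E') rfl
              have hVn₂ := isNormal_preimage_of_factor hS _ hsat₂ hQn₂
                (fun P hQP φ hφ => exists_conj_of_mem_scSystem F hQS hSNQ hφ hQP) _ E' hE' hV'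
              -- the preimage is larger than `Q`
              have hker := hE'.2.1
              have hVS := hVn₂.1
              have hQV : Q ≤ preimageAlong (QuotientGroup.mk' (Q.subgroupOf S))
                  (inducedFunctor W (⊤ : Subgroup (S ⧸ Q.subgroupOf S))) := by
                intro x hx
                refine mem_pre.mpr ⟨hQS hx, ?_⟩
                rw [(hker _).mpr hx]
                exact Subgroup.one_mem _
              have htop : (⊤ : Subgroup (S ⧸ Q.subgroupOf S)) ≠ ⊥ := by
                intro h0
                apply hcen
                intro c hc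
                have h1 : (QuotientGroup.mk' (Q.subgroupOf S)) ⟨c, hc.1⟩ ∈
                    (⊤ : Subgroup (S ⧸ Q.subgroupOf S)) := Subgroup.mem_top _
                rw [h0, Subgroup.mem_bot] at h1
                exact (hker _).mp h1
              have hWne := induced_ne_bot W hW1 hp' htop
              have hVne : preimageAlong (QuotientGroup.mk' (Q.subgroupOf S))
                  (inducedFunctor W (⊤ : Subgroup (S ⧸ Q.subgroupOf S))) ≠ Q := by
                intro h0
                apply hWne
                rw [eq_bot_iff]
                intro y hy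
                obtain ⟨s, rfl⟩ := QuotientGroup.mk'_surjective (Q.subgroupOf S) y
                have h1 : (s : Ω) ∈ preimageAlong (QuotientGroup.mk' (Q.subgroupOf S))
                    (inducedFunctor W (⊤ : Subgroup (S ⧸ Q.subgroupOf S))) :=
                  mem_pre.mpr ⟨s.2, hy⟩
                rw [h0] at h1
                rw [Subgroup.mem_bot]
                exact (hker s).mpr h1
              have hfinV : Finite ↥(preimageAlong (QuotientGroup.mk' (Q.subgroupOf S))
                  (inducedFunctor W (⊤ : Subgroup (S ⧸ Q.subgroupOf S)))) := finite_of_le hVS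
              have hlt : Nat.card Q < Nat.card ↥(preimageAlong (QuotientGroup.mk' (Q.subgroupOf S))
                  (inducedFunctor W (⊤ : Subgroup (S ⧸ Q.subgroupOf S)))) := by
                by_contra hcon
                push Not at hcon
                exact hVne (Subgroup.eq_of_le_of_card_ge hQV hcon).symm
              have hle : Nat.card ↥(preimageAlong (QuotientGroup.mk' (Q.subgroupOf S))
                  (inducedFunctor W (⊤ : Subgroup (S ⧸ Q.subgroupOf S)))) ≤ Nat.card S :=
                Subgroup.card_le_of_le hVS
              have hk' : Nat.card S - Nat.card ↥(preimageAlong (QuotientGroup.mk' (Q.subgroupOf S))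
                  (inducedFunctor W (⊤ : Subgroup (S ⧸ Q.subgroupOf S)))) < k := by
                omega
              have hWn₂ := ihk _ hk' Ω S _ _ hfin hS hn hsat₂ hfree₂ hVn₂ rfl
              intro P φ hφ
              exact mem_normalizerHom_of_sub F hSNW (scSystem F Q hQS hSNQ)
                (fun A ψ hψ => hψ.1) hWn₂ hφ
          exact ⟨hWS, fun P φ hφ => (hall P φ hφ).2.2.2⟩

end Cfsg.Agent.Lib.Helper88
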