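import Cfsg.Agent.Lib.Helper88.Reduction2
import Cfsg.Agent.Lib.Helper85.Morphism
import Cfsg.Agent.Lib.Helper87.Sparse

set_option autoImplicit false

/-!
# Reduction, step 3: passing to and from a factor system
-/

namespace Cfsg.Agent.Lib.Helper88

open Cfsg Cfsg.FusionSystem
open Cfsg.Agent.Lib.Helper87 (hom_le hom_mem_S subtype_mem inv_exists mem_autGroup_iff finite_of_le
  isConj_refl isConj_symm card_eq_of_isConj)
open Cfsg.Agent.Lib.Helper85 (kerSub mem_kerSub rho rho_apply rho_mem rho_surj ker_rho_apply resHom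
  resHom_coe resHom_surjective im_le_S' mem_im im_pre pre_im kerSub_le_pre)
open Cfsg.Agent.S5132 (mem_pre pre_le)

variable {Ω : Type*} [Group Ω] {S : Subgroup Ω} {Ω' : Type*} [Group Ω'] {S' : Subgroup Ω'}

/-- **Step 3a.** If the factor system modulo the normal subgroup `Q` and `Aut_F(Q)` have no nontrivial
automorphisms of order prime to `p`, neither has the system. -/
theorem pFree_of_pFree_factor [Finite S] {p : ℕ} [Fact p.Prime] (hS : IsPGroup p S)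
    (F : FusionSystem S) (F' : FusionSystem S') (θ : S →* Ω') (hθ : F.IsSurjectiveMorphism F' θ)
    {Q : Subgroup Ω} (hQn : F.IsNormal Q) (hker : ∀ s : S, θ s = 1 → (s : Ω) ∈ Q)
    (hQfree : ∀ β ∈ F.autGroup Q, (orderOf β).Coprime p → β = 1) (hF' : PFree F' p) :
    PFree F p := by
  intro P hP α hα hcop
  have hQS : Q ≤ S := hQn.1
  have hsc : F.StronglyClosed Q := Cfsg.Agent.Lib.Helper87.stronglyClosed_of_isNormal F hQn
  set M := P ⊔ Q with hMdef
  have hMS : M ≤ S := sup_le hP hQS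
  have hPM : P ≤ M := le_sup_left
  have hQM : Q ≤ M := le_sup_right
  have : Finite M := finite_of_le hMS
  -- extend `α` to `M`
  obtain ⟨ψ, hψ, hψP, hψQ⟩ := hQn.2 P _ ((mem_autGroup_iff F hP α).mp hα)
  rw [Cfsg.Agent.Lib.Helper87.map_subgroupOf_eq_iff] at hψQ
  have hψM : ∀ x : M, ψ x ∈ M := by
    have htop : (⊤ : Subgroup M) ≤ M.comap ψ := by
      have h1 : (⊤ : Subgroup M) = P.subgroupOf M ⊔ Q.subgroupOf M := by
        rw [← Subgroup.subgroupOf_sup le_sup_left le_sup_right, Subgroup.subgroupOf_self]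
      rw [h1]
      apply sup_le
      · intro x hx
        rw [Subgroup.mem_subgroupOf] at hx
        show ψ x ∈ M
        have : x = Subgroup.inclusion le_sup_left (⟨x, hx⟩ : P) := rfl
        rw [this, hψP]
        exact hPM (α _).2
      · intro x hx
        rw [Subgroup.mem_subgroupOf] at hx
        exact hQM (hψQ.1 x hx)
    intro x
    exact htop (Subgroup.mem_top x)
  obtain ⟨γ, hγ, hγψ⟩ := exists_aut_of_hom F hψ hψM
  have hres : ∀ x : P, ((α x : P) : Ω) = ((γ ⟨x, hPM x.2⟩ : M) : Ω) := by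
    intro x
    rw [hγψ]
    exact (hψP x).symm
  obtain ⟨γ', hγ', hcop', hres'⟩ := exists_coprime_aut_of_restrict F hPM hMS hcop hγ hres
  -- `γ'` is trivial on `Q`
  have hγ'Q : ∀ x : Q, ((γ' ⟨x, hQM x.2⟩ : M) : Ω) ∈ Q := by
    intro x
    have h1 := (mem_autGroup_iff F hMS γ').mp hγ'
    exact Cfsg.Agent.Lib.Helper85.sc_map_mem F hsc h1 ⟨x, hQM x.2⟩ x.2
  have hfinQ : Finite Q := finite_of_le hQS
  obtain ⟨δ, hδ⟩ := Cfsg.Agent.Lib.Helper87.exists_restrict_aut hQM γ' hγ'Q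
  have hδF : δ ∈ F.autGroup Q := by
    rw [mem_autGroup_iff F hQS]
    have h1 := Cfsg.Agent.Lib.Helper87.restrict_mem F ((mem_autGroup_iff F hMS γ').mp hγ') hQM
    have e : Q.subtype.comp δ.toMonoidHom =
        (M.subtype.comp γ'.toMonoidHom).comp (Subgroup.inclusion hQM) := by
      ext x
      exact hδ x
    rw [e]
    exact h1
  have hδord : orderOf δ ∣ orderOf γ' := by
    apply orderOf_dvd_of_pow_eq_one
    ext x
    rw [Cfsg.Agent.Lib.Helper87.res_pow hQM hδ (orderOf γ') x, pow_orderOf_eq_one]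
    rfl
  have hδ1 : δ = 1 := hQfree δ hδF (Nat.Coprime.coprime_dvd_left hδord hcop')
  have hfixQ : ∀ x : M, (x : Ω) ∈ Q → γ' x = x := by
    intro x hx
    apply Subtype.ext
    have h1 := hδ ⟨x, hx⟩
    rw [hδ1] at h1
    exact h1.symm
  -- `γ'` is trivial modulo `Q`
  have hρ1 : rho hS F F' θ hθ hMS ⟨γ', hγ'⟩ = 1 := by
    apply hF' _ (im_le_S' F F' θ hθ M) _ (rho_mem hS F F' θ hθ hMS ⟨γ', hγ'⟩)
    have h1 : orderOf (rho hS F F' θ hθ hMS ⟨γ', hγ'⟩) ∣ orderOf (⟨γ', hγ'⟩ : F.autGroup M) :=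
      orderOf_map_dvd _ _
    rw [Subgroup.orderOf_mk] at h1
    exact Nat.Coprime.coprime_dvd_left h1 hcop'
  have hmod : ∀ x : M, ((x⁻¹ * γ' x : M) : Ω) ∈ Q := by
    intro x
    have h1 := ker_rho_apply hS F F' θ hθ hMS ⟨γ', hγ'⟩ (MonoidHom.mem_ker.mpr hρ1) x
    have h2 : θ (⟨x, hMS x.2⟩⁻¹ * ⟨((γ' x : M) : Ω), hMS (γ' x).2⟩) = 1 := by
      rw [map_mul, map_inv, h1, inv_mul_cancel]
    exact hker _ h2
  have hMp : IsPGroup p M := hS.to_le hMS
  have hγ'1 : γ' = 1 :=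
    Cfsg.Agent.Lib.Helper87.aut_eq_one_of_fixes_comm hMp γ' hcop' (pow_orderOf_eq_one γ')
      (fun x => hfixQ _ (hmod x))
  ext x
  rw [hres' x, hγ'1]
  rfl

/-- **Step 3b.** A nontrivial automorphism of order prime to `p` in the factor system, normalizing a
nontrivial subgroup normalized by `S'`, lifts. -/
theorem exists_not_nFree_of_factor [Finite S] {p : ℕ} [Fact p.Prime] (hS : IsPGroup p S)
    (F : FusionSystem S) (F' : FusionSystem S') (θ : S →* Ω') (hθ : F.IsSurjectiveMorphism F' θ)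
    {Q : Subgroup Ω} (hQS : Q ≤ S) (hker : ∀ s : S, θ s = 1 ↔ (s : Ω) ∈ Q)
    (W' P' : Subgroup Ω') (β' : MulAut P') (hW'1 : W' ≠ ⊥) (hW'P' : W' ≤ P') (hP'S' : P' ≤ S')
    (hβ' : β' ∈ F'.autGroup P') (hcop : (orderOf β').Coprime p) (hβ'1 : β' ≠ 1)
    (hβ'W' : ∀ x : P', (x : Ω') ∈ W' → ((β' x : P') : Ω') ∈ W')
    (hnorm : S' ≤ Subgroup.normalizer (W' : Set Ω')) :
    ∃ V : Subgroup Ω, Q ≤ V ∧ V ≠ Q ∧ V ≤ S ∧ S ≤ Subgroup.normalizer (V : Set Ω) ∧
      ¬ NFree F p V := by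
  have hp : p.Prime := Fact.out
  have hrange : θ.range = S' := hθ.2.1
  set P := preimageAlong θ P' with hPdef
  have hPS : P ≤ S := pre_le θ P'
  have : Finite P := finite_of_le hPS
  have hkerQ : kerSub θ = Q := by
    ext x
    rw [mem_kerSub]
    constructor
    · rintro ⟨hx, h1⟩
      exact (hker _).mp h1
    · intro hx
      exact ⟨hQS hx, (hker ⟨x, hQS hx⟩).mpr hx⟩
  have hKP : kerSub θ ≤ P := kerSub_le_pre θ P'
  have himP : imageAlong θ P = P' := im_pre θ (hrange ▸ hP'S')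
  -- replace `P'` by the image of `P`
  clear_value P
  subst himP
  obtain ⟨γ, hγ⟩ := rho_surj hS F F' θ hθ hPS hKP β' hβ'
  obtain ⟨r, hr1, hr2⟩ := exists_pow_coprime (γ : MulAut P) (isOfFinOrder_of_finite _) hp hcop
  have hγr : rho hS F F' θ hθ hPS (γ ^ r) = β' := by
    rw [map_pow, hγ, pow_eq_self_of_modEq (pow_orderOf_eq_one β') hr2]
  set V := preimageAlong θ W' with hVdef
  have hVS : V ≤ S := pre_le θ W'
  have hVP : V ≤ P := by
    intro x hx
    obtain ⟨hxS, hxW⟩ := mem_pre.mp hx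
    obtain ⟨s, hsP, hs⟩ := mem_im.mp (hW'P' hxW)
    -- `x s⁻¹` lies in the kernel
    have h1 : (⟨x, hxS⟩ * s⁻¹ : S) ∈ θ.ker := by
      rw [MonoidHom.mem_ker, map_mul, map_inv, hs, mul_inv_cancel]
    have h2 : ((⟨x, hxS⟩ * s⁻¹ : S) : Ω) ∈ P := hKP ⟨_, h1, rfl⟩
    have h3 : x = ((⟨x, hxS⟩ * s⁻¹ : S) : Ω) * (s : Ω) := by
      show x = x * (s : Ω)⁻¹ * (s : Ω)
      group
    rw [h3]
    exact P.mul_mem h2 hsP
  have hSV : S ≤ Subgroup.normalizer (V : Set Ω) := by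
    intro s hs
    have key : ∀ t : S, ∀ v ∈ V, (t : Ω) * v * (t : Ω)⁻¹ ∈ V := by
      intro t v hv
      obtain ⟨hvS, hvW⟩ := mem_pre.mp hv
      rw [mem_pre]
      refine ⟨S.mul_mem (S.mul_mem t.2 hvS) (S.inv_mem t.2), ?_⟩
      have e : (⟨(t : Ω) * v * (t : Ω)⁻¹, S.mul_mem (S.mul_mem t.2 hvS) (S.inv_mem t.2)⟩ : S) =
          t * ⟨v, hvS⟩ * t⁻¹ := rfl
      rw [e, map_mul, map_mul, map_inv]
      have htS' : θ t ∈ S' := hθ.1.1 t
      exact (Subgroup.mem_normalizer_iff.mp (hnorm htS') _).mp hvW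
    rw [Subgroup.mem_normalizer_iff]
    intro v
    constructor
    · exact key ⟨s, hs⟩ v
    · intro hv
      have h1 := key ⟨s, hs⟩⁻¹ _ hv
      have e : ((⟨s, hs⟩⁻¹ : S) : Ω) * (s * v * s⁻¹) * ((⟨s, hs⟩⁻¹ : S) : Ω)⁻¹ = v := by
        show s⁻¹ * (s * v * s⁻¹) * (s⁻¹)⁻¹ = v
        group
      rwa [e] at h1
  have hQV : Q ≤ V := hkerQ ▸ kerSub_le_pre θ W'
  have hVQ : V ≠ Q := by
    intro h0
    apply hW'1
    rw [eq_bot_iff]
    intro w hw
    obtain ⟨s, hsP, hs⟩ := mem_im.mp (hW'P' hw)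
    have hsV : (s : Ω) ∈ V := mem_pre.mpr ⟨s.2, by rw [hs]; exact hw⟩
    rw [h0] at hsV
    have := (hker s).mpr hsV
    rw [Subgroup.mem_bot, ← hs]
    exact this
  refine ⟨V, hQV, hVQ, hVS, hSV, ?_⟩
  intro hfree
  have hPN : P ≤ normalizerIn S V := fun x hx => ⟨hPS hx, hSV (hPS hx)⟩
  have hγV : ∀ x : P, (x : Ω) ∈ V → ((((γ ^ r : F.autGroup P) : MulAut P) x : P) : Ω) ∈ V := by
    intro x hx
    obtain ⟨hxS, hxW⟩ := mem_pre.mp hx
    rw [mem_pre]
    refine ⟨hPS (_ : P).2, ?_⟩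
    have h1 := rho_apply hS F F' θ hθ hPS (γ ^ r) x
    rw [hγr] at h1
    have h2 := congrArg (fun z : imageAlong θ P => (z : Ω')) h1
    simp only [resHom_coe] at h2
    rw [← h2]
    apply hβ'W'
    rw [resHom_coe]
    exact hxW
  have h1 := hfree P hVP hPN ((γ ^ r : F.autGroup P) : MulAut P) (γ ^ r).2 hγV
    (by rw [Subgroup.coe_pow]; exact hr1)
  apply hβ'1
  rw [← hγr]
  have h2 : γ ^ r = 1 := Subtype.ext h1
  rw [h2, map_one]

end Cfsg.Agent.Lib.Helper88
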