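import Cfsg.Agent.Lib.Helper88.Reduction1
import Cfsg.Agent.Lib.Helper88.Reduction3
import Cfsg.Agent.S5133
import Cfsg.Agent.S5134

set_option autoImplicit false

/-!
# The reduction to constrained systems

Let `Bad` be a class of automorphisms, each normalizing a nontrivial subgroup normalized by the normalizer of
`S`, such that constrained systems without nontrivial `Bad` automorphisms of order prime to `p` have no
nontrivial automorphisms of order prime to `p` at all.  Then every saturated system with a nontrivial
automorphism of order prime to `p` contains a constrained subsystem over `S` with a nontrivial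
automorphism of order prime to `p`.
-/

namespace Cfsg.Agent.Lib.Helper88

open Cfsg Cfsg.FusionSystem
open Cfsg.Agent.Lib.Helper87 (hom_le hom_mem_S subtype_mem inv_exists mem_autGroup_iff finite_of_le
  isConj_refl isConj_symm card_eq_of_isConj)

universe u

/-- the system has no nontrivial `Bad` automorphisms of order prime to `p` -/
def Hyp (Bad : ∀ (Ω : Type u) [Group Ω] (S P : Subgroup Ω), MulAut P → Prop)
    {Ω : Type u} [Group Ω] {S : Subgroup Ω} (F : FusionSystem S) (p : ℕ) : Prop :=
  ∀ P : Subgroup Ω, P ≤ S → ∀ α ∈ F.autGroup P, (orderOf α).Coprime p → Bad Ω S P α → α = 1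

/-- the system contains a constrained subsystem over `S` with a nontrivial automorphism of order prime to
`p` -/
def Concl {Ω : Type u} [Group Ω] {S : Subgroup Ω} (F : FusionSystem S) (p : ℕ) : Prop :=
  ∃ (T : Subgroup Ω) (E : FusionSystem T), T = S ∧ (∀ P : Subgroup Ω, E.Hom P ⊆ F.Hom P) ∧
    E.IsConstrained p ∧ ¬ PFree E p

theorem mem_normalizer_sup' {G : Type*} [Group G] {A B : Subgroup G} {g : G}
    (hA : g ∈ Subgroup.normalizer (A : Set G)) (hB : g ∈ Subgroup.normalizer (B : Set G)) :
    g ∈ Subgroup.normalizer ((A ⊔ B : Subgroup G) : Set G) := by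
  have key : ∀ k : G, k ∈ Subgroup.normalizer (A : Set G) → k ∈ Subgroup.normalizer (B : Set G) →
      ∀ h ∈ A ⊔ B, k * h * k⁻¹ ∈ A ⊔ B := by
    intro k hkA hkB
    have : A ⊔ B ≤ (A ⊔ B).comap (MulAut.conj k).toMonoidHom := by
      apply sup_le
      · intro a ha
        exact (le_sup_left : A ≤ A ⊔ B) ((Subgroup.mem_normalizer_iff.mp hkA a).mp ha)
      · intro b hb
        exact (le_sup_right : B ≤ A ⊔ B) ((Subgroup.mem_normalizer_iff.mp hkB b).mp hb)
    intro h hh
    exact this hh
  rw [Subgroup.mem_normalizer_iff]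
  intro h
  constructor
  · exact key g hA hB h
  · intro hh
    have h1 := key g⁻¹ (Subgroup.inv_mem _ hA) (Subgroup.inv_mem _ hB) _ hh
    have e : g⁻¹ * (g * h * g⁻¹) * g⁻¹⁻¹ = h := by group
    rwa [e] at h1

/-- the elements of `S` normalize `Q C_S(Q)` when they normalize `Q` -/
theorem le_normalizer_sup_centralizerIn {Ω : Type*} [Group Ω] {S Q : Subgroup Ω}
    (hSN : S ≤ Subgroup.normalizer (Q : Set Ω)) :
    S ≤ Subgroup.normalizer ((Q ⊔ centralizerIn S Q : Subgroup Ω) : Set Ω) := by
  intro s hs
  apply mem_normalizer_sup' (hSN hs)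
  have key : ∀ t ∈ S, ∀ c ∈ centralizerIn S Q, t * c * t⁻¹ ∈ centralizerIn S Q := by
    intro t ht c hc
    refine ⟨S.mul_mem (S.mul_mem ht hc.1) (S.inv_mem ht), ?_⟩
    show t * c * t⁻¹ ∈ Subgroup.centralizer (Q : Set Ω)
    rw [Subgroup.mem_centralizer_iff]
    intro q hq
    have h1 : t⁻¹ * q * t ∈ Q := by
      have := (Subgroup.mem_normalizer_iff.mp (hSN (S.inv_mem ht)) q).mp hq
      rwa [inv_inv] at this
    have h2 : c ∈ Subgroup.centralizer (Q : Set Ω) := hc.2
    rw [Subgroup.mem_centralizer_iff] at h2
    have h3 := h2 _ h1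
    calc q * (t * c * t⁻¹) = t * ((t⁻¹ * q * t) * c) * t⁻¹ := by group
      _ = t * (c * (t⁻¹ * q * t)) * t⁻¹ := by rw [h3]
      _ = t * c * t⁻¹ * q := by group
  rw [Subgroup.mem_normalizer_iff]
  intro c
  constructor
  · exact key s hs c
  · intro hc
    have h1 := key s⁻¹ (S.inv_mem hs) _ hc
    have e : s⁻¹ * (s * c * s⁻¹) * s⁻¹⁻¹ = c := by group
    rwa [e] at h1

section

variable (p : ℕ) [Fact p.Prime]
  (Bad : ∀ (Ω : Type u) [Group Ω] (S P : Subgroup Ω), MulAut P → Prop)
  (hloc : ∀ (Ω : Type u) [Group Ω] (S P : Subgroup Ω) (α : MulAut P), Finite S → IsPGroup p S →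
    P ≤ S → α ≠ 1 → Bad Ω S P α →
    ∃ W : Subgroup Ω, W ≠ ⊥ ∧ W ≤ P ∧ (∀ x : P, (x : Ω) ∈ W → ((α x : P) : Ω) ∈ W) ∧
      Subgroup.normalizer (S : Set Ω) ≤ Subgroup.normalizer (W : Set Ω))
  (hgrp : ∀ (Ω : Type u) [Group Ω] (S : Subgroup Ω) (F : FusionSystem S), Finite S → IsPGroup p S →
    F.IsConstrained p → Hyp Bad F p → PFree F p)

include hloc hgrp in
/-- a constrained subsystem with a nontrivial automorphism of order prime to `p` gives a nontrivial
automorphism of order prime to `p` normalizing a nontrivial normal subgroup -/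
theorem witness_of_concl {Ω : Type u} [Group Ω] {S : Subgroup Ω} (F : FusionSystem S)
    (hfin : Finite S) (hS : IsPGroup p S) (hc : Concl F p) :
    ∃ (W P : Subgroup Ω) (β : MulAut P), W ≠ ⊥ ∧ W ≤ P ∧ P ≤ S ∧ β ∈ F.autGroup P ∧
      (orderOf β).Coprime p ∧ β ≠ 1 ∧ (∀ x : P, (x : Ω) ∈ W → ((β x : P) : Ω) ∈ W) ∧
      Subgroup.normalizer (S : Set Ω) ≤ Subgroup.normalizer (W : Set Ω) := by
  obtain ⟨T, E, hT, hsub, hcon, hnot⟩ := hc
  subst hT
  have h1 : ¬ Hyp Bad E p := fun h => hnot (hgrp Ω T E hfin hS hcon h)
  have h2 : ∃ P : Subgroup Ω, P ≤ T ∧ ∃ α ∈ E.autGroup P, (orderOf α).Coprime p ∧ Bad Ω T P α ∧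
      α ≠ 1 := by
    by_contra hcon'
    apply h1
    intro P hP α hα hcop hbad
    by_contra hne
    exact hcon' ⟨P, hP, α, hα, hcop, hbad, hne⟩
  obtain ⟨P, hP, α, hα, hcop, hbad, hne⟩ := h2
  obtain ⟨W, hW1, hWP, hαW, hnorm⟩ := hloc Ω T P α hfin hS hP hne hbad
  exact ⟨W, P, α, hW1, hWP, hP, autGroup_mono hsub P hα, hcop, hne, hαW, hnorm⟩

include hloc hgrp in
/-- **The reduction.** -/
theorem reduction_main : ∀ (n k : ℕ) (Ω : Type u) [Group Ω] (S : Subgroup Ω) (F : FusionSystem S)
    (Q : Subgroup Ω), Finite S → IsPGroup p S → Nat.card S = n → F.IsSaturated p → ¬ PFree F p →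
    F.IsNormal Q → Nat.card S - Nat.card Q = k → Concl F p := by
  intro n
  induction n using Nat.strong_induction_on with
  | _ n ihn =>
    intro k
    induction k using Nat.strong_induction_on with
    | _ k ihk =>
      intro Ω _ S F Q hfin hS hn hF hnot hQn hk
      have hQS : Q ≤ S := hQn.1
      have hsc : F.StronglyClosed Q := Cfsg.Agent.Lib.Helper87.stronglyClosed_of_isNormal F hQn
      have hSN : S ≤ Subgroup.normalizer (Q : Set Ω) :=
        Cfsg.Agent.Lib.Helper87.stronglyClosed_le_normalizer F hsc
      by_cases hcen : centralizerIn S Q ≤ Q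
      · -- the constrained case
        exact ⟨S, F, rfl, fun P => subset_rfl,
          ⟨hF, Q, hQn, Cfsg.Agent.Lib.Helper87.isCentric_of_stronglyClosed F hsc hcen⟩, hnot⟩
      · -- a larger subgroup normal in `S` with a non-inner normalizer system
        have hV : ∃ V : Subgroup Ω, Q ≤ V ∧ V ≠ Q ∧ V ≤ S ∧ S ≤ Subgroup.normalizer (V : Set Ω) ∧
            ¬ NFree F p V := by
          by_cases hR : NFree F p (Q ⊔ centralizerIn S Q)
          · have hAutQ := aut_free_of_nFree_sup_centralizer hS F hF hQn hR
            by_cases hQ1 : Q = ⊥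
            · -- step 1
              have hW : ∀ (R : Subgroup Ω) (E : FusionSystem R), R ≤ S → Nat.card R < Nat.card S →
                  E.IsSaturated p → ¬ PFree E p →
                  ∃ (W P : Subgroup Ω) (β : MulAut P), W ≠ ⊥ ∧ W ≤ P ∧ P ≤ R ∧ β ∈ E.autGroup P ∧
                    (orderOf β).Coprime p ∧ β ≠ 1 ∧ (∀ x : P, (x : Ω) ∈ W → ((β x : P) : Ω) ∈ W) ∧
                    Subgroup.normalizer (R : Set Ω) ≤ Subgroup.normalizer (W : Set Ω) := by
                intro R E hRS hcard hEsat hEnot
                have hfinR : Finite R := finite_of_le hRS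
                have hRp : IsPGroup p R := hS.to_le hRS
                have hc := ihn (Nat.card R) (hn ▸ hcard) _ Ω R E ⊥ hfinR hRp rfl hEsat hEnot
                  (isNormal_bot E) rfl
                exact witness_of_concl p Bad hloc hgrp E hfinR hRp hc
              obtain ⟨U, hU1, hUS, hSU, hUfree⟩ := exists_normal_not_nFree hS F hF hnot hW
              exact ⟨U, hQ1 ▸ bot_le, fun h => hU1 (h.trans hQ1), hUS, hSU, hUfree⟩
            · -- the factor system
              have : (Q.subgroupOf S).Normal := by
                constructor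
                intro x hx s
                rw [Subgroup.mem_subgroupOf] at hx ⊢
                exact (Subgroup.mem_normalizer_iff.mp (hSN s.2) _).mp hx
              obtain ⟨E', hE'⟩ := Cfsg.Agent.S5132.result p hS F Q hsc
              have hsur := Cfsg.Agent.S5134.result p hS F hF Q hsc _ E' hE'
              have hE'sat := Cfsg.Agent.S5133.result p hS F hF E' _ hsur
              have hE'not : ¬ PFree E' p := fun h =>
                hnot (pFree_of_pFree_factor hS F E' _ hsur hQn (fun s hs => (hE'.2.1 s).mp hs)
                  hAutQ h)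
              -- the factor group is smaller
              have hfin' : Finite (⊤ : Subgroup (S ⧸ Q.subgroupOf S)) := inferInstance
              have hp' : IsPGroup p (⊤ : Subgroup (S ⧸ Q.subgroupOf S)) :=
                (hS.to_quotient (Q.subgroupOf S)).to_subgroup ⊤
              have hcard' : Nat.card (⊤ : Subgroup (S ⧸ Q.subgroupOf S)) < n := by
                rw [Subgroup.card_top, ← hn]
                have h1 := Subgroup.card_eq_card_quotient_mul_card_subgroup (Q.subgroupOf S)
                have h2 : 1 < Nat.card (Q.subgroupOf S) := by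
                  rw [Subgroup.one_lt_card_iff_ne_bot]
                  intro h0
                  apply hQ1
                  rw [eq_bot_iff]
                  intro x hx
                  have : (⟨x, hQS hx⟩ : S) ∈ Q.subgroupOf S := Subgroup.mem_subgroupOf.mpr hx
                  rw [h0, Subgroup.mem_bot] at this
                  rw [Subgroup.mem_bot]
                  exact congrArg Subtype.val this
                have h3 : 0 < Nat.card (S ⧸ Q.subgroupOf S) := Nat.card_pos
                nlinarith
              have hc := ihn _ hcard' _ _ (⊤ : Subgroup (S ⧸ Q.subgroupOf S)) E' ⊥ hfin' hp' rfl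
                hE'sat hE'not (isNormal_bot E') rfl
              obtain ⟨W', P', β', hW'1, hW'P', hP'S', hβ', hcop', hβ'1, hβ'W', hnorm'⟩ :=
                witness_of_concl p Bad hloc hgrp E' hfin' hp' hc
              exact exists_not_nFree_of_factor hS F E' _ hsur hQS hE'.2.1 W' P' β' hW'1 hW'P' hP'S'
                hβ' hcop' hβ'1 hβ'W' (Subgroup.le_normalizer.trans hnorm')
          · refine ⟨Q ⊔ centralizerIn S Q, le_sup_left, ?_, sup_le hQS inf_le_left,
              le_normalizer_sup_centralizerIn hSN, hR⟩
            intro h0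
            exact hcen (le_sup_right.trans h0.le)
        obtain ⟨V, hQV, hVQ, hVS, hSV, hVfree⟩ := hV
        -- the normalizer system of `V`
        let F₁ := Cfsg.Agent.Lib.Helper84.normalizerSystem F V hVS
        have hF₁ : F.IsNormalizerSystem V F₁ :=
          Cfsg.Agent.Lib.Helper84.normalizerSystem_spec F V hVS
        have hS₁ : normalizerIn S V = S := normalizerIn_eq_of_le_normalizer hSV
        have hfin₁ : Finite (normalizerIn S V) := finite_of_le inf_le_left
        have hp₁ : IsPGroup p (normalizerIn S V) := hS.to_le inf_le_left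
        have hfn : F.IsFullyNormalized V :=
          Cfsg.Agent.Lib.Helper87.fullyNormalized_of_le_normalizer F hVS hSV
        have hsat₁ : F₁.IsSaturated p :=
          Cfsg.Agent.Lib.Helper84.KN.normalizerSystem_isSaturated hS F hF hfn hF₁
        have hnot₁ : ¬ PFree F₁ p := by
          intro hfree
          apply hVfree
          intro P hVP hPN α hα hαV hcop
          exact hfree P hPN α (mem_autGroup_normalizerSystem F hF₁ hVP hPN hα hαV) hcop
        have hVn : F₁.IsNormal V := Cfsg.Agent.Lib.Helper87.normalizerSystem_isNormal F hVS hF₁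
        have hcardS₁ : Nat.card (normalizerIn S V) = n := by rw [hS₁]; exact hn
        -- the measure decreases
        have hfinV : Finite V := finite_of_le hVS
        have hlt : Nat.card Q < Nat.card V := by
          rcases Nat.lt_or_ge (Nat.card Q) (Nat.card V) with h | h
          · exact h
          · exact absurd (Subgroup.eq_of_le_of_card_ge hQV h).symm hVQ
        have hle : Nat.card V ≤ Nat.card S := Subgroup.card_le_of_le hVS
        have hk' : Nat.card (normalizerIn S V) - Nat.card V < k := by
          rw [hcardS₁]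
          omega
        obtain ⟨T, E, hT, hsub, hcon, hEnot⟩ :=
          ihk _ hk' Ω (normalizerIn S V) F₁ V hfin₁ hp₁ hcardS₁ hsat₁ hnot₁ hVn rfl
        refine ⟨T, E, hT.trans hS₁, fun P φ hφ => ?_, hcon, hEnot⟩
        have h1 := hsub P hφ
        rw [hF₁ P] at h1
        exact h1.1

include hgrp in
omit [Fact p.Prime] in
theorem not_hyp_of_concl {Ω : Type u} [Group Ω] {S : Subgroup Ω} (F : FusionSystem S)
    (hfin : Finite S) (hS : IsPGroup p S) (hc : Concl F p) : ¬ Hyp Bad F p := by
  obtain ⟨T, E, hT, hsub, hcon, hnot⟩ := hc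
  subst hT
  intro hyp
  apply hnot
  apply hgrp Ω T E hfin hS hcon
  intro P hP α hα hcop hbad
  exact hyp P hP α (autGroup_mono hsub P hα) hcop hbad

include hloc hgrp in
/-- a saturated system without nontrivial `Bad` automorphisms of order prime to `p` has no nontrivial
automorphisms of order prime to `p` -/
theorem pFree_of_hyp {Ω : Type u} [Group Ω] {S : Subgroup Ω} (F : FusionSystem S)
    (hfin : Finite S) (hS : IsPGroup p S) (hF : F.IsSaturated p) (hyp : Hyp Bad F p) :
    PFree F p := by
  by_contra hnot
  exact not_hyp_of_concl p Bad hgrp F hfin hS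
    (reduction_main p Bad hloc hgrp _ _ Ω S F ⊥ hfin hS rfl hF hnot (isNormal_bot F) rfl) hyp

end

end Cfsg.Agent.Lib.Helper88
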