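import Cfsg.Agent.Lib.Helper88.RealizedAut
import Cfsg.Agent.Lib.Helper88.Reduction4
import Cfsg.Agent.Lib.Helper88.ZJLemmas
import Cfsg.Agent.Lib.Helper88.ModelExists
import Cfsg.Agent.Lib.Helper2.PComplement
import Cfsg.Agent.S0071
import Cfsg.Agent.S0659

set_option autoImplicit false

/-!
# The Glauberman-Thompson criterion for constrained systems
-/

namespace Cfsg.Agent.Lib.Helper88

open Cfsg Cfsg.FusionSystem
open Cfsg.Agent.Lib.Helper87 (hom_le hom_mem_S subtype_mem inv_exists mem_autGroup_iff finite_of_le)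
open Cfsg.Agent.S5132 (mem_pre pre_le)

universe u

/-- the automorphisms of subgroups containing `Z(J(S))` that normalize `Z(J(S))` -/
def ZJBad (Ω : Type u) [Group Ω] (S P : Subgroup Ω) (α : MulAut P) : Prop :=
  centerThompsonAOf S ≤ P ∧ ∀ x : P, (x : Ω) ∈ centerThompsonAOf S →
    ((α x : P) : Ω) ∈ centerThompsonAOf S

theorem zjBad_loc (p : ℕ) [Fact p.Prime] (Ω : Type u) [Group Ω] (S P : Subgroup Ω) (α : MulAut P)
    (hfin : Finite S) (hS : IsPGroup p S) (hP : P ≤ S) (hα1 : α ≠ 1) (hbad : ZJBad Ω S P α) :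
    ∃ W : Subgroup Ω, W ≠ ⊥ ∧ W ≤ P ∧ (∀ x : P, (x : Ω) ∈ W → ((α x : P) : Ω) ∈ W) ∧
      Subgroup.normalizer (S : Set Ω) ≤ Subgroup.normalizer (W : Set Ω) := by
  refine ⟨centerThompsonAOf S, ?_, hbad.1, hbad.2, normalizer_le_normalizer_centerThompsonAOf S⟩
  apply centerThompsonAOf_ne_bot hS
  intro h0
  apply hα1
  have hbot : ∀ y : P, (y : Ω) = 1 := by
    intro y
    have h1 : (y : Ω) ∈ (⊥ : Subgroup Ω) := h0 ▸ hP y.2
    exact Subgroup.mem_bot.mp h1
  ext x
  rw [MulAut.one_apply, hbot x, hbot (α x)]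

/-- **The Glauberman-Thompson criterion for constrained systems.** -/
theorem zjBad_grp (p : ℕ) [Fact p.Prime] (hp2 : p ≠ 2) (Ω : Type u) [Group Ω] (S : Subgroup Ω)
    (F : FusionSystem S) (hfin : Finite S) (hS : IsPGroup p S) (hcon : F.IsConstrained p)
    (hyp : Hyp ZJBad F p) : PFree F p := by
  obtain ⟨G, _, ι, hfinG, hreal, ⟨T, hT⟩, -⟩ := exists_model hS F hcon
  have hinj : Function.Injective ι := hreal.1
  set Z := centerThompsonAOf (T : Subgroup G) with hZdef
  have hZ : Z = ((centerThompsonAOf S).subgroupOf S).map ι := by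
    rw [hZdef, hT]
    exact centerThompsonAOf_range ι hinj
  have hZT : Z ≤ (T : Subgroup G) := centerThompsonAOf_le _
  set H := Subgroup.normalizer (Z : Set G) with hHdef
  have hTH : (T : Subgroup G) ≤ H :=
    Subgroup.le_normalizer.trans (normalizer_le_normalizer_centerThompsonAOf (T : Subgroup G))
  let TH : Sylow p H := T.subtype hTH
  have hTHcoe : (TH : Subgroup H) = (T : Subgroup G).subgroupOf H := Sylow.coe_subtype _ _
  have hnpcH : HasNormalPComplement p H := by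
    rw [Cfsg.Agent.Lib.Helper2.hasNormalPComplement_iff TH, Cfsg.Agent.S0071.result TH]
    intro Q₁ hQ₁ g hg hcop
    -- pass to the group `G`
    have hQ₁T : ∀ q ∈ Q₁, ((q : H) : G) ∈ (T : Subgroup G) := by
      intro q hq
      have := hQ₁ hq
      rw [hTHcoe] at this
      exact Subgroup.mem_subgroupOf.mp this
    set Q₂ := Q₁.map H.subtype ⊔ Z with hQ₂def
    have hQ₂ : Q₂ ≤ ι.range := by
      rw [← hT]
      apply sup_le
      · rintro _ ⟨q, hq, rfl⟩
        exact hQ₁T q hq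
      · exact hZT
    have hgN1 : (g : G) ∈ Subgroup.normalizer ((Q₁.map H.subtype : Subgroup G) : Set G) := by
      rw [Subgroup.mem_normalizer_iff]
      intro y
      rw [Subgroup.mem_normalizer_iff] at hg
      constructor
      · rintro ⟨q, hq, rfl⟩
        exact ⟨g * q * g⁻¹, (hg q).mp hq, rfl⟩
      · rintro ⟨q, hq, hqy⟩
        have hy : y ∈ H := by
          have h1 : (g : G)⁻¹ * ((g : G) * y * (g : G)⁻¹) * (g : G) ∈ H :=
            H.mul_mem (H.mul_mem (H.inv_mem g.2) (hqy ▸ q.2)) g.2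
          have e : (g : G)⁻¹ * ((g : G) * y * (g : G)⁻¹) * (g : G) = y := by group
          rwa [e] at h1
        refine ⟨⟨y, hy⟩, (hg ⟨y, hy⟩).mpr ?_, rfl⟩
        have : g * ⟨y, hy⟩ * g⁻¹ = q := Subtype.ext hqy.symm
        rw [this]
        exact hq
    have hgN : (g : G) ∈ Subgroup.normalizer (Q₂ : Set G) := mem_normalizer_sup' hgN1 g.2
    obtain ⟨γ, hγ, hγg⟩ := exists_aut_of_mem_normalizer F ι hreal Q₂ hQ₂ (g : G) hgN
    have hγcop : (orderOf γ).Coprime p := by
      have h1 := hγg.orderOf_dvd hinj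
      rw [Subgroup.orderOf_coe] at h1
      exact Nat.Coprime.coprime_dvd_left h1 hcop
    have hPS : preimageAlong ι Q₂ ≤ S := pre_le ι Q₂
    have hbad : ZJBad Ω S (preimageAlong ι Q₂) γ := by
      constructor
      · intro x hx
        have hxS : x ∈ S := centerThompsonAOf_le S hx
        refine mem_pre.mpr ⟨hxS, ?_⟩
        apply (le_sup_right : Z ≤ Q₂)
        rw [hZ]
        exact ⟨⟨x, hxS⟩, Subgroup.mem_subgroupOf.mpr hx, rfl⟩
      · intro x hx
        have h1 := hγg x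
        have h2 : ι ⟨x, hPS x.2⟩ ∈ Z := by
          rw [hZ]
          exact ⟨⟨x, hPS x.2⟩, Subgroup.mem_subgroupOf.mpr hx, rfl⟩
        have h3 : (g : G) * ι ⟨x, hPS x.2⟩ * (g : G)⁻¹ ∈ Z :=
          (Subgroup.mem_normalizer_iff.mp g.2 _).mp h2
        rw [← h1, hZ] at h3
        obtain ⟨z, hz, hzx⟩ := h3
        have h4 := hinj hzx
        have h5 : (z : Ω) ∈ centerThompsonAOf S := Subgroup.mem_subgroupOf.mp hz
        rw [h4] at h5
        exact h5
    have hγ1 : γ = 1 := hyp _ hPS γ hγ hγcop hbad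
    rw [Subgroup.mem_centralizer_iff]
    intro q hq
    apply Subtype.ext
    show (q : G) * (g : G) = (g : G) * (q : G)
    -- `q = ι s`
    have hqQ₂ : (q : G) ∈ Q₂ := (le_sup_left : Q₁.map H.subtype ≤ Q₂) ⟨q, hq, rfl⟩
    obtain ⟨s, hs⟩ := hQ₂ hqQ₂
    have hsP : (s : Ω) ∈ preimageAlong ι Q₂ := mem_pre.mpr ⟨s.2, by rw [hs]; exact hqQ₂⟩
    have h1 := hγg ⟨s, hsP⟩
    rw [hγ1] at h1
    have h2 : ι s = (g : G) * ι s * (g : G)⁻¹ := h1
    rw [hs] at h2
    calc (q : G) * (g : G) = ((g : G) * (q : G) * (g : G)⁻¹) * (g : G) := by rw [← h2]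
      _ = (g : G) * (q : G) := by group
  have hnpcG : HasNormalPComplement p G := Cfsg.Agent.S0659.result hp2 T hnpcH
  rw [Cfsg.Agent.Lib.Helper2.hasNormalPComplement_iff T, Cfsg.Agent.S0071.result T] at hnpcG
  exact pFree_of_realized F ι hreal (fun Q₁ hQ₁ => hnpcG Q₁ (hT ▸ hQ₁))

end Cfsg.Agent.Lib.Helper88
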