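import Cfsg.Agent.Lib.Helper88.GTConstrained

set_option autoImplicit false

/-!
# The Glauberman-Thompson criterion for saturated fusion systems (`p` odd)
-/

namespace Cfsg.Agent.Lib.Helper88

open Cfsg Cfsg.FusionSystem
open Cfsg.Agent.Lib.Helper87 (hom_le hom_mem_S subtype_mem inv_exists mem_autGroup_iff finite_of_le)

universe u

variable {Ω : Type u} [Group Ω] {S : Subgroup Ω}

/-- a saturated system (`p` odd) with a nontrivial automorphism of order prime to `p` contains a constrained
subsystem over `S` with such an automorphism -/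
theorem concl_of_not_pFree [Finite S] {p : ℕ} [Fact p.Prime] (hp2 : p ≠ 2) (hS : IsPGroup p S)
    (F : FusionSystem S) (hF : F.IsSaturated p) (hnot : ¬ PFree F p) : Concl F p :=
  reduction_main p ZJBad (zjBad_loc p) (zjBad_grp p hp2) _ _ Ω S F ⊥ inferInstance hS rfl hF hnot
    (isNormal_bot F) rfl

/-- **Glauberman-Thompson for fusion systems.** -/
theorem pFree_of_hyp_zj [Finite S] {p : ℕ} [Fact p.Prime] (hp2 : p ≠ 2) (hS : IsPGroup p S)
    (F : FusionSystem S) (hF : F.IsSaturated p) (hyp : Hyp ZJBad F p) : PFree F p :=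
  pFree_of_hyp p ZJBad (zjBad_loc p) (zjBad_grp p hp2) F inferInstance hS hF hyp

theorem le_normalizer_centerThompsonAOf (S : Subgroup Ω) :
    S ≤ Subgroup.normalizer (centerThompsonAOf S : Set Ω) :=
  Subgroup.le_normalizer.trans (normalizer_le_normalizer_centerThompsonAOf S)

/-- the hypothesis on the normalizer system of `Z(J(S))` -/
theorem hyp_zj_of_normalizer_inner [Finite S] {p : ℕ} [Fact p.Prime] (hS : IsPGroup p S)
    (F : FusionSystem S)
    (h : ∀ N : FusionSystem (normalizerIn S (centerThompsonAOf S)),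
      F.IsNormalizerSystem (centerThompsonAOf S) N → ∀ P : Subgroup Ω,
        N.Hom P = (innerFusionSystem (normalizerIn S (centerThompsonAOf S))).Hom P) :
    Hyp ZJBad F p := by
  have hZS : centerThompsonAOf S ≤ S := centerThompsonAOf_le S
  let N := Cfsg.Agent.Lib.Helper84.normalizerSystem F (centerThompsonAOf S) hZS
  have hN : F.IsNormalizerSystem (centerThompsonAOf S) N :=
    Cfsg.Agent.Lib.Helper84.normalizerSystem_spec F _ hZS
  have hfinN : Finite (normalizerIn S (centerThompsonAOf S)) := finite_of_le inf_le_left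
  have hNp : IsPGroup p (normalizerIn S (centerThompsonAOf S)) := hS.to_le inf_le_left
  have hNfree : PFree N p := pFree_of_eq_inner hNp N (h N hN)
  intro P hP α hα hcop hbad
  have hPN : P ≤ normalizerIn S (centerThompsonAOf S) :=
    fun x hx => ⟨hP hx, le_normalizer_centerThompsonAOf S (hP hx)⟩
  exact hNfree P hPN α (mem_autGroup_normalizerSystem F hN hbad.1 hPN hα hbad.2) hcop

end Cfsg.Agent.Lib.Helper88
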