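import Cfsg.Agent.Lib.Helper16.GagDefs

/-!
# Gag hive (S4561), leaf GAG-T0: `Tw H p` is finite of order `|H|^p * p^3`.
-/

set_option autoImplicit false
universe u v

namespace Cfsg.Agent.Lib.Helper16.Gag
open scoped IsMulCommutative

/-- `Tw H p` as a product type. -/
def gagT0_equiv (H : Type u) (p : ℕ) : Tw H p ≃ (ZMod p → H) × ZMod p × ZMod p × ZMod p where
  toFun t := (t.f, t.a, t.b, t.c)
  invFun x := ⟨x.1, x.2.1, x.2.2.1, x.2.2.2⟩
  left_inv _ := rfl
  right_inv _ := rfl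

/-- T0 -/
theorem Tw.finite_and_primes {H : Type u} [Group H] [Finite H] {p : ℕ} [Fact p.Prime] :
    Finite (Tw H p) ∧ ∀ q : ℕ, q.Prime → q ∣ Nat.card (Tw H p) → q ∣ Nat.card H ∨ q = p := by
  have hp : p.Prime := Fact.out
  have : NeZero p := ⟨hp.ne_zero⟩
  have hfin : Finite (Tw H p) := Finite.of_equiv _ (gagT0_equiv H p).symm
  refine ⟨hfin, fun q hq hqd => ?_⟩
  rw [Nat.card_congr (gagT0_equiv H p), Nat.card_prod, Nat.card_prod, Nat.card_prod, Nat.card_fun,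
    Nat.card_zmod] at hqd
  rcases (Nat.Prime.dvd_mul hq).mp hqd with h1 | h1
  · exact Or.inl (hq.dvd_of_dvd_pow h1)
  · right
    rcases (Nat.Prime.dvd_mul hq).mp h1 with h2 | h2
    · exact (Nat.prime_dvd_prime_iff_eq hq hp).mp h2
    · rcases (Nat.Prime.dvd_mul hq).mp h2 with h3 | h3
      · exact (Nat.prime_dvd_prime_iff_eq hq hp).mp h3
      · exact (Nat.prime_dvd_prime_iff_eq hq hp).mp h3

end Cfsg.Agent.Lib.Helper16.Gag
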