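import Cfsg.Prelude.Def_FusionSystem
import Cfsg.Agent.Lib.Helper88.Abelian

set_option autoImplicit false

namespace Cfsg.Agent.Lib.Helper88

open Cfsg Cfsg.FusionSystem

variable {Ω : Type*} [Group Ω]

/-- maps of the inner system of an abelian group are inclusions -/
theorem inner_hom_abelian {T : Subgroup Ω} (hab : ∀ x ∈ T, ∀ y ∈ T, x * y = y * x) {P : Subgroup Ω}
    (φ : P →* Ω) : φ ∈ (innerFusionSystem T).Hom P ↔ P ≤ T ∧ φ = P.subtype := by
  constructor
  · rintro ⟨hP, g, hg, h⟩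
    refine ⟨hP, ?_⟩
    ext x
    rw [h x, hab g hg x (hP x.2), mul_inv_cancel_right]
    rfl
  · rintro ⟨hP, rfl⟩
    exact ⟨hP, 1, T.one_mem, fun x => by simp⟩

theorem inner_autGroup_abelian {T : Subgroup Ω} (hab : ∀ x ∈ T, ∀ y ∈ T, x * y = y * x) (P : Subgroup Ω) :
    (innerFusionSystem T).autGroup P = ⊥ := by
  rw [eq_bot_iff]
  apply (Subgroup.closure_le _).mpr
  intro α hα
  rw [SetLike.mem_coe, Subgroup.mem_bot]
  have := ((inner_hom_abelian hab _).mp hα).2
  ext x
  exact congrArg (fun f : P →* Ω => f x) this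

/-- the inner system of an abelian group is saturated -/
theorem inner_saturated_abelian {T : Subgroup Ω} (hab : ∀ x ∈ T, ∀ y ∈ T, x * y = y * x) (p : ℕ) :
    (innerFusionSystem T).IsSaturated p := by
  intro P hP
  refine ⟨P, ⟨P.subtype, (inner_hom_abelian hab _).mpr ⟨hP, rfl⟩, Subgroup.range_subtype P⟩, ?_, ?_⟩
  · refine ⟨hP, ?_⟩
    have hbot := inner_autGroup_abelian hab P
    have hsub : Subsingleton ((innerFusionSystem T).autGroup P) := by
      rw [hbot]
      infer_instance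
    obtain ⟨R⟩ := (inferInstance : Nonempty (Sylow p ((innerFusionSystem T).autGroup P)))
    refine ⟨R, ?_⟩
    ext x
    have hx : x = 1 := Subsingleton.elim _ _
    rw [hx]
    simp only [Subgroup.one_mem]
  · refine ⟨hP, ?_⟩
    intro P' φ hφ hr
    obtain ⟨hP', rfl⟩ := (inner_hom_abelian hab _).mp hφ
    have hle : extender T P' P'.subtype ≤ T := by
      apply (Subgroup.closure_le _).mpr
      intro g hg
      exact hg.1
    refine ⟨(extender T P' P'.subtype).subtype, (inner_hom_abelian hab _).mpr ⟨hle, rfl⟩, ?_⟩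
    intro x _ _
    rfl

/-- Normality of the inner system of a subgroup `T` of an abelian `S`, given a Frattini-type hypothesis. -/
theorem inner_normalIn_abelian {S : Subgroup Ω} (hab : ∀ x ∈ S, ∀ y ∈ S, x * y = y * x) (p : ℕ)
    (F : FusionSystem S) (hF : F.IsSaturated p) {T : Subgroup Ω} (hTS : T ≤ S)
    (hsc : F.StronglyClosed T)
    (hfr : ∀ (P : Subgroup Ω) (hPT : P ≤ T) (φ : P →* Ω), φ ∈ F.Hom P →
      ∃ α ∈ F.autGroup T, ∀ x : P, φ x = ((α ⟨x, hPT x.2⟩ : T) : Ω)) :
    (innerFusionSystem T).IsNormalIn F p := by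
  have habT : ∀ x ∈ T, ∀ y ∈ T, x * y = y * x := fun x hx y hy => hab x (hTS hx) y (hTS hy)
  refine ⟨⟨inner_saturated_abelian habT p, hF, ?_, hsc, ?_, ?_⟩, ?_⟩
  · -- subsystem
    intro P φ hφ
    obtain ⟨hP, rfl⟩ := (inner_hom_abelian habT _).mp hφ
    exact subtype_mem F (hP.trans hTS)
  · -- invariance under conjugation
    intro P hPT φ hφ α _
    obtain ⟨-, rfl⟩ := (inner_hom_abelian habT _).mp hφ
    have hle : (P.subgroupOf T).map (T.subtype.comp α.toMonoidHom) ≤ T := by
      rintro _ ⟨y, -, rfl⟩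
      exact (α y).2
    refine ⟨((P.subgroupOf T).map (T.subtype.comp α.toMonoidHom)).subtype,
      (inner_hom_abelian habT _).mpr ⟨hle, rfl⟩, ?_⟩
    intro x _ _
    rfl
  · -- Frattini
    intro P hPT φ hφ
    obtain ⟨α, hα, h⟩ := hfr P hPT φ hφ
    refine ⟨α, hα, P.subtype, (inner_hom_abelian habT _).mpr ⟨hPT, rfl⟩, ?_⟩
    intro x _
    exact h x
  · -- extension condition
    intro α hα
    rw [inner_autGroup_abelian habT T, Subgroup.mem_bot] at hα
    subst hα
    refine ⟨1, Subgroup.one_mem _, fun x => rfl, ?_⟩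
    intro c _
    simp

end Cfsg.Agent.Lib.Helper88
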