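import Mathlib

set_option autoImplicit false

/-!
# Marks of finite group actions

`mkCount V Y` is the number of fixed points of the subgroup `V` on `Y` (the mark of `V`), `exCount U Y`
the number of points whose stabilizer is exactly `U`.  The exact counts are determined by the marks
of the overgroups (`exCount_eq_of_mkCount_eq`).
-/

namespace Cfsg.Agent.Lib.Helper88

open MulAction

variable {K : Type*} [Group K]

/-- the mark of `V` on `Y`: the number of fixed points -/
noncomputable def mkCount (V : Subgroup K) (Y : Type*) [MulAction K Y] : ℕ :=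
  Nat.card {y : Y // V ≤ stabilizer K y}

/-- the number of points with stabilizer exactly `U` -/
noncomputable def exCount (U : Subgroup K) (Y : Type*) [MulAction K Y] : ℕ :=
  Nat.card {y : Y // stabilizer K y = U}

open Classical in
theorem mkCount_eq_add [Fintype (Subgroup K)] {Y : Type*} [MulAction K Y] [Finite Y]
    (U : Subgroup K) :
    mkCount U Y = exCount U Y + ∑ V ∈ Finset.univ.filter (fun V : Subgroup K => U < V),
      exCount V Y := by
  have := Fintype.ofFinite Y
  unfold mkCount exCount
  simp only [Nat.card_eq_fintype_card, Fintype.card_subtype]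
  have hmaps : ((Finset.univ.filter fun y : Y => U ≤ stabilizer K y : Finset Y) : Set Y).MapsTo
      (fun y => stabilizer K y) (Finset.univ.filter fun V : Subgroup K => U ≤ V) := by
    intro y hy
    simpa using hy
  rw [Finset.card_eq_sum_card_fiberwise hmaps]
  have hU : U ∈ (Finset.univ.filter fun V : Subgroup K => U ≤ V) := by simp
  rw [← Finset.add_sum_erase _ _ hU]
  have hset : (Finset.univ.filter fun V : Subgroup K => U ≤ V).erase U =
      Finset.univ.filter (fun V : Subgroup K => U < V) := by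
    ext V
    simp only [Finset.mem_erase, Finset.mem_filter, Finset.mem_univ, true_and]
    constructor
    · rintro ⟨h1, h2⟩
      exact lt_of_le_of_ne h2 (Ne.symm h1)
    · intro h
      exact ⟨h.ne', h.le⟩
  rw [hset]
  congr 1
  · congr 1
    ext y
    simp only [Finset.mem_filter, Finset.mem_univ, true_and]
    constructor
    · rintro ⟨-, h⟩
      exact h
    · intro h
      exact ⟨h ▸ le_rfl, h⟩
  · apply Finset.sum_congr rfl
    intro V hV
    have hV' : U < V := by simpa using hV
    congr 1
    ext y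
    simp only [Finset.mem_filter, Finset.mem_univ, true_and]
    constructor
    · rintro ⟨-, h⟩
      exact h
    · intro h
      exact ⟨h ▸ hV'.le, h⟩

/-- the exact counts are determined by the marks of the overgroups -/
theorem exCount_eq_of_mkCount_eq [Finite K] {Y Y' : Type*} [MulAction K Y] [MulAction K Y']
    [Finite Y] [Finite Y'] (U : Subgroup K)
    (h : ∀ V : Subgroup K, U ≤ V → mkCount V Y = mkCount V Y') : exCount U Y = exCount U Y' := by
  classical
  have := Fintype.ofFinite (Subgroup K)
  induction U using WellFoundedGT.induction with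
  | ind U ih =>
    have h1 := mkCount_eq_add (Y := Y) U
    have h2 := mkCount_eq_add (Y := Y') U
    have h3 : ∑ V ∈ Finset.univ.filter (fun V : Subgroup K => U < V), exCount V Y =
        ∑ V ∈ Finset.univ.filter (fun V : Subgroup K => U < V), exCount V Y' := by
      apply Finset.sum_congr rfl
      intro V hV
      have hV' : U < V := by simpa using hV
      exact ih V hV' fun W hW => h W (hV'.le.trans hW)
    have h4 := h U le_rfl
    omega

/-! ### Equivariant bijections -/

theorem mkCount_congr {Y Y' : Type*} [MulAction K Y] [MulAction K Y'] (f : Y ≃ Y')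
    (hf : ∀ (k : K) (y : Y), f (k • y) = k • f y) (V : Subgroup K) :
    mkCount V Y = mkCount V Y' := by
  have hst : ∀ y : Y, stabilizer K (f y) = stabilizer K y := by
    intro y
    ext k
    simp only [mem_stabilizer_iff]
    rw [← hf]
    exact f.injective.eq_iff
  unfold mkCount
  refine Nat.card_congr (f.subtypeEquiv fun y => ?_)
  rw [hst]

/-- the orbit of a point, as a sub-action -/
def orbitSub {Y : Type*} [MulAction K Y] (y₀ : Y) : SubMulAction K Y where
  carrier := orbit K y₀
  smul_mem' := fun c _ hx => mem_orbit_of_mem_orbit c hx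

/-- the complement of the orbit of a point, as a sub-action -/
def complSub {Y : Type*} [MulAction K Y] (y₀ : Y) : SubMulAction K Y where
  carrier := (orbit K y₀)ᶜ
  smul_mem' := by
    intro c x hx hcx
    apply hx
    have := mem_orbit_of_mem_orbit c⁻¹ hcx
    rwa [inv_smul_smul] at this

theorem mem_orbitSub {Y : Type*} [MulAction K Y] {y₀ y : Y} :
    y ∈ orbitSub (K := K) y₀ ↔ ∃ k : K, k • y₀ = y := Iff.rfl

theorem mem_complSub {Y : Type*} [MulAction K Y] {y₀ y : Y} :
    y ∈ complSub (K := K) y₀ ↔ y ∉ orbitSub (K := K) y₀ := Iff.rfl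

theorem mkCount_sub {Y : Type*} [MulAction K Y] (A : SubMulAction K Y) (V : Subgroup K) :
    mkCount V A = Nat.card {y : Y // y ∈ A ∧ V ≤ stabilizer K y} := by
  unfold mkCount
  refine Nat.card_congr ⟨fun a => ⟨a.1.1, a.1.2, ?_⟩, fun y => ⟨⟨y.1, y.2.1⟩, ?_⟩, fun a => rfl,
    fun y => rfl⟩
  · have := a.2
    rwa [SubMulAction.stabilizer_of_subMul] at this
  · rw [SubMulAction.stabilizer_of_subMul]
    exact y.2.2

theorem mkCount_split {Y : Type*} [MulAction K Y] [Finite Y] (y₀ : Y) (V : Subgroup K) :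
    mkCount V Y = mkCount V (orbitSub (K := K) y₀) + mkCount V (complSub (K := K) y₀) := by
  classical
  have := Fintype.ofFinite Y
  rw [mkCount_sub, mkCount_sub]
  unfold mkCount
  simp only [Nat.card_eq_fintype_card, Fintype.card_subtype]
  rw [← Finset.card_union_of_disjoint]
  · congr 1
    ext y
    simp only [Finset.mem_filter, Finset.mem_univ, true_and, Finset.mem_union, mem_complSub]
    tauto
  · rw [Finset.disjoint_left]
    intro y h1 h2
    simp only [Finset.mem_filter, Finset.mem_univ, true_and, mem_complSub] at h1 h2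
    exact h2.1 h1.1

/-- the map between orbits of points with the same stabilizer -/
noncomputable def orbMap {Y Y' : Type*} [MulAction K Y] [MulAction K Y'] (y₀ : Y) (y₀' : Y') :
    orbitSub (K := K) y₀ → orbitSub (K := K) y₀' :=
  fun a => ⟨(Classical.choose (mem_orbitSub.mp a.2)) • y₀', _, rfl⟩

theorem orbMap_apply {Y Y' : Type*} [MulAction K Y] [MulAction K Y'] {y₀ : Y} {y₀' : Y'}
    (hst : stabilizer K y₀ = stabilizer K y₀') (k : K) (hk : k • y₀ ∈ orbitSub (K := K) y₀) :
    (orbMap y₀ y₀' ⟨k • y₀, hk⟩ : Y') = k • y₀' := by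
  have h1 : (Classical.choose (mem_orbitSub.mp hk)) • y₀ = k • y₀ :=
    Classical.choose_spec (mem_orbitSub.mp hk)
  have h2 : k⁻¹ * Classical.choose (mem_orbitSub.mp hk) ∈ stabilizer K y₀ := by
    rw [mem_stabilizer_iff, mul_smul, h1, inv_smul_smul]
  rw [hst, mem_stabilizer_iff, mul_smul] at h2
  show (Classical.choose (mem_orbitSub.mp hk)) • y₀' = k • y₀'
  calc (Classical.choose (mem_orbitSub.mp hk)) • y₀'
      = k • (k⁻¹ • (Classical.choose (mem_orbitSub.mp hk)) • y₀') := by rw [smul_inv_smul]
    _ = k • y₀' := by rw [h2]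

theorem smul_mem_orbitSub {Y : Type*} [MulAction K Y] (y₀ : Y) (k : K) :
    k • y₀ ∈ orbitSub (K := K) y₀ := mem_orbitSub.mpr ⟨k, rfl⟩

theorem orbMap_apply' {Y Y' : Type*} [MulAction K Y] [MulAction K Y'] {y₀ : Y} {y₀' : Y'}
    (hst : stabilizer K y₀ = stabilizer K y₀') (k : K) :
    orbMap (K := K) y₀ y₀' ⟨k • y₀, smul_mem_orbitSub y₀ k⟩ = ⟨k • y₀', smul_mem_orbitSub y₀' k⟩ :=
  Subtype.ext (orbMap_apply hst k _)

theorem exists_orbit_equiv {Y Y' : Type*} [MulAction K Y] [MulAction K Y'] {y₀ : Y} {y₀' : Y'}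
    (hst : stabilizer K y₀ = stabilizer K y₀') :
    ∃ g : orbitSub (K := K) y₀ ≃ orbitSub (K := K) y₀',
      ∀ (k : K) (a : orbitSub (K := K) y₀), g (k • a) = k • g a := by
  have h1 : ∀ a, orbMap (K := K) y₀' y₀ (orbMap (K := K) y₀ y₀' a) = a := by
    intro a
    obtain ⟨k, hk⟩ := mem_orbitSub.mp a.2
    have e : a = ⟨k • y₀, smul_mem_orbitSub y₀ k⟩ := Subtype.ext hk.symm
    rw [e, orbMap_apply' hst, orbMap_apply' hst.symm]
  have h2 : ∀ a, orbMap (K := K) y₀ y₀' (orbMap (K := K) y₀' y₀ a) = a := by
    intro a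
    obtain ⟨k, hk⟩ := mem_orbitSub.mp a.2
    have e : a = ⟨k • y₀', smul_mem_orbitSub y₀' k⟩ := Subtype.ext hk.symm
    rw [e, orbMap_apply' hst.symm, orbMap_apply' hst]
  refine ⟨⟨orbMap (K := K) y₀ y₀', orbMap (K := K) y₀' y₀, h1, h2⟩, ?_⟩
  intro g a
  obtain ⟨k, hk⟩ := mem_orbitSub.mp a.2
  have e : a = ⟨k • y₀, smul_mem_orbitSub y₀ k⟩ := Subtype.ext hk.symm
  have e1 : g • (⟨k • y₀, smul_mem_orbitSub y₀ k⟩ : orbitSub (K := K) y₀) =
      ⟨(g * k) • y₀, smul_mem_orbitSub y₀ (g * k)⟩ :=
    Subtype.ext (mul_smul g k y₀).symm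
  show orbMap (K := K) y₀ y₀' (g • a) = g • orbMap (K := K) y₀ y₀' a
  rw [e, e1, orbMap_apply' hst, orbMap_apply' hst]
  exact Subtype.ext (mul_smul g k y₀')

/-- gluing equivariant bijections on an orbit and on its complement -/
theorem exists_glue {Y Y' : Type*} [MulAction K Y] [MulAction K Y'] (y₀ : Y) (y₀' : Y')
    (g : orbitSub (K := K) y₀ ≃ orbitSub (K := K) y₀')
    (hg : ∀ (k : K) (a : orbitSub (K := K) y₀), g (k • a) = k • g a)
    (h : complSub (K := K) y₀ ≃ complSub (K := K) y₀')
    (hh : ∀ (k : K) (a : complSub (K := K) y₀), h (k • a) = k • h a) :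
    ∃ f : Y ≃ Y', ∀ (k : K) (y : Y), f (k • y) = k • f y := by
  classical
  let F : Y → Y' := fun y => if hy : y ∈ orbitSub (K := K) y₀ then (g ⟨y, hy⟩ : Y') else
    (h ⟨y, hy⟩ : Y')
  let F' : Y' → Y := fun y => if hy : y ∈ orbitSub (K := K) y₀' then (g.symm ⟨y, hy⟩ : Y) else
    (h.symm ⟨y, hy⟩ : Y)
  have hF1 : ∀ y (hy : y ∈ orbitSub (K := K) y₀), F y = g ⟨y, hy⟩ := fun y hy => dif_pos hy
  have hF2 : ∀ y (hy : y ∉ orbitSub (K := K) y₀), F y = h ⟨y, hy⟩ := fun y hy => dif_neg hy
  have hF'1 : ∀ y (hy : y ∈ orbitSub (K := K) y₀'), F' y = g.symm ⟨y, hy⟩ := fun y hy => dif_pos hy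
  have hF'2 : ∀ y (hy : y ∉ orbitSub (K := K) y₀'), F' y = h.symm ⟨y, hy⟩ := fun y hy => dif_neg hy
  refine ⟨⟨F, F', fun y => ?_, fun y => ?_⟩, fun k y => ?_⟩
  · by_cases hy : y ∈ orbitSub (K := K) y₀
    · rw [hF1 y hy, hF'1 _ (g ⟨y, hy⟩).2]
      simp
    · rw [hF2 y hy, hF'2 _ (h ⟨y, hy⟩).2]
      simp
  · by_cases hy : y ∈ orbitSub (K := K) y₀'
    · rw [hF'1 y hy, hF1 _ (g.symm ⟨y, hy⟩).2]
      simp
    · rw [hF'2 y hy, hF2 _ (h.symm ⟨y, hy⟩).2]
      simp
  · show F (k • y) = k • F y
    by_cases hy : y ∈ orbitSub (K := K) y₀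
    · have hky : k • y ∈ orbitSub (K := K) y₀ := (orbitSub y₀).smul_mem k hy
      rw [hF1 y hy, hF1 _ hky]
      have := hg k ⟨y, hy⟩
      exact congrArg Subtype.val this
    · have hky : k • y ∉ orbitSub (K := K) y₀ := (complSub y₀).smul_mem k hy
      rw [hF2 y hy, hF2 _ hky]
      have := hh k ⟨y, hy⟩
      exact congrArg Subtype.val this

theorem mkCount_bot (Z : Type*) [MulAction K Z] : mkCount (⊥ : Subgroup K) Z = Nat.card Z := by
  unfold mkCount
  exact Nat.card_congr (Equiv.subtypeUnivEquiv fun z => bot_le)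

/-- **Burnside**: finite `K`-sets with the same marks are isomorphic. -/
theorem exists_equiv_of_mkCount_eq [Finite K] (n : ℕ) :
    ∀ {Y : Type*} {Y' : Type*} [MulAction K Y] [MulAction K Y'] [Finite Y] [Finite Y'],
      Nat.card Y = n → (∀ V : Subgroup K, mkCount V Y = mkCount V Y') →
      ∃ f : Y ≃ Y', ∀ (k : K) (y : Y), f (k • y) = k • f y := by
  induction n using Nat.strong_induction_on with
  | _ n ih =>
    intro Y Y' _ _ _ _ hn hmk
    have hcard : Nat.card Y = Nat.card Y' := by
      rw [← mkCount_bot (K := K) Y, ← mkCount_bot (K := K) Y', hmk]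
    rcases Nat.eq_zero_or_pos n with h0 | hpos
    · subst h0
      have e1 : IsEmpty Y :=
        (Nat.card_eq_zero.mp hn).resolve_right (not_infinite_iff_finite.mpr inferInstance)
      have e2 : IsEmpty Y' :=
        (Nat.card_eq_zero.mp (hcard ▸ hn)).resolve_right (not_infinite_iff_finite.mpr inferInstance)
      exact ⟨Equiv.equivOfIsEmpty Y Y', fun k y => e1.elim y⟩
    · have hne : Nonempty Y := by
        rw [← hn] at hpos
        exact (Nat.card_pos_iff.mp hpos).1
      obtain ⟨y₀⟩ := hne
      -- a point of `Y'` with the same stabilizer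
      have hex : exCount (stabilizer K y₀) Y = exCount (stabilizer K y₀) Y' :=
        exCount_eq_of_mkCount_eq _ fun V _ => hmk V
      have hpos' : 0 < exCount (stabilizer K y₀) Y := by
        unfold exCount
        rw [Nat.card_pos_iff]
        exact ⟨⟨⟨y₀, rfl⟩⟩, inferInstance⟩
      rw [hex] at hpos'
      unfold exCount at hpos'
      obtain ⟨⟨⟨y₀', hst'⟩⟩, -⟩ := Nat.card_pos_iff.mp hpos'
      have hst : stabilizer K y₀ = stabilizer K y₀' := hst'.symm
      obtain ⟨g, hg⟩ := exists_orbit_equiv hst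
      -- the complements have the same marks
      have hmk' : ∀ V : Subgroup K,
          mkCount V (complSub (K := K) y₀) = mkCount V (complSub (K := K) y₀') := by
        intro V
        have h1 := mkCount_split y₀ V
        have h2 := mkCount_split y₀' V
        have h3 := mkCount_congr g hg V
        have h4 := hmk V
        omega
      have hlt : Nat.card (complSub (K := K) y₀) < n := by
        rw [← hn]
        have h1 := mkCount_split y₀ (⊥ : Subgroup K)
        rw [mkCount_bot, mkCount_bot, mkCount_bot] at h1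
        have h2 : 0 < Nat.card (orbitSub (K := K) y₀) := by
          rw [Nat.card_pos_iff]
          exact ⟨⟨⟨y₀, 1, one_smul K y₀⟩⟩, inferInstance⟩
        omega
      obtain ⟨h, hh⟩ := ih _ hlt rfl hmk'
      exact exists_glue y₀ y₀' g hg h hh

/-! ### The congruence -/

theorem dvd_card_of_card_stabilizer [Finite K] {Z : Type*} [MulAction K Z] [Finite Z] (d : ℕ)
    (h : ∀ z : Z, Nat.card (stabilizer K z) = d) : (Nat.card K / d) ∣ Nat.card Z := by
  classical
  have := Fintype.ofFinite K
  have := Fintype.ofFinite Z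
  have h1 := card_eq_sum_card_group_div_card_stabilizer K Z
  rw [Nat.card_eq_fintype_card, Nat.card_eq_fintype_card, h1]
  apply Finset.dvd_sum
  intro ω _
  have h2 := h (Quotient.out ω)
  rw [Nat.card_eq_fintype_card] at h2
  rw [h2]

/-- the points with stabilizer exactly `D`, when `D` fixes every point -/
def exactSub [Finite K] {Y : Type*} [MulAction K Y] (D : Subgroup K)
    (hD : ∀ y : Y, D ≤ stabilizer K y) : SubMulAction K Y where
  carrier := {y | stabilizer K y = D}
  smul_mem' := by
    intro k y hy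
    have hy' : stabilizer K y = D := hy
    show stabilizer K (k • y) = D
    symm
    apply Subgroup.eq_of_le_of_card_ge (hD _)
    rw [stabilizer_smul_eq_stabilizer_map_conj, hy']
    exact (Nat.card_congr (Subgroup.equivMapOfInjective D _ (MulAut.conj k).injective).toEquiv).symm.le

open Classical in
theorem card_eq_exCount_add [Finite K] [Fintype (Subgroup K)] {Z : Type*} [MulAction K Z] [Finite Z]
    (D : Subgroup K) (hZ : ∀ z : Z, D ≤ stabilizer K z) :
    Nat.card Z = exCount D Z + ∑ V ∈ Finset.univ.filter (fun V : Subgroup K => D < V),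
      exCount V Z ∧ (Nat.card K / Nat.card D) ∣ exCount D Z := by
  constructor
  · rw [← mkCount_eq_add]
    unfold mkCount
    exact (Nat.card_congr (Equiv.subtypeUnivEquiv hZ)).symm
  · have h1 : exCount D Z = Nat.card (exactSub D hZ) := rfl
    rw [h1]
    apply dvd_card_of_card_stabilizer
    intro z
    rw [SubMulAction.stabilizer_of_subMul]
    have : stabilizer K (z : Z) = D := z.2
    rw [this]

/-- If `D` fixes all points of `Y` and `Y'` and the marks of all `V > D` agree, then the cardinalities of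
`Y` and `Y'` are congruent modulo `|K : D|`. -/
theorem card_modEq_of_mkCount_eq [Finite K] {Y Y' : Type*} [MulAction K Y] [MulAction K Y']
    [Finite Y] [Finite Y'] (D : Subgroup K) (hD : ∀ y : Y, D ≤ stabilizer K y)
    (hD' : ∀ y : Y', D ≤ stabilizer K y)
    (h : ∀ V : Subgroup K, D < V → mkCount V Y = mkCount V Y') :
    Nat.card Y ≡ Nat.card Y' [MOD Nat.card K / Nat.card D] := by
  classical
  have := Fintype.ofFinite (Subgroup K)
  obtain ⟨h1, h2⟩ := card_eq_exCount_add D hD
  obtain ⟨h3, h4⟩ := card_eq_exCount_add D hD'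
  have h5 : ∑ V ∈ Finset.univ.filter (fun V : Subgroup K => D < V), exCount V Y =
      ∑ V ∈ Finset.univ.filter (fun V : Subgroup K => D < V), exCount V Y' := by
    apply Finset.sum_congr rfl
    intro V hV
    have hV' : D < V := by simpa using hV
    exact exCount_eq_of_mkCount_eq V fun W hW => h W (lt_of_lt_of_le hV' hW)
  rw [h1, h3, h5]
  apply Nat.ModEq.add_right
  exact (Nat.modEq_zero_iff_dvd.mpr h2).trans (Nat.modEq_zero_iff_dvd.mpr h4).symm

/-! ### Pulling back an action along a homomorphism -/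

/-- `X` with the action pulled back along `j : K →* G` -/
def Pull {G : Type*} [Group G] (_j : K →* G) (X : Type*) := X

instance {G : Type*} [Group G] (j : K →* G) (X : Type*) [MulAction G X] : MulAction K (Pull j X) :=
  MulAction.compHom X j

instance {G : Type*} [Group G] (j : K →* G) (X : Type*) [Finite X] : Finite (Pull j X) :=
  inferInstanceAs (Finite X)

theorem Pull.smul_def {G : Type*} [Group G] (j : K →* G) (X : Type*) [MulAction G X] (k : K)
    (x : Pull j X) : k • x = (show X from (j k • (show X from x))) := rfl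

theorem mkCount_pull {G : Type*} [Group G] (j : K →* G) (X : Type*) [MulAction G X]
    (V : Subgroup K) : mkCount V (Pull j X) = mkCount (V.map j) X := by
  unfold mkCount
  refine Nat.card_congr (Equiv.subtypeEquiv (Equiv.refl _) fun x => ?_)
  constructor
  · rintro h _ ⟨v, hv, rfl⟩
    exact h hv
  · intro h v hv
    exact h ⟨v, hv, rfl⟩

/-- two pullbacks of an action with the same marks are isomorphic -/
theorem exists_equiv_of_hom [Finite K] {G : Type*} [Group G] {X : Type*} [MulAction G X] [Finite X]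
    (j₁ j₂ : K →* G) (h : ∀ V : Subgroup K, mkCount (V.map j₁) X = mkCount (V.map j₂) X) :
    ∃ f : X ≃ X, ∀ (k : K) (x : X), f (j₁ k • x) = j₂ k • f x := by
  have h' : ∀ V : Subgroup K, mkCount V (Pull j₁ X) = mkCount V (Pull j₂ X) := by
    intro V
    rw [mkCount_pull, mkCount_pull, h]
  obtain ⟨f, hf⟩ := exists_equiv_of_mkCount_eq (K := K) _ (Y := Pull j₁ X) (Y' := Pull j₂ X) rfl h'
  exact ⟨f, hf⟩

end Cfsg.Agent.Lib.Helper88
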