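import Cfsg.Agent.Lib.Helper87.Lemma26
import Cfsg.Agent.Lib.Helper87.Alperin
import Cfsg.Agent.Lib.Helper87.ConstrainedNormal
import Cfsg.Agent.Lib.Helper87.EssentialCrit
import Cfsg.Agent.Lib.Helper85.Model

set_option autoImplicit false

/-!
# From a realization with a normal centric subgroup to a model

Let the saturated system `F` over `S` be realized by `ι : S → N`, with `ι(Q)` normal in `N` for a subgroup
`Q` normal in `F` and containing its centralizer in `S`.  If `K` is a normal subgroup of `N` centralizing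
`ι(Q)`, meeting `ι(S)` trivially, with `C_N(ι(Q)) = ι(Z(Q)) K`, and `ι(S) K` has index prime to `p`, then
`N ⧸ K` is a model of `F`.
-/

namespace Cfsg.Agent.Lib.Helper88

open Cfsg Cfsg.FusionSystem
open Cfsg.Agent.Lib.Helper87 (restrict_mem hom_le hom_mem_S subtype_mem)

variable {Ω : Type*} [Group Ω] {S : Subgroup Ω}

theorem isModel_quotient [Finite S] {p : ℕ} [Fact p.Prime] (hS : IsPGroup p S)
    (F : FusionSystem S) (hF : F.IsSaturated p) {Q : Subgroup Ω} (hQn : F.IsNormal Q)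
    {N : Type*} [Group N] [Finite N] (ι : S →* N) (hreal : F.IsRealizedBy ι)
    (hQN : ∀ (n : N) (u : S), (u : Ω) ∈ Q → ∃ v : S, (v : Ω) ∈ Q ∧ n * ι u * n⁻¹ = ι v)
    (K : Subgroup N) [hKn : K.Normal]
    (hKC : ∀ k ∈ K, ∀ u : S, (u : Ω) ∈ Q → k * ι u = ι u * k)
    (hK1 : ∀ s : S, ι s ∈ K → s = 1)
    (hCK : ∀ c : N, (∀ u : S, (u : Ω) ∈ Q → c * ι u = ι u * c) →
      ∃ z : S, (z : Ω) ∈ Q ∧ c * (ι z)⁻¹ ∈ K)
    (hidx : ¬ p ∣ (ι.range ⊔ K).index) :
    F.IsModel p (N ⧸ K) ((QuotientGroup.mk' K).comp ι) := by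
  classical
  obtain ⟨hinj, hre⟩ := hreal
  have hQS : Q ≤ S := hQn.1
  have hsc : F.StronglyClosed Q := Cfsg.Agent.Lib.Helper87.stronglyClosed_of_isNormal F hQn
  have hwc : F.WeaklyClosed Q := Cfsg.Agent.Lib.Helper87.weaklyClosed_of_stronglyClosed F hsc
  have hSN : S ≤ Subgroup.normalizer (Q : Set Ω) :=
    Cfsg.Agent.Lib.Helper87.stronglyClosed_le_normalizer F hsc
  have hfn : F.IsFullyNormalized Q :=
    Cfsg.Agent.Lib.Helper87.fullyNormalized_of_le_normalizer F hQS hSN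
  have hrec : F.IsReceptive Q := Cfsg.Agent.Lib.Helper87.receptive_of_fullyNormalized hS F hF hfn
  set ι' : S →* N ⧸ K := (QuotientGroup.mk' K).comp ι with hι'
  have hι'app : ∀ s : S, ι' s = ((ι s : N) : N ⧸ K) := fun s => rfl
  -- injectivity
  have hinj' : Function.Injective ι' := by
    intro s t hst
    rw [hι'app, hι'app, QuotientGroup.eq] at hst
    have h1 : ι (s⁻¹ * t) ∈ K := by
      rw [map_mul, map_inv]
      exact hst
    have h2 := hK1 _ h1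
    exact inv_mul_eq_one.mp h2
  refine ⟨inferInstance, ⟨hinj', ?_⟩, ?_, ?_⟩
  · -- realization
    intro P hP φ hφS
    constructor
    · intro hφ
      obtain ⟨n, hn⟩ := (hre P hP φ hφS).mp hφ
      refine ⟨(n : N ⧸ K), fun x => ?_⟩
      rw [hι'app, hι'app, hn x]
      rfl
    · rintro ⟨g, hg⟩
      obtain ⟨n, rfl⟩ := QuotientGroup.mk_surjective g
      -- the automorphism of `Q` induced by `n`
      obtain ⟨α, hαS, hα⟩ := Cfsg.Agent.Lib.Helper85.exists_transported_hom ι hinj hQS n (by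
        intro x
        obtain ⟨v, -, hv⟩ := hQN n ⟨x, hQS x.2⟩ x.2
        exact ⟨v, hv.symm⟩)
      have hαF : α ∈ F.Hom Q := (hre Q hQS α hαS).mpr ⟨n, hα⟩
      have hαr : α.range = Q := hwc.2 α hαF
      have hαQ : ∀ u : Q, α u ∈ Q := by
        intro u
        have h0 : α u ∈ α.range := ⟨u, rfl⟩
        exact hαr.le h0
      obtain ⟨ψ, hψ, hψe⟩ := hrec.2 Q α hαF hαr
      -- `P` lies in the extender
      have hk : ∀ x : P, (n * ι ⟨x, hP x.2⟩ * n⁻¹)⁻¹ * ι ⟨φ x, hφS x⟩ ∈ K := by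
        intro x
        have h1 := hg x
        rw [hι'app, hι'app] at h1
        have h2 : ((ι ⟨φ x, hφS x⟩ : N) : N ⧸ K) = ((n * ι ⟨x, hP x.2⟩ * n⁻¹ : N) : N ⧸ K) := by
          rw [h1]
          rfl
        exact QuotientGroup.eq.mp h2.symm
      have hPE : P ≤ extender S Q α := by
        intro x hx
        refine Subgroup.subset_closure ⟨hP hx, hSN (hP hx), φ ⟨x, hx⟩, hφS _, fun u hu => ?_⟩
        have hk1 := hk ⟨x, hx⟩
        set k := (n * ι ⟨x, hP hx⟩ * n⁻¹)⁻¹ * ι ⟨φ ⟨x, hx⟩, hφS _⟩ with hkdef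
        have e1 : ι ⟨φ ⟨x, hx⟩, hφS _⟩ = n * ι ⟨x, hP hx⟩ * n⁻¹ * k := by
          rw [hkdef, mul_inv_cancel_left]
        have hcomm := hKC k hk1 ⟨α u, hαS u⟩ (hαQ u)
        have e2 : ι ⟨α ⟨x * (u : Ω) * x⁻¹, hu⟩, hαS _⟩ =
            ι (⟨φ ⟨x, hx⟩, hφS _⟩ * ⟨α u, hαS u⟩ * ⟨φ ⟨x, hx⟩, hφS _⟩⁻¹) := by
          rw [hα, map_mul, map_mul, map_inv, e1, hα u]
          have e3 : (⟨x * (u : Ω) * x⁻¹, hQS hu⟩ : S) =
              ⟨x, hP hx⟩ * ⟨u, hQS u.2⟩ * ⟨x, hP hx⟩⁻¹ := rfl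
          have e4 : ι ⟨((⟨x * (u : Ω) * x⁻¹, hu⟩ : Q) : Ω), hQS hu⟩ =
              ι ⟨x, hP hx⟩ * ι ⟨u, hQS u.2⟩ * (ι ⟨x, hP hx⟩)⁻¹ := by
            rw [← map_inv, ← map_mul, ← map_mul]
            rfl
          rw [e4]
          have hcomm' : k * (n * ι ⟨u, hQS u.2⟩ * n⁻¹) = (n * ι ⟨u, hQS u.2⟩ * n⁻¹) * k := by
            rw [← hα u]
            exact hcomm
          calc n * (ι ⟨x, hP hx⟩ * ι ⟨u, hQS u.2⟩ * (ι ⟨x, hP hx⟩)⁻¹) * n⁻¹
              = n * ι ⟨x, hP hx⟩ * n⁻¹ * (n * ι ⟨u, hQS u.2⟩ * n⁻¹) *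
                  (n * ι ⟨x, hP hx⟩ * n⁻¹)⁻¹ := by group
            _ = n * ι ⟨x, hP hx⟩ * n⁻¹ * ((n * ι ⟨u, hQS u.2⟩ * n⁻¹) * k * k⁻¹) *
                  (n * ι ⟨x, hP hx⟩ * n⁻¹)⁻¹ := by rw [mul_inv_cancel_right]
            _ = n * ι ⟨x, hP hx⟩ * n⁻¹ * (k * (n * ι ⟨u, hQS u.2⟩ * n⁻¹) * k⁻¹) *
                  (n * ι ⟨x, hP hx⟩ * n⁻¹)⁻¹ := by rw [hcomm']
            _ = n * ι ⟨x, hP hx⟩ * n⁻¹ * k * (n * ι ⟨u, hQS u.2⟩ * n⁻¹) *
                  (n * ι ⟨x, hP hx⟩ * n⁻¹ * k)⁻¹ := by group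
        have e5 := hinj e2
        exact congrArg (fun s : S => (s : Ω)) e5
      have hQE : Q ≤ extender S Q α := Cfsg.Agent.Lib.Helper87.self_le_extender F hαF
      have hES : extender S Q α ≤ S := hom_le F hψ
      have hψS := hom_mem_S F hψ
      obtain ⟨n', hn'⟩ := (hre _ hES ψ hψS).mp hψ
      -- `n'⁻¹ n` centralizes `ι(Q)`
      have hc : ∀ u : S, (u : Ω) ∈ Q → (n'⁻¹ * n) * ι u = ι u * (n'⁻¹ * n) := by
        intro u hu
        have h1 := hn' ⟨u, hQE hu⟩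
        have h2 := hα ⟨u, hu⟩
        have h3 : (⟨ψ ⟨u, hQE hu⟩, hψS _⟩ : S) = ⟨α ⟨u, hu⟩, hαS _⟩ :=
          Subtype.ext (hψe u hu (hQE hu))
        rw [h3, h2] at h1
        have h4 : n * ι u * n⁻¹ = n' * ι u * n'⁻¹ := h1
        calc n'⁻¹ * n * ι u = n'⁻¹ * (n * ι u * n⁻¹) * n := by group
          _ = n'⁻¹ * (n' * ι u * n'⁻¹) * n := by rw [h4]
          _ = ι u * (n'⁻¹ * n) := by group
      obtain ⟨z, hzQ, hzK⟩ := hCK _ hc
      set k₀ := n'⁻¹ * n * (ι z)⁻¹ with hk₀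
      have hn : n = n' * k₀ * ι z := by
        rw [hk₀]
        group
      have hzE : (z : Ω) ∈ extender S Q α := hQE hzQ
      have hconjE : ∀ x : P, (z : Ω) * x * (z : Ω)⁻¹ ∈ extender S Q α := fun x =>
        (extender S Q α).mul_mem ((extender S Q α).mul_mem hzE (hPE x.2))
          ((extender S Q α).inv_mem hzE)
      have hval : ∀ x : P, φ x = ψ ⟨(z : Ω) * x * (z : Ω)⁻¹, hconjE x⟩ := by
        intro x
        have h1 := hg x
        have h2 := hn' ⟨(z : Ω) * x * (z : Ω)⁻¹, hconjE x⟩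
        have e1 : (⟨(z : Ω) * x * (z : Ω)⁻¹, hES (hconjE x)⟩ : S) = z * ⟨x, hP x.2⟩ * z⁻¹ := rfl
        rw [e1, map_mul, map_mul, map_inv] at h2
        have h3 : ι' ⟨ψ ⟨(z : Ω) * x * (z : Ω)⁻¹, hconjE x⟩, hψS _⟩ = ι' ⟨φ x, hφS x⟩ := by
          rw [h1, hι'app, hι'app, h2]
          have hk0 : ((k₀ : N) : N ⧸ K) = 1 := (QuotientGroup.eq_one_iff _).mpr hzK
          conv_rhs => rw [hn]
          simp only [QuotientGroup.mk_mul, QuotientGroup.mk_inv, hk0]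
          group
        exact (congrArg (fun s : S => (s : Ω)) (hinj' h3)).symm
      have hcz : conjHom P (z : Ω) ∈ F.Hom P := F.conj_mem hP z.2
      have hcomp := F.comp_mem hcz hψ (fun x => hconjE x)
      have e : φ = ψ.comp ((conjHom P (z : Ω)).codRestrict (extender S Q α) fun x => hconjE x) := by
        ext x
        rw [hval x]
        rfl
      rw [e]
      exact hcomp
  · -- Sylow
    have hp : IsPGroup p (ι'.range) := by
      have h1 : IsPGroup p (⊤ : Subgroup S) := IsPGroup.of_equiv hS Subgroup.topEquiv.symm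
      have h2 := h1.map ι'
      rwa [← MonoidHom.range_eq_map] at h2
    have hi : ι'.range.index = (ι.range ⊔ K).index := by
      have e : ι'.range = ι.range.map (QuotientGroup.mk' K) := by
        rw [hι', MonoidHom.range_comp]
      rw [e, Subgroup.index_map, QuotientGroup.ker_mk', QuotientGroup.range_mk', Subgroup.index_top,
        mul_one]
    exact ⟨hp.toSylow (by rw [hi]; exact hidx), rfl⟩
  · -- the centralizer of the core
    set Qb : Subgroup (N ⧸ K) := (Q.subgroupOf S).map ι' with hQb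
    have hQbn : Qb.Normal := by
      constructor
      rintro _ ⟨u, hu, rfl⟩ g
      obtain ⟨n, rfl⟩ := QuotientGroup.mk_surjective g
      obtain ⟨v, hv, hnv⟩ := hQN n u hu
      refine ⟨v, hv, ?_⟩
      rw [hι'app, hι'app, ← hnv]
      rfl
    have hQbp : IsPGroup p Qb := by
      have h1 : IsPGroup p (Q.subgroupOf S) := hS.to_subgroup _
      exact h1.map ι'
    have hQbcore : Qb ≤ pCore p (N ⧸ K) := le_sSup ⟨hQbn, hQbp⟩
    intro g hg
    obtain ⟨n, rfl⟩ := QuotientGroup.mk_surjective g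
    have hc : ∀ u : S, (u : Ω) ∈ Q → n * ι u = ι u * n := by
      intro u hu
      obtain ⟨v, hv, hnv⟩ := hQN n u hu
      have h1 : ι' u ∈ pCore p (N ⧸ K) := hQbcore ⟨u, hu, rfl⟩
      have h2 := hg _ h1
      have h3 : ι' v = ι' u := by
        rw [hι'app v, ← hnv]
        have h4 : ((n * ι u * n⁻¹ : N) : N ⧸ K) = (n : N ⧸ K) * ι' u * (n : N ⧸ K)⁻¹ := rfl
        rw [h4, ← h2, mul_inv_cancel_right]
      have h5 := hinj' h3
      rw [h5] at hnv
      calc n * ι u = n * ι u * n⁻¹ * n := by group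
        _ = ι u * n := by rw [hnv]
    obtain ⟨z, hzQ, hzK⟩ := hCK n hc
    have h1 : ((n : N) : N ⧸ K) = ι' z := by
      rw [hι'app, QuotientGroup.eq]
      have h2 := hKn.conj_mem _ hzK n⁻¹
      have h3 := K.inv_mem h2
      have e : (n⁻¹ * (n * (ι z)⁻¹) * n⁻¹⁻¹)⁻¹ = n⁻¹ * ι z := by group
      rwa [e] at h3
    rw [h1]
    exact hQbcore ⟨z, hzQ, rfl⟩

end Cfsg.Agent.Lib.Helper88
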