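import Cfsg.Agent.Lib.Helper88.ModelHom
import Cfsg.Agent.Lib.Helper87.NormalizerConstrained
import Cfsg.Agent.Lib.Helper85.FullyNormalized

set_option autoImplicit false

/-!
# Embedding a model of a local subsystem into the model of a normalizer system
-/

namespace Cfsg.Agent.Lib.Helper88

open Cfsg Cfsg.FusionSystem
open Cfsg.Agent.Lib.Helper87 (hom_le hom_mem_S subtype_mem restrict_mem cast_mem comp_mem' inv_exists
  finite_of_le map_subgroupOf_eq_iff)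

variable {Ω : Type*} [Group Ω] {S : Subgroup Ω}

/-- a map of the system defined on a subgroup `B` between `X` and `N_S(X)`, with values in `N_S(X)`, mapping
`X` into `X`, is a map of the normalizer system -/
theorem mem_normalizerHom_of_le [Finite S] (F : FusionSystem S) {X B : Subgroup Ω} (hXB : X ≤ B)
    (hBN : B ≤ normalizerIn S X) {ξ : B →* Ω} (hξ : ξ ∈ F.Hom B)
    (hξN : ∀ y : B, ξ y ∈ normalizerIn S X) (hξX : ∀ y : B, (y : Ω) ∈ X → ξ y ∈ X) :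
    ξ ∈ F.normalizerHom X B := by
  have hle : B ⊔ X ≤ B := sup_le le_rfl hXB
  have hXS : X ≤ S := hXB.trans (hBN.trans inf_le_left)
  have hfinX : Finite X := finite_of_le hXS
  refine ⟨hξ, hBN, hξN, ξ.comp (Subgroup.inclusion hle), restrict_mem F hξ hle, fun x => rfl, ?_⟩
  rw [map_subgroupOf_eq_iff]
  constructor
  · intro y hy
    exact hξX _ hy
  · intro q hq
    let f : X → X := fun u => ⟨ξ ⟨u, hXB u.2⟩, hξX _ u.2⟩
    have hinj : Function.Injective f := by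
      intro a b hab
      have h1 : ξ ⟨a, hXB a.2⟩ = ξ ⟨b, hXB b.2⟩ := congrArg (fun z : X => (z : Ω)) hab
      have h2 := F.injective_of_mem hξ h1
      exact Subtype.ext (congrArg (fun z : B => (z : Ω)) h2)
    obtain ⟨u, hu⟩ := (Finite.injective_iff_surjective.mp hinj) ⟨q, hq⟩
    refine ⟨⟨u, (le_sup_right : X ≤ B ⊔ X) u.2⟩, u.2, ?_⟩
    exact congrArg (fun z : X => (z : Ω)) hu

/-- **Embedding of models.** Let `M` be a subsystem of the saturated system `F`, over `T₀ ≤ N_S(R)`, in which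
`R` is normal and contains its centralizer.  If `X` is a fully normalized conjugate of `R` containing its
centralizer in `S`, every model of `M` embeds in every model of `N_F(X)`. -/
theorem exists_model_embedding [Finite S] {p : ℕ} [Fact p.Prime] (hS : IsPGroup p S)
    (F : FusionSystem S) (hF : F.IsSaturated p)
    {T₀ : Subgroup Ω} (M : FusionSystem T₀) (hsub : ∀ A : Subgroup Ω, M.Hom A ⊆ F.Hom A)
    {R : Subgroup Ω} (hRn : M.IsNormal R) (hRc : centralizerIn T₀ R ≤ R)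
    (hT₀N : T₀ ≤ normalizerIn S R)
    {X : Subgroup Ω} (hXfn : F.IsFullyNormalized X) (hXc : centralizerIn S X ≤ X)
    (hconj : F.IsConj R X)
    (NX : FusionSystem (normalizerIn S X)) (hNX : F.IsNormalizerSystem X NX)
    {LX : Type*} [Group LX] (ιX : normalizerIn S X →* LX) (hLX : NX.IsModel p LX ιX)
    {L : Type*} [Group L] (ι : T₀ →* L) (hL : M.IsModel p L ι) :
    ∃ Φ : L →* LX, Function.Injective Φ := by
  classical
  obtain ⟨hfinL, hRL, ⟨TL, hTL⟩, -⟩ := id hL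
  obtain ⟨hfinLX, hRLX, ⟨TLX, hTLX⟩, -⟩ := id hLX
  have hinj : Function.Injective ι := hRL.1
  have hinjX : Function.Injective ιX := hRLX.1
  have hT₀S : T₀ ≤ S := hT₀N.trans inf_le_left
  have hfinT₀ : Finite T₀ := finite_of_le hT₀S
  have hT₀p : IsPGroup p T₀ := hS.to_le hT₀S
  have hXS : X ≤ S := hXfn.1
  have hRT₀ : R ≤ T₀ := hRn.1
  have hfinNX : Finite (normalizerIn S X) := finite_of_le inf_le_left
  have hNXp : IsPGroup p (normalizerIn S X) := hS.to_le inf_le_left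
  have hXn : NX.IsNormal X := Cfsg.Agent.Lib.Helper87.normalizerSystem_isNormal F hXS hNX
  have hXcN : centralizerIn (normalizerIn S X) X ≤ X := fun x hx => hXc ⟨hx.1.1, hx.2⟩
  -- the map `χ`
  obtain ⟨χ, hχ, hχN, hχR, hχsurj⟩ :=
    Cfsg.Agent.Lib.Helper85.exists_hom_normalizer_of_fullyNormalized hS F hF hXfn hconj
  have hχinj : Function.Injective χ := F.injective_of_mem hχ
  let j₀ : T₀ →* normalizerIn S X :=
    (χ.comp (Subgroup.inclusion hT₀N)).codRestrict (normalizerIn S X) (fun x => hχN _)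
  have hj₀ : ∀ s : T₀, ((j₀ s : normalizerIn S X) : Ω) = χ ⟨s, hT₀N s.2⟩ := fun s => rfl
  have hj₀inj : Function.Injective j₀ := by
    intro a b hab
    have h1 : χ ⟨a, hT₀N a.2⟩ = χ ⟨b, hT₀N b.2⟩ := congrArg (fun z : normalizerIn S X => (z : Ω)) hab
    exact Subtype.ext (congrArg (fun z : normalizerIn S R => (z : Ω)) (hχinj h1))
  let j : T₀ →* LX := ιX.comp j₀
  have hjinj : Function.Injective j := hinjX.comp hj₀inj
  -- `s ∈ R` iff `χ s ∈ X`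
  have hRX : ∀ s : T₀, (s : Ω) ∈ R ↔ ((j₀ s : normalizerIn S X) : Ω) ∈ X := by
    intro s
    constructor
    · intro hs
      exact hχR ⟨s, hT₀N s.2⟩ hs
    · intro hs
      obtain ⟨x, hxR, hx⟩ := hχsurj _ hs
      have h1 : x = ⟨s, hT₀N s.2⟩ := hχinj hx
      rw [h1] at hxR
      exact hxR
  -- the normal subgroups
  let N₁ : Subgroup L := (R.subgroupOf T₀).map ι
  let N₂ : Subgroup LX := (X.subgroupOf (normalizerIn S X)).map ιX
  haveI hN₁n : N₁.Normal := Cfsg.Agent.Lib.Helper87.model_map_normal hL hRn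
  haveI hN₂n : N₂.Normal := Cfsg.Agent.Lib.Helper87.model_map_normal hLX hXn
  have hN₁ : N₁ ≤ ι.range := by
    rintro _ ⟨s, -, rfl⟩
    exact ⟨s, rfl⟩
  have hmemN₁ : ∀ s : T₀, ι s ∈ N₁ ↔ (s : Ω) ∈ R := by
    intro s
    constructor
    · rintro ⟨s', hs', h⟩
      rw [← hinj h]
      exact Subgroup.mem_subgroupOf.mp hs'
    · intro hs
      exact ⟨s, Subgroup.mem_subgroupOf.mpr hs, rfl⟩
  have hmemN₂ : ∀ s : normalizerIn S X, ιX s ∈ N₂ ↔ (s : Ω) ∈ X := by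
    intro s
    constructor
    · rintro ⟨s', hs', h⟩
      rw [← hinjX h]
      exact Subgroup.mem_subgroupOf.mp hs'
    · intro hs
      exact ⟨s, Subgroup.mem_subgroupOf.mpr hs, rfl⟩
  have hN₂ : N₂ ≤ j.range := by
    rintro _ ⟨y, hy, rfl⟩
    have hyX : (y : Ω) ∈ X := Subgroup.mem_subgroupOf.mp hy
    obtain ⟨x, hxR, hx⟩ := hχsurj _ hyX
    refine ⟨⟨x, hRT₀ hxR⟩, ?_⟩
    show ιX (j₀ ⟨x, hRT₀ hxR⟩) = ιX y
    congr 1
    apply Subtype.ext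
    rw [hj₀]
    exact hx
  have hN : ∀ s : T₀, ι s ∈ N₁ ↔ j s ∈ N₂ := by
    intro s
    rw [hmemN₁]
    show _ ↔ ιX (j₀ s) ∈ N₂
    rw [hmemN₂, hRX]
  have hc₂ : Subgroup.centralizer (N₂ : Set LX) ≤ N₂ := model_centralizer_le hNXp NX ιX hLX hXn hXcN
  have hc₁ : Subgroup.centralizer (N₁ : Set L) ≤ N₁ := model_centralizer_le hT₀p M ι hL hRn hRc
  have hidx : ¬ p ∣ ι.range.index := by
    rw [← hTL]
    exact TL.not_dvd_index
  -- matching
  have hM : ∀ g₁ : L, ∃ g₂ : LX, ∀ a b : T₀, ι a * g₁ = g₁ * ι b → j a * g₂ = g₂ * j b := by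
    intro g₁
    let N : Subgroup L := ι.range.comap (MulAut.conj g₁).toMonoidHom
    let A : Subgroup Ω := preN ι N
    have hAT : A ≤ T₀ := preN_le ι N
    have hg : ∀ x : A, g₁ * ι ⟨x, hAT x.2⟩ * g₁⁻¹ ∈ ι.range := fun x => preN_mem ι N x.2
    have hψT : ∀ x : A, liftConj ι hinj hAT g₁ hg x ∈ T₀ := liftConj_mem ι hinj hAT g₁ hg
    have hψ : liftConj ι hinj hAT g₁ hg ∈ M.Hom A :=
      (hRL.2 A hAT _ hψT).mpr ⟨g₁, fun x => ι_liftConj ι hinj hAT g₁ hg x _⟩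
    set ψ := liftConj ι hinj hAT g₁ hg with hψdef
    obtain ⟨ψ₁, hψ₁, hψ₁e, hψ₁R⟩ := hRn.2 A ψ hψ
    obtain ⟨hψ₁R1, -⟩ := (map_subgroupOf_eq_iff ψ₁).mp hψ₁R
    have hψ₁F : ψ₁ ∈ F.Hom (A ⊔ R) := hsub _ hψ₁
    have hAR : A ⊔ R ≤ T₀ := hom_le M hψ₁
    have hARN : A ⊔ R ≤ normalizerIn S R := hAR.trans hT₀N
    have hψ₁T : ∀ x : ↥(A ⊔ R), ψ₁ x ∈ T₀ := hom_mem_S M hψ₁
    have hχ₁ : χ.comp (Subgroup.inclusion hARN) ∈ F.Hom (A ⊔ R) := restrict_mem F hχ hARN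
    set χ₁ := χ.comp (Subgroup.inclusion hARN) with hχ₁def
    obtain ⟨ρ, hρ, hρinv, hρr⟩ := inv_exists F hχ₁ rfl
    have hρAR : ∀ y : χ₁.range, ρ y ∈ A ⊔ R := by
      intro y
      exact hρr.le ⟨y, rfl⟩
    obtain ⟨ξ₁, hξ₁, hξ₁v⟩ := comp_mem' F hρ hψ₁F hρAR
    have hξ₁N : ∀ y : χ₁.range, ξ₁ y ∈ normalizerIn S R := by
      intro y
      rw [hξ₁v]
      exact hT₀N (hψ₁T _)
    obtain ⟨ξ, hξ, hξv⟩ := comp_mem' F hξ₁ hχ hξ₁N
    -- the key formula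
    have hkey : ∀ x : ↥(A ⊔ R), ξ ⟨χ₁ x, ⟨x, rfl⟩⟩ = χ ⟨ψ₁ x, hT₀N (hψ₁T x)⟩ := by
      intro x
      rw [hξv]
      congr 1
      apply Subtype.ext
      show ξ₁ ⟨χ₁ x, ⟨x, rfl⟩⟩ = ψ₁ x
      rw [hξ₁v]
      congr 1
      apply Subtype.ext
      exact hρinv x ⟨x, rfl⟩
    -- `ξ` is a map of the normalizer system of `X`
    have hBN : χ₁.range ≤ normalizerIn S X := by
      rintro _ ⟨x, rfl⟩
      exact hχN _
    have hXB : X ≤ χ₁.range := by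
      intro y hy
      obtain ⟨x, hxR, hx⟩ := hχsurj y hy
      refine ⟨⟨x, (le_sup_right : R ≤ A ⊔ R) hxR⟩, ?_⟩
      rw [← hx]
      rfl
    have hξN : ∀ y : χ₁.range, ξ y ∈ normalizerIn S X := by
      intro y
      rw [hξv]
      exact hχN _
    have hξX : ∀ y : χ₁.range, (y : Ω) ∈ X → ξ y ∈ X := by
      intro y hy
      obtain ⟨x, hxR, hx⟩ := hχsurj _ hy
      have hxAR : (x : Ω) ∈ A ⊔ R := (le_sup_right : R ≤ A ⊔ R) hxR
      have hy' : y = ⟨χ₁ ⟨x, hxAR⟩, ⟨⟨x, hxAR⟩, rfl⟩⟩ := by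
        apply Subtype.ext
        rw [← hx]
        rfl
      rw [hy', hkey]
      apply hχR
      exact hψ₁R1 ⟨x, hxAR⟩ hxR
    have hξNX : ξ ∈ NX.Hom χ₁.range := by
      rw [hNX]
      exact mem_normalizerHom_of_le F hXB hBN hξ hξN hξX
    obtain ⟨g₂, hg₂⟩ := (hRLX.2 χ₁.range hBN ξ hξN).mp hξNX
    refine ⟨g₂, fun a b hab => ?_⟩
    have h1 : g₁ * ι b * g₁⁻¹ = ι a := by
      rw [← hab]
      group
    have hbA : (b : Ω) ∈ A := by
      refine mem_preN.mpr ⟨b.2, ?_⟩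
      show g₁ * ι ⟨(b : Ω), b.2⟩ * g₁⁻¹ ∈ ι.range
      rw [Subtype.coe_eta, h1]
      exact ⟨a, rfl⟩
    have h2 := ι_liftConj ι hinj hAT g₁ hg ⟨b, hbA⟩ (hψT _)
    have h3 : (⟨((⟨(b : Ω), hbA⟩ : A) : Ω), hAT hbA⟩ : T₀) = b := Subtype.ext rfl
    rw [h3, h1] at h2
    have h4 : ψ ⟨b, hbA⟩ = (a : Ω) := congrArg (fun z : T₀ => (z : Ω)) (hinj h2)
    -- the element of `A ⊔ R`
    let x : ↥(A ⊔ R) := ⟨b, (le_sup_left : A ≤ A ⊔ R) hbA⟩
    have h5 : ψ₁ x = (a : Ω) := by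
      rw [← h4]
      exact hψ₁e ⟨b, hbA⟩
    have h6 := hg₂ ⟨χ₁ x, ⟨x, rfl⟩⟩
    have e1 : (⟨ξ ⟨χ₁ x, ⟨x, rfl⟩⟩, hξN _⟩ : normalizerIn S X) = j₀ a := by
      apply Subtype.ext
      show ξ ⟨χ₁ x, ⟨x, rfl⟩⟩ = _
      rw [hkey, hj₀]
      congr 1
      exact Subtype.ext h5
    have e2 : (⟨((⟨χ₁ x, ⟨x, rfl⟩⟩ : χ₁.range) : Ω), hBN (⟨χ₁ x, ⟨x, rfl⟩⟩ : χ₁.range).2⟩ :
        normalizerIn S X) = j₀ b := by
      apply Subtype.ext
      rfl
    rw [e1, e2] at h6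
    show ιX (j₀ a) * g₂ = g₂ * ιX (j₀ b)
    rw [h6]
    group
  obtain ⟨Φ, hΦ⟩ := exists_hom_of_match hT₀p ι j hidx N₁ N₂ hN₁ hN₂ hN hc₂ hM
  refine ⟨Φ, injective_of_hom ι j N₁ hN₁ hc₁ ?_ Φ hΦ⟩
  intro s _ hs
  have : s = 1 := hjinj (by rw [hs, map_one])
  rw [this, map_one]

end Cfsg.Agent.Lib.Helper88
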