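import Cfsg.Agent.Lib.Helper88.SectionFreeRadical

set_option autoImplicit false

/-!
# The model of a constrained system without sections isomorphic to `H`
-/

namespace Cfsg.Agent.Lib.Helper88

open Cfsg Cfsg.FusionSystem
open Cfsg.Agent.Lib.Helper87 (hom_le hom_mem_S finite_of_le)

universe u

variable {Ω : Type u} [Group Ω] {S : Subgroup Ω}

/-- the normalizer system of a normal subgroup has the maps of the system -/
theorem normalizerSystem_hom_eq_of_isNormal [Finite S] (F : FusionSystem S) {Q : Subgroup Ω}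
    (hQn : F.IsNormal Q) (N : FusionSystem (normalizerIn S Q)) (hN : F.IsNormalizerSystem Q N)
    (P : Subgroup Ω) : N.Hom P = F.Hom P := by
  have hSN : S ≤ Subgroup.normalizer (Q : Set Ω) :=
    Cfsg.Agent.Lib.Helper87.stronglyClosed_le_normalizer F
      (Cfsg.Agent.Lib.Helper87.stronglyClosed_of_isNormal F hQn)
  have hle : S ≤ normalizerIn S Q := fun s hs => ⟨hs, hSN hs⟩
  rw [hN P]
  ext φ
  constructor
  · intro h
    exact h.1
  · intro h
    exact ⟨h, (hom_le F h).trans hle, fun x => hle (hom_mem_S F h x), hQn.2 P φ h⟩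

/-- **The model of a constrained system without sections isomorphic to `H`** has no section isomorphic to
`H`. -/
theorem exists_model_not_involves [Finite S] {p : ℕ} [Fact p.Prime] (hS : IsPGroup p S)
    (F : FusionSystem S) (hcon : F.IsConstrained p) (H : Type*) [Group H]
    (hfree : F.IsSectionFree p H) :
    ∃ (G : Type u) (_ : Group G) (ι : S →* G), F.IsModel p G ι ∧ ¬ Involves H G := by
  obtain ⟨hsat, Q, hQn, hQc⟩ := hcon
  have hQS : Q ≤ S := hQn.1
  have hSN : S ≤ Subgroup.normalizer (Q : Set Ω) :=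
    Cfsg.Agent.Lib.Helper87.stronglyClosed_le_normalizer F
      (Cfsg.Agent.Lib.Helper87.stronglyClosed_of_isNormal F hQn)
  have hle : S ≤ normalizerIn S Q := fun s hs => ⟨hs, hSN hs⟩
  have hfn : F.IsFullyNormalized Q :=
    Cfsg.Agent.Lib.Helper87.fullyNormalized_of_le_normalizer F hQS hSN
  let N := Cfsg.Agent.Lib.Helper84.normalizerSystem F Q hQS
  have hN : F.IsNormalizerSystem Q N := Cfsg.Agent.Lib.Helper84.normalizerSystem_spec F Q hQS
  obtain ⟨L, _, ιN, hL⟩ := exists_model_normalizerSystem hS F hsat hfn hQc N hN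
  have hLfree : ¬ Involves H L := hfree Q hfn hQc N hN L ιN hL
  obtain ⟨hfinL, ⟨hinj, hreal⟩, ⟨T, hT⟩, hcore⟩ := hL
  refine ⟨L, inferInstance, ιN.comp (Subgroup.inclusion hle), ⟨hfinL, ⟨?_, ?_⟩, ⟨T, ?_⟩, hcore⟩,
    hLfree⟩
  · exact hinj.comp (Subgroup.inclusion_injective hle)
  · intro P hP φ hφ
    rw [← normalizerSystem_hom_eq_of_isNormal F hQn N hN P]
    exact hreal P (hP.trans hle) φ (fun x => hle (hφ x))
  · rw [hT]
    ext y
    constructor
    · rintro ⟨s, rfl⟩
      exact ⟨⟨s, s.2.1⟩, rfl⟩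
    · rintro ⟨s, rfl⟩
      exact ⟨_, rfl⟩

end Cfsg.Agent.Lib.Helper88
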