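import Cfsg.Agent.Lib.Helper88.ModelUnique
import Cfsg.Agent.Lib.Helper87.ModelCore
import Cfsg.Agent.Lib.Helper24.PxQ

set_option autoImplicit false

/-!
# Homomorphisms between models from matching elements

A finite group `L₁` with Sylow `p`-subgroup `T` and a group `L₂` receiving `T`, with corresponding normal
subgroups inside the images of `T`, the second one containing its centralizer: if every element of `L₁` is
matched by an element of `L₂` (intertwining the same pairs of elements of `T`), there is a homomorphism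
`L₁ → L₂` over `T`.
-/

namespace Cfsg.Agent.Lib.Helper88

open Cfsg Cfsg.FusionSystem

section abstract

variable {T L₁ L₂ : Type*} [Group T] [Group L₁] [Group L₂]

theorem exists_hom_of_match [Finite T] [Finite L₁] {p : ℕ} [Fact p.Prime] (hT : IsPGroup p T)
    (ι₁ : T →* L₁) (j : T →* L₂) (hidx : ¬ p ∣ ι₁.range.index)
    (N₁ : Subgroup L₁) [N₁.Normal] (N₂ : Subgroup L₂) [N₂.Normal]
    (hN₁ : N₁ ≤ ι₁.range) (hN₂ : N₂ ≤ j.range) (hN : ∀ s : T, ι₁ s ∈ N₁ ↔ j s ∈ N₂)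
    (hc₂ : Subgroup.centralizer (N₂ : Set L₂) ≤ N₂)
    (hM : ∀ g₁ : L₁, ∃ g₂ : L₂, ∀ a b : T, ι₁ a * g₁ = g₁ * ι₁ b → j a * g₂ = g₂ * j b) :
    ∃ Φ : L₁ →* L₂, ∀ s : T, Φ (ι₁ s) = j s := by
  obtain ⟨σ, hσ⟩ := exists_bisetMap ι₁ j hM
  obtain ⟨φ, hφ, -⟩ := exists_hom_of_bisetMap hT ι₁ j hidx N₁ N₂ hN₁ hN₂ hN hc₂ σ hσ
  exact ⟨φ, hφ⟩

theorem injective_of_hom (ι₁ : T →* L₁) (j : T →* L₂)
    (N₁ : Subgroup L₁) [hN₁n : N₁.Normal] (hN₁ : N₁ ≤ ι₁.range)
    (hc₁ : Subgroup.centralizer (N₁ : Set L₁) ≤ N₁)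
    (hj : ∀ s : T, ι₁ s ∈ N₁ → j s = 1 → ι₁ s = 1)
    (Φ : L₁ →* L₂) (hΦ : ∀ s : T, Φ (ι₁ s) = j s) : Function.Injective Φ := by
  rw [injective_iff_map_eq_one]
  intro x hx
  have hxc : x ∈ Subgroup.centralizer (N₁ : Set L₁) := by
    rw [Subgroup.mem_centralizer_iff]
    intro n hn
    obtain ⟨s, rfl⟩ := hN₁ hn
    have h1 : x * ι₁ s * x⁻¹ ∈ N₁ := hN₁n.conj_mem _ hn x
    obtain ⟨s', hs'⟩ := hN₁ h1
    have h2 : j s' = j s := by
      rw [← hΦ, ← hΦ, hs', map_mul, map_mul, hx, map_inv, hx]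
      group
    have h3 : ι₁ (s' * s⁻¹) ∈ N₁ := by
      rw [map_mul, map_inv]
      exact N₁.mul_mem (hs' ▸ h1) (N₁.inv_mem hn)
    have h4 : j (s' * s⁻¹) = 1 := by rw [map_mul, map_inv, h2, mul_inv_cancel]
    have h5 := hj _ h3 h4
    rw [map_mul, map_inv, mul_inv_eq_one] at h5
    rw [h5] at hs'
    calc ι₁ s * x = x * ι₁ s * x⁻¹ * x := by rw [← hs']
      _ = x * ι₁ s := by group
  obtain ⟨s, rfl⟩ := hN₁ (hc₁ hxc)
  exact hj s (hc₁ hxc) (by rw [← hΦ, hx])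

theorem surjective_of_hom (ι₁ : T →* L₁) (j : T →* L₂)
    (N₂ : Subgroup L₂) (hN₂ : N₂ ≤ j.range)
    (hc₂ : Subgroup.centralizer (N₂ : Set L₂) ≤ N₂)
    (Φ : L₁ →* L₂) (hΦ : ∀ s : T, Φ (ι₁ s) = j s)
    (hrev : ∀ g₂ : L₂, ∃ g₁ : L₁, ∀ s : T, j s ∈ N₂ →
      ∃ s' : T, g₁ * ι₁ s * g₁⁻¹ = ι₁ s' ∧ g₂ * j s * g₂⁻¹ = j s') :
    Function.Surjective Φ := by
  intro g₂
  obtain ⟨g₁, hg₁⟩ := hrev g₂
  have hc : (Φ g₁)⁻¹ * g₂ ∈ Subgroup.centralizer (N₂ : Set L₂) := by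
    rw [Subgroup.mem_centralizer_iff]
    intro n hn
    obtain ⟨s, rfl⟩ := hN₂ hn
    obtain ⟨s', h1, h2⟩ := hg₁ s hn
    have h3 : Φ g₁ * j s * (Φ g₁)⁻¹ = g₂ * j s * g₂⁻¹ := by
      rw [h2, ← hΦ s', ← h1, map_mul, map_mul, map_inv, hΦ]
    calc j s * ((Φ g₁)⁻¹ * g₂) = (Φ g₁)⁻¹ * (Φ g₁ * j s * (Φ g₁)⁻¹) * g₂ := by group
      _ = (Φ g₁)⁻¹ * (g₂ * j s * g₂⁻¹) * g₂ := by rw [h3]
      _ = (Φ g₁)⁻¹ * g₂ * j s := by group
  obtain ⟨s₀, hs₀⟩ := hN₂ (hc₂ hc)
  refine ⟨g₁ * ι₁ s₀, ?_⟩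
  rw [map_mul, hΦ, hs₀]
  group

end abstract

section centralizer

variable {Ω : Type*} [Group Ω] {T : Subgroup Ω}

/-- In a model, the image of a normal subgroup containing its centralizer contains its centralizer. -/
theorem model_centralizer_le [Finite T] {p : ℕ} [Fact p.Prime] (hT : IsPGroup p T)
    (E : FusionSystem T) {L : Type*} [Group L] (ι : T →* L) (hm : E.IsModel p L ι)
    {X : Subgroup Ω} (hXn : E.IsNormal X) (hXc : centralizerIn T X ≤ X) :
    Subgroup.centralizer (((X.subgroupOf T).map ι : Subgroup L) : Set L) ≤ (X.subgroupOf T).map ι := by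
  obtain ⟨hfin, hR, ⟨Tsyl, hTsyl⟩, hcen⟩ := id hm
  have hinj : Function.Injective ι := hR.1
  have hp : p.Prime := Fact.out
  set XL : Subgroup L := (X.subgroupOf T).map ι with hXL
  have hXLn : XL.Normal := Cfsg.Agent.Lib.Helper87.model_map_normal hm hXn
  have hXLp : IsPGroup p XL := (hT.to_subgroup (X.subgroupOf T)).map ι
  set U : Subgroup L := pCore p L with hU
  have hUn : U.Normal := Cfsg.Agent.Lib.Helper84.pCore_normal p L
  have hUp : IsPGroup p U := Cfsg.Agent.Lib.Helper84.pCore_isPGroup p L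
  have hUr : U ≤ ι.range := hTsyl ▸ Cfsg.Agent.Lib.Helper84.pCore_le_sylow Tsyl
  -- elements of the image of `T` centralizing `XL` lie in `XL`
  have hkey : ∀ t : T, ι t ∈ Subgroup.centralizer (XL : Set L) → ι t ∈ XL := by
    intro t ht
    rw [Subgroup.mem_centralizer_iff] at ht
    have htX : (t : Ω) ∈ X := by
      apply hXc
      refine ⟨t.2, ?_⟩
      show (t : Ω) ∈ Subgroup.centralizer (X : Set Ω)
      rw [Subgroup.mem_centralizer_iff]
      intro x hx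
      have hxT : x ∈ T := hXn.1 hx
      have h1 := ht (ι ⟨x, hxT⟩) ⟨⟨x, hxT⟩, Subgroup.mem_subgroupOf.mpr hx, rfl⟩
      rw [← map_mul, ← map_mul] at h1
      exact congrArg (fun s : T => (s : Ω)) (hinj h1)
    exact ⟨t, Subgroup.mem_subgroupOf.mpr htX, rfl⟩
  -- elements of the centralizer of order prime to `p` are trivial
  have hstep1 : ∀ c ∈ Subgroup.centralizer (XL : Set L), (orderOf c).Coprime p → c = 1 := by
    intro c hc hcop
    have hQ : (Nat.card (Subgroup.zpowers c)).Coprime p := by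
      rw [Nat.card_zpowers]
      exact hcop
    have hPQ : XL ≤ Subgroup.centralizer ((Subgroup.zpowers c : Subgroup L) : Set L) := by
      intro x hx
      rw [Subgroup.mem_centralizer_iff]
      rintro _ ⟨k, rfl⟩
      rw [Subgroup.mem_centralizer_iff] at hc
      have h1 : Commute c x := (hc x hx).symm
      exact (h1.zpow_left k).eq
    have hPU : XL ≤ Subgroup.normalizer (U : Set L) := by
      rw [Subgroup.normalizer_eq_top]
      exact le_top
    have hQU : Subgroup.zpowers c ≤ Subgroup.normalizer (U : Set L) := by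
      rw [Subgroup.normalizer_eq_top]
      exact le_top
    have hC : U ⊓ Subgroup.centralizer (XL : Set L) ≤
        Subgroup.centralizer ((Subgroup.zpowers c : Subgroup L) : Set L) := by
      rintro y ⟨hyU, hyC⟩
      obtain ⟨t, rfl⟩ := hUr hyU
      have h1 : ι t ∈ XL := hkey t hyC
      exact hPQ h1
    have h2 := Cfsg.Agent.Lib.Helper24.thompson_PxQ XL (Subgroup.zpowers c) U hXLp hQ hUp hPQ hPU hQU hC
    have h3 : c ∈ Subgroup.centralizer (U : Set L) := h2 (Subgroup.mem_zpowers c)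
    have h4 : c ∈ U := hcen h3
    obtain ⟨k, hk⟩ := hUp ⟨c, h4⟩
    have hk' : c ^ p ^ k = 1 := congrArg (fun u : U => (u : L)) hk
    exact eq_one_of_pow_of_coprime hk' hcop
  -- the centralizer is a `p`-group
  have hstep2 : IsPGroup p (Subgroup.centralizer (XL : Set L)) := by
    intro c
    have hn : orderOf (c : L) ≠ 0 := (orderOf_pos (c : L)).ne'
    obtain ⟨a, m, hm', hnm⟩ := Nat.exists_eq_pow_mul_and_not_dvd hn p hp.ne_one
    refine ⟨a, ?_⟩
    have h1 : ((c : L) ^ p ^ a) ^ m = 1 := by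
      rw [← pow_mul, ← hnm, pow_orderOf_eq_one]
    have h2 : orderOf ((c : L) ^ p ^ a) ∣ m := orderOf_dvd_of_pow_eq_one h1
    have h3 : (orderOf ((c : L) ^ p ^ a)).Coprime p :=
      Nat.Coprime.coprime_dvd_left h2 ((Nat.Prime.coprime_iff_not_dvd hp).mpr hm').symm
    have h4 := hstep1 _ (Subgroup.pow_mem _ c.2 _) h3
    exact Subtype.ext h4
  have hCn : (Subgroup.centralizer (XL : Set L)).Normal := Subgroup.normal_centralizer
  have hCU : Subgroup.centralizer (XL : Set L) ≤ U := Cfsg.Agent.Lib.Helper84.le_pCore hCn hstep2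
  intro c hc
  obtain ⟨t, rfl⟩ := hUr (hCU hc)
  exact hkey t hc

end centralizer

end Cfsg.Agent.Lib.Helper88
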