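import Cfsg.Agent.Lib.Helper88.ModelParkN

set_option autoImplicit false

/-!
# The index of the stabilizer of the right orbit in the normalizer of `Q`
-/

namespace Cfsg.Agent.Lib.Helper88

open Cfsg Cfsg.FusionSystem MulAction

variable {Ω : Type*} [Group Ω] {S : Subgroup Ω}

theorem parkι_mem_parkStab' {m : Subgroup (S × S) → ℕ} {x₀ : OrbSum m}
    (hx₀ : stabilizer (S × S) x₀ = diagS S) {Q : Subgroup Ω} {k : ParkGroup m}
    (hk : k ∈ parkQ m Q) : k ∈ parkStab m x₀ := by
  obtain ⟨u, -, rfl⟩ := mem_parkQ.mp hk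
  exact parkι_mem_parkStab hx₀ u

theorem parkN_index [Finite S] {p : ℕ} [Fact p.Prime] (hS : IsPGroup p S) (F : FusionSystem S)
    {m : Subgroup (S × S) → ℕ} (hgen : Gen F m) (hstab : StabGe F m 0) {x₀ : OrbSum m}
    (hx₀ : stabilizer (S × S) x₀ = diagS S) {Q : Subgroup Ω} (hQn : F.IsNormal Q)
    (hcard : ∃ n, Nat.card (OrbSum m) = n * Nat.card S ∧ ¬ p ∣ n) :
    ¬ p ∣ ((parkStab m x₀).subgroupOf (parkN m Q)).index := by
  classical
  obtain ⟨n, hn, hpn⟩ := hcard
  have hidx : (parkStab m x₀).index = n := by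
    have h1 := index_parkStab hgen x₀
    rw [hn] at h1
    exact Nat.eq_of_mul_eq_mul_right Nat.card_pos h1
  have hfinX : Finite (OrbSum m) := by
    apply Nat.finite_of_card_ne_zero
    rw [hn]
    intro h0
    rcases Nat.mul_eq_zero.mp h0 with h | h
    · rw [h] at hpn
      exact hpn (dvd_zero p)
    · exact Nat.card_pos.ne' h
  have hfinG : Finite (ParkGroup m) := inferInstance
  -- the base coset
  let c₀ : ParkGroup m ⧸ parkStab m x₀ := QuotientGroup.mk 1
  have hstab0 : stabilizer (parkN m Q) c₀ = (parkStab m x₀).subgroupOf (parkN m Q) := by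
    ext k
    rw [mem_stabilizer_iff, Subgroup.mem_subgroupOf]
    show (QuotientGroup.mk ((k : ParkGroup m) * 1) : ParkGroup m ⧸ parkStab m x₀) = QuotientGroup.mk 1 ↔ _
    rw [QuotientGroup.eq, mul_one, inv_mem_iff, mul_one]
  have hQp : IsPGroup p (parkQ m Q) := by
    have h1 : IsPGroup p (Q.subgroupOf S) := hS.to_subgroup _
    exact h1.map (parkι m)
  have horb : orbit (parkN m Q) c₀ = fixedPoints (parkQ m Q) (ParkGroup m ⧸ parkStab m x₀) := by
    ext c
    constructor
    · rintro ⟨k, rfl⟩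
      intro q
      show (q : ParkGroup m) • ((k : ParkGroup m) • c₀) = (k : ParkGroup m) • c₀
      show (QuotientGroup.mk ((q : ParkGroup m) * ((k : ParkGroup m) * 1)) :
        ParkGroup m ⧸ parkStab m x₀) = QuotientGroup.mk ((k : ParkGroup m) * 1)
      rw [QuotientGroup.eq, mul_one]
      have h1 : (k : ParkGroup m)⁻¹ * (q : ParkGroup m)⁻¹ * ((k : ParkGroup m)⁻¹)⁻¹ ∈ parkQ m Q := by
        have hk : (k : ParkGroup m)⁻¹ ∈ parkN m Q := (parkN m Q).inv_mem k.2
        exact (Subgroup.mem_normalizer_iff.mp hk _).mp ((parkQ m Q).inv_mem q.2)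
      have h2 := parkι_mem_parkStab' hx₀ h1
      have e : ((q : ParkGroup m) * (k : ParkGroup m))⁻¹ * (k : ParkGroup m) =
          (k : ParkGroup m)⁻¹ * (q : ParkGroup m)⁻¹ * ((k : ParkGroup m)⁻¹)⁻¹ := by group
      rw [e]
      exact h2
    · intro hc
      induction c using QuotientGroup.induction_on with
      | H g =>
        have hg : ∀ u : S, (u : Ω) ∈ Q → g⁻¹ * parkι m u * g ∈ parkStab m x₀ := by
          intro u hu
          have h1 := hc ⟨parkι m u, mem_parkQ.mpr ⟨u, hu, rfl⟩⟩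
          have h2 : (QuotientGroup.mk (parkι m u * g) : ParkGroup m ⧸ parkStab m x₀) =
              QuotientGroup.mk g := h1
          rw [QuotientGroup.eq] at h2
          have h3 := (parkStab m x₀).inv_mem h2
          have e : ((parkι m u * g)⁻¹ * g)⁻¹ = g⁻¹ * parkι m u * g := by group
          rwa [e] at h3
        obtain ⟨k, hkN, hk⟩ := exists_parkN_smul F hgen hstab hx₀ hQn g hg
        refine ⟨⟨k, hkN⟩, ?_⟩
        show (QuotientGroup.mk (k * 1) : ParkGroup m ⧸ parkStab m x₀) = QuotientGroup.mk g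
        rw [QuotientGroup.eq, mul_one]
        refine ⟨1, ?_⟩
        show k.1⁻¹ (g.1 x₀) = _
        rw [← hk, Equiv.Perm.inv_def, Equiv.symm_apply_apply]
        have e : (((1 : S), (1 : S)) : S × S) = 1 := rfl
        rw [e, one_smul]
  rw [← hstab0, index_stabilizer, horb, ← Nat.card_coe_set_eq]
  have hmod := hQp.card_modEq_card_fixedPoints (ParkGroup m ⧸ parkStab m x₀)
  rw [← Subgroup.index_eq_card, hidx] at hmod
  intro hdvd
  apply hpn
  exact (Nat.modEq_zero_iff_dvd.mp (hmod.trans (Nat.modEq_zero_iff_dvd.mpr hdvd)))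
end Cfsg.Agent.Lib.Helper88
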