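import Cfsg.Agent.Lib.Helper88.Averaging
import Cfsg.Agent.Lib.Helper88.ModelAbstract
import Cfsg.Agent.Lib.Helper2.TransferNat
import Cfsg.Agent.Lib.Helper72.SylowProd

set_option autoImplicit false

/-!
# A model from a realization with a retraction

Let the saturated system `F` over `S` be realized by `ι : S → N` with `ι(Q)` normal in `N`, where `Q` is normal
in `F` and contains its centralizer in `S`.  If a subgroup `N₀` of `N` of index prime to `p` contains `ι(S)`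
and has a homomorphism `ϕ : N₀ → S` with `ϕ ∘ ι = id`, then a quotient of `N` is a model of `F`.
-/

namespace Cfsg.Agent.Lib.Helper88

open Cfsg Cfsg.FusionSystem

theorem transfer_of_central {G : Type*} [Group G] {H : Subgroup G} [H.FiniteIndex] {A : Type*}
    [CommGroup A] (ϕ : H →* A) (g : G) (hg : g ∈ Subgroup.center G) (hgH : g ∈ H) :
    MonoidHom.transfer ϕ g = ϕ ⟨g, hgH⟩ ^ H.index := by
  have key : ∀ (k : ℕ) (g₀ : G), g₀⁻¹ * g ^ k * g₀ ∈ H → g₀⁻¹ * g ^ k * g₀ = g ^ k := by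
    intro k g₀ _
    have h1 : g ^ k ∈ Subgroup.center G := Subgroup.pow_mem _ hg k
    rw [Subgroup.mem_center_iff] at h1
    rw [mul_assoc, ← h1 g₀, inv_mul_cancel_left]
  rw [MonoidHom.transfer_eq_pow ϕ g key, ← map_pow]
  rfl

variable {Ω : Type*} [Group Ω] {S : Subgroup Ω}

theorem exists_model_of_retraction [Finite S] {p : ℕ} [Fact p.Prime] (hS : IsPGroup p S)
    (F : FusionSystem S) (hF : F.IsSaturated p) {Q : Subgroup Ω} (hQn : F.IsNormal Q)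
    (hQc : centralizerIn S Q ≤ Q)
    {N : Type*} [Group N] [Finite N] (ι : S →* N) (hreal : F.IsRealizedBy ι)
    (hQN : ∀ (n : N) (u : S), (u : Ω) ∈ Q → ∃ v : S, (v : Ω) ∈ Q ∧ n * ι u * n⁻¹ = ι v)
    (N₀ : Subgroup N) (ϕ : N₀ →* S) (hιN₀ : ∀ s : S, ι s ∈ N₀)
    (hϕι : ∀ s : S, ϕ ⟨ι s, hιN₀ s⟩ = s) (hidx : ¬ p ∣ N₀.index) :
    ∃ K : Subgroup N, ∃ _ : K.Normal, F.IsModel p (N ⧸ K) ((QuotientGroup.mk' K).comp ι) := by
  classical
  have hinj : Function.Injective ι := hreal.1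
  have hQS : Q ≤ S := hQn.1
  have hp : p.Prime := Fact.out
  -- centralizing `Q` in `S` means lying in the centre of `Q`
  have hcenQ : ∀ s : S, (∀ u : S, (u : Ω) ∈ Q → s * u = u * s) → (s : Ω) ∈ Q := by
    intro s hs
    apply hQc
    refine ⟨s.2, ?_⟩
    show (s : Ω) ∈ Subgroup.centralizer (Q : Set Ω)
    rw [Subgroup.mem_centralizer_iff]
    intro q hq
    have := hs ⟨q, hQS hq⟩ hq
    exact (congrArg (fun t : S => (t : Ω)) this).symm
  -- conjugation by elements of `N₀` on `ι(Q)`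
  have hconj₀ : ∀ (x : N) (hx : x ∈ N₀) (u : S), (u : Ω) ∈ Q →
      x * ι u * x⁻¹ = ι (ϕ ⟨x, hx⟩ * u * (ϕ ⟨x, hx⟩)⁻¹) := by
    intro x hx u hu
    obtain ⟨v, -, hv⟩ := hQN x u hu
    rw [hv]
    congr 1
    have h1 : (⟨ι v, hιN₀ v⟩ : N₀) = ⟨x, hx⟩ * ⟨ι u, hιN₀ u⟩ * ⟨x, hx⟩⁻¹ := Subtype.ext hv.symm
    have h2 := congrArg ϕ h1
    rw [hϕι, map_mul, map_mul, map_inv, hϕι] at h2
    exact h2
  -- the subgroups
  let QN : Subgroup N := (Q.subgroupOf S).map ι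
  have hQNmem : ∀ u : S, (u : Ω) ∈ Q → ι u ∈ QN := fun u hu => ⟨u, Subgroup.mem_subgroupOf.mpr hu, rfl⟩
  have hQNn : QN.Normal := by
    constructor
    rintro _ ⟨u, hu, rfl⟩ n
    obtain ⟨v, hv, e⟩ := hQN n u (Subgroup.mem_subgroupOf.mp hu)
    exact ⟨v, Subgroup.mem_subgroupOf.mpr hv, e.symm⟩
  let C : Subgroup N := Subgroup.centralizer (QN : Set N)
  have hCn : C.Normal := Subgroup.normal_centralizer
  have hCmem : ∀ c : N, c ∈ C ↔ ∀ u : S, (u : Ω) ∈ Q → c * ι u = ι u * c := by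
    intro c
    show c ∈ Subgroup.centralizer (QN : Set N) ↔ _
    rw [Subgroup.mem_centralizer_iff]
    constructor
    · intro h u hu
      exact (h _ (hQNmem u hu)).symm
    · rintro h _ ⟨u, hu, rfl⟩
      exact (h u (Subgroup.mem_subgroupOf.mp hu)).symm
  -- the centre of `Q`, inside `S` and inside `N`
  let ZS : Subgroup S := Q.subgroupOf S ⊓ Subgroup.centralizer ((Q.subgroupOf S : Subgroup S) : Set S)
  have hZSmem : ∀ z : S, z ∈ ZS ↔ (z : Ω) ∈ Q ∧ ∀ u : S, (u : Ω) ∈ Q → z * u = u * z := by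
    intro z
    show z ∈ Q.subgroupOf S ⊓ Subgroup.centralizer ((Q.subgroupOf S : Subgroup S) : Set S) ↔ _
    rw [Subgroup.mem_inf, Subgroup.mem_subgroupOf, Subgroup.mem_centralizer_iff]
    constructor
    · rintro ⟨h1, h2⟩
      exact ⟨h1, fun u hu => (h2 u (Subgroup.mem_subgroupOf.mpr hu)).symm⟩
    · rintro ⟨h1, h2⟩
      exact ⟨h1, fun u hu => (h2 u (Subgroup.mem_subgroupOf.mp hu)).symm⟩
  let ZN : Subgroup N := ZS.map ι
  have hZNmem : ∀ z : S, z ∈ ZS → ι z ∈ ZN := fun z hz => ⟨z, hz, rfl⟩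
  have hZNn : ZN.Normal := by
    constructor
    rintro _ ⟨z, hz, rfl⟩ n
    obtain ⟨hzQ, hzc⟩ := (hZSmem z).mp hz
    obtain ⟨v, hv, e⟩ := hQN n z hzQ
    refine ⟨v, (hZSmem v).mpr ⟨hv, fun w hw => ?_⟩, e.symm⟩
    obtain ⟨w', hw', e'⟩ := hQN n⁻¹ w hw
    rw [inv_inv] at e'
    apply hinj
    rw [map_mul, map_mul, ← e]
    have e2 : ι w = n * ι w' * n⁻¹ := by
      rw [← e']
      group
    rw [e2]
    have h3 : ι z * ι w' = ι w' * ι z := by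
      rw [← map_mul, ← map_mul, hzc w' hw']
    calc n * ι z * n⁻¹ * (n * ι w' * n⁻¹) = n * (ι z * ι w') * n⁻¹ := by group
      _ = n * (ι w' * ι z) * n⁻¹ := by rw [h3]
      _ = n * ι w' * n⁻¹ * (n * ι z * n⁻¹) := by group
  have hZNC : ZN ≤ C := by
    rintro _ ⟨z, hz, rfl⟩
    rw [hCmem]
    intro u hu
    rw [← map_mul, ← map_mul, ((hZSmem z).mp hz).2 u hu]
  letI instZN : CommGroup ZN :=
    { (inferInstance : Group ZN) with
      mul_comm := by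
        rintro ⟨_, a, ha, rfl⟩ ⟨_, b, hb, rfl⟩
        apply Subtype.ext
        show ι a * ι b = ι b * ι a
        rw [← map_mul, ← map_mul, ((hZSmem a).mp ha).2 b ((hZSmem b).mp hb).1] }
  have hZNp : IsPGroup p ZN := (hS.to_subgroup ZS).map ι
  -- the stabilizer part of the centralizer and its homomorphism to the centre
  let C₀ : Subgroup C := N₀.subgroupOf C
  have hC₀mem : ∀ c : C, c ∈ C₀ ↔ (c : N) ∈ N₀ := fun c => Subgroup.mem_subgroupOf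
  have hϕZ : ∀ (c : N) (hc : c ∈ C) (hc₀ : c ∈ N₀), ϕ ⟨c, hc₀⟩ ∈ ZS := by
    intro c hc hc₀
    have hcomm : ∀ u : S, (u : Ω) ∈ Q → ϕ ⟨c, hc₀⟩ * u = u * ϕ ⟨c, hc₀⟩ := by
      intro u hu
      have h1 : (⟨c, hc₀⟩ : N₀) * ⟨ι u, hιN₀ u⟩ = ⟨ι u, hιN₀ u⟩ * ⟨c, hc₀⟩ :=
        Subtype.ext ((hCmem c).mp hc u hu)
      have h2 := congrArg ϕ h1
      rw [map_mul, map_mul, hϕι] at h2
      exact h2
    exact (hZSmem _).mpr ⟨hcenQ _ hcomm, hcomm⟩
  let ϕ₀ : C₀ →* ZN :=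
    { toFun := fun c => ⟨ι (ϕ ⟨((c : C) : N), (hC₀mem c).mp c.2⟩),
        hZNmem _ (hϕZ _ (c : C).2 ((hC₀mem c).mp c.2))⟩
      map_one' := by
        apply Subtype.ext
        show ι (ϕ ⟨((1 : C₀) : C), _⟩) = 1
        have : (⟨(((1 : C₀) : C) : N), (hC₀mem (1 : C₀)).mp (1 : C₀).2⟩ : N₀) = 1 := rfl
        rw [this, map_one, map_one]
      map_mul' := by
        intro a b
        apply Subtype.ext
        show ι (ϕ ⟨(((a * b : C₀) : C) : N), _⟩) = ι (ϕ ⟨((a : C) : N), _⟩) * ι (ϕ ⟨((b : C) : N), _⟩)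
        have : (⟨(((a * b : C₀) : C) : N), (hC₀mem (a * b)).mp (a * b).2⟩ : N₀) =
            ⟨((a : C) : N), (hC₀mem a).mp a.2⟩ * ⟨((b : C) : N), (hC₀mem b).mp b.2⟩ := rfl
        rw [this, map_mul, map_mul] }
  have hϕ₀ : ∀ c : C₀, ((ϕ₀ c : ZN) : N) = ι (ϕ ⟨((c : C) : N), (hC₀mem c).mp c.2⟩) := fun c => rfl
  let V : C →* ZN := MonoidHom.transfer ϕ₀
  let act : N →* MulAut ZN := MulAut.conjNormal
  have hact : ∀ (n : N) (a : ZN), ((act n a : ZN) : N) = n * a * n⁻¹ := fun n a => rfl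
  -- equivariance under `N₀`
  have hV : ∀ x ∈ N₀, ∀ c : C, V (MulAut.conjNormal x c) = act x (V c) := by
    intro x hx c
    have hα : ∀ h : C, h ∈ C₀ ↔ (MulAut.conjNormal x : C ≃* C) h ∈ C₀ := by
      intro h
      rw [hC₀mem, hC₀mem, MulAut.conjNormal_apply]
      constructor
      · intro hh
        exact N₀.mul_mem (N₀.mul_mem hx hh) (N₀.inv_mem hx)
      · intro hh
        have := N₀.mul_mem (N₀.mul_mem (N₀.inv_mem hx) hh) hx
        have e : x⁻¹ * (x * (h : N) * x⁻¹) * x = h := by group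
        rwa [e] at this
    have hcomp : ϕ₀.comp (Cfsg.Agent.Lib.Helper2.restrictEquiv (MulAut.conjNormal x : C ≃* C) hα) =
        (act x).toMonoidHom.comp ϕ₀ := by
      refine MonoidHom.ext fun c₀ => Subtype.ext ?_
      show ((ϕ₀ (Cfsg.Agent.Lib.Helper2.restrictEquiv (MulAut.conjNormal x : C ≃* C) hα c₀) : ZN) : N) =
        ((act x (ϕ₀ c₀) : ZN) : N)
      rw [hϕ₀, hact, hϕ₀]
      have hc₀N : ((c₀ : C) : N) ∈ N₀ := (hC₀mem c₀).mp c₀.2
      have hz := hϕZ _ (c₀ : C).2 hc₀N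
      rw [hconj₀ x hx _ ((hZSmem _).mp hz).1]
      congr 1
      have e : (⟨(((Cfsg.Agent.Lib.Helper2.restrictEquiv (MulAut.conjNormal x : C ≃* C) hα c₀ : C₀) : C) : N),
          (hC₀mem _).mp (Cfsg.Agent.Lib.Helper2.restrictEquiv (MulAut.conjNormal x : C ≃* C) hα c₀).2⟩ : N₀) =
          ⟨x, hx⟩ * ⟨((c₀ : C) : N), hc₀N⟩ * ⟨x, hx⟩⁻¹ := rfl
      rw [e, map_mul, map_mul, map_inv]
    show MonoidHom.transfer ϕ₀ ((MulAut.conjNormal x : C ≃* C) c) = act x (MonoidHom.transfer ϕ₀ c)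
    rw [Cfsg.Agent.Lib.Helper2.transfer_equiv (MulAut.conjNormal x : C ≃* C) hα ϕ₀ c, hcomp]
    have h2 := Cfsg.Agent.Lib.Helper2.transfer_comp_hom (act x).toMonoidHom ϕ₀ c
    exact h2.symm
  -- the value of `V` on the centre of `Q`
  have hVZ : ∀ (zc : C) (hz : (zc : N) ∈ ZN), V zc = (⟨(zc : N), hz⟩ : ZN) ^ C₀.index := by
    intro zc hz
    have hcen : zc ∈ Subgroup.center C := by
      rw [Subgroup.mem_center_iff]
      intro c
      apply Subtype.ext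
      show (c : N) * zc = zc * c
      obtain ⟨z, hzS, hze⟩ := hz
      rw [← hze]
      exact (hCmem _).mp c.2 z ((hZSmem z).mp hzS).1
    have hzc₀ : zc ∈ C₀ := by
      rw [hC₀mem]
      obtain ⟨z, hzS, hze⟩ := hz
      rw [← hze]
      exact hιN₀ z
    show MonoidHom.transfer ϕ₀ zc = _
    rw [transfer_of_central ϕ₀ zc hcen hzc₀]
    congr 1
    apply Subtype.ext
    rw [hϕ₀]
    obtain ⟨z, hzS, hze⟩ := hz
    have e : (⟨(((⟨zc, hzc₀⟩ : C₀) : C) : N), (hC₀mem _).mp (⟨zc, hzc₀⟩ : C₀).2⟩ : N₀) =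
        ⟨ι z, hιN₀ z⟩ := Subtype.ext hze.symm
    rw [e, hϕι]
    exact hze
  -- the averaged homomorphism
  letI : Fintype (N ⧸ N₀) := Fintype.ofFinite _
  let W : C →* ZN := avgHom C N₀ act V
  have hWconj : ∀ (n : N) (c : C), W (MulAut.conjNormal n c) = act n (W c) :=
    avgHom_conj C N₀ act V hV
  have hWZ : ∀ (zc : C) (hz : (zc : N) ∈ ZN),
      W zc = ((⟨(zc : N), hz⟩ : ZN) ^ C₀.index) ^ Fintype.card (N ⧸ N₀) := by
    intro zc hz
    apply avgHom_eq_pow C N₀ act V zc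
    intro t
    have hz' : ((MulAut.conjNormal t⁻¹ zc : C) : N) ∈ ZN := by
      rw [MulAut.conjNormal_apply]
      exact hZNn.conj_mem _ hz _
    rw [hVZ _ hz', map_pow]
    congr 1
  -- the exponent is prime to `p`
  have he : ¬ p ∣ C₀.index := by
    intro h
    apply hidx
    have h1 : C₀.index = N₀.relIndex C := rfl
    rw [h1, ← Cfsg.Agent.Lib.Helper72.relIndex_sup_eq_relIndex] at h
    exact h.trans (Subgroup.relIndex_dvd_index_of_le le_sup_left)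
  have hd : ¬ p ∣ Fintype.card (N ⧸ N₀) := by
    rw [← Nat.card_eq_fintype_card, ← Subgroup.index_eq_card]
    exact hidx
  have hcop : p.Coprime (C₀.index * Fintype.card (N ⧸ N₀)) := by
    rw [Nat.Prime.coprime_iff_not_dvd hp]
    intro h
    rcases (Nat.Prime.dvd_mul hp).mp h with h | h
    · exact he h
    · exact hd h
  have hWZ' : ∀ (zc : C) (hz : (zc : N) ∈ ZN),
      W zc = (⟨(zc : N), hz⟩ : ZN) ^ (C₀.index * Fintype.card (N ⧸ N₀)) := by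
    intro zc hz
    rw [hWZ zc hz, pow_mul]
  -- the kernel
  let K : Subgroup N := W.ker.map C.subtype
  have hKmem : ∀ k : N, k ∈ K ↔ ∃ hk : k ∈ C, W ⟨k, hk⟩ = 1 := by
    intro k
    constructor
    · rintro ⟨c, hc, rfl⟩
      exact ⟨c.2, hc⟩
    · rintro ⟨hk, h1⟩
      exact ⟨⟨k, hk⟩, h1, rfl⟩
  have hKn : K.Normal := by
    constructor
    intro k hk n
    obtain ⟨hkC, h1⟩ := (hKmem k).mp hk
    rw [hKmem]
    refine ⟨hCn.conj_mem k hkC n, ?_⟩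
    have h2 := hWconj n ⟨k, hkC⟩
    rw [h1, map_one] at h2
    exact h2
  refine ⟨K, hKn, ?_⟩
  have hKC : ∀ k ∈ K, ∀ u : S, (u : Ω) ∈ Q → k * ι u = ι u * k := by
    intro k hk u hu
    obtain ⟨hkC, -⟩ := (hKmem k).mp hk
    exact (hCmem k).mp hkC u hu
  have hK1 : ∀ s : S, ι s ∈ K → s = 1 := by
    intro s hs
    obtain ⟨hsC, h1⟩ := (hKmem _).mp hs
    have hsZ : s ∈ ZS := by
      have hcomm : ∀ u : S, (u : Ω) ∈ Q → s * u = u * s := by
        intro u hu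
        apply hinj
        rw [map_mul, map_mul]
        exact (hCmem _).mp hsC u hu
      exact (hZSmem s).mpr ⟨hcenQ s hcomm, hcomm⟩
    rw [hWZ' ⟨ι s, hsC⟩ (hZNmem s hsZ)] at h1
    have h2 : ι (s ^ (C₀.index * Fintype.card (N ⧸ N₀))) = 1 := by
      rw [map_pow]
      exact congrArg (fun a : ZN => (a : N)) h1
    have h3 : s ^ (C₀.index * Fintype.card (N ⧸ N₀)) = 1 := by
      apply hinj
      rw [h2, map_one]
    have h4 : hS.powEquiv hcop s = hS.powEquiv hcop 1 := by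
      rw [IsPGroup.powEquiv_apply, IsPGroup.powEquiv_apply, h3, one_pow]
    exact (hS.powEquiv hcop).injective h4
  have hCK : ∀ c : N, (∀ u : S, (u : Ω) ∈ Q → c * ι u = ι u * c) →
      ∃ z : S, (z : Ω) ∈ Q ∧ c * (ι z)⁻¹ ∈ K := by
    intro c hc
    have hcC : c ∈ C := (hCmem c).mpr hc
    obtain ⟨a, ha⟩ := (hZNp.powEquiv hcop).surjective (W ⟨c, hcC⟩)
    rw [IsPGroup.powEquiv_apply] at ha
    obtain ⟨z, hzS, hze⟩ := a.2
    refine ⟨z, ((hZSmem z).mp hzS).1, ?_⟩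
    rw [hKmem]
    have hzC : ι z ∈ C := hZNC (hZNmem z hzS)
    refine ⟨C.mul_mem hcC (C.inv_mem hzC), ?_⟩
    have e : (⟨c * (ι z)⁻¹, C.mul_mem hcC (C.inv_mem hzC)⟩ : C) = ⟨c, hcC⟩ * (⟨ι z, hzC⟩ : C)⁻¹ := rfl
    rw [e, map_mul, map_inv, hWZ' ⟨ι z, hzC⟩ (hZNmem z hzS), ← ha]
    have e2 : (⟨ι z, hZNmem z hzS⟩ : ZN) = a := Subtype.ext hze
    rw [e2, mul_inv_cancel]
  have hidx' : ¬ p ∣ (ι.range ⊔ K).index := by
    intro h
    apply hidx
    refine h.trans (Subgroup.index_dvd_of_le ?_)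
    intro x hx
    have hcC : ∀ u : S, (u : Ω) ∈ Q → ((ι (ϕ ⟨x, hx⟩))⁻¹ * x) * ι u = ι u * ((ι (ϕ ⟨x, hx⟩))⁻¹ * x) := by
      intro u hu
      have h1 := hconj₀ x hx u hu
      rw [map_mul, map_mul, map_inv] at h1
      calc (ι (ϕ ⟨x, hx⟩))⁻¹ * x * ι u = (ι (ϕ ⟨x, hx⟩))⁻¹ * (x * ι u * x⁻¹) * x := by group
        _ = (ι (ϕ ⟨x, hx⟩))⁻¹ * (ι (ϕ ⟨x, hx⟩) * ι u * (ι (ϕ ⟨x, hx⟩))⁻¹) * x := by rw [h1]
        _ = ι u * ((ι (ϕ ⟨x, hx⟩))⁻¹ * x) := by group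
    obtain ⟨z, -, hzK⟩ := hCK _ hcC
    have e : x = ι (ϕ ⟨x, hx⟩) * (((ι (ϕ ⟨x, hx⟩))⁻¹ * x) * (ι z)⁻¹) * ι z := by group
    rw [e]
    refine Subgroup.mul_mem _ (Subgroup.mul_mem _ ?_ ?_) ?_
    · exact (le_sup_left : ι.range ≤ ι.range ⊔ K) ⟨_, rfl⟩
    · exact (le_sup_right : K ≤ ι.range ⊔ K) hzK
    · exact (le_sup_left : ι.range ≤ ι.range ⊔ K) ⟨_, rfl⟩
  exact isModel_quotient hS F hF hQn ι hreal hQN K hKC hK1 hCK hidx'

end Cfsg.Agent.Lib.Helper88
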