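import Cfsg.Agent.Lib.Helper88.CharBisetPt
import Cfsg.Agent.Lib.Helper88.BisetTransfer
import Cfsg.Agent.Lib.Helper88.ModelRetract

set_option autoImplicit false

/-!
# The model of a constrained fusion system

For a subgroup `Q` normal in the saturated system `F`, the normalizer of `Q` in Park's group of the
characteristic biset realizes `F`, and the stabilizer of the right orbit of the base point retracts to `S`.
-/

namespace Cfsg.Agent.Lib.Helper88

open Cfsg Cfsg.FusionSystem MulAction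
open Cfsg.Agent.Lib.Helper87 (hom_le hom_mem_S isConj_refl isConj_symm isConj_trans
  card_eq_of_isConj subtype_mem inv_exists)

variable {Ω : Type*} [Group Ω] {S : Subgroup Ω}

/-- the image of `Q` in Park's group -/
noncomputable def parkQ (m : Subgroup (S × S) → ℕ) (Q : Subgroup Ω) : Subgroup (ParkGroup m) :=
  (Q.subgroupOf S).map (parkι m)

/-- the normalizer of the image of `Q` in Park's group -/
noncomputable def parkN (m : Subgroup (S × S) → ℕ) (Q : Subgroup Ω) : Subgroup (ParkGroup m) :=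
  Subgroup.normalizer ((parkQ m Q : Subgroup (ParkGroup m)) : Set (ParkGroup m))

theorem mem_parkQ {m : Subgroup (S × S) → ℕ} {Q : Subgroup Ω} {g : ParkGroup m} :
    g ∈ parkQ m Q ↔ ∃ u : S, (u : Ω) ∈ Q ∧ parkι m u = g := by
  constructor
  · rintro ⟨u, hu, rfl⟩
    exact ⟨u, Subgroup.mem_subgroupOf.mp hu, rfl⟩
  · rintro ⟨u, hu, rfl⟩
    exact ⟨u, Subgroup.mem_subgroupOf.mpr hu, rfl⟩

theorem parkι_mem_parkN (m : Subgroup (S × S) → ℕ) {Q : Subgroup Ω}
    (hSN : S ≤ Subgroup.normalizer (Q : Set Ω)) (s : S) : parkι m s ∈ parkN m Q := by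
  unfold parkN
  rw [Subgroup.mem_normalizer_iff]
  intro h
  have key : ∀ (t : S) (h : ParkGroup m), h ∈ parkQ m Q →
      parkι m t * h * (parkι m t)⁻¹ ∈ parkQ m Q := by
    rintro t _ ⟨u, hu, rfl⟩
    refine ⟨t * u * t⁻¹, ?_, ?_⟩
    · have hu' : (u : Ω) ∈ Q := Subgroup.mem_subgroupOf.mp hu
      have := (Subgroup.mem_normalizer_iff.mp (hSN t.2) (u : Ω)).mp hu'
      exact Subgroup.mem_subgroupOf.mpr this
    · rw [map_mul, map_mul, map_inv]
  constructor
  · exact key s h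
  · intro hh
    have := key s⁻¹ _ hh
    rw [map_inv, inv_inv] at this
    have e : (parkι m s)⁻¹ * (parkι m s * h * (parkι m s)⁻¹) * parkι m s = h := by group
    rwa [e] at this

/-- the embedding of `S` in the normalizer -/
noncomputable def parkιN (m : Subgroup (S × S) → ℕ) {Q : Subgroup Ω}
    (hSN : S ≤ Subgroup.normalizer (Q : Set Ω)) : S →* parkN m Q :=
  (parkι m).codRestrict _ (parkι_mem_parkN m hSN)

theorem parkιN_coe (m : Subgroup (S × S) → ℕ) {Q : Subgroup Ω}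
    (hSN : S ≤ Subgroup.normalizer (Q : Set Ω)) (s : S) :
    ((parkιN m hSN s : parkN m Q) : ParkGroup m) = parkι m s := rfl

/-- elements of `S` stabilize the right orbit of a point with diagonal stabilizer -/
theorem parkι_smul_base {m : Subgroup (S × S) → ℕ} {x₀ : OrbSum m}
    (hx₀ : stabilizer (S × S) x₀ = diagS S) (s : S) :
    ((parkι m s : ParkGroup m) : Equiv.Perm (OrbSum m)) x₀ = (((1 : S), s⁻¹) : S × S) • x₀ := by
  rw [parkι_apply]
  have h2 : ((s, s) : S × S) • x₀ = x₀ := by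
    rw [← mem_stabilizer_iff, hx₀, mem_diagS]
  conv_rhs => rw [← h2, smul_smul]
  congr 1
  ext <;> simp

theorem parkι_mem_parkStab {m : Subgroup (S × S) → ℕ} {x₀ : OrbSum m}
    (hx₀ : stabilizer (S × S) x₀ = diagS S) (s : S) : parkι m s ∈ parkStab m x₀ :=
  ⟨s⁻¹, parkι_smul_base hx₀ s⟩

theorem rtElt_mul {F : FusionSystem S} {m : Subgroup (S × S) → ℕ} (hgen : Gen F m) {x₀ : OrbSum m}
    (g h : parkStab m x₀) : rtElt (g * h) = rtElt h * rtElt g := by
  apply rtElt_eq hgen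
  show g.1.1 (h.1.1 x₀) = _
  rw [rtElt_spec h, mem_parkGroup.mp g.1.2, rtElt_spec g, smul_smul]
  congr 1
  ext <;> simp

theorem rtElt_one {F : FusionSystem S} {m : Subgroup (S × S) → ℕ} (hgen : Gen F m) {x₀ : OrbSum m} :
    rtElt (1 : parkStab m x₀) = 1 := by
  apply rtElt_eq hgen
  have e : (((1 : S), (1 : S)) : S × S) = 1 := rfl
  rw [e, one_smul]
  rfl

/-- the retraction of the stabilizer of the right orbit onto `S` -/
noncomputable def parkRet {F : FusionSystem S} {m : Subgroup (S × S) → ℕ} (hgen : Gen F m)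
    (x₀ : OrbSum m) : parkStab m x₀ →* S where
  toFun g := (rtElt g)⁻¹
  map_one' := by rw [rtElt_one hgen, inv_one]
  map_mul' g h := by rw [rtElt_mul hgen, mul_inv_rev]

theorem parkRet_ι {F : FusionSystem S} {m : Subgroup (S × S) → ℕ} (hgen : Gen F m)
    {x₀ : OrbSum m} (hx₀ : stabilizer (S × S) x₀ = diagS S) (s : S) :
    parkRet hgen x₀ ⟨parkι m s, parkι_mem_parkStab hx₀ s⟩ = s := by
  show (rtElt (⟨parkι m s, parkι_mem_parkStab hx₀ s⟩ : parkStab m x₀))⁻¹ = s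
  rw [rtElt_eq hgen _ (parkι_smul_base hx₀ s), inv_inv]

/-- an element of Park's group inducing on `Q` a map onto `Q` normalizes the image of `Q` -/
theorem mem_parkN_of_conj {m : Subgroup (S × S) → ℕ} {Q : Subgroup Ω} (hQS : Q ≤ S)
    (ρ : Q →* Ω) (hmaps : ∀ u : Q, ρ u ∈ Q) (hsurj : ∀ v ∈ Q, ∃ u : Q, ρ u = v)
    (h : ParkGroup m)
    (hh : ∀ u : Q, parkι m ⟨ρ u, hQS (hmaps u)⟩ = h * parkι m ⟨u, hQS u.2⟩ * h⁻¹) :
    h ∈ parkN m Q := by
  unfold parkN
  rw [Subgroup.mem_normalizer_iff]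
  intro k
  constructor
  · intro hk
    obtain ⟨u, hu, rfl⟩ := mem_parkQ.mp hk
    have := hh ⟨u, hu⟩
    exact mem_parkQ.mpr ⟨_, hmaps ⟨u, hu⟩, this⟩
  · intro hk
    obtain ⟨v, hv, hve⟩ := mem_parkQ.mp hk
    obtain ⟨u, hu⟩ := hsurj v hv
    have h1 := hh u
    have h2 : (⟨ρ u, hQS (hmaps u)⟩ : S) = v := Subtype.ext hu
    rw [h2, hve] at h1
    have h3 : k = parkι m ⟨u, hQS u.2⟩ := by
      have : h⁻¹ * (h * k * h⁻¹) * h = h⁻¹ * (h * parkι m ⟨u, hQS u.2⟩ * h⁻¹) * h := by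
        rw [h1]
      have e1 : h⁻¹ * (h * k * h⁻¹) * h = k := by group
      have e2 : h⁻¹ * (h * parkι m ⟨u, hQS u.2⟩ * h⁻¹) * h = parkι m ⟨u, hQS u.2⟩ := by group
      rw [e1, e2] at this
      exact this
    rw [h3]
    exact mem_parkQ.mpr ⟨_, u.2, rfl⟩

/-- the normalizer of `Q` in Park's group realizes the system -/
theorem park_isRealizedBy [Finite S] (F : FusionSystem S) {m : Subgroup (S × S) → ℕ}
    (hgen : Gen F m) (hstab : StabGe F m 0) {x₀ : OrbSum m}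
    (hx₀ : stabilizer (S × S) x₀ = diagS S) {Q : Subgroup Ω} (hQn : F.IsNormal Q)
    (hSN : S ≤ Subgroup.normalizer (Q : Set Ω)) : F.IsRealizedBy (parkιN m hSN) := by
  have hQS : Q ≤ S := hQn.1
  refine ⟨?_, fun P hP φ hφS => ⟨fun hφ => ?_, ?_⟩⟩
  · intro a b hab
    apply parkι_injective hgen x₀
    exact congrArg Subtype.val hab
  · obtain ⟨ψ, hψ, hψe, hψQ⟩ := hQn.2 P φ hφ
    rw [Cfsg.Agent.Lib.Helper87.map_subgroupOf_eq_iff] at hψQ
    have hPQ : P ⊔ Q ≤ S := sup_le hP hQS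
    obtain ⟨g, hg⟩ := park_conj_of_mem F m hgen hstab hPQ hψ
    have hgN : g ∈ parkN m Q := by
      apply mem_parkN_of_conj hQS (ψ.comp (Subgroup.inclusion (le_sup_right : Q ≤ P ⊔ Q)))
        (fun u => hψQ.1 _ u.2) ?_ g ?_
      · intro v hv
        obtain ⟨y, hyQ, hyv⟩ := hψQ.2 v hv
        exact ⟨⟨y, hyQ⟩, hyv⟩
      · intro u
        exact hg (Subgroup.inclusion le_sup_right u)
    refine ⟨⟨g, hgN⟩, fun x => ?_⟩
    apply Subtype.ext
    show parkι m ⟨φ x, hφS x⟩ = g * parkι m ⟨x, hP x.2⟩ * g⁻¹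
    have h1 := hg (Subgroup.inclusion le_sup_left x)
    have h2 : (⟨ψ (Subgroup.inclusion le_sup_left x), hom_mem_S F hψ _⟩ : S) = ⟨φ x, hφS x⟩ :=
      Subtype.ext (hψe x)
    rw [h2] at h1
    exact h1
  · rintro ⟨n, hn⟩
    apply park_mem_of_conj' F m hgen x₀ hx₀ hP hφS n.1
    intro x
    exact congrArg Subtype.val (hn x)

theorem parkN_conj (m : Subgroup (S × S) → ℕ) {Q : Subgroup Ω}
    (hSN : S ≤ Subgroup.normalizer (Q : Set Ω)) (n : parkN m Q) (u : S) (hu : (u : Ω) ∈ Q) :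
    ∃ v : S, (v : Ω) ∈ Q ∧ n * parkιN m hSN u * n⁻¹ = parkιN m hSN v := by
  have h1 := (Subgroup.mem_normalizer_iff.mp n.2 (parkι m u)).mp (mem_parkQ.mpr ⟨u, hu, rfl⟩)
  obtain ⟨v, hv, hve⟩ := mem_parkQ.mp h1
  exact ⟨v, hv, Subtype.ext hve.symm⟩

end Cfsg.Agent.Lib.Helper88
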