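import Cfsg.Agent.Lib.Helper88.ModelPark
import Cfsg.Agent.Lib.Helper87.NormalChain
import Cfsg.Agent.Lib.Helper87.NormalCriterion

set_option autoImplicit false

/-!
# The normalizer of `Q` in Park's group: transitivity on the fixed right orbits
-/

namespace Cfsg.Agent.Lib.Helper88

open Cfsg Cfsg.FusionSystem MulAction
open Cfsg.Agent.Lib.Helper87 (hom_le hom_mem_S isConj_refl isConj_symm isConj_trans
  card_eq_of_isConj subtype_mem inv_exists)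

variable {Ω : Type*} [Group Ω] {S : Subgroup Ω}

/-- a permutation commuting with the action of `Q × S` lies in the normalizer of `Q` in Park's group -/
theorem mem_parkN_of_commute {m : Subgroup (S × S) → ℕ} {Q : Subgroup Ω} (hQS : Q ≤ S)
    (f : Equiv.Perm (OrbSum m))
    (hf : ∀ (a b : S), (a : Ω) ∈ Q → ∀ x : OrbSum m, f (((a, b) : S × S) • x) = ((a, b) : S × S) • f x) :
    ∃ hfm : f ∈ ParkGroup m, (⟨f, hfm⟩ : ParkGroup m) ∈ parkN m Q := by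
  have hfm : f ∈ ParkGroup m := by
    rw [mem_parkGroup]
    intro b x
    exact hf 1 b (Q.one_mem) x
  refine ⟨hfm, ?_⟩
  apply mem_parkN_of_conj hQS Q.subtype (fun u => u.2) (fun v hv => ⟨⟨v, hv⟩, rfl⟩)
  intro u
  apply Subtype.ext
  apply Equiv.ext
  intro y
  show (((⟨(u : Ω), hQS u.2⟩ : S), (1 : S)) : S × S) • y =
    f ((((⟨(u : Ω), hQS u.2⟩ : S), (1 : S)) : S × S) • (f.symm y))
  rw [hf _ _ u.2, Equiv.apply_symm_apply]

theorem exists_parkN_smul [Finite S] (F : FusionSystem S) {m : Subgroup (S × S) → ℕ}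
    (hgen : Gen F m) (hstab : StabGe F m 0) {x₀ : OrbSum m}
    (hx₀ : stabilizer (S × S) x₀ = diagS S) {Q : Subgroup Ω} (hQn : F.IsNormal Q)
    (g : ParkGroup m)
    (hg : ∀ u : S, (u : Ω) ∈ Q → g⁻¹ * parkι m u * g ∈ parkStab m x₀) :
    ∃ n : ParkGroup m, n ∈ parkN m Q ∧
      (n : Equiv.Perm (OrbSum m)) x₀ = (g : Equiv.Perm (OrbSum m)) x₀ := by
  have hQS : Q ≤ S := hQn.1
  have hsc : F.StronglyClosed Q := Cfsg.Agent.Lib.Helper87.stronglyClosed_of_isNormal F hQn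
  have hwc : F.WeaklyClosed Q := Cfsg.Agent.Lib.Helper87.weaklyClosed_of_stronglyClosed F hsc
  obtain ⟨Qx, ψ, hψ, hD⟩ := inTw_stabilizer hgen (g.1 x₀)
  -- elements of `Q` lie in the source of the graph
  have hstabx : ∀ u : S, (u : Ω) ∈ Q → ∃ b : S, ((u, b) : S × S) ∈ stabilizer (S × S) (g.1 x₀) := by
    intro u hu
    obtain ⟨b, hb⟩ := hg u hu
    have h2 : ((g⁻¹ * parkι m u * g : ParkGroup m) : Equiv.Perm (OrbSum m)) x₀ =
        g.1⁻¹ (((u, (1 : S)) : S × S) • (g.1 x₀)) := rfl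
    rw [h2, Equiv.Perm.inv_def, Equiv.symm_apply_eq, mem_parkGroup.mp g.2] at hb
    refine ⟨b⁻¹, ?_⟩
    rw [mem_stabilizer_iff]
    have e : ((u, b⁻¹) : S × S) = ((1 : S), b)⁻¹ * (u, (1 : S)) := by
      ext <;> simp
    rw [e, mul_smul, hb, inv_smul_smul]
  have hQQx : Q ≤ Qx := by
    intro u hu
    obtain ⟨b, hb⟩ := hstabx ⟨u, hQS hu⟩ hu
    obtain ⟨q, hq1, -⟩ := (hD _).mp hb
    have : (q : Ω) = u := hq1
    rw [← this]
    exact q.2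
  let θ : Q →* Ω := ψ.comp (Subgroup.inclusion hQQx)
  have hθ : θ ∈ F.Hom Q := Cfsg.Agent.Lib.Helper87.restrict_mem F hψ hQQx
  have hr : θ.range = Q := hwc.2 θ hθ
  have hθQ : ∀ u : Q, θ u ∈ Q := fun u => by
    have : θ u ∈ θ.range := ⟨u, rfl⟩
    rwa [hr] at this
  have hxstab : ∀ u : Q, (((⟨u, hQS u.2⟩ : S), (⟨θ u, hQS (hθQ u)⟩ : S)) : S × S) ∈
      stabilizer (S × S) (g.1 x₀) := by
    intro u
    exact (hD _).mpr ⟨Subgroup.inclusion hQQx u, rfl, rfl⟩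
  obtain ⟨ρ, hρ, hρinv, hρr⟩ := inv_exists F hθ hr
  have hρQ : ∀ u : Q, ρ u ∈ Q := fun u => by
    have : ρ u ∈ ρ.range := ⟨u, rfl⟩
    rwa [hρr] at this
  obtain ⟨h, hh⟩ := park_conj_of_mem F m hgen hstab hQS hρ
  have hhN : h ∈ parkN m Q := by
    apply mem_parkN_of_conj hQS ρ hρQ ?_ h hh
    intro v hv
    have : v ∈ ρ.range := by rw [hρr]; exact hv
    obtain ⟨u, hu⟩ := this
    exact ⟨u, hu⟩
  -- the stabilizer of `h x₀`
  have hystab : ∀ u : Q, (((⟨u, hQS u.2⟩ : S), (⟨θ u, hQS (hθQ u)⟩ : S)) : S × S) ∈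
      stabilizer (S × S) (h.1 x₀) := by
    intro u
    rw [mem_stabilizer_iff]
    -- `ρ (θ u) = u`
    have h1 := hρinv u (hθQ u)
    have h2 := hh ⟨θ u, hθQ u⟩
    have h3 : (⟨ρ ⟨θ u, hθQ u⟩, hom_mem_S F hρ _⟩ : S) = ⟨u, hQS u.2⟩ := Subtype.ext h1
    rw [h3] at h2
    -- `ι(u) h = h ι(θ u)`
    have h4 : (((⟨u, hQS u.2⟩ : S), (1 : S)) : S × S) • (h.1 x₀) =
        h.1 ((((⟨θ u, hQS (hθQ u)⟩ : S), (1 : S)) : S × S) • x₀) := by
      have h0 := congrArg (fun e : ParkGroup m => (e : Equiv.Perm (OrbSum m)) (h.1 x₀)) h2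
      have e2 : ((h * parkι m ⟨θ u, hQS (hθQ u)⟩ * h⁻¹ : ParkGroup m) : Equiv.Perm (OrbSum m))
          (h.1 x₀) = h.1 ((parkι m ⟨θ u, hQS (hθQ u)⟩).1 x₀) := by
        show h.1 ((parkι m ⟨θ u, hQS (hθQ u)⟩).1 (h.1⁻¹ (h.1 x₀))) = _
        rw [Equiv.Perm.inv_def, Equiv.symm_apply_apply]
      exact h0.trans e2
    have h5 := parkι_smul_base hx₀ (⟨θ u, hQS (hθQ u)⟩ : S)
    rw [parkι_apply] at h5
    rw [h5, mem_parkGroup.mp h.2] at h4
    have e : (((⟨u, hQS u.2⟩ : S), (⟨θ u, hQS (hθQ u)⟩ : S)) : S × S) =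
        ((1 : S), (⟨θ u, hQS (hθQ u)⟩ : S)) * ((⟨u, hQS u.2⟩ : S), (1 : S)) := by
      ext <;> simp
    rw [e, mul_smul, h4, smul_smul]
    have e3 : ((1 : S), (⟨θ u, hQS (hθQ u)⟩ : S)) * ((1 : S), (⟨θ u, hQS (hθQ u)⟩ : S)⁻¹) =
        (1 : S × S) := by
      ext <;> simp
    rw [e3, one_smul]
  -- the stabilizers in `Q × S`
  let j : ↥(Q.subgroupOf S) × ↥S →* ↥S × ↥S := (Q.subgroupOf S).subtype.prodMap (MonoidHom.id S)
  have hj : ∀ k : ↥(Q.subgroupOf S) × ↥S, j k = (k.1.1, k.2) := fun k => rfl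
  have hstk : ∀ z : OrbSum m, (∀ u : Q, (((⟨u, hQS u.2⟩ : S), (⟨θ u, hQS (hθQ u)⟩ : S)) : S × S) ∈
      stabilizer (S × S) z) → ∀ k : ↥(Q.subgroupOf S) × ↥S,
      k ∈ stabilizer (↥(Q.subgroupOf S) × ↥S) (show Pull j (OrbSum m) from z) ↔
        (k.2 : Ω) = θ ⟨k.1.1, k.1.2⟩ := by
    intro z hz k
    rw [mem_stabilizer_iff, Pull.smul_def, hj]
    have hk := hz ⟨k.1.1, k.1.2⟩
    rw [mem_stabilizer_iff] at hk
    constructor
    · intro hkz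
      have hkz' : ((k.1.1, k.2) : S × S) • z = z := hkz
      have h1 : (((1 : S), (⟨θ ⟨k.1.1, k.1.2⟩, hQS (hθQ _)⟩ : S)⁻¹ * k.2) : S × S) • z = z := by
        have e : (((1 : S), (⟨θ ⟨k.1.1, k.1.2⟩, hQS (hθQ _)⟩ : S)⁻¹ * k.2) : S × S) =
            ((⟨(k.1.1 : Ω), hQS k.1.2⟩ : S), (⟨θ ⟨k.1.1, k.1.2⟩, hQS (hθQ _)⟩ : S))⁻¹ *
              (k.1.1, k.2) := by
          ext <;> simp
        rw [e, mul_smul, hkz', inv_smul_eq_iff]
        exact hk.symm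
      have h2 := right_free hgen z h1
      have h3 : k.2 = (⟨θ ⟨k.1.1, k.1.2⟩, hQS (hθQ _)⟩ : S) := by
        rw [inv_mul_eq_one] at h2
        exact h2.symm
      exact congrArg (fun s : S => (s : Ω)) h3
    · intro hk2
      have e : ((k.1.1, k.2) : S × S) =
          ((⟨(k.1.1 : Ω), hQS k.1.2⟩ : S), (⟨θ ⟨k.1.1, k.1.2⟩, hQS (hθQ _)⟩ : S)) := by
        apply Prod.ext
        · rfl
        · exact Subtype.ext hk2
      show ((k.1.1, k.2) : S × S) • z = z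
      rw [e]
      exact hk
  have hsteq : stabilizer (↥(Q.subgroupOf S) × ↥S) (show Pull j (OrbSum m) from h.1 x₀) =
      stabilizer (↥(Q.subgroupOf S) × ↥S) (show Pull j (OrbSum m) from g.1 x₀) := by
    ext k
    rw [hstk _ hystab k, hstk _ hxstab k]
  have key : ∃ f : OrbSum m ≃ OrbSum m, (∀ (a b : S), (a : Ω) ∈ Q → ∀ x : OrbSum m,
      f (((a, b) : S × S) • x) = ((a, b) : S × S) • f x) ∧ f (h.1 x₀) = g.1 x₀ := by
    obtain ⟨f, hf, hfxy⟩ := exists_equiv_map_point (K := ↥(Q.subgroupOf S) × ↥S)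
      (Y := Pull j (OrbSum m)) hsteq
    exact ⟨f, fun a b ha x => hf (⟨a, Subgroup.mem_subgroupOf.mpr ha⟩, b) x, hfxy⟩
  obtain ⟨f, hf', hfxy⟩ := key
  obtain ⟨hfm, hfN⟩ := mem_parkN_of_commute (m := m) hQS f hf'
  refine ⟨⟨f, hfm⟩ * h, (parkN m Q).mul_mem hfN hhN, ?_⟩
  exact hfxy

end Cfsg.Agent.Lib.Helper88
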