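import Cfsg.Agent.Lib.Helper88.UniqueAvg
import Cfsg.Agent.Lib.Helper88.RealizedNormal
import Cfsg.Agent.Lib.Helper85.Realized
import Cfsg.Agent.Lib.Helper84.PCore

set_option autoImplicit false

/-!
# Uniqueness of models
-/

namespace Cfsg.Agent.Lib.Helper88

open Cfsg Cfsg.FusionSystem

section biset

variable {S G₁ G₂ : Type*} [Group S] [Group G₁] [Group G₂] (ι₁ : S →* G₁) (ι₂ : S →* G₂)

/-- the double coset relation -/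
def dcSetoid : Setoid G₁ where
  r g g' := ∃ a b : S, g' = ι₁ a * g * ι₁ b
  iseqv := by
    refine ⟨fun g => ⟨1, 1, by simp⟩, ?_, ?_⟩
    · rintro g g' ⟨a, b, rfl⟩
      refine ⟨a⁻¹, b⁻¹, ?_⟩
      rw [map_inv, map_inv]
      group
    · rintro g g' g'' ⟨a, b, rfl⟩ ⟨c, d, rfl⟩
      refine ⟨c * a, b * d, ?_⟩
      rw [map_mul, map_mul]
      group

/-- a map of bisets from matching elements -/
theorem exists_bisetMap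
    (hM : ∀ g₁ : G₁, ∃ g₂ : G₂, ∀ a b : S, ι₁ a * g₁ = g₁ * ι₁ b → ι₂ a * g₂ = g₂ * ι₂ b) :
    ∃ σ : G₁ → G₂, ∀ (a b : S) (g : G₁), σ (ι₁ a * g * ι₁ b) = ι₂ a * σ g * ι₂ b := by
  classical
  let rep : G₁ → G₁ := fun g => (Quotient.mk (dcSetoid ι₁) g).out
  have hrep : ∀ g : G₁, ∃ a b : S, g = ι₁ a * rep g * ι₁ b := fun g =>
    Quotient.mk_out (s := dcSetoid ι₁) g
  let τ : G₁ → G₂ := fun r => (hM r).choose
  have hτ : ∀ (r : G₁) (a b : S), ι₁ a * r = r * ι₁ b → ι₂ a * τ r = τ r * ι₂ b := fun r =>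
    (hM r).choose_spec
  let σ : G₁ → G₂ := fun g => ι₂ (hrep g).choose * τ (rep g) * ι₂ (hrep g).choose_spec.choose
  have hσ : ∀ (g : G₁) (a b : S), g = ι₁ a * rep g * ι₁ b → σ g = ι₂ a * τ (rep g) * ι₂ b := by
    intro g a b hab
    have h0 : g = ι₁ (hrep g).choose * rep g * ι₁ (hrep g).choose_spec.choose :=
      (hrep g).choose_spec.choose_spec
    set a₀ := (hrep g).choose
    set b₀ := (hrep g).choose_spec.choose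
    have h1 : ι₁ (a⁻¹ * a₀) * rep g = rep g * ι₁ (b * b₀⁻¹) := by
      have h2 : ι₁ a₀ * rep g * ι₁ b₀ = ι₁ a * rep g * ι₁ b := h0.symm.trans hab
      rw [map_mul, map_mul, map_inv, map_inv]
      calc (ι₁ a)⁻¹ * ι₁ a₀ * rep g = (ι₁ a)⁻¹ * (ι₁ a₀ * rep g * ι₁ b₀) * (ι₁ b₀)⁻¹ := by group
        _ = (ι₁ a)⁻¹ * (ι₁ a * rep g * ι₁ b) * (ι₁ b₀)⁻¹ := by rw [h2]
        _ = rep g * (ι₁ b * (ι₁ b₀)⁻¹) := by group
    have h3 := hτ (rep g) _ _ h1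
    rw [map_mul, map_mul, map_inv, map_inv] at h3
    show ι₂ a₀ * τ (rep g) * ι₂ b₀ = ι₂ a * τ (rep g) * ι₂ b
    calc ι₂ a₀ * τ (rep g) * ι₂ b₀ = ι₂ a * ((ι₂ a)⁻¹ * ι₂ a₀ * τ (rep g)) * ι₂ b₀ := by group
      _ = ι₂ a * (τ (rep g) * (ι₂ b * (ι₂ b₀)⁻¹)) * ι₂ b₀ := by rw [h3]
      _ = ι₂ a * τ (rep g) * ι₂ b := by group
  refine ⟨σ, fun c d g => ?_⟩
  have hrep' : rep (ι₁ c * g * ι₁ d) = rep g := by
    show (Quotient.mk (dcSetoid ι₁) (ι₁ c * g * ι₁ d)).out = (Quotient.mk (dcSetoid ι₁) g).out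
    congr 1
    apply Quotient.sound
    exact ⟨c⁻¹, d⁻¹, by rw [map_inv, map_inv]; group⟩
  obtain ⟨a, b, hab⟩ := hrep g
  have h1 : ι₁ c * g * ι₁ d = ι₁ (c * a) * rep (ι₁ c * g * ι₁ d) * ι₁ (b * d) := by
    rw [hrep', map_mul, map_mul]
    conv_lhs => rw [hab]
    group
  rw [hσ _ _ _ h1, hσ g a b hab, hrep', map_mul, map_mul]
  group

end biset

section model

variable {Ω : Type*} [Group Ω] {S : Subgroup Ω}

/-- elements of two groups realizing the same system match -/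
theorem exists_match (F : FusionSystem S) {G₁ G₂ : Type*} [Group G₁] [Group G₂] (ι₁ : S →* G₁)
    (ι₂ : S →* G₂) (h₁ : F.IsRealizedBy ι₁) (h₂ : F.IsRealizedBy ι₂) (g₁ : G₁) :
    ∃ g₂ : G₂, ∀ a b : S, ι₁ a * g₁ = g₁ * ι₁ b → ι₂ a * g₂ = g₂ * ι₂ b := by
  let N : Subgroup G₁ := ι₁.range.comap (MulAut.conj g₁).toMonoidHom
  let A : Subgroup Ω := preN ι₁ N
  have hAS : A ≤ S := preN_le ι₁ N
  have hg : ∀ x : A, g₁ * ι₁ ⟨x, hAS x.2⟩ * g₁⁻¹ ∈ ι₁.range := fun x => preN_mem ι₁ N x.2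
  have hφS : ∀ x : A, liftConj ι₁ h₁.1 hAS g₁ hg x ∈ S := liftConj_mem ι₁ h₁.1 hAS g₁ hg
  have hφ : liftConj ι₁ h₁.1 hAS g₁ hg ∈ F.Hom A :=
    (h₁.2 A hAS _ hφS).mpr ⟨g₁, fun x => ι_liftConj ι₁ h₁.1 hAS g₁ hg x _⟩
  obtain ⟨g₂, hg₂⟩ := (h₂.2 A hAS _ hφS).mp hφ
  refine ⟨g₂, fun a b hab => ?_⟩
  have h1 : g₁ * ι₁ b * g₁⁻¹ = ι₁ a := by
    rw [← hab]
    group
  have hbA : (b : Ω) ∈ A := by
    refine mem_preN.mpr ⟨b.2, ?_⟩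
    show g₁ * ι₁ ⟨(b : Ω), b.2⟩ * g₁⁻¹ ∈ ι₁.range
    rw [Subtype.coe_eta, h1]
    exact ⟨a, rfl⟩
  have h2 := ι_liftConj ι₁ h₁.1 hAS g₁ hg ⟨b, hbA⟩ (hφS _)
  have h3 : (⟨((⟨(b : Ω), hbA⟩ : A) : Ω), hAS hbA⟩ : S) = b := Subtype.ext rfl
  rw [h3, h1] at h2
  have h4 := h₁.1 h2
  have h5 := hg₂ ⟨b, hbA⟩
  rw [h4, h3] at h5
  rw [h5]
  group

/-- a homomorphism between two models -/
theorem exists_model_hom [Finite S] {p : ℕ} [Fact p.Prime] (hS : IsPGroup p S) (F : FusionSystem S)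
    {G₁ G₂ : Type*} [Group G₁] [Group G₂] (ι₁ : S →* G₁) (ι₂ : S →* G₂)
    (h₁ : F.IsModel p G₁ ι₁) (h₂ : F.IsModel p G₂ ι₂) :
    ∃ φ : G₁ →* G₂, (∀ s : S, φ (ι₁ s) = ι₂ s) ∧ Function.Injective φ := by
  obtain ⟨hfin₁, hR₁, ⟨T₁, hT₁⟩, hcen₁⟩ := id h₁
  obtain ⟨hfin₂, hR₂, ⟨T₂, hT₂⟩, hcen₂⟩ := id h₂
  have hN₁n : (pCore p G₁).Normal := Cfsg.Agent.Lib.Helper84.pCore_normal p G₁
  have hN₂n : (pCore p G₂).Normal := Cfsg.Agent.Lib.Helper84.pCore_normal p G₂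
  have hN₁ : pCore p G₁ ≤ ι₁.range := hT₁ ▸ Cfsg.Agent.Lib.Helper84.pCore_le_sylow T₁
  have hN₂ : pCore p G₂ ≤ ι₂.range := hT₂ ▸ Cfsg.Agent.Lib.Helper84.pCore_le_sylow T₂
  have hcore : preN ι₁ (pCore p G₁) = preN ι₂ (pCore p G₂) :=
    (Cfsg.Agent.Lib.Helper85.Rz.core_eq_of_isModel h₁).symm.trans
      (Cfsg.Agent.Lib.Helper85.Rz.core_eq_of_isModel h₂)
  have hN : ∀ s : S, ι₁ s ∈ pCore p G₁ ↔ ι₂ s ∈ pCore p G₂ := by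
    intro s
    have e1 : ι₁ s ∈ pCore p G₁ ↔ (s : Ω) ∈ preN ι₁ (pCore p G₁) := by
      rw [mem_preN]
      exact ⟨fun h => ⟨s.2, h⟩, fun ⟨_, h⟩ => h⟩
    have e2 : ι₂ s ∈ pCore p G₂ ↔ (s : Ω) ∈ preN ι₂ (pCore p G₂) := by
      rw [mem_preN]
      exact ⟨fun h => ⟨s.2, h⟩, fun ⟨_, h⟩ => h⟩
    rw [e1, e2, hcore]
  have hidx : ¬ p ∣ ι₁.range.index := by
    rw [← hT₁]
    exact T₁.not_dvd_index
  obtain ⟨σ, hσ⟩ := exists_bisetMap ι₁ ι₂ (exists_match F ι₁ ι₂ hR₁ hR₂)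
  have hS' : IsPGroup p (↥S) := hS
  obtain ⟨φ, hφι, hφσ⟩ := exists_hom_of_bisetMap hS' ι₁ ι₂ hidx (pCore p G₁) (pCore p G₂) hN₁ hN₂ hN
    hcen₂ σ hσ
  refine ⟨φ, hφι, ?_⟩
  rw [injective_iff_map_eq_one]
  intro x hx
  obtain ⟨z, hz, hxz⟩ := hφσ x
  -- `σ x` centralizes the core, hence so does `x`
  have hσx : σ x ∈ Subgroup.centralizer ((pCore p G₂ : Subgroup G₂) : Set G₂) := by
    have : σ x = z⁻¹ := by
      rw [hx] at hxz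
      exact eq_inv_of_mul_eq_one_right hxz.symm
    rw [this]
    exact Subgroup.inv_mem _ hz
  have hxc : x ∈ Subgroup.centralizer ((pCore p G₁ : Subgroup G₁) : Set G₁) := by
    rw [Subgroup.mem_centralizer_iff]
    intro n hn
    obtain ⟨s, rfl⟩ := hN₁ hn
    have hs2 : ι₂ s ∈ pCore p G₂ := (hN s).mp hn
    have h1 : x⁻¹ * ι₁ s * x⁻¹⁻¹ ∈ pCore p G₁ := hN₁n.conj_mem _ hn x⁻¹
    obtain ⟨s', hs'⟩ := hN₁ h1
    have h2 : x * ι₁ s' = ι₁ s * x := by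
      rw [hs']
      group
    have h3 : σ x * ι₂ s' = ι₂ s * σ x := by
      rw [← sigma_right ι₁ ι₂ σ hσ, ← sigma_left ι₁ ι₂ σ hσ, h2]
    rw [Subgroup.mem_centralizer_iff] at hσx
    have h4 : ι₂ s * σ x = σ x * ι₂ s := hσx _ hs2
    have h5 : ι₂ s' = ι₂ s := by
      have : σ x * ι₂ s' = σ x * ι₂ s := by rw [h3, h4]
      exact mul_left_cancel this
    have h6 : s' = s := hR₂.1 h5
    rw [h6] at h2
    exact h2.symm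
  obtain ⟨s, rfl⟩ := hN₁ (hcen₁ hxc)
  rw [hφι] at hx
  have : s = 1 := hR₂.1 (by rw [hx, map_one])
  rw [this, map_one]

/-- **Uniqueness of models.** -/
theorem model_unique [Finite S] {p : ℕ} [Fact p.Prime] (hS : IsPGroup p S) (F : FusionSystem S)
    {G₁ G₂ : Type*} [Group G₁] [Group G₂] (ι₁ : S →* G₁) (ι₂ : S →* G₂)
    (h₁ : F.IsModel p G₁ ι₁) (h₂ : F.IsModel p G₂ ι₂) :
    ∃ φ : G₁ ≃* G₂, ∀ x : S, φ (ι₁ x) = ι₂ x := by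
  obtain ⟨φ, hφι, hφinj⟩ := exists_model_hom hS F ι₁ ι₂ h₁ h₂
  obtain ⟨ψ, -, hψinj⟩ := exists_model_hom hS F ι₂ ι₁ h₂ h₁
  haveI : Finite G₁ := h₁.1
  haveI : Finite G₂ := h₂.1
  have hc1 : Nat.card G₁ ≤ Nat.card G₂ := Nat.card_le_card_of_injective φ hφinj
  have hc2 : Nat.card G₂ ≤ Nat.card G₁ := Nat.card_le_card_of_injective ψ hψinj
  have hbij : Function.Bijective φ := by
    rw [Nat.bijective_iff_injective_and_card]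
    exact ⟨hφinj, le_antisymm hc1 hc2⟩
  exact ⟨MulEquiv.ofBijective φ hbij, hφι⟩

end model

end Cfsg.Agent.Lib.Helper88
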