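import Mathlib

set_option autoImplicit false

namespace Cfsg.Agent.Lib.Helper88

section abstract

variable {G : Type*} [CommGroup G]

/-- elements of order at most two that are `2^j`-th powers -/
def omegaAgemo (G : Type*) [CommGroup G] (j : ℕ) : Set G := {x | x ^ 2 = 1 ∧ ∃ y : G, x = y ^ (2 ^ j)}

theorem omegaAgemo_pres (β : MulAut G) (j : ℕ) {x : G} (hx : x ∈ omegaAgemo G j) :
    β x ∈ omegaAgemo G j := by
  obtain ⟨h1, y, rfl⟩ := hx
  refine ⟨?_, β y, map_pow β y _⟩
  rw [← map_pow, h1, map_one]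

theorem pow_fixes (β : MulAut G) {x : G} (h : β x = x) (k : ℕ) : (β ^ k) x = x := by
  induction k with
  | zero => simp
  | succ k ih => rw [pow_succ, MulAut.mul_apply, h, ih]

theorem odd_aut_fixes (α : MulAut G) (k : ℕ) (hk : α ^ (2 * k + 1) = 1) (N : ℕ)
    (h2 : ∀ j, ∀ x ∈ omegaAgemo G j, ∀ y ∈ omegaAgemo G j,
      x ∈ omegaAgemo G (j + 1) ∨ y ∈ omegaAgemo G (j + 1) ∨ x⁻¹ * y ∈ omegaAgemo G (j + 1))
    (hN : ∀ x ∈ omegaAgemo G N, x = 1) : ∀ x : G, x ^ 2 = 1 → α x = x := by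
  have claim : ∀ m j : ℕ, j + m = N → ∀ x ∈ omegaAgemo G j, α x = x := by
    intro m
    induction m with
    | zero =>
      intro j hj x hx
      rw [add_zero] at hj
      subst hj
      rw [hN x hx, map_one]
    | succ m ih =>
      intro j hj x hx
      have IH := ih (j + 1) (by omega)
      have key0 : ∀ z w : G, α z = z * w → α w = w → w ^ 2 = 1 → α z = z := by
        intro z w hαz hw' hsq
        have h2z : (α ^ 2) z = z := by
          rw [pow_two, MulAut.mul_apply, hαz, map_mul, hαz, hw', mul_assoc, ← pow_two, hsq, mul_one]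
        have h3 : ((α ^ 2) ^ k) z = z := pow_fixes (α ^ 2) h2z k
        have h4 : (α ^ (2 * k + 1)) z = z := by rw [hk]; rfl
        rw [pow_succ', pow_mul, MulAut.mul_apply, h3] at h4
        exact h4
      have key : ∀ z ∈ omegaAgemo G j, z⁻¹ * α z ∈ omegaAgemo G (j + 1) → α z = z := by
        intro z hz hw
        exact key0 z (z⁻¹ * α z) (by rw [mul_inv_cancel_left]) (IH _ hw) hw.1
      rcases h2 j x hx (α x) (omegaAgemo_pres α j hx) with h | h | h
      · exact IH x h
      · have hx' : x ∈ omegaAgemo G (j + 1) := by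
          have := omegaAgemo_pres α⁻¹ (j + 1) h
          rwa [MulAut.inv_apply_self] at this
        exact IH x hx'
      · exact key x hx h
  intro x hx
  apply claim N 0 (by omega) x
  exact ⟨hx, x, by simp⟩

end abstract

section zmod

/-- (Z1) -/
theorem zmod_pow_smul_eq_zero {a j : ℕ} (h : a ≤ j) (y : ZMod (2 ^ a)) : (2 ^ j : ℕ) • y = 0 := by
  rw [nsmul_eq_mul]
  have : ((2 ^ j : ℕ) : ZMod (2 ^ a)) = 0 := by
    rw [ZMod.natCast_eq_zero_iff]
    exact pow_dvd_pow 2 h
  rw [this, zero_mul]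

/-- (Z2) -/
theorem zmod_exists_half {a j : ℕ} (h : j + 2 ≤ a) (y : ZMod (2 ^ a))
    (hy : 2 • ((2 ^ j : ℕ) • y) = 0) : ∃ z : ZMod (2 ^ a), (2 ^ j : ℕ) • y = (2 ^ (j + 1) : ℕ) • z := by
  have hne : NeZero (2 ^ a) := ⟨by positivity⟩
  have hyv : y = ((y.val : ℕ) : ZMod (2 ^ a)) := (ZMod.natCast_zmod_val y).symm
  have h1 : ((2 * 2 ^ j * y.val : ℕ) : ZMod (2 ^ a)) = 0 := by
    rw [nsmul_eq_mul, nsmul_eq_mul] at hy
    rw [hyv] at hy
    push_cast at hy ⊢
    rw [← hy]
    ring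
  rw [ZMod.natCast_eq_zero_iff] at h1
  have h2 : 2 ^ (j + 2) ∣ 2 * 2 ^ j * y.val := (pow_dvd_pow 2 h).trans h1
  have h3 : 2 ∣ y.val := by
    have : 2 ^ (j + 1) * 2 ∣ 2 ^ (j + 1) * y.val := by
      have e1 : 2 ^ (j + 2) = 2 ^ (j + 1) * 2 := by ring
      have e2 : 2 * 2 ^ j * y.val = 2 ^ (j + 1) * y.val := by ring
      rwa [e1, e2] at h2
    exact Nat.dvd_of_mul_dvd_mul_left (by positivity) this
  obtain ⟨w, hw⟩ := h3
  refine ⟨(w : ZMod (2 ^ a)), ?_⟩
  rw [nsmul_eq_mul, nsmul_eq_mul]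
  nth_rewrite 1 [hyv]
  rw [hw]
  push_cast
  ring

/-- (Z3) -/
theorem zmod_two_torsion {j : ℕ} (x y : ZMod (2 ^ (j + 1))) (hx : 2 • x = 0) (hy : 2 • y = 0)
    (hx0 : x ≠ 0) (hy0 : y ≠ 0) : x = y := by
  have hne : NeZero (2 ^ (j + 1)) := ⟨by positivity⟩
  have key : ∀ z : ZMod (2 ^ (j + 1)), 2 • z = 0 → z ≠ 0 → z.val = 2 ^ j := by
    intro z hz hz0
    have hzv : z = ((z.val : ℕ) : ZMod (2 ^ (j + 1))) := (ZMod.natCast_zmod_val z).symm
    have h1 : ((2 * z.val : ℕ) : ZMod (2 ^ (j + 1))) = 0 := by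
      rw [nsmul_eq_mul] at hz
      rw [hzv] at hz
      push_cast at hz ⊢
      exact hz
    rw [ZMod.natCast_eq_zero_iff] at h1
    have h2 : 2 ^ j ∣ z.val := by
      have : 2 * 2 ^ j ∣ 2 * z.val := by
        have e1 : 2 * 2 ^ j = 2 ^ (j + 1) := by ring
        exact (dvd_of_eq e1).trans h1
      exact Nat.dvd_of_mul_dvd_mul_left (by norm_num) this
    obtain ⟨w, hw⟩ := h2
    have hlt : z.val < 2 ^ (j + 1) := ZMod.val_lt z
    have hpos : z.val ≠ 0 := by
      intro h
      exact hz0 ((ZMod.val_eq_zero z).mp h)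
    have hw1 : w = 1 := by
      have hw0 : w ≠ 0 := by
        rintro rfl
        exact hpos (by rw [hw, mul_zero])
      have : w < 2 := by
        by_contra hcon
        have hcon : 2 ≤ w := Nat.le_of_not_lt hcon
        have : 2 ^ j * 2 ≤ 2 ^ j * w := Nat.mul_le_mul_left _ hcon
        have e1 : 2 ^ (j + 1) = 2 ^ j * 2 := by ring
        omega
      omega
    rw [hw, hw1, mul_one]
  apply ZMod.val_injective
  rw [key x hx hx0, key y hy hy0]

end zmod

section pi

variable {n : ℕ} (a : Fin n → ℕ)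

/-- additive version of the chain in the product of cyclic groups -/
def omegaAgemoAdd (j : ℕ) : Set ((i : Fin n) → ZMod (2 ^ a i)) :=
  {x | 2 • x = 0 ∧ ∃ y, x = (2 ^ j : ℕ) • y}

theorem omegaAgemoAdd_succ_of {j : ℕ} {x : (i : Fin n) → ZMod (2 ^ a i)} (hx : x ∈ omegaAgemoAdd a j)
    (h0 : ∀ i, a i = j + 1 → x i = 0) : x ∈ omegaAgemoAdd a (j + 1) := by
  obtain ⟨h2, y, rfl⟩ := hx
  refine ⟨h2, ?_⟩
  have : ∀ i, ∃ z : ZMod (2 ^ a i), ((2 ^ j : ℕ) • y) i = (2 ^ (j + 1) : ℕ) • z := by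
    intro i
    rcases Nat.lt_or_ge j (a i) with hlt | hge
    · rcases Nat.lt_or_ge (j + 1) (a i) with hlt2 | hge2
      · have h2i : 2 • ((2 ^ j : ℕ) • y i) = 0 := by
          have := congrFun h2 i
          simpa using this
        obtain ⟨z, hz⟩ := zmod_exists_half (a := a i) (j := j) (by omega) (y i) h2i
        exact ⟨z, by rw [Pi.smul_apply]; exact hz⟩
      · have hai : a i = j + 1 := by omega
        refine ⟨0, ?_⟩
        rw [h0 i hai, smul_zero]
    · refine ⟨0, ?_⟩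
      rw [Pi.smul_apply, zmod_pow_smul_eq_zero hge, smul_zero]
  choose z hz using this
  refine ⟨z, ?_⟩
  funext i
  rw [hz i, Pi.smul_apply]

theorem omegaAgemoAdd_sub {j : ℕ} {x y : (i : Fin n) → ZMod (2 ^ a i)} (hx : x ∈ omegaAgemoAdd a j)
    (hy : y ∈ omegaAgemoAdd a j) : -x + y ∈ omegaAgemoAdd a j := by
  obtain ⟨h2x, u, rfl⟩ := hx
  obtain ⟨h2y, v, rfl⟩ := hy
  refine ⟨?_, -u + v, ?_⟩
  · rw [smul_add, smul_neg, h2x, h2y, neg_zero, add_zero]
  · rw [smul_add, smul_neg]

theorem omegaAgemoAdd_trichotomy (ha : Function.Injective a) {j : ℕ}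
    {x y : (i : Fin n) → ZMod (2 ^ a i)} (hx : x ∈ omegaAgemoAdd a j) (hy : y ∈ omegaAgemoAdd a j) :
    x ∈ omegaAgemoAdd a (j + 1) ∨ y ∈ omegaAgemoAdd a (j + 1) ∨ -x + y ∈ omegaAgemoAdd a (j + 1) := by
  by_cases hex : ∃ i₀, a i₀ = j + 1
  · obtain ⟨i₀, hi₀⟩ := hex
    have huniq : ∀ i, a i = j + 1 → i = i₀ := fun i hi => ha (hi.trans hi₀.symm)
    by_cases hx0 : x i₀ = 0
    · left
      apply omegaAgemoAdd_succ_of a hx
      intro i hi
      rw [huniq i hi]
      exact hx0
    by_cases hy0 : y i₀ = 0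
    · right; left
      apply omegaAgemoAdd_succ_of a hy
      intro i hi
      rw [huniq i hi]
      exact hy0
    right; right
    apply omegaAgemoAdd_succ_of a (omegaAgemoAdd_sub a hx hy)
    intro i hi
    have := huniq i hi
    subst this
    have h2x : 2 • x i = 0 := by
      have := congrFun hx.1 i
      simpa using this
    have h2y : 2 • y i = 0 := by
      have := congrFun hy.1 i
      simpa using this
    -- transport to ZMod (2^(j+1))
    have hxy : x i = y i := by
      revert h2x h2y hx0 hy0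
      generalize x i = xi
      generalize y i = yi
      revert xi yi
      rw [hi]
      intro xi yi hx0 hy0 h2x h2y
      exact zmod_two_torsion xi yi h2x h2y hx0 hy0
    rw [Pi.add_apply, Pi.neg_apply, hxy, neg_add_cancel]
  · left
    apply omegaAgemoAdd_succ_of a hx
    intro i hi
    exact absurd ⟨i, hi⟩ hex

theorem omegaAgemoAdd_top {x : (i : Fin n) → ZMod (2 ^ a i)}
    (hx : x ∈ omegaAgemoAdd a (∑ i, a i)) : x = 0 := by
  obtain ⟨-, y, rfl⟩ := hx
  funext i
  rw [Pi.smul_apply, Pi.zero_apply]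
  apply zmod_pow_smul_eq_zero
  exact Finset.single_le_sum (f := a) (fun _ _ => Nat.zero_le _) (Finset.mem_univ i)

/-- An automorphism of odd order of a product of cyclic 2-groups of pairwise distinct orders fixes all
elements of order at most two. -/
theorem odd_aut_fixes_pi (ha : Function.Injective a)
    (α : MulAut (Multiplicative ((i : Fin n) → ZMod (2 ^ a i)))) (k : ℕ) (hk : α ^ (2 * k + 1) = 1)
    (x : Multiplicative ((i : Fin n) → ZMod (2 ^ a i))) (hx : x ^ 2 = 1) : α x = x := by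
  have hiff : ∀ j (z : Multiplicative ((i : Fin n) → ZMod (2 ^ a i))),
      z ∈ omegaAgemo _ j ↔ Multiplicative.toAdd z ∈ omegaAgemoAdd a j := by
    intro j z
    constructor
    · rintro ⟨h1, y, rfl⟩
      refine ⟨?_, Multiplicative.toAdd y, ?_⟩
      · have := congrArg Multiplicative.toAdd h1
        simpa using this
      · simp
    · rintro ⟨h1, y, hy⟩
      refine ⟨?_, Multiplicative.ofAdd y, ?_⟩
      · apply Multiplicative.toAdd.injective
        simpa using h1
      · apply Multiplicative.toAdd.injective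
        simpa using hy
  apply odd_aut_fixes α k hk (∑ i, a i) ?_ ?_ x hx
  · intro j u hu v hv
    rw [hiff] at hu hv
    rw [hiff, hiff, hiff]
    have := omegaAgemoAdd_trichotomy a ha hu hv
    simpa using this
  · intro u hu
    rw [hiff] at hu
    have := omegaAgemoAdd_top a hu
    apply Multiplicative.toAdd.injective
    simpa using this

end pi

end Cfsg.Agent.Lib.Helper88
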