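import Cfsg.Agent.Lib.Helper88.Marks

set_option autoImplicit false

/-!
# Finite `G`-sets given by orbit multiplicities

`OrbSum m` is the `G`-set with `m H` orbits of type `G ⧸ H` for every subgroup `H`.
-/

namespace Cfsg.Agent.Lib.Helper88

open MulAction

variable {G : Type*} [Group G]

/-- the conjugate `g H g⁻¹` -/
abbrev cjs (g : G) (H : Subgroup G) : Subgroup G := H.map (MulAut.conj g).toMonoidHom

theorem mem_cjs {g y : G} {H : Subgroup G} : y ∈ cjs g H ↔ g⁻¹ * y * g ∈ H := by
  constructor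
  · rintro ⟨h, hh, rfl⟩
    simp only [MulEquiv.coe_toMonoidHom, MulAut.conj_apply]
    have : g⁻¹ * (g * h * g⁻¹) * g = h := by group
    rw [this]
    exact hh
  · intro h
    refine ⟨g⁻¹ * y * g, h, ?_⟩
    simp only [MulEquiv.coe_toMonoidHom, MulAut.conj_apply]
    group

theorem cjs_mul (a b : G) (H : Subgroup G) : cjs (a * b) H = cjs a (cjs b H) := by
  ext y
  rw [mem_cjs, mem_cjs, mem_cjs]
  have : (a * b)⁻¹ * y * (a * b) = b⁻¹ * (a⁻¹ * y * a) * b := by group
  rw [this]

theorem cjs_one (H : Subgroup G) : cjs 1 H = H := by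
  ext y
  rw [mem_cjs]
  simp

theorem card_cjs (H : Subgroup G) (g : G) : Nat.card (cjs g H) = Nat.card H :=
  (Nat.card_congr (Subgroup.equivMapOfInjective H _ (MulAut.conj g).injective).toEquiv).symm

theorem mem_normalizer_iff_cjs {H : Subgroup G} {n : G} :
    n ∈ Subgroup.normalizer (H : Set G) ↔ cjs n H = H := by
  rw [Subgroup.mem_normalizer_iff_map_conj_eq]
  rfl

/-- the `G`-set with `m H` orbits of type `G ⧸ H` -/
structure OrbSum (m : Subgroup G → ℕ) where
  /-- the type of the orbit -/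
  H : Subgroup G
  /-- the index of the orbit among those of its type -/
  i : Fin (m H)
  /-- the point of the orbit -/
  q : G ⧸ H

/-- `OrbSum` as a sigma type -/
def OrbSum.equivSigma (m : Subgroup G → ℕ) : OrbSum m ≃ Σ H : Subgroup G, Fin (m H) × (G ⧸ H) where
  toFun x := ⟨x.H, x.i, x.q⟩
  invFun y := ⟨y.1, y.2.1, y.2.2⟩
  left_inv _ := rfl
  right_inv _ := rfl

instance (m : Subgroup G → ℕ) : MulAction G (OrbSum m) where
  smul g x := ⟨x.H, x.i, g • x.q⟩
  one_smul := by
    rintro ⟨H, i, q⟩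
    show (⟨H, i, (1 : G) • q⟩ : OrbSum m) = ⟨H, i, q⟩
    rw [one_smul]
  mul_smul := by
    rintro g h ⟨H, i, q⟩
    show (⟨H, i, (g * h) • q⟩ : OrbSum m) = ⟨H, i, g • h • q⟩
    rw [mul_smul]

theorem OrbSum.smul_def (m : Subgroup G → ℕ) (g : G) (x : OrbSum m) :
    g • x = ⟨x.H, x.i, g • x.q⟩ := rfl

instance (m : Subgroup G → ℕ) [Finite G] : Finite (OrbSum m) :=
  Finite.of_equiv _ (OrbSum.equivSigma m).symm

theorem OrbSum.stabilizer_eq (m : Subgroup G → ℕ) (x : OrbSum m) :
    stabilizer G x = stabilizer G x.q := by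
  ext g
  simp only [mem_stabilizer_iff, OrbSum.smul_def]
  constructor
  · intro h
    have := congrArg (fun y => (OrbSum.equivSigma m y)) h
    simp only [OrbSum.equivSigma, Equiv.coe_fn_mk] at this
    have h1 := (Sigma.mk.inj_iff.mp this).2
    exact (Prod.mk.inj (eq_of_heq h1)).2
  · intro h
    rw [h]

theorem stabilizer_mk (H : Subgroup G) (g : G) :
    stabilizer G ((g : G) : G ⧸ H) = cjs g H := by
  have h1 : ((g : G) : G ⧸ H) = g • ((1 : G) : G ⧸ H) := by
    rw [MulAction.Quotient.smul_coe, smul_eq_mul, mul_one]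
  rw [h1, stabilizer_smul_eq_stabilizer_map_conj, stabilizer_quotient]

/-- the mark of `V` on `G ⧸ H` -/
noncomputable def fixq (H V : Subgroup G) : ℕ := mkCount V (G ⧸ H)

theorem mkCount_orbSum [Finite G] [Fintype (Subgroup G)] (m : Subgroup G → ℕ) (V : Subgroup G) :
    mkCount V (OrbSum m) = ∑ H : Subgroup G, m H * fixq H V := by
  have e : {x : OrbSum m // V ≤ stabilizer G x} ≃
      Σ H : Subgroup G, Fin (m H) × {q : G ⧸ H // V ≤ stabilizer G q} :=
    { toFun := fun x => ⟨x.1.H, x.1.i, ⟨x.1.q, by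
        have := x.2
        rwa [OrbSum.stabilizer_eq] at this⟩⟩
      invFun := fun y => ⟨⟨y.1, y.2.1, y.2.2.1⟩, by
        rw [OrbSum.stabilizer_eq]
        exact y.2.2.2⟩
      left_inv := fun x => rfl
      right_inv := fun y => rfl }
  unfold mkCount at *
  rw [Nat.card_congr e, Nat.card_sigma]
  refine Finset.sum_congr rfl fun H _ => ?_
  rw [Nat.card_prod, Nat.card_fin]
  rfl

theorem card_orbSum [Finite G] [Fintype (Subgroup G)] (m : Subgroup G → ℕ) :
    Nat.card (OrbSum m) = ∑ H : Subgroup G, m H * (Nat.card G / Nat.card H) := by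
  rw [Nat.card_congr (OrbSum.equivSigma m), Nat.card_sigma]
  refine Finset.sum_congr rfl fun H _ => ?_
  rw [Nat.card_prod, Nat.card_fin]
  congr 1
  have h1 := Subgroup.card_eq_card_quotient_mul_card_subgroup H
  rw [h1, Nat.mul_div_cancel _ Nat.card_pos]

/-- `|(G/H)^V| · |H|` is the number of `g` with `V ≤ g H g⁻¹` -/
theorem fixq_mul_card [Finite G] (H V : Subgroup G) :
    fixq H V * Nat.card H = Nat.card {g : G // V ≤ cjs g H} := by
  have h1 := QuotientGroup.card_preimage_mk H {q : G ⧸ H | V ≤ stabilizer G q}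
  have h2 : (QuotientGroup.mk ⁻¹' {q : G ⧸ H | V ≤ stabilizer G q} : Set G) =
      {g : G | V ≤ cjs g H} := by
    ext g
    show V ≤ stabilizer G ((g : G) : G ⧸ H) ↔ V ≤ cjs g H
    rw [stabilizer_mk]
  rw [h2] at h1
  unfold fixq mkCount
  rw [mul_comm]
  exact h1.symm

theorem exists_le_conj_of_fixq_ne_zero [Finite G] {H V : Subgroup G} (h : fixq H V ≠ 0) :
    ∃ g : G, V ≤ cjs g H := by
  have h1 : fixq H V * Nat.card H ≠ 0 := Nat.mul_ne_zero h Nat.card_pos.ne'
  rw [fixq_mul_card] at h1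
  have h2 : Nonempty {g : G // V ≤ cjs g H} := by
    by_contra hne
    rw [not_nonempty_iff] at hne
    exact h1 Nat.card_of_isEmpty
  obtain ⟨g, hg⟩ := h2
  exact ⟨g, hg⟩

theorem fixq_eq_zero_of_card_lt [Finite G] {H V : Subgroup G} (h : Nat.card H < Nat.card V) :
    fixq H V = 0 := by
  by_contra hne
  obtain ⟨g, hg⟩ := exists_le_conj_of_fixq_ne_zero hne
  have := Subgroup.card_le_of_le hg
  rw [card_cjs] at this
  omega

theorem eq_conj_of_fixq_ne_zero [Finite G] {H V : Subgroup G} (hc : Nat.card H = Nat.card V)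
    (h : fixq H V ≠ 0) : ∃ g : G, V = cjs g H := by
  obtain ⟨g, hg⟩ := exists_le_conj_of_fixq_ne_zero h
  refine ⟨g, Subgroup.eq_of_le_of_card_ge hg ?_⟩
  rw [card_cjs, hc]

/-- the mark of a conjugate `V` of `H` on `G ⧸ H` -/
theorem fixq_conj [Finite G] (H : Subgroup G) (g₀ : G) :
    fixq H (cjs g₀ H) * Nat.card H =
      Nat.card (Subgroup.normalizer ((cjs g₀ H : Subgroup G) : Set G)) := by
  rw [fixq_mul_card]
  have key : ∀ g : G, cjs g₀ H ≤ cjs g H ↔
      g * g₀⁻¹ ∈ Subgroup.normalizer ((cjs g₀ H : Subgroup G) : Set G) := by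
    intro g
    rw [mem_normalizer_iff_cjs, ← cjs_mul, inv_mul_cancel_right]
    constructor
    · intro h
      exact (Subgroup.eq_of_le_of_card_ge h (by rw [card_cjs, card_cjs])).symm
    · intro h
      rw [h]
  refine Nat.card_congr ⟨fun g => ⟨g.1 * g₀⁻¹, (key g.1).mp g.2⟩, fun n => ⟨n.1 * g₀, ?_⟩,
    fun g => ?_, fun n => ?_⟩
  · rw [key, mul_inv_cancel_right]
    exact n.2
  · apply Subtype.ext
    simp
  · apply Subtype.ext
    simp

theorem fixq_self [Finite G] (H : Subgroup G) :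
    fixq H H * Nat.card H = Nat.card (Subgroup.normalizer ((H : Subgroup G) : Set G)) := by
  have := fixq_conj H 1
  rwa [cjs_one] at this

/-- marks are invariant under conjugation of the subgroup -/
theorem mkCount_cjs (g : G) (V : Subgroup G) (Y : Type*) [MulAction G Y] :
    mkCount (cjs g V) Y = mkCount V Y := by
  unfold mkCount
  have key : ∀ y : Y, cjs g V ≤ stabilizer G y ↔ V ≤ stabilizer G (g⁻¹ • y) := by
    intro y
    rw [stabilizer_smul_eq_stabilizer_map_conj]
    constructor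
    · intro h v hv
      have h1 : g * v * g⁻¹ ∈ stabilizer G y := h (mem_cjs.mpr (by
        have : g⁻¹ * (g * v * g⁻¹) * g = v := by group
        rw [this]; exact hv))
      refine mem_cjs.mpr ?_
      rw [inv_inv]
      exact h1
    · intro h x hx
      have h1 := h (mem_cjs.mp hx)
      have h2 := mem_cjs.mp h1
      rw [inv_inv] at h2
      have : g * (g⁻¹ * x * g) * g⁻¹ = x := by group
      rwa [this] at h2
  refine Nat.card_congr ⟨fun y => ⟨g⁻¹ • y.1, (key y.1).mp y.2⟩, fun y => ⟨g • y.1, ?_⟩,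
    fun y => ?_, fun y => ?_⟩
  · rw [key, inv_smul_smul]
    exact y.2
  · apply Subtype.ext
    simp
  · apply Subtype.ext
    simp

/-! ### Representatives of conjugacy classes of subgroups -/

/-- conjugacy of subgroups -/
def conjSetoid (G : Type*) [Group G] : Setoid (Subgroup G) where
  r H K := ∃ g : G, K = cjs g H
  iseqv := by
    refine ⟨fun H => ⟨1, (cjs_one H).symm⟩, ?_, ?_⟩
    · rintro H K ⟨g, rfl⟩
      refine ⟨g⁻¹, ?_⟩
      rw [← cjs_mul, inv_mul_cancel, cjs_one]
    · rintro H K L ⟨g, rfl⟩ ⟨h, rfl⟩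
      exact ⟨h * g, by rw [cjs_mul]⟩

/-- the chosen representative of the conjugacy class of `H` -/
noncomputable def rep (H : Subgroup G) : Subgroup G :=
  (Quotient.mk (conjSetoid G) H).out

theorem rep_spec (H : Subgroup G) : ∃ g : G, H = cjs g (rep H) :=
  Quotient.mk_out (s := conjSetoid G) H

theorem rep_eq_of_conj {H K : Subgroup G} (g : G) (h : K = cjs g H) : rep K = rep H := by
  unfold rep
  congr 1
  exact Quotient.sound (s := conjSetoid G) ((conjSetoid G).symm ⟨g, h⟩)

theorem rep_rep (H : Subgroup G) : rep (rep H) = rep H := by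
  obtain ⟨g, hg⟩ := rep_spec H
  have := rep_eq_of_conj g hg
  exact this.symm

theorem card_rep (H : Subgroup G) : Nat.card (rep H) = Nat.card H := by
  obtain ⟨g, hg⟩ := rep_spec H
  conv_rhs => rw [hg]
  rw [card_cjs]

end Cfsg.Agent.Lib.Helper88
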