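import Cfsg.Agent.Lib.Helper85.Sylow

set_option autoImplicit false

namespace Cfsg.Agent.Lib.Helper88

open Subgroup
open Cfsg.Agent.Lib.Helper85 (cj cj_apply SylIn mem_sup_of_le_normalizer)

theorem inf_eq_bot_of_isPGroup_of_coprime {G : Type*} [Group G] [Finite G] {p : ℕ}
    [Fact p.Prime] {A N : Subgroup G} (hA : IsPGroup p A) (hN : (Nat.card N).Coprime p) :
    A ⊓ N = ⊥ := by
  apply Disjoint.eq_bot
  apply Subgroup.disjoint_of_coprime_natCard
  obtain ⟨k, hk⟩ := IsPGroup.iff_card.mp hA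
  rw [hk]
  exact Nat.Coprime.pow_left k hN.symm

/-- Two homomorphisms from a `p`-group into `G` that agree modulo a normal `p'`-subgroup `N` are
conjugate by an element of `N`. -/
theorem exists_conj_of_congr {G P : Type*} [Group G] [Finite G] [Group P] {p : ℕ}
    [Fact p.Prime] (hP : IsPGroup p P) (N : Subgroup G) [hNn : N.Normal]
    (hN : (Nat.card N).Coprime p) (a b : P →* G) (hab : ∀ x, (a x)⁻¹ * b x ∈ N) :
    ∃ m ∈ N, ∀ x, a x = m * b x * m⁻¹ := by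
  have hA : IsPGroup p a.range := hP.of_surjective a.rangeRestrict a.rangeRestrict_surjective
  have hB : IsPGroup p b.range := hP.of_surjective b.rangeRestrict b.rangeRestrict_surjective
  have hAN : a.range ⊓ N = ⊥ := inf_eq_bot_of_isPGroup_of_coprime hA hN
  have hANn : a.range ≤ normalizer (N : Set G) := by
    intro g _
    rw [mem_normalizer_iff]
    intro x
    constructor
    · intro hx
      exact hNn.conj_mem x hx g
    · intro hx
      have := hNn.conj_mem _ hx g⁻¹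
      have e : g⁻¹ * (g * x * g⁻¹) * g⁻¹⁻¹ = x := by group
      rwa [e] at this
  have hBX : b.range ≤ a.range ⊔ N := by
    rintro _ ⟨x, rfl⟩
    have e : b x = a x * ((a x)⁻¹ * b x) := by group
    rw [e]
    exact mul_mem_sup ⟨x, rfl⟩ (hab x)
  have hSyl : SylIn p a.range (a.range ⊔ N) := by
    obtain ⟨Q, hQ⟩ := (hA.comap_subtype (K := a.range ⊔ N)).exists_le_sylow
    refine ⟨Q, le_antisymm ?_ hQ⟩
    intro q hq
    obtain ⟨a', ha', m, hm, hqe⟩ := mem_sup_of_le_normalizer hANn q.2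
    have ha'X : a' ∈ a.range ⊔ N := mem_sup_left ha'
    have hmX : m ∈ a.range ⊔ N := mem_sup_right hm
    have ha'Q : (⟨a', ha'X⟩ : ↥(a.range ⊔ N)) ∈ (Q : Subgroup ↥(a.range ⊔ N)) :=
      hQ (mem_subgroupOf.mpr ha')
    have hmQ : (⟨m, hmX⟩ : ↥(a.range ⊔ N)) ∈ (Q : Subgroup ↥(a.range ⊔ N)) := by
      have e : (⟨m, hmX⟩ : ↥(a.range ⊔ N)) = (⟨a', ha'X⟩ : ↥(a.range ⊔ N))⁻¹ * q := by
        apply Subtype.ext
        show m = a'⁻¹ * (q : G)
        rw [hqe]; group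
      rw [e]
      exact mul_mem (inv_mem ha'Q) hq
    have hQ'p : IsPGroup p ((Q : Subgroup ↥(a.range ⊔ N)).map (a.range ⊔ N).subtype) :=
      Q.isPGroup'.map _
    have hQ'N := inf_eq_bot_of_isPGroup_of_coprime hQ'p hN
    have hm1 : m ∈ ((Q : Subgroup ↥(a.range ⊔ N)).map (a.range ⊔ N).subtype) ⊓ N :=
      ⟨⟨⟨m, hmX⟩, hmQ, rfl⟩, hm⟩
    rw [hQ'N, mem_bot] at hm1
    rw [mem_subgroupOf, hqe, hm1, mul_one]
    exact ha'
  obtain ⟨y, hyX, hy⟩ := hSyl.exists_conj_le hBX hB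
  obtain ⟨a', ha', m, hm, rfl⟩ := mem_sup_of_le_normalizer hANn hyX
  refine ⟨m, hm, fun x => ?_⟩
  have h1 : cj (a' * m) (b x) ∈ a.range := hy ⟨b x, ⟨x, rfl⟩, rfl⟩
  have h2 : m * b x * m⁻¹ ∈ a.range := by
    have h3 := a.range.mul_mem (a.range.mul_mem (a.range.inv_mem ha') h1) ha'
    have e : a'⁻¹ * cj (a' * m) (b x) * a' = m * b x * m⁻¹ := by
      rw [cj_apply]; group
    rwa [e] at h3
  have h4 : (a x)⁻¹ * (m * b x * m⁻¹) ∈ a.range ⊓ N := by
    refine ⟨a.range.mul_mem (a.range.inv_mem ⟨x, rfl⟩) h2, ?_⟩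
    have e : (a x)⁻¹ * (m * b x * m⁻¹) =
        ((a x)⁻¹ * b x) * ((b x)⁻¹ * m * (b x)⁻¹⁻¹) * m⁻¹ := by group
    rw [e]
    exact N.mul_mem (N.mul_mem (hab x) (hNn.conj_mem m hm _)) (N.inv_mem hm)
  rw [hAN, mem_bot] at h4
  exact (inv_mul_eq_one.mp h4)

end Cfsg.Agent.Lib.Helper88
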