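import Cfsg.Agent.S5114
import Cfsg.Agent.Lib.Helper88.BcgloMain
import Cfsg.Agent.Lib.Helper88.CentricSub
import Cfsg.Prelude.Def_FusionComponents

/-!
# The least saturated subsystem of index prime to `p`

For a saturated fusion system `F` over `S` we construct the least saturated subsystem of `F` over
`S` of index prime to `p` as an intersection: of all subsystems `D` of `F` that contain the
`p`-elements of `Aut_F(P)` for `F`-centric `P` and are closed under "an automorphism of `S` in `F`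
whose restriction to some `F`-centric subgroup lies in `D` lies in `D`".
-/

set_option autoImplicit false

namespace Cfsg.Agent.Lib.Helper88

open Cfsg Cfsg.FusionSystem
open Cfsg.Agent.Lib.Helper87 (restrict_mem hom_le hom_mem_S subtype_mem inv_exists finite_of_le
  le_normalizerIn normalizerIn_le comp_mem' range_le isConj_trans isConj_refl
  fc_fa_of_fullyNormalized receptive_of_fullyNormalized exists_fullyNormalized_conj
  autInducedBy_le_autGroup self_le_extender)
open Cfsg.Agent.Lib.Helper85 (SylIn)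

variable {Ω : Type*} [Group Ω] {S : Subgroup Ω}

/-! ### Intersections of fusion systems -/

/-- The intersection of the base system `F` with all the systems of the family `𝒞`. -/
def interSystem (F : FusionSystem S) (𝒞 : Set (FusionSystem S)) : FusionSystem S where
  Hom P := {φ | φ ∈ F.Hom P ∧ ∀ D ∈ 𝒞, φ ∈ D.Hom P}
  le_of_mem h := F.le_of_mem h.1
  injective_of_mem h := F.injective_of_mem h.1
  conj_mem hP hg := ⟨F.conj_mem hP hg, fun D _ => D.conj_mem hP hg⟩
  comp_mem hφ hψ h :=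
    ⟨F.comp_mem hφ.1 hψ.1 h, fun D hD => D.comp_mem (hφ.2 D hD) (hψ.2 D hD) h⟩
  inv_mem := by
    intro P φ hφ
    obtain ⟨ψ, hψ, hinv⟩ := F.inv_mem hφ.1
    refine ⟨ψ, ⟨hψ, fun D hD => ?_⟩, hinv⟩
    obtain ⟨ψ', hψ', hinv'⟩ := D.inv_mem (hφ.2 D hD)
    have : ψ' = ψ := by
      ext ⟨_, x, rfl⟩
      rw [hinv', hinv]
    exact this ▸ hψ'

theorem interSystem_le (F : FusionSystem S) (𝒞 : Set (FusionSystem S)) :
    interSystem F 𝒞 ≤ F := fun _ _ h => h.1

theorem interSystem_le_of_mem (F : FusionSystem S) {𝒞 : Set (FusionSystem S)} {D : FusionSystem S}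
    (hD : D ∈ 𝒞) : interSystem F 𝒞 ≤ D := fun _ _ h => h.2 D hD

theorem mem_autGroup_interSystem (F : FusionSystem S) (𝒞 : Set (FusionSystem S))
    {P : Subgroup Ω} (hP : P ≤ S) (α : MulAut P) :
    α ∈ (interSystem F 𝒞).autGroup P ↔ α ∈ F.autGroup P ∧ ∀ D ∈ 𝒞, α ∈ D.autGroup P := by
  rw [Cfsg.Agent.Lib.Helper87.mem_autGroup_iff _ hP, Cfsg.Agent.Lib.Helper87.mem_autGroup_iff F hP]
  constructor
  · rintro ⟨h1, h2⟩
    exact ⟨h1, fun D hD => (Cfsg.Agent.Lib.Helper87.mem_autGroup_iff D hP α).mpr (h2 D hD)⟩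
  · rintro ⟨h1, h2⟩
    exact ⟨h1, fun D hD => (Cfsg.Agent.Lib.Helper87.mem_autGroup_iff D hP α).mp (h2 D hD)⟩

/-! ### The class of subsystems -/

/-- The restriction to `P ≤ S` of an automorphism of `S`, as a map into the ambient group. -/
def resAutHom (α : MulAut S) (P : Subgroup Ω) (hP : P ≤ S) : P →* Ω :=
  (S.subtype.comp α.toMonoidHom).comp (Subgroup.inclusion hP)

theorem resAutHom_apply (α : MulAut S) (P : Subgroup Ω) (hP : P ≤ S) (x : P) :
    resAutHom α P hP x = ((α ⟨x, hP x.2⟩ : S) : Ω) := rfl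

theorem resAutHom_mem (F : FusionSystem S) {α : MulAut S} (hα : α ∈ F.autGroup S)
    (P : Subgroup Ω) (hP : P ≤ S) : resAutHom α P hP ∈ F.Hom P :=
  restrict_mem F ((Cfsg.Agent.Lib.Helper87.mem_autGroup_iff F le_rfl α).mp hα) hP

/-- `D` contains the `p`-elements of `Aut_F(P)` for all `F`-centric `P`. -/
def PGenContains (p : ℕ) (F D : FusionSystem S) : Prop :=
  ∀ P : Subgroup Ω, F.IsCentric P →
    (Subgroup.closure {α : ↥(F.autGroup P) | ∃ k : ℕ, orderOf α = p ^ k}).map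
      (F.autGroup P).subtype ≤ D.autGroup P

/-- an automorphism of `S` in `F` whose restriction to some `F`-centric subgroup lies in `D` lies
in `D` -/
def ResClosed (F D : FusionSystem S) : Prop :=
  ∀ α ∈ F.autGroup S, ∀ (P : Subgroup Ω) (hP : P ≤ S), F.IsCentric P →
    resAutHom α P hP ∈ D.Hom P → α ∈ D.autGroup S

/-- the class of systems over which we intersect -/
def ppClass (p : ℕ) (F : FusionSystem S) : Set (FusionSystem S) :=
  {D | PGenContains p F D ∧ ResClosed F D}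

/-- the candidate for `O^{p'}(F)` -/
def ppRes (p : ℕ) (F : FusionSystem S) : FusionSystem S := interSystem F (ppClass p F)

theorem ppRes_le (p : ℕ) (F : FusionSystem S) : ppRes p F ≤ F := interSystem_le F _

theorem ppRes_le_of_mem {p : ℕ} {F D : FusionSystem S} (hD : D ∈ ppClass p F) : ppRes p F ≤ D :=
  interSystem_le_of_mem F hD

theorem ppRes_pGenContains (p : ℕ) (F : FusionSystem S) : PGenContains p F (ppRes p F) := by
  intro P hPc α hα
  rw [ppRes, mem_autGroup_interSystem F _ hPc.1]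
  refine ⟨?_, fun D hD => hD.1 P hPc hα⟩
  obtain ⟨a, -, rfl⟩ := hα
  exact a.2

theorem ppRes_resClosed (p : ℕ) (F : FusionSystem S) : ResClosed F (ppRes p F) := by
  intro α hα P hP hPc hres
  rw [ppRes, mem_autGroup_interSystem F _ le_rfl]
  exact ⟨hα, fun D hD => hD.2 α hα P hP hPc (hres.2 D hD)⟩


/-! ### Saturation -/

theorem autGroup_le_of_sub {E F : FusionSystem S} (h : E ≤ F) (P : Subgroup Ω) :
    E.autGroup P ≤ F.autGroup P := by
  unfold autGroup
  exact Subgroup.closure_mono (fun α hα => h P hα)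

theorem isCentric_self [Finite S] (F : FusionSystem S) : F.IsCentric S := by
  refine ⟨le_rfl, fun Q hQ => ?_⟩
  have hQS : Q ≤ S := Cfsg.Agent.Lib.Helper87.isConj_le_right F hQ
  have hc := card_eq_of_isConj F hQ
  have : Q = S := Subgroup.eq_of_le_of_card_ge hQS (by rw [hc])
  rw [this]
  exact inf_le_left

section sat

variable [Finite S] {p : ℕ} [Fact p.Prime]

theorem ppRes_facts (hS : IsPGroup p S) (F : FusionSystem S) (hF : F.IsSaturated p) :
    (ppRes p F).HasPrimeToPIndexIn F p ∧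
    (∀ (P : Subgroup Ω) (φ : P →* Ω), φ ∈ F.Hom P → ∃ α ∈ F.autGroup S,
      ∃ φ₀ ∈ (ppRes p F).Hom P, ∀ (x : P) (hx : φ₀ x ∈ S), φ x = ((α ⟨φ₀ x, hx⟩ : S) : Ω)) ∧
    ∀ P : Subgroup Ω, (ppRes p F).IsCentric P ↔ F.IsCentric P :=
  Cfsg.Agent.S5114.result p hS F hF (ppRes p F) (ppRes_le p F) (ppRes_pGenContains p F)

/-- a map of `F` whose restriction to an `F`-centric subgroup lies in `ppRes` lies in `ppRes` -/
theorem ppRes_mem_of_restrict (hS : IsPGroup p S) (F : FusionSystem S) (hF : F.IsSaturated p)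
    {R N : Subgroup Ω} (hRN : R ≤ N) (hRc : F.IsCentric R) {ψ : N →* Ω} (hψ : ψ ∈ F.Hom N)
    (hres : ψ.comp (Subgroup.inclusion hRN) ∈ (ppRes p F).Hom R) : ψ ∈ (ppRes p F).Hom N := by
  obtain ⟨-, hfrat, -⟩ := ppRes_facts hS F hF
  obtain ⟨α, hα, ψ₀, hψ₀, he⟩ := hfrat N ψ hψ
  have hψ₀S : ∀ x : N, ψ₀ x ∈ S := fun x => hom_mem_S _ hψ₀ x
  have hρ₀ : ψ₀.comp (Subgroup.inclusion hRN) ∈ (ppRes p F).Hom R := restrict_mem _ hψ₀ hRN
  set ρ₀ := ψ₀.comp (Subgroup.inclusion hRN) with hρ₀def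
  have hR₀S : ρ₀.range ≤ S := range_le _ hρ₀
  have hR₀c : F.IsCentric ρ₀.range :=
    isCentric_of_isConj F hRc ⟨ρ₀, ppRes_le p F _ hρ₀, rfl⟩
  obtain ⟨θ, hθ, hθe, -⟩ := exists_comp_inv (ppRes p F) hρ₀ hres rfl
  have hθα : resAutHom α ρ₀.range hR₀S = θ := by
    ext ⟨_, x, rfl⟩
    rw [hθe x ⟨x, rfl⟩, resAutHom_apply]
    show _ = ψ (Subgroup.inclusion hRN x)
    rw [he _ (hψ₀S _)]
    rfl
  have hαE : α ∈ (ppRes p F).autGroup S :=
    ppRes_resClosed p F α hα ρ₀.range hR₀S hR₀c (hθα ▸ hθ)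
  have hαE' := (Cfsg.Agent.Lib.Helper87.mem_autGroup_iff (ppRes p F) le_rfl α).mp hαE
  exact mem_of_factor (ppRes p F) hψ₀ hψ₀S hαE' (fun x => (he x (hψ₀S x)).symm)

theorem ppRes_hsat (hS : IsPGroup p S) (F : FusionSystem S) (hF : F.IsSaturated p)
    {P : Subgroup Ω} (hPc : F.IsCentric P) :
    ∃ Q, (ppRes p F).IsConj P Q ∧ (ppRes p F).IsFullyAutomized p Q ∧
      (ppRes p F).IsReceptive Q := by
  have hPS : P ≤ S := hPc.1
  obtain ⟨-, hfrat, -⟩ := ppRes_facts hS F hF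
  obtain ⟨P', hPP', hfn⟩ := exists_fullyNormalized_conj F hPS
  obtain ⟨φ, hφ, hφr⟩ := hPP'
  obtain ⟨α, hα, φ₀, hφ₀, he⟩ := hfrat P φ hφ
  have hφ₀S : ∀ x : P, φ₀ x ∈ S := fun x => hom_mem_S _ hφ₀ x
  have hQS : φ₀.range ≤ S := range_le _ hφ₀
  have hEconj : (ppRes p F).IsConj P φ₀.range := ⟨φ₀, hφ₀, rfl⟩
  have hFconj : F.IsConj P φ₀.range := ⟨φ₀, ppRes_le p F _ hφ₀, rfl⟩
  -- `Q` is fully normalized in `F`
  have hup : UpTo F P' φ₀.range := by
    have hα' : α⁻¹ ∈ F.autGroup S := (F.autGroup S).inv_mem hα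
    refine ⟨resAutHom α⁻¹ (normalizerIn S P') (normalizerIn_le S P'),
      resAutHom_mem F hα' _ _, ?_⟩
    ext y
    rw [mem_imgOf]
    constructor
    · rintro ⟨x, hx, rfl⟩
      have hx' : (x : Ω) ∈ φ.range := by rw [hφr]; exact hx
      obtain ⟨z, hz⟩ := hx'
      refine ⟨z, ?_⟩
      rw [resAutHom_apply]
      have h1 : (⟨(x : Ω), normalizerIn_le S P' x.2⟩ : S) = α ⟨φ₀ z, hφ₀S z⟩ := by
        apply Subtype.ext
        rw [← he z (hφ₀S z), hz]
      rw [h1]
      simp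
    · rintro ⟨z, rfl⟩
      have hzP' : φ z ∈ P' := hφr ▸ ⟨z, rfl⟩
      refine ⟨⟨φ z, le_normalizerIn hfn.1 hzP'⟩, hzP', ?_⟩
      rw [resAutHom_apply]
      have h1 : (⟨φ z, normalizerIn_le S P' (le_normalizerIn hfn.1 hzP')⟩ : S) =
          α ⟨φ₀ z, hφ₀S z⟩ := by
        apply Subtype.ext
        rw [← he z (hφ₀S z)]
      rw [h1]
      simp
  have hQfn : F.IsFullyNormalized φ₀.range := by
    refine ⟨hQS, fun R hR => ?_⟩
    have h1 : F.IsConj P' R :=
      isConj_trans F (Cfsg.Agent.Lib.Helper87.isConj_symm F ⟨φ, hφ, hφr⟩) (isConj_trans F hFconj hR)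
    exact (hfn.2 R h1).trans hup.card_normalizerIn_le
  have hfaF : F.IsFullyAutomized p φ₀.range := (fc_fa_of_fullyNormalized hS F hF hQfn).2
  have hrecF : F.IsReceptive φ₀.range := receptive_of_fullyNormalized hS F hF hQfn
  refine ⟨φ₀.range, hEconj, ⟨hQS, ?_⟩, ⟨hQS, ?_⟩⟩
  · have hQfin : Finite φ₀.range := finite_of_le hQS
    have h1 : SylIn p (autInducedBy S φ₀.range) (F.autGroup φ₀.range) := hfaF.2
    exact h1.of_le (autInducedBy_le_autGroup (ppRes p F) hQS)
      (autGroup_le_of_sub (ppRes_le p F) _)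
  · intro R χ hχ hχr
    have hχF : χ ∈ F.Hom R := ppRes_le p F _ hχ
    obtain ⟨ψ, hψ, hagree⟩ := hrecF.2 R χ hχF hχr
    have hRN : R ≤ extender S R χ := self_le_extender F hχF
    have hRc : F.IsCentric R := by
      apply isCentric_of_isConj F hPc
      exact isConj_trans F hFconj (Cfsg.Agent.Lib.Helper87.isConj_symm F ⟨χ, hχF, hχr⟩)
    have hres : ψ.comp (Subgroup.inclusion hRN) = χ := by
      ext x
      exact hagree x x.2 (hRN x.2)
    exact ⟨ψ, ppRes_mem_of_restrict hS F hF hRN hRc hψ (by rw [hres]; exact hχ), hagree⟩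

omit [Fact (Nat.Prime p)] in
theorem ppRes_hgen (F : FusionSystem S) (E' : FusionSystem S)
    (h : ∀ P, F.IsCentric P → (ppRes p F).Hom P ⊆ E'.Hom P) : ppRes p F ≤ E' := by
  have hmem : interSystem (ppRes p F) {E'} ∈ ppClass p F := by
    constructor
    · intro P hPc α hα
      have h1 := ppRes_pGenContains p F P hPc hα
      rw [mem_autGroup_interSystem _ _ hPc.1]
      refine ⟨h1, fun D hD => ?_⟩
      rw [Set.mem_singleton_iff.mp hD]
      rw [Cfsg.Agent.Lib.Helper87.mem_autGroup_iff _ hPc.1] at h1 ⊢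
      exact h P hPc h1
    · intro α hα P hP hPc hres
      have h1 := ppRes_resClosed p F α hα P hP hPc hres.1
      rw [mem_autGroup_interSystem _ _ le_rfl]
      refine ⟨h1, fun D hD => ?_⟩
      rw [Set.mem_singleton_iff.mp hD]
      rw [Cfsg.Agent.Lib.Helper87.mem_autGroup_iff _ le_rfl] at h1 ⊢
      exact h S (isCentric_self F) h1
  intro P φ hφ
  exact (ppRes_le_of_mem hmem P hφ).2 E' rfl

theorem ppRes_saturated (hS : IsPGroup p S) (F : FusionSystem S) (hF : F.IsSaturated p) :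
    (ppRes p F).IsSaturated p := by
  obtain ⟨-, -, hcen⟩ := ppRes_facts hS F hF
  refine bcglo_saturated p hS (ppRes p F) {P | F.IsCentric P} ?_ ?_ ?_ ?_
  · intro P hP Q hPQ
    obtain ⟨φ, hφ, hφr⟩ := hPQ
    exact isCentric_of_isConj F hP ⟨φ, ppRes_le p F _ hφ, hφr⟩
  · intro P hP
    exact ppRes_hsat hS F hF hP
  · intro E' h
    exact ppRes_hgen F E' h
  · intro P hPc hP
    exact absurd ((hcen P).mp hPc) hP

theorem ppRes_le_of_saturated (hS : IsPGroup p S) (F : FusionSystem S) (hF : F.IsSaturated p)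
    (D : FusionSystem S) (hD : D.IsSaturated p) (hDF : D.HasPrimeToPIndexIn F p) :
    ppRes p F ≤ D := by
  apply ppRes_le_of_mem
  constructor
  · intro P hPc
    exact hDF.2 P hPc.1
  · intro α hα P hP hPc hres
    rw [Cfsg.Agent.Lib.Helper87.mem_autGroup_iff D le_rfl]
    have hψ := (Cfsg.Agent.Lib.Helper87.mem_autGroup_iff F le_rfl α).mp hα
    exact mem_of_restrict_mem hS F D hF hD hDF.1 _ hP rfl hPc hψ hres

/-- existence of the least saturated subsystem of index prime to `p` -/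
theorem isPPrimeResidual_ppRes (hS : IsPGroup p S) (F : FusionSystem S) (hF : F.IsSaturated p) :
    F.IsPPrimeResidual p (ppRes p F) :=
  ⟨ppRes_saturated hS F hF, (ppRes_facts hS F hF).1,
    fun D hD hDF => ppRes_le_of_saturated hS F hF D hD hDF⟩

end sat

end Cfsg.Agent.Lib.Helper88
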