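import Cfsg.Agent.Lib.Helper88.PPrimeRes

/-!
# Minimality of the `p'`-residual among subsystems that need not be saturated
-/

set_option autoImplicit false

namespace Cfsg.Agent.Lib.Helper88

open Cfsg Cfsg.FusionSystem

variable {Ω : Type*} [Group Ω] {T : Subgroup Ω} [Finite T] {p : ℕ} [Fact p.Prime]

/-- any `p'`-residual subsystem coincides with `ppRes` -/
theorem hom_eq_ppRes_of_isPPrimeResidual (hT : IsPGroup p T) (E : FusionSystem T)
    (hE : E.IsSaturated p) (D : FusionSystem T) (hD : E.IsPPrimeResidual p D) (P : Subgroup Ω) :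
    D.Hom P = (ppRes p E).Hom P := by
  have h := isPPrimeResidual_ppRes hT E hE
  exact Set.Subset.antisymm (hD.2.2 _ h.1 h.2.1 P) (h.2.2 _ hD.1 hD.2.1 P)

omit [Finite ↥T] [Fact (Nat.Prime p)] in
/-- `ppRes` lies in every (not necessarily saturated) system over `T` that contains the `p`-elements
of `Aut_E(P)` for `E`-centric `P` and is closed under: an element of `Aut_E(T)` whose restriction to
some `E`-centric subgroup lies in `Y` belongs to `Y`. -/
theorem ppRes_le_of_closed (E Y : FusionSystem T)
    (hY1 : ∀ P, E.IsCentric P → (Subgroup.closure {α : ↥(E.autGroup P) | ∃ k : ℕ,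
      orderOf α = p ^ k}).map (E.autGroup P).subtype ≤ Y.autGroup P)
    (hY2 : ∀ α ∈ E.autGroup T, ∀ (P : Subgroup Ω) (hPT : P ≤ T), E.IsCentric P →
      (T.subtype.comp α.toMonoidHom).comp (Subgroup.inclusion hPT) ∈ Y.Hom P → α ∈ Y.autGroup T) :
    ppRes p E ≤ Y := by
  have hmem : interSystem E {Y} ∈ ppClass p E := by
    constructor
    · intro P hPc α hα
      rw [mem_autGroup_interSystem _ _ hPc.1]
      refine ⟨?_, fun D hD => ?_⟩
      · obtain ⟨a, -, rfl⟩ := hα
        exact a.2
      · rw [Set.mem_singleton_iff.mp hD]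
        exact hY1 P hPc hα
    · intro α hα P hP hPc hres
      rw [mem_autGroup_interSystem _ _ le_rfl]
      refine ⟨hα, fun D hD => ?_⟩
      rw [Set.mem_singleton_iff.mp hD]
      exact hY2 α hα P hP hPc (hres.2 Y rfl)
  intro P φ hφ
  exact (ppRes_le_of_mem hmem P hφ).2 Y rfl

/-- the `p'`-residual of a saturated system lies in every (not necessarily saturated) system `Y`
over `T` that contains the `p`-elements of `Aut_E(P)` for `E`-centric `P` and is closed under:
an element of `Aut_E(T)` whose restriction to some `E`-centric subgroup lies in `Y` belongs to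
`Y`. -/
theorem residual_le_of_closed (hT : IsPGroup p T) (E : FusionSystem T) (hE : E.IsSaturated p)
    (D : FusionSystem T) (hD : E.IsPPrimeResidual p D) (Y : FusionSystem T)
    (hY1 : ∀ P, E.IsCentric P → (Subgroup.closure {α : ↥(E.autGroup P) | ∃ k : ℕ,
      orderOf α = p ^ k}).map (E.autGroup P).subtype ≤ Y.autGroup P)
    (hY2 : ∀ α ∈ E.autGroup T, ∀ (P : Subgroup Ω) (hPT : P ≤ T), E.IsCentric P →
      (T.subtype.comp α.toMonoidHom).comp (Subgroup.inclusion hPT) ∈ Y.Hom P → α ∈ Y.autGroup T) :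
    ∀ P, D.Hom P ⊆ Y.Hom P := by
  intro P
  rw [hom_eq_ppRes_of_isPPrimeResidual hT E hE D hD P]
  exact ppRes_le_of_closed E Y hY1 hY2 P

end Cfsg.Agent.Lib.Helper88
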