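import Cfsg.Agent.Lib.Helper88.BisetStep

set_option autoImplicit false

/-!
# A stable generated biset for an arbitrary fusion system
-/

namespace Cfsg.Agent.Lib.Helper88

open Cfsg Cfsg.FusionSystem MulAction
open Cfsg.Agent.Lib.Helper87 (restrict_mem hom_le hom_mem_S isConj_refl isConj_symm isConj_trans
  card_eq_of_isConj subtype_mem)

variable {Ω : Type*} [Group Ω] {S : Subgroup Ω}

/-- the diagonal of `S × S` -/
def diagS (S : Subgroup Ω) : Subgroup (S × S) := tw S.subtype (le_refl S) (fun x => x.2)

theorem inTw_diagS (F : FusionSystem S) : InTw F (diagS S) :=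
  ⟨S, S.subtype, subtype_mem F (le_refl S), isGraphOf_tw _ _ _⟩

theorem InTw.card_le [Finite S] {F : FusionSystem S} {D : Subgroup (S × S)} (h : InTw F D) :
    Nat.card D ≤ Nat.card S := by
  rw [h.card_eq]
  exact Subgroup.card_le_of_le (pr1_le D)

theorem fixq_self_dvd [Finite S] (D : Subgroup (S × S)) : fixq D D ∣ Nat.card (S × S) := by
  have h1 := fixq_self D
  have h2 : Nat.card (Subgroup.normalizer ((D : Subgroup (S × S)) : Set (S × S))) ∣
      Nat.card (S × S) := Subgroup.card_subgroup_dvd_card _
  exact Dvd.dvd.trans ⟨_, h1.symm⟩ h2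

theorem gen_smul {F : FusionSystem S} {m : Subgroup (S × S) → ℕ} (hgen : Gen F m) (c : ℕ) :
    Gen F (c • m) := by
  intro H hH
  apply hgen H
  intro h0
  apply hH
  rw [Pi.smul_apply, h0, smul_zero]

theorem stabGe_smul [Finite S] {F : FusionSystem S} {m : Subgroup (S × S) → ℕ} {k : ℕ}
    (h : StabGe F m k) (c : ℕ) : StabGe F (c • m) k := by
  intro D D' hD hD' hk hc
  rw [mark_smul, mark_smul, h D D' hD hD' hk hc]

/-- a generated biset, stable on all graphs of order `≥ |S| + 1 - j`, containing the orbit `S` -/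
theorem exists_stable_ge [Finite S] (F : FusionSystem S) (j : ℕ) :
    ∃ m : Subgroup (S × S) → ℕ, Gen F m ∧ StabGe F m (Nat.card S + 1 - j) ∧ 1 ≤ m (diagS S) := by
  classical
  have := Fintype.ofFinite (Subgroup (S × S))
  induction j with
  | zero =>
    refine ⟨Pi.single (diagS S) 1, ?_, ?_, ?_⟩
    · intro H hH
      by_cases h : H = diagS S
      · rw [h]
        exact inTw_diagS F
      · exact absurd (Pi.single_eq_of_ne h 1) hH
    · intro D D' hD _ hk _
      have := hD.card_le
      omega
    · rw [Pi.single_eq_same]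
  | succ j ih =>
    obtain ⟨m, hgen, hstab, hdiag⟩ := ih
    rcases Nat.eq_zero_or_pos (Nat.card S + 1 - j) with h0 | hpos
    · refine ⟨m, hgen, ?_, hdiag⟩
      have : Nat.card S + 1 - (j + 1) = Nat.card S + 1 - j := by omega
      rw [this]
      exact hstab
    · have hk : Nat.card S + 1 - (j + 1) + 1 = Nat.card S + 1 - j := by omega
      set k := Nat.card S + 1 - (j + 1) with hkdef
      rw [← hk] at hstab
      -- replicate
      set c := Nat.card (S × S) with hc
      have hcpos : 0 < c := Nat.card_pos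
      have hgen₁ : Gen F (c • m) := gen_smul hgen c
      have hstab₁ : StabGe F (c • m) (k + 1) := stabGe_smul hstab c
      have hT : ∀ D : Subgroup (S × S), InTw F D → Nat.card D = k →
          ∃ T : ℕ, ∀ D' ∈ twClass F D, mark (c • m) D' ≤ T ∧ fixq D' D' ∣ T - mark (c • m) D' := by
        intro D _ _
        refine ⟨c * ∑ V : Subgroup (S × S), mark m V, fun D' _ => ?_⟩
        have hle : mark m D' ≤ ∑ V : Subgroup (S × S), mark m V :=
          Finset.single_le_sum (f := fun V => mark m V) (fun _ _ => Nat.zero_le _)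
            (Finset.mem_univ D')
        rw [mark_smul]
        refine ⟨Nat.mul_le_mul_left c hle, ?_⟩
        rw [← Nat.mul_sub]
        exact Dvd.dvd.mul_right (fixq_self_dvd D') _
      obtain ⟨m', hgen', hstab', -, hle', -⟩ := exists_step F (c • m) k hgen₁ hstab₁ hT
      refine ⟨m', hgen', hstab', ?_⟩
      have h1 := hle' (diagS S)
      rw [Pi.smul_apply, smul_eq_mul] at h1
      have h2 : 1 ≤ c * m (diagS S) := Nat.one_le_iff_ne_zero.mpr
        (Nat.mul_ne_zero hcpos.ne' (by omega))
      omega

/-- **A stable biset for an arbitrary fusion system.** -/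
theorem exists_stable [Finite S] (F : FusionSystem S) :
    ∃ m : Subgroup (S × S) → ℕ, Gen F m ∧ StabGe F m 0 ∧ 1 ≤ m (diagS S) := by
  obtain ⟨m, h1, h2, h3⟩ := exists_stable_ge F (Nat.card S + 1)
  refine ⟨m, h1, ?_, h3⟩
  have : Nat.card S + 1 - (Nat.card S + 1) = 0 := by omega
  rwa [this] at h2

end Cfsg.Agent.Lib.Helper88
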