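import Cfsg.Agent.Lib.Helper84.PCore
import Cfsg.Prelude.Def_Solvable

/-!
# Pp mini-hive (helper91, S3753), leaf PP-AB: the case of abelian Sylow `p`-subgroups.
-/

set_option autoImplicit false
open Cfsg

namespace Cfsg.Agent.Lib.Helper91.Pp

/-- If `C_M(O_p(M)) ≤ O_p(M)` then an abelian Sylow `p`-subgroup of `M` equals `O_p(M)`. -/
theorem ab_sylow_eq_pCore {M : Type*} [Group M] [Finite M] {p : ℕ} [Fact p.Prime]
    (hc : Subgroup.centralizer (Cfsg.pCore p M : Set M) ≤ Cfsg.pCore p M) (S : Sylow p M)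
    (hab : IsMulCommutative (S : Subgroup M)) : (S : Subgroup M) = Cfsg.pCore p M := by
  apply le_antisymm
  · intro x hx
    apply hc
    rw [Subgroup.mem_centralizer_iff]
    intro y hy
    have hyS : y ∈ (S : Subgroup M) := Cfsg.Agent.Lib.Helper84.pCore_le_sylow S hy
    have := hab.is_comm.comm (⟨y, hyS⟩ : (S : Subgroup M)) ⟨x, hx⟩
    exact congrArg Subtype.val this
  · exact Cfsg.Agent.Lib.Helper84.pCore_le_sylow S

/-- a `p`-subgroup of `G` inside `M` lies in the image of `O_p(M)` when all Sylow `p`-subgroups of `M` are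
abelian and `C_M(O_p(M)) ≤ O_p(M)` -/
theorem ab_pgroup_le {G : Type*} [Group G] [Finite G] {p : ℕ} [Fact p.Prime] (M : Subgroup G)
    (hc : Subgroup.centralizer (Cfsg.pCore p ↥M : Set ↥M) ≤ Cfsg.pCore p ↥M)
    (hab : ∀ S : Sylow p ↥M, IsMulCommutative (S : Subgroup ↥M))
    (Q : Subgroup G) (hQ : IsPGroup p Q) (hQM : Q ≤ M) :
    Q ≤ (Cfsg.pCore p ↥M).map M.subtype := by
  have h1 : IsPGroup p (Q.subgroupOf M) := hQ.comap_subtype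
  obtain ⟨S, hS⟩ := h1.exists_le_sylow
  have h2 := ab_sylow_eq_pCore hc S (hab S)
  intro x hx
  refine ⟨⟨x, hQM hx⟩, ?_, rfl⟩
  rw [SetLike.mem_coe, ← h2]
  apply hS
  rw [Subgroup.mem_subgroupOf]
  exact hx

/-- `O_p(M) = 1` and `C_M(O_p(M)) ≤ O_p(M)` force `M = 1` -/
theorem ab_eq_bot {G : Type*} [Group G] {p : ℕ} (M : Subgroup G)
    (hc : Subgroup.centralizer (Cfsg.pCore p ↥M : Set ↥M) ≤ Cfsg.pCore p ↥M)
    (h : (Cfsg.pCore p ↥M).map M.subtype = ⊥) : M = ⊥ := by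
  have h1 : Cfsg.pCore p ↥M = ⊥ :=
    (Subgroup.map_eq_bot_iff_of_injective _ M.subtype_injective).mp h
  rw [eq_bot_iff]
  intro g hg
  have h2 : (⟨g, hg⟩ : ↥M) ∈ Subgroup.centralizer (Cfsg.pCore p ↥M : Set ↥M) := by
    rw [Subgroup.mem_centralizer_iff]
    intro y hy
    rw [SetLike.mem_coe, h1, Subgroup.mem_bot] at hy
    rw [hy, one_mul, mul_one]
  have h3 := hc h2
  rw [h1, Subgroup.mem_bot] at h3
  rw [Subgroup.mem_bot]
  exact congrArg Subtype.val h3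

/-- PP-AB: the case of abelian Sylow `p`-subgroups (used for `p = 2`). -/
theorem abelian_sylow_case {G : Type*} [Group G] [Finite G] {p : ℕ} [Fact p.Prime]
    (M₁ M₂ : Subgroup G) (hne : M₁ ≠ M₂)
    (hP : ∀ A : Subgroup G, A ≠ ⊥ → A ≤ M₁ ⊓ M₂ →
      (M₁ ≤ Subgroup.normalizer (A : Set G) → M₂ ⊓ Subgroup.normalizer (A : Set G) = M₁ ⊓ M₂) ∧
      (M₂ ≤ Subgroup.normalizer (A : Set G) → M₁ ⊓ Subgroup.normalizer (A : Set G) = M₁ ⊓ M₂))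
    (hc₁ : Subgroup.centralizer (Cfsg.pCore p ↥M₁ : Set ↥M₁) ≤ Cfsg.pCore p ↥M₁)
    (hc₂ : Subgroup.centralizer (Cfsg.pCore p ↥M₂ : Set ↥M₂) ≤ Cfsg.pCore p ↥M₂)
    (hO : (Cfsg.pCore p ↥M₁).map M₁.subtype ⊔ (Cfsg.pCore p ↥M₂).map M₂.subtype ≤ M₁ ⊓ M₂)
    (hab₁ : ∀ S : Sylow p ↥M₁, IsMulCommutative (S : Subgroup ↥M₁))
    (hab₂ : ∀ S : Sylow p ↥M₂, IsMulCommutative (S : Subgroup ↥M₂)) : False := by
  have hQ₁ : IsPGroup p ((Cfsg.pCore p ↥M₁).map M₁.subtype) :=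
    (Cfsg.Agent.Lib.Helper84.pCore_isPGroup p ↥M₁).map M₁.subtype
  have hQ₂ : IsPGroup p ((Cfsg.pCore p ↥M₂).map M₂.subtype) :=
    (Cfsg.Agent.Lib.Helper84.pCore_isPGroup p ↥M₂).map M₂.subtype
  have h1le : (Cfsg.pCore p ↥M₁).map M₁.subtype ≤ M₁ ⊓ M₂ := le_trans le_sup_left hO
  have h2le : (Cfsg.pCore p ↥M₂).map M₂.subtype ≤ M₁ ⊓ M₂ := le_trans le_sup_right hO
  have h21 : (Cfsg.pCore p ↥M₂).map M₂.subtype ≤ (Cfsg.pCore p ↥M₁).map M₁.subtype :=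
    ab_pgroup_le M₁ hc₁ hab₁ _ hQ₂ (le_trans h2le inf_le_left)
  have h12 : (Cfsg.pCore p ↥M₁).map M₁.subtype ≤ (Cfsg.pCore p ↥M₂).map M₂.subtype :=
    ab_pgroup_le M₂ hc₂ hab₂ _ hQ₁ (le_trans h1le inf_le_right)
  have heq : (Cfsg.pCore p ↥M₁).map M₁.subtype = (Cfsg.pCore p ↥M₂).map M₂.subtype :=
    le_antisymm h12 h21
  -- normalizers
  have hn₁ : M₁ ≤ Subgroup.normalizer (((Cfsg.pCore p ↥M₁).map M₁.subtype : Subgroup G) : Set G) := by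
    intro g hg
    rw [Subgroup.mem_normalizer_iff]
    intro x
    constructor
    · rintro ⟨y, hy, rfl⟩
      refine ⟨⟨g, hg⟩ * y * ⟨g, hg⟩⁻¹, ?_, rfl⟩
      exact (Cfsg.Agent.Lib.Helper84.pCore_normal p ↥M₁).conj_mem y hy ⟨g, hg⟩
    · rintro ⟨y, hy, hyx⟩
      refine ⟨⟨g, hg⟩⁻¹ * y * ⟨g, hg⟩, ?_, ?_⟩
      · have := (Cfsg.Agent.Lib.Helper84.pCore_normal p ↥M₁).conj_mem y hy ⟨g, hg⟩⁻¹
        simpa using this
      · have h5 : (M₁.subtype y : G) = g * x * g⁻¹ := hyx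
        show M₁.subtype (⟨g, hg⟩⁻¹ * y * ⟨g, hg⟩) = x
        rw [map_mul, map_mul, map_inv, h5]
        show g⁻¹ * (g * x * g⁻¹) * g = x
        group
  have hn₂ : M₂ ≤ Subgroup.normalizer (((Cfsg.pCore p ↥M₂).map M₂.subtype : Subgroup G) : Set G) := by
    intro g hg
    rw [Subgroup.mem_normalizer_iff]
    intro x
    constructor
    · rintro ⟨y, hy, rfl⟩
      refine ⟨⟨g, hg⟩ * y * ⟨g, hg⟩⁻¹, ?_, rfl⟩
      exact (Cfsg.Agent.Lib.Helper84.pCore_normal p ↥M₂).conj_mem y hy ⟨g, hg⟩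
    · rintro ⟨y, hy, hyx⟩
      refine ⟨⟨g, hg⟩⁻¹ * y * ⟨g, hg⟩, ?_, ?_⟩
      · have := (Cfsg.Agent.Lib.Helper84.pCore_normal p ↥M₂).conj_mem y hy ⟨g, hg⟩⁻¹
        simpa using this
      · have h5 : (M₂.subtype y : G) = g * x * g⁻¹ := hyx
        show M₂.subtype (⟨g, hg⟩⁻¹ * y * ⟨g, hg⟩) = x
        rw [map_mul, map_mul, map_inv, h5]
        show g⁻¹ * (g * x * g⁻¹) * g = x
        group
  -- `A ≠ ⊥`
  have hA : (Cfsg.pCore p ↥M₁).map M₁.subtype ≠ ⊥ := by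
    intro hbot
    have e1 : M₁ = ⊥ := ab_eq_bot M₁ hc₁ hbot
    have e2 : M₂ = ⊥ := ab_eq_bot M₂ hc₂ (heq ▸ hbot)
    exact hne (e1.trans e2.symm)
  obtain ⟨hA1, hA2⟩ := hP _ hA h1le
  have hn₂' : M₂ ≤ Subgroup.normalizer (((Cfsg.pCore p ↥M₁).map M₁.subtype : Subgroup G) : Set G) := by
    rw [heq]; exact hn₂
  have e1 := hA1 hn₁
  have e2 := hA2 hn₂'
  rw [inf_eq_left.mpr hn₂'] at e1
  rw [inf_eq_left.mpr hn₁] at e2
  have l1 : M₂ ≤ M₁ := by rw [e1]; exact inf_le_left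
  have l2 : M₁ ≤ M₂ := by rw [e2]; exact inf_le_right
  exact hne (le_antisymm l2 l1)

end Cfsg.Agent.Lib.Helper91.Pp
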