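import Cfsg.Agent.Lib.Helper88.TwDiag

set_option autoImplicit false

/-!
# Transport of graphs along a product of two maps of the system
-/

namespace Cfsg.Agent.Lib.Helper88

open Cfsg Cfsg.FusionSystem
open Cfsg.Agent.Lib.Helper87 (restrict_mem hom_le hom_mem_S isConj_refl isConj_symm isConj_trans
  inv_exists comp_mem')

variable {Ω : Type*} [Group Ω] {S : Subgroup Ω}

/-- the subgroup `A × B` of `S × S` -/
def prodSub (S A B : Subgroup Ω) : Subgroup (S × S) :=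
  (A.subgroupOf S).prod (B.subgroupOf S)

theorem mem_prodSub {A B : Subgroup Ω} {g : S × S} :
    g ∈ prodSub S A B ↔ (g.1 : Ω) ∈ A ∧ (g.2 : Ω) ∈ B := by
  unfold prodSub
  rw [Subgroup.mem_prod, Subgroup.mem_subgroupOf, Subgroup.mem_subgroupOf]

/-- the homomorphism `α × β` on `A × B` -/
def prodHom {A B : Subgroup Ω} (α : A →* Ω) (β : B →* Ω) (hα : ∀ x, α x ∈ S)
    (hβ : ∀ x, β x ∈ S) : ↥(prodSub S A B) →* S × S where
  toFun g := (⟨α ⟨g.1.1, (mem_prodSub.mp g.2).1⟩, hα _⟩, ⟨β ⟨g.1.2, (mem_prodSub.mp g.2).2⟩, hβ _⟩)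
  map_one' := by
    apply Prod.ext
    · apply Subtype.ext
      exact map_one α
    · apply Subtype.ext
      exact map_one β
  map_mul' := by
    intro g h
    apply Prod.ext
    · apply Subtype.ext
      exact map_mul α ⟨g.1.1, (mem_prodSub.mp g.2).1⟩ ⟨h.1.1, (mem_prodSub.mp h.2).1⟩
    · apply Subtype.ext
      exact map_mul β ⟨g.1.2, (mem_prodSub.mp g.2).2⟩ ⟨h.1.2, (mem_prodSub.mp h.2).2⟩

theorem prodHom_fst {A B : Subgroup Ω} (α : A →* Ω) (β : B →* Ω) (hα : ∀ x, α x ∈ S)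
    (hβ : ∀ x, β x ∈ S) (g : ↥(prodSub S A B)) :
    (((prodHom α β hα hβ g).1 : S) : Ω) = α ⟨g.1.1, (mem_prodSub.mp g.2).1⟩ := rfl

theorem prodHom_snd {A B : Subgroup Ω} (α : A →* Ω) (β : B →* Ω) (hα : ∀ x, α x ∈ S)
    (hβ : ∀ x, β x ∈ S) (g : ↥(prodSub S A B)) :
    (((prodHom α β hα hβ g).2 : S) : Ω) = β ⟨g.1.2, (mem_prodSub.mp g.2).2⟩ := rfl

/-- a graph inside `A × B` is mapped to a graph -/
theorem transport_map (F : FusionSystem S) {A B : Subgroup Ω} {α : A →* Ω} {β : B →* Ω}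
    (hα : α ∈ F.Hom A) (hβ : β ∈ F.Hom B) (W : Subgroup ↥(prodSub S A B))
    (h : InTw F (W.map (prodSub S A B).subtype)) :
    InTw F (W.map (prodHom α β (hom_mem_S F hα) (hom_mem_S F hβ))) ∧
      F.IsConj (pr1 (W.map (prodSub S A B).subtype))
        (pr1 (W.map (prodHom α β (hom_mem_S F hα) (hom_mem_S F hβ)))) := by
  obtain ⟨Q, ψ, hψ, hD⟩ := h
  have hQS := hom_le F hψ
  have hψS := hom_mem_S F hψ
  have hmem : ∀ q : Q, ∃ w ∈ W, ((w : S × S).1 : Ω) = q ∧ ((w : S × S).2 : Ω) = ψ q := by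
    intro q
    obtain ⟨w, hw, hw2⟩ := (hD (⟨q, hQS q.2⟩, ⟨ψ q, hψS q⟩)).mpr ⟨q, rfl, rfl⟩
    refine ⟨w, hw, ?_, ?_⟩
    · exact congrArg (fun g : S × S => (g.1 : Ω)) hw2
    · exact congrArg (fun g : S × S => (g.2 : Ω)) hw2
  have hQA : Q ≤ A := by
    intro q hq
    obtain ⟨w, -, h1, -⟩ := hmem ⟨q, hq⟩
    have : (q : Ω) = ((w : S × S).1 : Ω) := h1.symm
    rw [this]
    exact (mem_prodSub.mp w.2).1
  have hQB : ∀ q : Q, ψ q ∈ B := by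
    intro q
    obtain ⟨w, -, -, h2⟩ := hmem q
    rw [← h2]
    exact (mem_prodSub.mp w.2).2
  refine InTw.transport F hψ hD hα hβ hQA hQB fun g' => ?_
  constructor
  · rintro ⟨w, hw, rfl⟩
    obtain ⟨q, hq1, hq2⟩ := (hD _).mp ⟨w, hw, rfl⟩
    refine ⟨q, ?_, ?_⟩
    · rw [prodHom_fst]
      congr 1
      exact Subtype.ext hq1
    · rw [prodHom_snd]
      congr 1
      exact Subtype.ext hq2
  · rintro ⟨q, h1, h2⟩
    obtain ⟨w, hw, e1, e2⟩ := hmem q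
    refine ⟨w, hw, ?_⟩
    apply Prod.ext
    · apply Subtype.ext
      rw [prodHom_fst, ← h1]
      congr 1
      exact Subtype.ext e1
    · apply Subtype.ext
      rw [prodHom_snd, ← h2]
      congr 1
      exact Subtype.ext e2

/-- a subgroup of `A × B` mapped to a graph is a graph -/
theorem transport_map_inv (F : FusionSystem S) {A B : Subgroup Ω} {α : A →* Ω} {β : B →* Ω}
    (hα : α ∈ F.Hom A) (hβ : β ∈ F.Hom B) (W : Subgroup ↥(prodSub S A B))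
    (h : InTw F (W.map (prodHom α β (hom_mem_S F hα) (hom_mem_S F hβ)))) :
    InTw F (W.map (prodSub S A B).subtype) := by
  obtain ⟨Q, ψ, hψ, hD⟩ := h
  have hQS := hom_le F hψ
  have hψS := hom_mem_S F hψ
  obtain ⟨ρa, hρa, hρainv, -⟩ := inv_exists F hα rfl
  obtain ⟨ρb, hρb, hρbinv, -⟩ := inv_exists F hβ rfl
  have hmem : ∀ q : Q, ∃ w ∈ W, α ⟨w.1.1, (mem_prodSub.mp w.2).1⟩ = q ∧
      β ⟨w.1.2, (mem_prodSub.mp w.2).2⟩ = ψ q := by
    intro q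
    obtain ⟨w, hw, hw2⟩ := (hD (⟨q, hQS q.2⟩, ⟨ψ q, hψS q⟩)).mpr ⟨q, rfl, rfl⟩
    refine ⟨w, hw, ?_, ?_⟩
    · exact congrArg (fun g : S × S => (g.1 : Ω)) hw2
    · exact congrArg (fun g : S × S => (g.2 : Ω)) hw2
  have hQA : Q ≤ α.range := by
    intro q hq
    obtain ⟨w, -, h1, -⟩ := hmem ⟨q, hq⟩
    exact ⟨_, h1⟩
  have hQB : ∀ q : Q, ψ q ∈ β.range := by
    intro q
    obtain ⟨w, -, -, h2⟩ := hmem q
    exact ⟨_, h2⟩
  refine (InTw.transport F hψ hD hρa hρb hQA hQB fun g' => ?_).1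
  constructor
  · rintro ⟨w, hw, rfl⟩
    obtain ⟨q, hq1, hq2⟩ := (hD _).mp ⟨w, hw, rfl⟩
    rw [prodHom_fst] at hq1
    rw [prodHom_snd] at hq2
    refine ⟨q, ?_, ?_⟩
    · have e : (⟨q, hQA q.2⟩ : α.range) = ⟨α ⟨w.1.1, (mem_prodSub.mp w.2).1⟩, ⟨_, rfl⟩⟩ :=
        Subtype.ext hq1
      rw [e]
      exact hρainv _ ⟨_, rfl⟩
    · have e : (⟨ψ q, hQB q⟩ : β.range) = ⟨β ⟨w.1.2, (mem_prodSub.mp w.2).2⟩, ⟨_, rfl⟩⟩ :=
        Subtype.ext hq2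
      rw [e]
      exact hρbinv _ ⟨_, rfl⟩
  · rintro ⟨q, h1, h2⟩
    obtain ⟨w, hw, e1, e2⟩ := hmem q
    refine ⟨w, hw, ?_⟩
    apply Prod.ext
    · apply Subtype.ext
      rw [← h1]
      have e : (⟨q, hQA q.2⟩ : α.range) = ⟨α ⟨w.1.1, (mem_prodSub.mp w.2).1⟩, ⟨_, rfl⟩⟩ :=
        Subtype.ext e1.symm
      rw [e]
      exact (hρainv ⟨w.1.1, (mem_prodSub.mp w.2).1⟩ ⟨_, rfl⟩).symm
    · apply Subtype.ext
      rw [← h2]
      have e : (⟨ψ q, hQB q⟩ : β.range) = ⟨β ⟨w.1.2, (mem_prodSub.mp w.2).2⟩, ⟨_, rfl⟩⟩ :=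
        Subtype.ext e2.symm
      rw [e]
      exact (hρbinv ⟨w.1.2, (mem_prodSub.mp w.2).2⟩ ⟨_, rfl⟩).symm

end Cfsg.Agent.Lib.Helper88
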