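import Cfsg.Agent.Lib.Helper88.QdSpan

set_option autoImplicit false

/-!
# A group involving `Qd(p)` carries a `Qd(p)`-configuration on a `p`-subgroup

If `π : A → Qd(p)` is surjective, `U` the preimage of the translation subgroup and `R` a Sylow
`p`-subgroup of `U`, then by the Frattini argument `N_A(R)` covers `Qd(p)` and `R` covers the
translations; this gives a configuration on `R` modulo `R ∩ ker π`.
-/

namespace Cfsg.Agent.Lib.Helper88

open Cfsg Matrix Cfsg.Agent.Lib.Helper35.Qd Cfsg.Agent.Lib.Helper11.Dickson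
open scoped MatrixGroups

variable {p : ℕ} [Fact p.Prime]

/-- the translation subgroup of `Qd(p)` -/
def qdTrans (p : ℕ) [Fact p.Prime] : Subgroup ↥(qd p) where
  carrier := {d | ∃ s : Fin 2 → ZMod p, (d : SL(3, ZMod p)) = aff s 1}
  one_mem' := ⟨0, aff_zero_one.symm⟩
  mul_mem' := by
    rintro a b ⟨s, hs⟩ ⟨s', hs'⟩
    refine ⟨s + s', ?_⟩
    rw [Subgroup.coe_mul, hs, hs', aff_mul]
    simp
  inv_mem' := by
    rintro a ⟨s, hs⟩
    refine ⟨-s, ?_⟩
    rw [Subgroup.coe_inv, hs, inv_eq_iff_mul_eq_one, aff_mul]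
    simp [aff_zero_one]

theorem mem_qdTrans {d : ↥(qd p)} :
    d ∈ qdTrans p ↔ ∃ s : Fin 2 → ZMod p, (d : SL(3, ZMod p)) = aff s 1 := Iff.rfl

instance qdTrans_normal : (qdTrans p).Normal := by
  constructor
  rintro n ⟨s, hs⟩ g
  obtain ⟨t, M, hg⟩ := exists_aff_of_mem_qd (g : SL(3, ZMod p)) g.2
  refine ⟨M.1 *ᵥ s, ?_⟩
  rw [Subgroup.coe_mul, Subgroup.coe_mul, Subgroup.coe_inv, hs, hg, mul_inv_eq_iff_eq_mul,
    aff_mul, aff_mul]
  simp [add_comm]

theorem aff_one_pow (s : Fin 2 → ZMod p) (k : ℕ) :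
    (aff s 1 : SL(3, ZMod p)) ^ k = aff (k • s) 1 := by
  induction k with
  | zero => simp [aff_zero_one]
  | succ k ih =>
    rw [pow_succ, ih, aff_mul, succ_nsmul]
    simp

theorem qdTrans_pow_p {d : ↥(qd p)} (hd : d ∈ qdTrans p) : d ^ p = 1 := by
  obtain ⟨s, hs⟩ := hd
  apply Subtype.ext
  rw [Subgroup.coe_pow, hs, aff_one_pow]
  have : (p • s : Fin 2 → ZMod p) = 0 := by
    funext i
    simp
  rw [this, aff_zero_one]
  rfl

theorem qdTrans_isPGroup : IsPGroup p ↥(qdTrans p) := by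
  rintro ⟨d, hd⟩
  refine ⟨1, ?_⟩
  apply Subtype.ext
  rw [pow_one, Subgroup.coe_pow]
  exact qdTrans_pow_p hd

/-- the four standard elements -/
def qdV (p : ℕ) [Fact p.Prime] : ↥(qd p) := ⟨aff ![1, 0] 1, aff_mem_qd _ _⟩
def qdW (p : ℕ) [Fact p.Prime] : ↥(qd p) := ⟨aff ![0, 1] 1, aff_mem_qd _ _⟩
def qdB (p : ℕ) [Fact p.Prime] : ↥(qd p) := ⟨aff 0 (sL 1), aff_mem_qd _ _⟩
def qdC (p : ℕ) [Fact p.Prime] : ↥(qd p) := ⟨aff 0 (sU 1), aff_mem_qd _ _⟩

theorem qdV_mem : qdV p ∈ qdTrans p := ⟨_, rfl⟩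
theorem qdW_mem : qdW p ∈ qdTrans p := ⟨_, rfl⟩

theorem qdV_ne_one : qdV p ≠ 1 := by
  intro h
  have h1 : (aff ![1, 0] 1 : SL(3, ZMod p)) = aff 0 1 := by
    have := congrArg (fun d : ↥(qd p) => (d : SL(3, ZMod p))) h
    simpa [qdV, aff_zero_one] using this
  have h2 := (aff_injective h1).1
  have h3 := congrFun h2 0
  simp at h3

theorem qd_vw : qdV p * qdW p = qdW p * qdV p := by
  apply Subtype.ext
  simp only [qdV, qdW, Subgroup.coe_mul, aff_mul]
  simp [add_comm]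

theorem qd_bv : qdB p * qdV p * (qdB p)⁻¹ = qdV p * qdW p := by
  rw [mul_inv_eq_iff_eq_mul]
  apply Subtype.ext
  simp only [qdV, qdW, qdB, Subgroup.coe_mul, aff_mul]
  congr 1
  · funext i
    fin_cases i <;> simp [sL]
  · simp

theorem qd_bw : qdB p * qdW p * (qdB p)⁻¹ = qdW p := by
  rw [mul_inv_eq_iff_eq_mul]
  apply Subtype.ext
  simp only [qdW, qdB, Subgroup.coe_mul, aff_mul]
  congr 1
  · funext i
    fin_cases i <;> simp [sL]
  · simp

theorem qd_cv : qdC p * qdV p * (qdC p)⁻¹ = qdV p := by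
  rw [mul_inv_eq_iff_eq_mul]
  apply Subtype.ext
  simp only [qdV, qdC, Subgroup.coe_mul, aff_mul]
  congr 1
  · funext i
    fin_cases i <;> simp [sU]
  · simp

theorem qd_cw : qdC p * qdW p * (qdC p)⁻¹ = qdV p * qdW p := by
  rw [mul_inv_eq_iff_eq_mul]
  apply Subtype.ext
  simp only [qdV, qdW, qdC, Subgroup.coe_mul, aff_mul]
  congr 1
  · funext i
    fin_cases i <;> simp [sU]
  · simp

/-- **Localization, step 1.** A finite group mapping onto `Qd(p)` carries a configuration on a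
`p`-subgroup. -/
theorem exists_cfg_of_surjective {A : Type*} [Group A] [Finite A] (π : A →* ↥(qd p))
    (hπ : Function.Surjective π) :
    ∃ (R R₀ : Subgroup A) (b c v w : A), IsPGroup p R ∧ QdCfg p R R₀ b c v w := by
  classical
  obtain ⟨U, hU⟩ : ∃ U : Subgroup A, U = (qdTrans p).comap π := ⟨_, rfl⟩
  have hUn : U.Normal := by
    rw [hU]
    infer_instance
  obtain ⟨P₀⟩ : Nonempty (Sylow p U) := Sylow.nonempty
  obtain ⟨R, hR⟩ : ∃ R : Subgroup A, R = (P₀ : Subgroup U).map U.subtype := ⟨_, rfl⟩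
  have hRp : IsPGroup p R := by
    rw [hR]
    exact P₀.isPGroup'.map _
  have hRU : R ≤ U := by
    rw [hR]
    exact Subgroup.map_subtype_le _
  have hfrat : Subgroup.normalizer (R : Set A) ⊔ U = ⊤ := by
    rw [hR]
    exact Sylow.normalizer_sup_eq_top P₀
  -- `R` covers the translations
  have hcov : ∀ d : ↥(qd p), d ∈ qdTrans p → ∃ r ∈ R, π r = d := by
    intro d hd
    let πU : U →* ↥(qdTrans p) := (π.subgroupComap (qdTrans p)).comp
      (MulEquiv.subgroupCongr hU).toMonoidHom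
    have hπU : Function.Surjective πU :=
      (π.subgroupComap_surjective_of_surjective (qdTrans p) hπ).comp
        (MulEquiv.subgroupCongr hU).surjective
    have h1 : ((P₀ : Subgroup U).map πU).index ∣ (P₀ : Subgroup U).index :=
      Subgroup.index_map_dvd _ hπU
    obtain ⟨n, hn⟩ := (qdTrans_isPGroup (p := p)).index ((P₀ : Subgroup U).map πU)
    have h2 : ¬ p ∣ (P₀ : Subgroup U).index := P₀.not_dvd_index
    have hn0 : n = 0 := by
      by_contra hne
      apply h2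
      apply dvd_trans _ h1
      rw [hn]
      exact dvd_pow_self p hne
    rw [hn0, pow_zero] at hn
    have htop : (P₀ : Subgroup U).map πU = ⊤ := Subgroup.index_eq_one.mp hn
    have hy : (⟨d, hd⟩ : ↥(qdTrans p)) ∈ (P₀ : Subgroup U).map πU := by
      rw [htop]
      exact Subgroup.mem_top _
    obtain ⟨x, hx, hxd⟩ := hy
    refine ⟨(x : A), ?_, ?_⟩
    · rw [hR]
      exact ⟨x, hx, rfl⟩
    · have := congrArg (fun z : ↥(qdTrans p) => (z : ↥(qd p))) hxd
      exact this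
  -- the normalizer of `R` covers `Qd(p)`
  have hcovN : ∀ d : ↥(qd p), ∃ n ∈ Subgroup.normalizer (R : Set A), π n = d := by
    intro d
    obtain ⟨a, rfl⟩ := hπ d
    have ha : a ∈ Subgroup.normalizer (R : Set A) ⊔ U := by
      rw [hfrat]
      exact Subgroup.mem_top a
    obtain ⟨n, hn, u, hu, rfl⟩ := Subgroup.mem_sup_of_normal_right.mp ha
    have hu' : π u ∈ qdTrans p := by
      rw [hU] at hu
      exact hu
    obtain ⟨r, hr, hru⟩ := hcov (π u) hu'
    refine ⟨n * r, Subgroup.mul_mem _ hn (Subgroup.le_normalizer hr), ?_⟩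
    rw [map_mul, map_mul, hru]
  obtain ⟨b, hbN, hb⟩ := hcovN (qdB p)
  obtain ⟨c, hcN, hc⟩ := hcovN (qdC p)
  obtain ⟨v, hvR, hv⟩ := hcov (qdV p) qdV_mem
  obtain ⟨w, hwR, hw⟩ := hcov (qdW p) qdW_mem
  have hbR : ∀ x ∈ R, b * x * b⁻¹ ∈ R := fun x hx => (Subgroup.mem_normalizer_iff.mp hbN x).mp hx
  have hcR : ∀ x ∈ R, c * x * c⁻¹ ∈ R := fun x hx => (Subgroup.mem_normalizer_iff.mp hcN x).mp hx
  have hker : ∀ x : A, x ∈ R → π x = 1 → x ∈ R ⊓ π.ker :=
    fun x hx h1 => ⟨hx, MonoidHom.mem_ker.mpr h1⟩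
  refine ⟨R, R ⊓ π.ker, b, c, v, w, hRp, ?_⟩
  refine
    { le := inf_le_left
      vR := hvR
      wR := hwR
      bR := hbR
      cR := hcR
      bR₀ := ?_
      cR₀ := ?_
      RR₀ := ?_
      v1 := ?_
      vp := ?_
      wp := ?_
      vw := ?_
      bv := ?_
      bw := ?_
      cv := ?_
      cw := ?_ }
  · rintro x ⟨hx, hxk⟩
    refine hker _ (hbR x hx) ?_
    rw [map_mul, map_mul, MonoidHom.mem_ker.mp hxk, mul_one, map_inv, mul_inv_cancel]
  · rintro x ⟨hx, hxk⟩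
    refine hker _ (hcR x hx) ?_
    rw [map_mul, map_mul, MonoidHom.mem_ker.mp hxk, mul_one, map_inv, mul_inv_cancel]
  · rintro r hr x ⟨hx, hxk⟩
    refine hker _ (R.mul_mem (R.mul_mem hr hx) (R.inv_mem hr)) ?_
    rw [map_mul, map_mul, MonoidHom.mem_ker.mp hxk, mul_one, map_inv, mul_inv_cancel]
  · rintro ⟨-, hvk⟩
    apply qdV_ne_one (p := p)
    rw [← hv]
    exact MonoidHom.mem_ker.mp hvk
  · refine hker _ (R.pow_mem hvR p) ?_
    rw [map_pow, hv]
    exact qdTrans_pow_p qdV_mem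
  · refine hker _ (R.pow_mem hwR p) ?_
    rw [map_pow, hw]
    exact qdTrans_pow_p qdW_mem
  · refine hker _ (R.mul_mem (R.inv_mem (R.mul_mem hwR hvR)) (R.mul_mem hvR hwR)) ?_
    rw [map_mul, map_inv, map_mul, map_mul, hv, hw, qd_vw, inv_mul_cancel]
  · refine hker _ (R.mul_mem (R.inv_mem (R.mul_mem hvR hwR)) (hbR v hvR)) ?_
    rw [map_mul, map_inv, map_mul, map_mul, map_mul, map_inv, hv, hw, hb, qd_bv, inv_mul_cancel]
  · refine hker _ (R.mul_mem (R.inv_mem hwR) (hbR w hwR)) ?_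
    rw [map_mul, map_inv, map_mul, map_mul, map_inv, hw, hb, qd_bw, inv_mul_cancel]
  · refine hker _ (R.mul_mem (R.inv_mem hvR) (hcR v hvR)) ?_
    rw [map_mul, map_inv, map_mul, map_mul, map_inv, hv, hc, qd_cv, inv_mul_cancel]
  · refine hker _ (R.mul_mem (R.inv_mem (R.mul_mem hvR hwR)) (hcR w hwR)) ?_
    rw [map_mul, map_inv, map_mul, map_mul, map_mul, map_inv, hv, hw, hc, qd_cw, inv_mul_cancel]

/-- **Localization, step 1 (sections).** -/
theorem exists_cfg_of_involves {G : Type*} [Group G] [Finite G] (h : Involves ↥(qd p) G) :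
    ∃ (R R₀ : Subgroup G) (b c v w : G), IsPGroup p R ∧ QdCfg p R R₀ b c v w := by
  obtain ⟨K, R', hn, ⟨e⟩⟩ := h
  obtain ⟨R, R₀, b, c, v, w, hR, hcfg⟩ := exists_cfg_of_surjective
    (e.toMonoidHom.comp (QuotientGroup.mk' (R'.subgroupOf K)))
    (e.surjective.comp (QuotientGroup.mk'_surjective _))
  exact ⟨R.map K.subtype, R₀.map K.subtype, b, c, v, w, hR.map _,
    hcfg.map K.subtype K.subtype_injective⟩

end Cfsg.Agent.Lib.Helper88
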