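import Cfsg.Agent.Lib.Helper88.QdLocal
import Cfsg.Agent.Lib.Helper88.ModelAbstract
import Cfsg.Agent.Lib.Helper85.Realized
import Cfsg.Agent.Lib.Helper87.NormalizerConstrained

set_option autoImplicit false

/-!
# The model of the normalizer of a centric subgroup in a group fusion system

For `Q ≤ P` fully normalized (`N_P(Q)` Sylow in `N_G(Q)`) with `C_P(Q) ≤ Q`, the centralizer
`C_G(Q)` is `Z(Q) × K` with `K` of order prime to `p`, and `N_G(Q) / K` is a model of `N_F(Q)`.
-/

namespace Cfsg.Agent.Lib.Helper88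

open Cfsg Cfsg.FusionSystem Subgroup
open Cfsg.Agent.Lib.Helper85 (cj cj_apply SylIn mem_map_cj map_cj_map_cj)

variable {G : Type*} [Group G] [Finite G] {p : ℕ} [Fact p.Prime]

omit [Finite G] [Fact p.Prime] in
theorem card_normalizer_map_cj (Q : Subgroup G) (g : G) :
    Nat.card (normalizer ((Q.map (cj g) : Subgroup G) : Set G)) = Nat.card (normalizer (Q : Set G)) := by
  rw [Cfsg.Agent.Lib.Helper85.normalizer_map_cj, Cfsg.Agent.Lib.Helper85.card_map_cj]

theorem isFullyNormalized_of_sylIn (P : Sylow p G) {Q : Subgroup G} (hQ : Q ≤ P)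
    (hsyl : SylIn p (normalizerIn (P : Subgroup G) Q) (normalizer (Q : Set G))) :
    (groupFusionSystem (P : Subgroup G)).IsFullyNormalized Q := by
  refine ⟨hQ, fun Q₁ hconj => ?_⟩
  obtain ⟨-, hQ₁P, g, rfl⟩ := Cfsg.Agent.Lib.Helper85.isConj_groupFusionSystem_iff.mp hconj
  have hle : normalizerIn (P : Subgroup G) Q ≤ normalizer (Q : Set G) := inf_le_right
  have hle' : normalizerIn (P : Subgroup G) (Q.map (cj g)) ≤
      normalizer ((Q.map (cj g) : Subgroup G) : Set G) := inf_le_right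
  rw [(Cfsg.Agent.Lib.Helper85.sylIn_iff_card hle).mp hsyl, ← card_normalizer_map_cj Q g]
  exact Cfsg.Agent.Lib.Helper85.card_le_of_isPGroup hle' (P.isPGroup'.to_le inf_le_left)

theorem sylIn_of_isFullyNormalized (P : Sylow p G) {Q : Subgroup G}
    (hfn : (groupFusionSystem (P : Subgroup G)).IsFullyNormalized Q) :
    SylIn p (normalizerIn (P : Subgroup G) Q) (normalizer (Q : Set G)) := by
  obtain ⟨hQ, hmax⟩ := hfn
  obtain ⟨g, hgP, hgsyl⟩ := Cfsg.Agent.Lib.Helper85.exists_conj_normalizer_sylIn P hQ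
  have hconj : (groupFusionSystem (P : Subgroup G)).IsConj Q (Q.map (cj g)) :=
    Cfsg.Agent.Lib.Helper85.isConj_groupFusionSystem_iff.mpr ⟨hQ, hgP, g, rfl⟩
  have h1 := hmax _ hconj
  have hle : normalizerIn (P : Subgroup G) Q ≤ normalizer (Q : Set G) := inf_le_right
  have hle' : normalizerIn (P : Subgroup G) (Q.map (cj g)) ≤
      normalizer ((Q.map (cj g) : Subgroup G) : Set G) := inf_le_right
  apply Cfsg.Agent.Lib.Helper85.SylIn.of_card_ge hle (P.isPGroup'.to_le inf_le_left)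
  rw [← card_normalizer_map_cj Q g, ← (Cfsg.Agent.Lib.Helper85.sylIn_iff_card hle').mp hgsyl]
  exact h1

/-- the normalizer system of `F_P(G)` at `Q` is realized by `N_G(Q)` -/
theorem normalizerSystem_isRealizedBy (P : Sylow p G) {Q : Subgroup G} (hQ : Q ≤ P)
    (E : FusionSystem (normalizerIn (P : Subgroup G) Q))
    (hE : (groupFusionSystem (P : Subgroup G)).IsNormalizerSystem Q E) :
    E.IsRealizedBy (Subgroup.inclusion
      (inf_le_right : normalizerIn (P : Subgroup G) Q ≤ normalizer (Q : Set G))) := by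
  refine ⟨Subgroup.inclusion_injective _, ?_⟩
  intro A hA φ hφ
  rw [hE A]
  constructor
  · rintro ⟨hφF, -, -, ψ, hψ, hψA, hψQ⟩
    obtain ⟨-, -, g, hg⟩ := hψ
    have hgN : g ∈ normalizer (Q : Set G) := by
      apply mem_normalizer_of_conj_mem_fin
      intro x hx
      have h1 : ψ ⟨x, (le_sup_right : Q ≤ A ⊔ Q) hx⟩ ∈ (Q.subgroupOf (A ⊔ Q)).map ψ :=
        ⟨_, mem_subgroupOf.mpr hx, rfl⟩
      rw [hψQ, hg] at h1
      exact h1
    refine ⟨⟨g, hgN⟩, fun x => ?_⟩
    apply Subtype.ext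
    show φ x = g * (x : G) * g⁻¹
    rw [← hψA x, hg]
    rfl
  · rintro ⟨⟨g, hgN⟩, hg⟩
    have hg' : ∀ x : A, φ x = g * (x : G) * g⁻¹ := by
      intro x
      exact congrArg (fun z : ↥(normalizer (Q : Set G)) => (z : G)) (hg x)
    have hAP : A ≤ P := hA.trans inf_le_left
    refine ⟨⟨hAP, fun x => (hφ x).1, g, hg'⟩, hA, hφ, ?_⟩
    refine ⟨Cfsg.conjHom (A ⊔ Q) g, ?_, ?_, ?_⟩
    · apply Cfsg.Agent.Lib.Helper85.conjHom_mem_groupFusionSystem (sup_le hAP hQ)
      rw [Subgroup.map_sup]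
      apply sup_le
      · rintro _ ⟨x, hx, rfl⟩
        rw [cj_apply, ← hg' ⟨x, hx⟩]
        exact (hφ ⟨x, hx⟩).1
      · rintro _ ⟨x, hx, rfl⟩
        exact hQ ((mem_normalizer_iff.mp hgN x).mp hx)
    · intro x
      rw [hg' x]
      rfl
    · ext y
      constructor
      · rintro ⟨z, hz, rfl⟩
        exact (mem_normalizer_iff.mp hgN z).mp (mem_subgroupOf.mp hz)
      · intro hy
        have hz : g⁻¹ * y * g ∈ Q := by
          have := (mem_normalizer_iff.mp (inv_mem hgN) y).mp hy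
          simpa using this
        refine ⟨⟨g⁻¹ * y * g, (le_sup_right : Q ≤ A ⊔ Q) hz⟩, mem_subgroupOf.mpr hz, ?_⟩
        show g * (g⁻¹ * y * g) * g⁻¹ = y
        group

/-- the `p'`-part of the centralizer of a fully normalized centric subgroup -/
theorem exists_pPrime_complement (P : Sylow p G) {Q : Subgroup G}
    (hsyl : SylIn p (normalizerIn (P : Subgroup G) Q) (normalizer (Q : Set G)))
    (hcen : centralizerIn (P : Subgroup G) Q ≤ Q) :
    ∃ K : Subgroup G, K ≤ centralizer (Q : Set G) ∧ (∀ k ∈ K, (orderOf k).Coprime p) ∧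
      (∀ n ∈ normalizer (Q : Set G), ∀ k ∈ K, n * k * n⁻¹ ∈ K) ∧
      (∀ c ∈ centralizer (Q : Set G), ∃ z ∈ Q, c * z⁻¹ ∈ K) := by
  classical
  have hp : p.Prime := Fact.out
  obtain ⟨R, hR⟩ := Cfsg.Agent.Lib.Helper85.SylIn.centralizerIn hsyl
  revert R
  generalize hC : centralizer (Q : Set G) = C
  generalize hZ : centralizerIn (P : Subgroup G) Q = Z
  intro R hR
  have hC := hC.symm
  have hZ := hZ.symm
  have hZC : Z ≤ C := by rw [hZ, hC]; exact inf_le_right
  have hZQ : Z ≤ Q := by rw [hZ]; exact hcen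
  have hcentral : ∀ z ∈ Z, ∀ c ∈ C, z * c = c * z := by
    intro z hz c hc
    rw [hC] at hc
    exact mem_centralizer_iff.mp hc z (hZQ hz)
  have hZn : (Z.subgroupOf C).Normal := by
    constructor
    intro n hn g
    rw [mem_subgroupOf] at hn ⊢
    have h1 := hcentral _ hn (g : G) g.2
    have h2 : ((g * n * g⁻¹ : C) : G) = (n : G) := by
      simp only [Subgroup.coe_mul, Subgroup.coe_inv]
      calc (g : G) * n * (g : G)⁻¹ = (n * g) * (g : G)⁻¹ := by rw [h1]
        _ = n := by group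
    rw [h2]
    exact hn
  have hZp : IsPGroup p (Z.subgroupOf C) := hR ▸ R.isPGroup'
  have hcop : Nat.Coprime (Nat.card (Z.subgroupOf C)) (Z.subgroupOf C).index := by
    rw [← hR]
    exact R.card_coprime_index
  obtain ⟨K₁, hK₁⟩ := Subgroup.exists_right_complement'_of_coprime hcop
  have hcardK : Nat.card K₁ = (Z.subgroupOf C).index := by
    have h1 := hK₁.card_mul_card
    have h2 := Subgroup.card_mul_index (Z.subgroupOf C)
    have h3 : 0 < Nat.card (Z.subgroupOf C) := Nat.card_pos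
    exact Nat.eq_of_mul_eq_mul_left h3 (h1.trans h2.symm)
  have hKcop : (Nat.card K₁).Coprime p := by
    rw [hcardK, ← hR]
    exact ((Nat.Prime.coprime_iff_not_dvd hp).mpr R.not_dvd_index).symm
  -- the elements of order prime to `p` lie in `K₁`
  have hmemK : ∀ c : C, (orderOf c).Coprime p → c ∈ K₁ := by
    intro c hc
    obtain ⟨⟨⟨z, hz⟩, ⟨k, hk⟩⟩, hzk, -⟩ := (Subgroup.isComplement'_def.mp hK₁).existsUnique c
    simp only at hzk
    have hzk' : z * k = k * z := by
      apply Subtype.ext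
      simp only [Subgroup.coe_mul]
      exact hcentral _ (mem_subgroupOf.mp hz) _ k.2
    have hkm : k ^ Nat.card K₁ = 1 := by
      have := pow_card_eq_one' (G := K₁) (x := ⟨k, hk⟩)
      exact congrArg (fun y : K₁ => (y : C)) this
    have hcm : c ^ Nat.card K₁ = z ^ Nat.card K₁ := by
      rw [← hzk, (show Commute z k from hzk').mul_pow, hkm, mul_one]
    obtain ⟨a, ha⟩ := hZp ⟨z, hz⟩
    have ha' : z ^ p ^ a = 1 := congrArg (fun y : Z.subgroupOf C => (y : C)) ha
    have h1 : z ^ (Nat.card K₁ * orderOf c) = 1 := by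
      rw [pow_mul, ← hcm, ← pow_mul, mul_comm, pow_mul, pow_orderOf_eq_one, one_pow]
    have h2 : orderOf z ∣ Nat.gcd (Nat.card K₁ * orderOf c) (p ^ a) :=
      Nat.dvd_gcd (orderOf_dvd_of_pow_eq_one h1) (orderOf_dvd_of_pow_eq_one ha')
    have h3 : Nat.gcd (Nat.card K₁ * orderOf c) (p ^ a) = 1 :=
      Nat.Coprime.pow_right a (Nat.Coprime.mul_left hKcop hc)
    rw [h3] at h2
    have hz1 : z = 1 := orderOf_eq_one_iff.mp (Nat.dvd_one.mp h2)
    rw [hz1, one_mul] at hzk
    rw [← hzk]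
    exact hk
  refine ⟨K₁.map C.subtype, ?_, ?_, ?_, ?_⟩
  · exact map_subtype_le _
  · rintro _ ⟨k, hk, rfl⟩
    have h1 : orderOf (⟨k, hk⟩ : K₁) ∣ Nat.card K₁ := orderOf_dvd_natCard _
    rw [Subgroup.orderOf_mk] at h1
    rw [orderOf_injective C.subtype C.subtype_injective]
    exact Nat.Coprime.coprime_dvd_left h1 hKcop
  · rintro n hn _ ⟨k, hk, rfl⟩
    have hnC : n ∈ normalizer (C : Set G) := by
      rw [hC]
      exact Cfsg.Agent.Lib.Helper85.normalizer_le_normalizer_centralizer _ hn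
    have hmem : n * (k : G) * n⁻¹ ∈ C := (mem_normalizer_iff.mp hnC _).mp k.2
    have hord : orderOf (⟨n * (k : G) * n⁻¹, hmem⟩ : C) = orderOf k := by
      rw [← orderOf_injective C.subtype C.subtype_injective,
        ← orderOf_injective C.subtype C.subtype_injective k]
      exact orderOf_injective (cj n) (Cfsg.Agent.Lib.Helper85.cj_injective n) (k : G)
    have hk' : (orderOf k).Coprime p := by
      have h1 : orderOf (⟨k, hk⟩ : K₁) ∣ Nat.card K₁ := orderOf_dvd_natCard _
      rw [Subgroup.orderOf_mk] at h1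
      exact Nat.Coprime.coprime_dvd_left h1 hKcop
    exact ⟨⟨_, hmem⟩, hmemK _ (hord ▸ hk'), rfl⟩
  · intro c hc
    obtain ⟨⟨⟨z, hz⟩, ⟨k, hk⟩⟩, hzk, -⟩ := (Subgroup.isComplement'_def.mp hK₁).existsUnique ⟨c, hc⟩
    simp only at hzk
    have hzZ : (z : G) ∈ Z := mem_subgroupOf.mp hz
    refine ⟨(z : G), hZQ hzZ, ⟨k, hk, ?_⟩⟩
    have h1 : (z : G) * (k : G) = c := congrArg (fun y : C => (y : G)) hzk
    have h2 := hcentral _ hzZ _ k.2
    show (k : G) = c * (z : G)⁻¹
    rw [← h1, h2]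
    group

/-- **The model of `N_F(Q)` in a group fusion system.** -/
theorem exists_isModel_normalizer (P : Sylow p G) {Q : Subgroup G} (hQ : Q ≤ P)
    (hsyl : SylIn p (normalizerIn (P : Subgroup G) Q) (normalizer (Q : Set G)))
    (hcen : centralizerIn (P : Subgroup G) Q ≤ Q)
    (E : FusionSystem (normalizerIn (P : Subgroup G) Q))
    (hE : (groupFusionSystem (P : Subgroup G)).IsNormalizerSystem Q E) :
    ∃ (K : Subgroup ↥(normalizer (Q : Set G))) (_ : K.Normal),
      (∀ k ∈ K, (orderOf k).Coprime p) ∧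
      E.IsModel p (↥(normalizer (Q : Set G)) ⧸ K)
        ((QuotientGroup.mk' K).comp (Subgroup.inclusion
          (inf_le_right : normalizerIn (P : Subgroup G) Q ≤ normalizer (Q : Set G)))) := by
  classical
  have hp : p.Prime := Fact.out
  obtain ⟨K₀, hK₀C, hK₀ord, hK₀conj, hK₀dec⟩ := exists_pPrime_complement P hsyl hcen
  obtain ⟨K, hK⟩ : ∃ K : Subgroup ↥(normalizer (Q : Set G)),
      K = K₀.subgroupOf (normalizer (Q : Set G)) := ⟨_, rfl⟩
  have hKn : K.Normal := by
    constructor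
    intro k hk n
    rw [hK, mem_subgroupOf] at hk ⊢
    exact hK₀conj _ n.2 _ hk
  have hSp : IsPGroup p ↥(normalizerIn (P : Subgroup G) Q) := P.isPGroup'.to_le inf_le_left
  have hreal := normalizerSystem_isRealizedBy P hQ E hE
  obtain ⟨Rsyl, hRsyl⟩ := hsyl
  have hrange : (Rsyl : Subgroup ↥(normalizer (Q : Set G))) = (Subgroup.inclusion
      (inf_le_right : normalizerIn (P : Subgroup G) Q ≤ normalizer (Q : Set G))).range := by
    rw [hRsyl, Subgroup.inclusion_range]
    rfl
  have hsat : E.IsSaturated p := Cfsg.Agent.Lib.Helper85.Rz.realized_isSaturated hreal Rsyl hrange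
  have hQn : E.IsNormal Q := Cfsg.Agent.Lib.Helper87.normalizerSystem_isNormal _ hQ hE
  have hQNS : Q ≤ normalizerIn (P : Subgroup G) Q := le_inf hQ le_normalizer
  refine ⟨K, hKn, ?_, ?_⟩
  · intro k hk
    rw [hK, mem_subgroupOf] at hk
    rw [← orderOf_injective (normalizer (Q : Set G)).subtype (Subgroup.subtype_injective _)]
    exact hK₀ord _ hk
  · refine isModel_quotient hSp E hsat hQn _ hreal ?_ K ?_ ?_ ?_ ?_
    · intro n u hu
      have hmem : (n : G) * (u : G) * (n : G)⁻¹ ∈ Q := (mem_normalizer_iff.mp n.2 _).mp hu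
      exact ⟨⟨_, hQNS hmem⟩, hmem, Subtype.ext rfl⟩
    · intro k hk u hu
      rw [hK, mem_subgroupOf] at hk
      apply Subtype.ext
      show (k : G) * (u : G) = (u : G) * (k : G)
      exact (mem_centralizer_iff.mp (hK₀C hk) _ hu).symm
    · intro s hs
      rw [hK, mem_subgroupOf] at hs
      have h1 : (orderOf ((s : G))).Coprime p := hK₀ord _ hs
      obtain ⟨a, ha⟩ := hSp s
      have ha' : (s : G) ^ p ^ a = 1 := congrArg (fun y : ↥(normalizerIn (P : Subgroup G) Q) => (y : G)) ha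
      have h2 : orderOf (s : G) ∣ Nat.gcd (orderOf (s : G)) (p ^ a) :=
        Nat.dvd_gcd dvd_rfl (orderOf_dvd_of_pow_eq_one ha')
      rw [Nat.Coprime.pow_right a h1] at h2
      have h3 : (s : G) = 1 := orderOf_eq_one_iff.mp (Nat.dvd_one.mp h2)
      exact Subtype.ext h3
    · intro c hc
      have hcC : (c : G) ∈ centralizer (Q : Set G) := by
        rw [mem_centralizer_iff]
        intro q hq
        have := hc ⟨q, hQNS hq⟩ hq
        exact (congrArg (fun y : ↥(normalizer (Q : Set G)) => (y : G)) this).symm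
      obtain ⟨z, hzQ, hzK⟩ := hK₀dec _ hcC
      refine ⟨⟨z, hQNS hzQ⟩, hzQ, ?_⟩
      rw [hK, mem_subgroupOf]
      exact hzK
    · intro hdvd
      apply Rsyl.not_dvd_index
      rw [hrange]
      exact dvd_trans hdvd (Subgroup.index_dvd_of_le le_sup_left)

end Cfsg.Agent.Lib.Helper88
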