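import Cfsg.Agent.Lib.Helper88.QdCfgExists
import Cfsg.Agent.Lib.Helper85.GroupFusion

set_option autoImplicit false

/-!
# Localizing a `Qd(p)`-configuration at a centric subgroup

Let `R ≤ P` be a `p`-subgroup of `G` with `N_P(R)` Sylow in `N_G(R)`.  Then `Q = R C_P(R)` is centric in
`F_P(G)`, and any configuration on `R` can be adjusted by elements of `C_G(R)` so that `b` and `c`
normalize `Q`.
-/

namespace Cfsg.Agent.Lib.Helper88

open Cfsg Cfsg.FusionSystem Subgroup
open Cfsg.Agent.Lib.Helper85 (cj cj_apply SylIn mem_map_cj map_cj_map_cj)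

variable {G : Type*} [Group G] [Finite G] {p : ℕ} [Fact p.Prime]

theorem qd_mem_normalizer_of_map_cj_le {H : Subgroup G} {g : G} (h : H.map (cj g) ≤ H) :
    g ∈ normalizer (H : Set G) :=
  mem_normalizer_of_conj_mem_fin (fun x hx => h ⟨x, hx, rfl⟩)

theorem mem_normalizer_sup {A B : Subgroup G} {g : G} (hA : g ∈ normalizer (A : Set G))
    (hB : g ∈ normalizer (B : Set G)) : g ∈ normalizer ((A ⊔ B : Subgroup G) : Set G) := by
  apply qd_mem_normalizer_of_map_cj_le
  rw [Subgroup.map_sup]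
  apply sup_le_sup
  · rintro _ ⟨x, hx, rfl⟩
    exact (mem_normalizer_iff.mp hA x).mp hx
  · rintro _ ⟨x, hx, rfl⟩
    exact (mem_normalizer_iff.mp hB x).mp hx

/-- Frattini argument inside `C_G(R)` -/
theorem exists_centralizer_adjust (P : Sylow p G) {R : Subgroup G}
    (hsyl : SylIn p (normalizerIn (P : Subgroup G) R) (normalizer (R : Set G)))
    {b : G} (hb : ∀ x ∈ R, b * x * b⁻¹ ∈ R) :
    ∃ h ∈ centralizer (R : Set G),
      h * b ∈ normalizer ((centralizerIn (P : Subgroup G) R : Subgroup G) : Set G) := by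
  have hbN : b ∈ normalizer (R : Set G) := mem_normalizer_of_conj_mem_fin hb
  have hT : SylIn p (centralizerIn (P : Subgroup G) R) (centralizer (R : Set G)) :=
    Cfsg.Agent.Lib.Helper85.SylIn.centralizerIn hsyl
  have hTC : centralizerIn (P : Subgroup G) R ≤ centralizer (R : Set G) := inf_le_right
  have hTp : IsPGroup p (centralizerIn (P : Subgroup G) R) := P.isPGroup'.to_le inf_le_left
  have hbNC : b ∈ normalizer (centralizer (R : Set G) : Set G) :=
    Cfsg.Agent.Lib.Helper85.normalizer_le_normalizer_centralizer _ hbN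
  have hLC : (centralizerIn (P : Subgroup G) R).map (cj b) ≤ centralizer (R : Set G) := by
    rintro _ ⟨t, ht, rfl⟩
    exact (mem_normalizer_iff.mp hbNC t).mp (hTC ht)
  obtain ⟨h, hh, hle⟩ := hT.exists_conj_le hLC (hTp.map _)
  refine ⟨h, hh, ?_⟩
  apply qd_mem_normalizer_of_map_cj_le
  rw [← map_cj_map_cj]
  exact hle

omit [Finite G] [Fact p.Prime] in
theorem conj_eq_of_mem_centralizer {R : Subgroup G} {h b x : G} (hh : h ∈ centralizer (R : Set G))
    (hx : b * x * b⁻¹ ∈ R) : (h * b) * x * (h * b)⁻¹ = b * x * b⁻¹ := by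
  have h1 := (mem_centralizer_iff.mp hh) _ hx
  calc (h * b) * x * (h * b)⁻¹ = h * (b * x * b⁻¹) * h⁻¹ := by group
    _ = (b * x * b⁻¹) * h * h⁻¹ := by rw [← h1]
    _ = b * x * b⁻¹ := by group

omit [Finite G] [Fact p.Prime] in
/-- adjusting `b` and `c` by elements centralizing `R` -/
theorem QdCfg.adjust {R R₀ : Subgroup G} {b c v w : G} (h : QdCfg p R R₀ b c v w) {hb hc : G}
    (hhb : hb ∈ centralizer (R : Set G)) (hhc : hc ∈ centralizer (R : Set G)) :
    QdCfg p R R₀ (hb * b) (hc * c) v w where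
  le := h.le
  vR := h.vR
  wR := h.wR
  bR := fun x hx => by
    rw [conj_eq_of_mem_centralizer hhb (h.bR x hx)]
    exact h.bR x hx
  cR := fun x hx => by
    rw [conj_eq_of_mem_centralizer hhc (h.cR x hx)]
    exact h.cR x hx
  bR₀ := fun x hx => by
    rw [conj_eq_of_mem_centralizer hhb (h.bR x (h.le hx))]
    exact h.bR₀ x hx
  cR₀ := fun x hx => by
    rw [conj_eq_of_mem_centralizer hhc (h.cR x (h.le hx))]
    exact h.cR₀ x hx
  RR₀ := h.RR₀
  v1 := h.v1
  vp := h.vp
  wp := h.wp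
  vw := h.vw
  bv := by
    rw [conj_eq_of_mem_centralizer hhb (h.bR v h.vR)]
    exact h.bv
  bw := by
    rw [conj_eq_of_mem_centralizer hhb (h.bR w h.wR)]
    exact h.bw
  cv := by
    rw [conj_eq_of_mem_centralizer hhc (h.cR v h.vR)]
    exact h.cv
  cw := by
    rw [conj_eq_of_mem_centralizer hhc (h.cR w h.wR)]
    exact h.cw

/-- **Localization, step 2.** A configuration on a fully normalized `R ≤ P` can be chosen with `b`, `c`
normalizing `R C_P(R)`. -/
theorem QdCfg.exists_normalizing (P : Sylow p G) {R R₀ : Subgroup G} {b c v w : G}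
    (h : QdCfg p R R₀ b c v w)
    (hsyl : SylIn p (normalizerIn (P : Subgroup G) R) (normalizer (R : Set G))) :
    ∃ b' c' : G, QdCfg p R R₀ b' c' v w ∧
      b' ∈ normalizer ((R ⊔ centralizerIn (P : Subgroup G) R : Subgroup G) : Set G) ∧
      c' ∈ normalizer ((R ⊔ centralizerIn (P : Subgroup G) R : Subgroup G) : Set G) := by
  obtain ⟨hb, hhb, hbT⟩ := exists_centralizer_adjust P hsyl h.bR
  obtain ⟨hc, hhc, hcT⟩ := exists_centralizer_adjust P hsyl h.cR
  have h' := h.adjust hhb hhc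
  refine ⟨hb * b, hc * c, h', ?_, ?_⟩
  · exact mem_normalizer_sup (mem_normalizer_of_conj_mem_fin h'.bR) hbT
  · exact mem_normalizer_sup (mem_normalizer_of_conj_mem_fin h'.cR) hcT

/-- **`R C_P(R)` is centric** when `N_P(R)` is Sylow in `N_G(R)`. -/
theorem isCentric_sup_centralizerIn (P : Sylow p G) {R : Subgroup G} (hR : R ≤ P)
    (hsyl : SylIn p (normalizerIn (P : Subgroup G) R) (normalizer (R : Set G))) :
    (groupFusionSystem (P : Subgroup G)).IsCentric (R ⊔ centralizerIn (P : Subgroup G) R) := by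
  obtain ⟨T, hT⟩ : ∃ T : Subgroup G, T = centralizerIn (P : Subgroup G) R := ⟨_, rfl⟩
  rw [← hT]
  have hTP : T ≤ P := by rw [hT]; exact inf_le_left
  have hQP : R ⊔ T ≤ P := sup_le hR hTP
  have hTsyl : SylIn p T (centralizer (R : Set G)) := by
    rw [hT]
    exact Cfsg.Agent.Lib.Helper85.SylIn.centralizerIn hsyl
  have hTC : T ≤ centralizer (R : Set G) := by rw [hT]; exact inf_le_right
  have hTp : IsPGroup p T := P.isPGroup'.to_le hTP
  refine ⟨hQP, ?_⟩
  intro Q₁ hconj
  obtain ⟨-, hQ₁P, g, hg⟩ := Cfsg.Agent.Lib.Helper85.isConj_groupFusionSystem_iff.mp hconj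
  rintro x ⟨hxP, hxC⟩
  obtain ⟨y, hy⟩ : ∃ y : G, y = g⁻¹ * x * g := ⟨_, rfl⟩
  have hyC : ∀ z ∈ R ⊔ T, z * y = y * z := by
    intro z hz
    have hz' : g * z * g⁻¹ ∈ Q₁ := by
      rw [← hg]
      exact ⟨z, hz, rfl⟩
    have h1 := (mem_centralizer_iff.mp hxC) _ hz'
    calc z * y = g⁻¹ * ((g * z * g⁻¹) * x) * g := by rw [hy]; group
      _ = g⁻¹ * (x * (g * z * g⁻¹)) * g := by rw [h1]
      _ = y * z := by rw [hy]; group
  have hyp : IsPGroup p (zpowers y) := by
    have h1 : zpowers y = (zpowers x).map (cj g⁻¹) := by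
      rw [MonoidHom.map_zpowers]
      congr 1
      rw [cj_apply, hy, inv_inv]
    rw [h1]
    exact (P.isPGroup'.to_le (zpowers_le.mpr hxP)).map _
  have hyT : zpowers y ≤ normalizer (T : Set G) := by
    rw [zpowers_le]
    apply centralizer_le_normalizer
    rw [mem_centralizer_iff]
    intro t ht
    exact hyC t ((le_sup_right : T ≤ R ⊔ T) ht)
  have hXp : IsPGroup p (zpowers y ⊔ T : Subgroup G) := IsPGroup.to_sup_of_normal_right' hyp hTp hyT
  have hXC : zpowers y ⊔ T ≤ centralizer (R : Set G) := by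
    apply sup_le
    · rw [zpowers_le, mem_centralizer_iff]
      intro r hr
      exact hyC r ((le_sup_left : R ≤ R ⊔ T) hr)
    · exact hTC
  have hcard : Nat.card (zpowers y ⊔ T : Subgroup G) ≤ Nat.card T := by
    rw [(Cfsg.Agent.Lib.Helper85.sylIn_iff_card hTC).mp hTsyl]
    exact Cfsg.Agent.Lib.Helper85.card_le_of_isPGroup hXC hXp
  have hXT : T = (zpowers y ⊔ T : Subgroup G) := Subgroup.eq_of_le_of_card_ge le_sup_right hcard
  have hyT' : y ∈ T := by
    rw [hXT]
    exact (le_sup_left : zpowers y ≤ zpowers y ⊔ T) (mem_zpowers y)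
  rw [← hg]
  refine ⟨y, (le_sup_right : T ≤ R ⊔ T) hyT', ?_⟩
  rw [cj_apply, hy]
  group

end Cfsg.Agent.Lib.Helper88
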