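import Cfsg.Agent.Lib.Helper88.Involves
import Cfsg.Agent.Lib.Helper35.Qd.Section

set_option autoImplicit false

/-!
# Spans: functoriality, and `Qd(p)`-configurations

A `Qd(p)`-configuration in a group: subgroups `R₀ ≤ R` and elements `b c v w` such that, modulo `R₀`,
`v, w ∈ R` span an elementary abelian plane on which `b` and `c` act as the standard transvections.
A finite group carrying such a configuration involves `Qd(p)` (`p` odd).
-/

namespace Cfsg.Agent.Lib.Helper88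

open Cfsg

universe u v

theorem Spans.of_injective {H : Type u} [Group H] {A B : Type v} [Group A] [Group B]
    (h : Spans H A) (j : A →* B) (hj : Function.Injective j) : Spans H B := by
  obtain ⟨K, _, i, f, hi, hf⟩ := h
  exact ⟨K, inferInstance, j.comp i, f, hj.comp hi, hf⟩

theorem Spans.of_surjective {H : Type u} [Group H] {A B : Type v} [Group A] [Group B]
    (h : Spans H B) (q : A →* B) (hq : Function.Surjective q) : Spans H A := by
  obtain ⟨K, _, i, f, hi, hf⟩ := h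
  let e0 : K ≃* i.range := MonoidHom.ofInjective hi
  let g : (i.range.comap q : Subgroup A) →* K := e0.symm.toMonoidHom.comp (q.subgroupComap i.range)
  refine ⟨(i.range.comap q : Subgroup A), inferInstance, (i.range.comap q).subtype, f.comp g,
    Subgroup.subtype_injective _, hf.comp ?_⟩
  exact e0.symm.surjective.comp (q.subgroupComap_surjective_of_surjective i.range hq)

theorem Spans.trans {H : Type u} [Group H] {X A : Type v} [Group X] [Group A]
    (h₁ : Spans H X) (h₂ : Spans X A) : Spans H A := by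
  obtain ⟨K₂, _, i₂, f₂, hi₂, hf₂⟩ := h₂
  exact (h₁.of_surjective f₂ hf₂).of_injective i₂ hi₂

/-- a `Qd(p)`-configuration on `R` modulo `R₀` -/
structure QdCfg (p : ℕ) {A : Type*} [Group A] (R R₀ : Subgroup A) (b c v w : A) : Prop where
  le : R₀ ≤ R
  vR : v ∈ R
  wR : w ∈ R
  bR : ∀ x ∈ R, b * x * b⁻¹ ∈ R
  cR : ∀ x ∈ R, c * x * c⁻¹ ∈ R
  bR₀ : ∀ x ∈ R₀, b * x * b⁻¹ ∈ R₀
  cR₀ : ∀ x ∈ R₀, c * x * c⁻¹ ∈ R₀
  RR₀ : ∀ r ∈ R, ∀ x ∈ R₀, r * x * r⁻¹ ∈ R₀
  v1 : v ∉ R₀
  vp : v ^ p ∈ R₀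
  wp : w ^ p ∈ R₀
  vw : (w * v)⁻¹ * (v * w) ∈ R₀
  bv : (v * w)⁻¹ * (b * v * b⁻¹) ∈ R₀
  bw : w⁻¹ * (b * w * b⁻¹) ∈ R₀
  cv : v⁻¹ * (c * v * c⁻¹) ∈ R₀
  cw : (v * w)⁻¹ * (c * w * c⁻¹) ∈ R₀

section cfg

variable {p : ℕ} {A B : Type*} [Group A] [Group B] {R R₀ : Subgroup A} {b c v w : A}

/-- transport of a configuration along a homomorphism not killing `v` modulo `R₀` -/
theorem QdCfg.map' (h : QdCfg p R R₀ b c v w) (f : A →* B) (hv : f v ∉ R₀.map f) :
    QdCfg p (R.map f) (R₀.map f) (f b) (f c) (f v) (f w) where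
  le := Subgroup.map_mono h.le
  vR := ⟨v, h.vR, rfl⟩
  wR := ⟨w, h.wR, rfl⟩
  bR := by
    rintro _ ⟨x, hx, rfl⟩
    exact ⟨_, h.bR x hx, by simp⟩
  cR := by
    rintro _ ⟨x, hx, rfl⟩
    exact ⟨_, h.cR x hx, by simp⟩
  bR₀ := by
    rintro _ ⟨x, hx, rfl⟩
    exact ⟨_, h.bR₀ x hx, by simp⟩
  cR₀ := by
    rintro _ ⟨x, hx, rfl⟩
    exact ⟨_, h.cR₀ x hx, by simp⟩
  RR₀ := by
    rintro _ ⟨r, hr, rfl⟩ _ ⟨x, hx, rfl⟩
    exact ⟨_, h.RR₀ r hr x hx, by simp⟩
  v1 := hv
  vp := ⟨_, h.vp, by simp⟩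
  wp := ⟨_, h.wp, by simp⟩
  vw := ⟨_, h.vw, by simp⟩
  bv := ⟨_, h.bv, by simp⟩
  bw := ⟨_, h.bw, by simp⟩
  cv := ⟨_, h.cv, by simp⟩
  cw := ⟨_, h.cw, by simp⟩

/-- transport of a configuration along an injective homomorphism -/
theorem QdCfg.map (h : QdCfg p R R₀ b c v w) (f : A →* B) (hf : Function.Injective f) :
    QdCfg p (R.map f) (R₀.map f) (f b) (f c) (f v) (f w) := by
  apply h.map' f
  rintro ⟨x, hx, hxv⟩
  exact h.v1 (hf hxv ▸ hx)

/-- restriction of a configuration to a subgroup containing it -/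
theorem QdCfg.comap_subtype (h : QdCfg p R R₀ b c v w) (N : Subgroup A) (hb : b ∈ N) (hc : c ∈ N)
    (hv : v ∈ N) (hw : w ∈ N) :
    QdCfg p (R.subgroupOf N) (R₀.subgroupOf N) (⟨b, hb⟩ : N) ⟨c, hc⟩ ⟨v, hv⟩ ⟨w, hw⟩ where
  le := fun x hx => Subgroup.mem_subgroupOf.mpr (h.le (Subgroup.mem_subgroupOf.mp hx))
  vR := Subgroup.mem_subgroupOf.mpr h.vR
  wR := Subgroup.mem_subgroupOf.mpr h.wR
  bR := fun x hx => Subgroup.mem_subgroupOf.mpr (by
    simpa using h.bR x (Subgroup.mem_subgroupOf.mp hx))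
  cR := fun x hx => Subgroup.mem_subgroupOf.mpr (by
    simpa using h.cR x (Subgroup.mem_subgroupOf.mp hx))
  bR₀ := fun x hx => Subgroup.mem_subgroupOf.mpr (by
    simpa using h.bR₀ x (Subgroup.mem_subgroupOf.mp hx))
  cR₀ := fun x hx => Subgroup.mem_subgroupOf.mpr (by
    simpa using h.cR₀ x (Subgroup.mem_subgroupOf.mp hx))
  RR₀ := fun r hr x hx => Subgroup.mem_subgroupOf.mpr (by
    simpa using h.RR₀ r (Subgroup.mem_subgroupOf.mp hr) x (Subgroup.mem_subgroupOf.mp hx))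
  v1 := fun hx => h.v1 (Subgroup.mem_subgroupOf.mp hx)
  vp := Subgroup.mem_subgroupOf.mpr (by simpa using h.vp)
  wp := Subgroup.mem_subgroupOf.mpr (by simpa using h.wp)
  vw := Subgroup.mem_subgroupOf.mpr (by simpa using h.vw)
  bv := Subgroup.mem_subgroupOf.mpr (by simpa using h.bv)
  bw := Subgroup.mem_subgroupOf.mpr (by simpa using h.bw)
  cv := Subgroup.mem_subgroupOf.mpr (by simpa using h.cv)
  cw := Subgroup.mem_subgroupOf.mpr (by simpa using h.cw)

end cfg

/-- in a finite group, an element conjugating a subgroup into itself normalizes it -/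
theorem mem_normalizer_of_conj_mem_fin {L : Type*} [Group L] [Finite L] {H : Subgroup L} {g : L}
    (h : ∀ x ∈ H, g * x * g⁻¹ ∈ H) : g ∈ Subgroup.normalizer (H : Set L) := by
  have hle : H.map (MulAut.conj g).toMonoidHom ≤ H := by
    rintro _ ⟨x, hx, rfl⟩
    exact h x hx
  have hcard : Nat.card (H.map (MulAut.conj g).toMonoidHom) = Nat.card H :=
    Subgroup.card_map_of_injective (MulAut.conj g).injective
  have heq : H.map (MulAut.conj g).toMonoidHom = H :=
    Subgroup.eq_of_le_of_card_ge hle hcard.ge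
  rw [Subgroup.mem_normalizer_iff]
  intro x
  constructor
  · exact h x
  · intro hx
    rw [← heq] at hx
    obtain ⟨y, hy, hyx⟩ := hx
    have : y = x := by
      have h1 : g * y * g⁻¹ = g * x * g⁻¹ := hyx
      exact mul_left_cancel (mul_right_cancel h1)
    exact this ▸ hy

/-- **Recognition.** A finite group with a `Qd(p)`-configuration involves `Qd(p)`, `p` odd. -/
theorem QdCfg.involves {p : ℕ} [Fact p.Prime] (hp2 : p ≠ 2) {L : Type v} [Group L] [Finite L]
    {R R₀ : Subgroup L} {b c v w : L} (h : QdCfg p R R₀ b c v w) : Involves (qd p) L := by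
  have hRN : R ≤ Subgroup.normalizer (R₀ : Set L) :=
    fun r hr => mem_normalizer_of_conj_mem_fin (h.RR₀ r hr)
  have hb : b ∈ Subgroup.normalizer (R₀ : Set L) := mem_normalizer_of_conj_mem_fin h.bR₀
  have hc : c ∈ Subgroup.normalizer (R₀ : Set L) := mem_normalizer_of_conj_mem_fin h.cR₀
  have hv : v ∈ Subgroup.normalizer (R₀ : Set L) := hRN h.vR
  have hw : w ∈ Subgroup.normalizer (R₀ : Set L) := hRN h.wR
  obtain ⟨Y, hY⟩ : ∃ Y : Subgroup L, Y = Subgroup.normalizer (R₀ : Set L) := ⟨_, rfl⟩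
  haveI hn : (R₀.subgroupOf Y).Normal := by
    rw [hY]
    exact Subgroup.normal_in_normalizer
  rw [← hY] at hb hc hv hw
  have key : ∀ a a' : Y, ((a : L))⁻¹ * (a' : L) ∈ R₀ →
      (QuotientGroup.mk' (R₀.subgroupOf Y)) a = (QuotientGroup.mk' (R₀.subgroupOf Y)) a' := by
    intro a a' haa
    apply QuotientGroup.eq.mpr
    exact Subgroup.mem_subgroupOf.mpr (by simpa using haa)
  have key1 : ∀ a : Y, (QuotientGroup.mk' (R₀.subgroupOf Y)) a = 1 → (a : L) ∈ R₀ := by
    intro a ha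
    have := (QuotientGroup.eq_one_iff a).mp ha
    exact Subgroup.mem_subgroupOf.mp this
  have key2 : ∀ a : Y, (a : L) ∈ R₀ → (QuotientGroup.mk' (R₀.subgroupOf Y)) a = 1 := by
    intro a ha
    exact (QuotientGroup.eq_one_iff a).mpr (Subgroup.mem_subgroupOf.mpr ha)
  set mk := QuotientGroup.mk' (R₀.subgroupOf Y) with hmk
  have hX : Involves (qd p) (Y ⧸ R₀.subgroupOf Y) := by
    refine Cfsg.Agent.Lib.Helper35.Qd.involves_qd hp2 (mk ⟨b, hb⟩) (mk ⟨c, hc⟩) (mk ⟨v, hv⟩)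
      (mk ⟨w, hw⟩) ?_ ?_ ?_ ?_ ?_ ?_ ?_ ?_
    · intro h1
      exact h.v1 (key1 _ h1)
    · rw [← map_pow]
      exact key2 _ (by simpa using h.vp)
    · rw [← map_pow]
      exact key2 _ (by simpa using h.wp)
    · show mk ⟨v, hv⟩ * mk ⟨w, hw⟩ = mk ⟨w, hw⟩ * mk ⟨v, hv⟩
      rw [← map_mul, ← map_mul]
      exact (key _ _ (by simpa using h.vw)).symm
    · rw [← map_inv, ← map_mul, ← map_mul, ← map_mul]
      exact (key _ _ (by simpa using h.bv)).symm
    · rw [← map_inv, ← map_mul, ← map_mul]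
      exact (key _ _ (by simpa using h.bw)).symm
    · rw [← map_inv, ← map_mul, ← map_mul]
      exact (key _ _ (by simpa using h.cv)).symm
    · rw [← map_inv, ← map_mul, ← map_mul, ← map_mul]
      exact (key _ _ (by simpa using h.cw)).symm
  apply involves_of_spans
  exact (spans_of_involves hX).trans
    ⟨Y, inferInstance, Y.subtype, mk, Y.subtype_injective, QuotientGroup.mk'_surjective _⟩

end Cfsg.Agent.Lib.Helper88
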