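import Cfsg.Agent.Lib.Helper88.Reduction2
import Cfsg.Agent.S5132

set_option autoImplicit false

/-!
# Automorphisms of a realized system and normalizers in the realizing group
-/

namespace Cfsg.Agent.Lib.Helper88

open Cfsg Cfsg.FusionSystem
open Cfsg.Agent.Lib.Helper87 (hom_le hom_mem_S subtype_mem inv_exists mem_autGroup_iff finite_of_le)
open Cfsg.Agent.S5132 (mem_pre pre_le)

variable {Ω : Type*} [Group Ω] {S : Subgroup Ω} {G : Type*} [Group G]

/-- the automorphism `γ` of `P ≤ S` is induced, through `ι`, by conjugation by `g` -/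
def RealizesAut (ι : S →* G) {P : Subgroup Ω} (hP : P ≤ S) (γ : MulAut P) (g : G) : Prop :=
  ∀ x : P, ι ⟨((γ x : P) : Ω), hP (γ x).2⟩ = g * ι ⟨x, hP x.2⟩ * g⁻¹

theorem RealizesAut.pow {ι : S →* G} {P : Subgroup Ω} {hP : P ≤ S} {γ : MulAut P} {g : G}
    (h : RealizesAut ι hP γ g) (n : ℕ) : RealizesAut ι hP (γ ^ n) (g ^ n) := by
  induction n with
  | zero => intro x; simp
  | succ n ih =>
    intro x
    have h1 := h ((γ ^ n) x)
    have h2 := ih x
    have e : (γ ^ (n + 1)) x = γ ((γ ^ n) x) := by rw [pow_succ', MulAut.mul_apply]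
    have e2 : (⟨(((γ ^ (n + 1)) x : P) : Ω), hP ((γ ^ (n + 1)) x).2⟩ : S) =
        ⟨((γ ((γ ^ n) x) : P) : Ω), hP (γ ((γ ^ n) x)).2⟩ := Subtype.ext (by rw [e])
    rw [e2, h1, h2, pow_succ']
    group

theorem RealizesAut.pow_eq_one {ι : S →* G} (hinj : Function.Injective ι) {P : Subgroup Ω}
    {hP : P ≤ S} {γ : MulAut P} {g : G} (h : RealizesAut ι hP γ g) {n : ℕ} (hg : g ^ n = 1) :
    γ ^ n = 1 := by
  ext x
  have h1 := h.pow n x
  rw [hg, one_mul, inv_one, mul_one] at h1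
  have h2 := hinj h1
  exact congrArg (fun s : S => (s : Ω)) h2

theorem RealizesAut.orderOf_dvd {ι : S →* G} (hinj : Function.Injective ι) {P : Subgroup Ω}
    {hP : P ≤ S} {γ : MulAut P} {g : G} (h : RealizesAut ι hP γ g) : orderOf γ ∣ orderOf g :=
  orderOf_dvd_of_pow_eq_one (h.pow_eq_one hinj (pow_orderOf_eq_one g))

/-- an element of the group normalizing a subgroup of `ι(S)` induces an automorphism of the system -/
theorem exists_aut_of_mem_normalizer [Finite S] (F : FusionSystem S) (ι : S →* G)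
    (hreal : F.IsRealizedBy ι) (Q₂ : Subgroup G) (hQ₂ : Q₂ ≤ ι.range) (g : G)
    (hg : g ∈ Subgroup.normalizer (Q₂ : Set G)) :
    ∃ γ : MulAut ↥(preimageAlong ι Q₂), γ ∈ F.autGroup (preimageAlong ι Q₂) ∧
      RealizesAut ι (pre_le ι Q₂) γ g := by
  have hinj : Function.Injective ι := hreal.1
  set P := preimageAlong ι Q₂ with hPdef
  have hPS : P ≤ S := pre_le ι Q₂
  have hmemP : ∀ x : P, ι ⟨x, hPS x.2⟩ ∈ Q₂ := fun x => (mem_pre.mp x.2).2
  let e : S ≃* ι.range := MonoidHom.ofInjective hinj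
  have he : ∀ s : S, ((e s : ι.range) : G) = ι s := fun s => rfl
  have hconj : ∀ x : P, g * ι ⟨x, hPS x.2⟩ * g⁻¹ ∈ Q₂ := fun x =>
    (Subgroup.mem_normalizer_iff.mp hg _).mp (hmemP x)
  let ψ : P →* ι.range :=
    ((MulAut.conj g).toMonoidHom.comp (ι.comp (Subgroup.inclusion hPS))).codRestrict ι.range
      (fun x => hQ₂ (hconj x))
  have hψ : ∀ x : P, ((ψ x : ι.range) : G) = g * ι ⟨x, hPS x.2⟩ * g⁻¹ := fun x => rfl
  let φ : P →* Ω := S.subtype.comp (e.symm.toMonoidHom.comp ψ)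
  have hφS : ∀ x : P, φ x ∈ S := fun x => (e.symm (ψ x)).2
  have hφι : ∀ x : P, ι ⟨φ x, hφS x⟩ = g * ι ⟨x, hPS x.2⟩ * g⁻¹ := by
    intro x
    have h1 : (⟨φ x, hφS x⟩ : S) = e.symm (ψ x) := rfl
    rw [h1, ← he, MulEquiv.apply_symm_apply, hψ]
  have hφF : φ ∈ F.Hom P := (hreal.2 P hPS φ hφS).mpr ⟨g, hφι⟩
  have hφP : ∀ x : P, φ x ∈ P := by
    intro x
    have h1 : φ x ∈ preimageAlong ι Q₂ := by
      refine mem_pre.mpr ⟨hφS x, ?_⟩
      rw [hφι]
      exact hconj x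
    exact h1
  obtain ⟨γ, hγ, hγφ⟩ := exists_aut_of_hom F hφF hφP
  refine ⟨γ, hγ, fun x => ?_⟩
  have h1 : (⟨((γ x : P) : Ω), hPS (γ x).2⟩ : S) = ⟨φ x, hφS x⟩ := Subtype.ext (hγφ x)
  rw [h1, hφι]

/-- an automorphism of the system is induced by an element of the group normalizing the image -/
theorem exists_realizesAut (F : FusionSystem S) (ι : S →* G) (hreal : F.IsRealizedBy ι)
    {P : Subgroup Ω} (hP : P ≤ S) {γ : MulAut P} (hγ : γ ∈ F.autGroup P) :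
    ∃ g : G, RealizesAut ι hP γ g := by
  have h1 := (mem_autGroup_iff F hP γ).mp hγ
  obtain ⟨g, hg⟩ := (hreal.2 P hP _ (fun x => hP (γ x).2)).mp h1
  exact ⟨g, hg⟩

theorem RealizesAut.mem_normalizer {ι : S →* G} {P : Subgroup Ω} {hP : P ≤ S} {γ : MulAut P}
    {g : G} (h : RealizesAut ι hP γ g) :
    g ∈ Subgroup.normalizer (((P.subgroupOf S).map ι : Subgroup G) : Set G) := by
  rw [Subgroup.mem_normalizer_iff]
  intro y
  constructor
  · rintro ⟨s, hs', rfl⟩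
    have hs : (s : Ω) ∈ P := Subgroup.mem_subgroupOf.mp hs'
    have h1 := h ⟨s, hs⟩
    refine ⟨⟨((γ ⟨s, hs⟩ : P) : Ω), hP (γ ⟨s, hs⟩).2⟩, Subgroup.mem_subgroupOf.mpr (γ ⟨s, hs⟩).2, ?_⟩
    exact h1
  · rintro ⟨s, hs', hsy⟩
    have hs : (s : Ω) ∈ P := Subgroup.mem_subgroupOf.mp hs'
    have h1 := h (γ.symm ⟨s, hs⟩)
    have e1 : (⟨((γ (γ.symm ⟨s, hs⟩) : P) : Ω), hP (γ (γ.symm ⟨s, hs⟩)).2⟩ : S) = s :=
      Subtype.ext (by rw [MulEquiv.apply_symm_apply])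
    rw [e1] at h1
    have h2 : ι s = g * ι ⟨((γ.symm ⟨s, hs⟩ : P) : Ω), hP (γ.symm ⟨s, hs⟩).2⟩ * g⁻¹ := h1
    rw [h2] at hsy
    have h3 : y = ι ⟨((γ.symm ⟨s, hs⟩ : P) : Ω), hP (γ.symm ⟨s, hs⟩).2⟩ := by
      have h4 : g⁻¹ * (g * ι ⟨((γ.symm ⟨s, hs⟩ : P) : Ω), hP (γ.symm ⟨s, hs⟩).2⟩ * g⁻¹) * g =
          g⁻¹ * (g * y * g⁻¹) * g := by rw [hsy]
      have e2 : ∀ t : G, g⁻¹ * (g * t * g⁻¹) * g = t := fun t => by group
      rw [e2, e2] at h4
      exact h4.symm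
    rw [h3]
    exact ⟨_, Subgroup.mem_subgroupOf.mpr (γ.symm ⟨s, hs⟩).2, rfl⟩

/-- Frobenius' condition in the realizing group implies that the system has no nontrivial automorphisms of
order prime to `p` -/
theorem pFree_of_realized [Finite G] {p : ℕ} [Fact p.Prime] (F : FusionSystem S) (ι : S →* G)
    (hreal : F.IsRealizedBy ι)
    (hfrob : ∀ Q₁ : Subgroup G, Q₁ ≤ ι.range → ∀ g ∈ Subgroup.normalizer (Q₁ : Set G),
      (orderOf g).Coprime p → g ∈ Subgroup.centralizer (Q₁ : Set G)) : PFree F p := by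
  have hp : p.Prime := Fact.out
  have hinj : Function.Injective ι := hreal.1
  intro P hP α hα hcop
  obtain ⟨g, hg⟩ := exists_realizesAut F ι hreal hP hα
  obtain ⟨r, hr1, hr2⟩ := exists_pow_coprime g (isOfFinOrder_of_finite g) hp hcop
  have hgr : RealizesAut ι hP α (g ^ r) := by
    have h1 := hg.pow r
    rwa [pow_eq_self_of_modEq (pow_orderOf_eq_one α) hr2] at h1
  have hle : (P.subgroupOf S).map ι ≤ ι.range := by
    rintro _ ⟨s, -, rfl⟩
    exact ⟨s, rfl⟩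
  have hc := hfrob _ hle (g ^ r) hgr.mem_normalizer hr1
  rw [Subgroup.mem_centralizer_iff] at hc
  ext x
  have h1 := hgr x
  have h2 := hc (ι ⟨x, hP x.2⟩) ⟨⟨x, hP x.2⟩, Subgroup.mem_subgroupOf.mpr x.2, rfl⟩
  rw [← h2, mul_assoc, mul_inv_cancel, mul_one] at h1
  have h3 := hinj h1
  exact congrArg (fun s : S => (s : Ω)) h3

end Cfsg.Agent.Lib.Helper88
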