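import Cfsg.Agent.Lib.Helper88.RealizedNormal
import Cfsg.Agent.Lib.Helper88.PPrimeConj
import Cfsg.Agent.S5336

set_option autoImplicit false

namespace Cfsg.Agent.Lib.Helper88

open Cfsg Cfsg.FusionSystem

variable {Ω G : Type*} [Group Ω] [Group G] {S : Subgroup Ω} {p : ℕ} [Fact p.Prime] [Finite G]
  {F : FusionSystem S} {ι : S →* G}

/-- If `N ⊴ G` meets the (Sylow) image of `S` trivially, then `G ⧸ N` also realizes `F`. -/
theorem isRealizedBy_quot (hS : IsPGroup p S) (hR : F.IsRealizedBy ι) (Tsyl : Sylow p G)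
    (hT : (Tsyl : Subgroup G) = ι.range) (N : Subgroup G) [hN : N.Normal]
    (h : ι.range ⊓ N = ⊥) :
    F.IsRealizedBy ((QuotientGroup.mk' N).comp ι) ∧
      ∃ T' : Sylow p (G ⧸ N),
        (T' : Subgroup (G ⧸ N)) = ((QuotientGroup.mk' N).comp ι).range := by
  have hcop : (Nat.card N).Coprime p :=
    Cfsg.Agent.S5336.coprime_of_inf_sylow_eq_bot p Tsyl N (by rw [hT]; exact h)
  have hinj' : Function.Injective ((QuotientGroup.mk' N).comp ι) := by
    rw [injective_iff_map_eq_one]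
    intro s hs
    have h1 : ι s ∈ N := (QuotientGroup.eq_one_iff _).mp hs
    have h2 : ι s ∈ ι.range ⊓ N := ⟨⟨s, rfl⟩, h1⟩
    rw [h, Subgroup.mem_bot] at h2
    exact (injective_iff_map_eq_one ι).mp hR.1 s h2
  refine ⟨⟨hinj', fun P hP φ hφ => ?_⟩, Tsyl.mapSurjective (QuotientGroup.mk'_surjective N), ?_⟩
  · rw [hR.2 P hP φ hφ]
    constructor
    · rintro ⟨g, hg⟩
      refine ⟨QuotientGroup.mk' N g, fun x => ?_⟩
      show QuotientGroup.mk' N (ι _) = _
      rw [hg x, map_mul, map_mul, map_inv]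
      rfl
    · rintro ⟨gbar, hg⟩
      obtain ⟨g, rfl⟩ := QuotientGroup.mk'_surjective N gbar
      let a : P →* G := ι.comp (φ.codRestrict S hφ)
      let b : P →* G := (MulAut.conj g).toMonoidHom.comp (ι.comp (Subgroup.inclusion hP))
      have hab : ∀ x, (a x)⁻¹ * b x ∈ N := by
        intro x
        have h1 := hg x
        rw [← QuotientGroup.eq]
        show QuotientGroup.mk' N (ι ⟨φ x, hφ x⟩) =
          QuotientGroup.mk' N (g * ι ⟨x, hP x.2⟩ * g⁻¹)
        rw [map_mul, map_mul, map_inv]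
        exact h1
      obtain ⟨m, hm, hmx⟩ := exists_conj_of_congr (hS.to_le hP) N hcop a b hab
      refine ⟨m * g, fun x => ?_⟩
      have h2 : ι ⟨φ x, hφ x⟩ = m * (g * ι ⟨x, hP x.2⟩ * g⁻¹) * m⁻¹ := hmx x
      rw [h2]
      group
  · rw [Sylow.coe_mapSurjective, hT, MonoidHom.map_range]

/-- If the subsystem induced by `N` is all of `F`, then `N` also realizes `F`. -/
theorem isRealizedBy_sub (hR : F.IsRealizedBy ι) (Tsyl : Sylow p G)
    (hT : (Tsyl : Subgroup G) = ι.range) (N : Subgroup G) (hle : ι.range ≤ N)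
    (hHom : ∀ P : Subgroup Ω, (realSub ι hR.1 N).Hom P = F.Hom P) :
    F.IsRealizedBy (ι.codRestrict N (fun s => hle ⟨s, rfl⟩)) ∧
      ∃ T' : Sylow p N,
        (T' : Subgroup N) = (ι.codRestrict N (fun s => hle ⟨s, rfl⟩)).range := by
  have hpre : ∀ x : Ω, x ∈ S → x ∈ preN ι N := fun x hx => mem_preN.mpr ⟨hx, hle ⟨_, rfl⟩⟩
  refine ⟨⟨?_, fun P hP φ hφ => ?_⟩, Tsyl.subtype (hT ▸ hle), ?_⟩
  · intro a b hab
    exact hR.1 (congrArg (fun n : N => (n : G)) hab)
  · rw [← hHom P, mem_realSub]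
    constructor
    · rintro ⟨-, -, n, hn, hnx⟩
      exact ⟨⟨n, hn⟩, fun x => Subtype.ext (hnx x (hP x.2) (hφ x))⟩
    · rintro ⟨n, hnx⟩
      refine ⟨fun x hx => hpre x (hP hx), fun x => hpre _ (hφ x), n, n.2, fun x hx hφx => ?_⟩
      exact congrArg (fun n : N => (n : G)) (hnx x)
  · rw [Sylow.coe_subtype]
    ext y
    rw [Subgroup.mem_subgroupOf, hT]
    constructor
    · rintro ⟨s, hs⟩
      exact ⟨s, Subtype.ext hs⟩
    · rintro ⟨s, rfl⟩
      exact ⟨s, rfl⟩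

end Cfsg.Agent.Lib.Helper88
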