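import Cfsg.Agent.Lib.Helper85.RelSaturated
import Cfsg.Agent.Lib.Helper85.TransportSat
import Cfsg.Agent.Lib.Helper84.FusionIso

set_option autoImplicit false

namespace Cfsg.Agent.Lib.Helper88

open Cfsg Cfsg.FusionSystem
open Cfsg.Agent.Lib.Helper85 (imE mem_imE imE_le isoE isoE_coe pushE pushE_apply pushE_mem Corresp SylIn
  sylIn_top)

variable {Ω G : Type*} [Group Ω] [Group G] {S : Subgroup Ω}

/-- preimage in `S` (as a subgroup of the ambient group) of a subgroup of `G` -/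
def preN (ι : S →* G) (N : Subgroup G) : Subgroup Ω := (N.comap ι).map S.subtype

theorem mem_preN {ι : S →* G} {N : Subgroup G} {x : Ω} :
    x ∈ preN ι N ↔ ∃ hx : x ∈ S, ι ⟨x, hx⟩ ∈ N := by
  constructor
  · rintro ⟨s, hs, rfl⟩
    exact ⟨s.2, hs⟩
  · rintro ⟨hx, h⟩
    exact ⟨⟨x, hx⟩, h, rfl⟩

theorem preN_le (ι : S →* G) (N : Subgroup G) : preN ι N ≤ S := fun _ hx => (mem_preN.mp hx).1

theorem preN_mem (ι : S →* G) (N : Subgroup G) {x : Ω} (hx : x ∈ preN ι N) :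
    ι ⟨x, preN_le ι N hx⟩ ∈ N := (mem_preN.mp hx).2

/-- The subsystem of a realized system induced by a subgroup `N` of the realizing group: maps
between subgroups of `ι⁻¹(N)` that are conjugation by an element of `N`. -/
def realSub (ι : S →* G) (hinj : Function.Injective ι) (N : Subgroup G) :
    FusionSystem (preN ι N) where
  Hom P := {φ | P ≤ preN ι N ∧ (∀ x : P, φ x ∈ preN ι N) ∧ ∃ n ∈ N,
    ∀ (x : P) (hx : (x : Ω) ∈ S) (hφ : φ x ∈ S), ι ⟨φ x, hφ⟩ = n * ι ⟨x, hx⟩ * n⁻¹}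
  le_of_mem h := ⟨h.1, h.2.1⟩
  injective_of_mem := by
    rintro P φ ⟨hP, hφT, n, -, hn⟩ a b hab
    have ha := hn a (preN_le ι N (hP a.2)) (preN_le ι N (hφT a))
    have hb := hn b (preN_le ι N (hP b.2)) (preN_le ι N (hφT b))
    have h1 : ι ⟨φ a, preN_le ι N (hφT a)⟩ = ι ⟨φ b, preN_le ι N (hφT b)⟩ := by
      congr 1
      exact Subtype.ext hab
    rw [ha, hb] at h1
    have h2 : ι ⟨a, preN_le ι N (hP a.2)⟩ = ι ⟨b, preN_le ι N (hP b.2)⟩ :=
      mul_left_cancel (mul_right_cancel h1)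
    have h3 := hinj h2
    exact Subtype.ext (congrArg (fun s : S => (s : Ω)) h3)
  conj_mem := by
    intro P g hP hg
    have hgS : g ∈ S := preN_le ι N hg
    refine ⟨hP, fun x => ?_, ι ⟨g, hgS⟩, preN_mem ι N hg, fun x hx hφ => ?_⟩
    · show g * (x : Ω) * g⁻¹ ∈ preN ι N
      exact Subgroup.mul_mem _ (Subgroup.mul_mem _ hg (hP x.2)) (Subgroup.inv_mem _ hg)
    · rw [← map_inv, ← map_mul, ← map_mul]
      rfl
  comp_mem := by
    rintro P Q φ ψ ⟨hP, hφT, n, hn, hφ⟩ ⟨hQ, hψT, m, hm, hψ⟩ h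
    refine ⟨hP, fun x => hψT _, m * n, N.mul_mem hm hn, fun x hx hφx => ?_⟩
    have h1 := hψ ⟨φ x, h x⟩ (preN_le ι N (hφT x)) hφx
    have h2 := hφ x hx (preN_le ι N (hφT x))
    show ι ⟨ψ ⟨φ x, h x⟩, hφx⟩ = _
    rw [h1, h2, mul_inv_rev]
    simp only [mul_assoc]
  inv_mem := by
    rintro P φ ⟨hP, hφT, n, hn, hφ⟩
    have hφinj : Function.Injective φ := by
      intro a b hab
      have ha := hφ a (preN_le ι N (hP a.2)) (preN_le ι N (hφT a))
      have hb := hφ b (preN_le ι N (hP b.2)) (preN_le ι N (hφT b))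
      have h1 : ι ⟨φ a, preN_le ι N (hφT a)⟩ = ι ⟨φ b, preN_le ι N (hφT b)⟩ := by
        congr 1
        exact Subtype.ext hab
      rw [ha, hb] at h1
      have h2 : ι ⟨a, preN_le ι N (hP a.2)⟩ = ι ⟨b, preN_le ι N (hP b.2)⟩ :=
        mul_left_cancel (mul_right_cancel h1)
      exact Subtype.ext (congrArg (fun s : S => (s : Ω)) (hinj h2))
    refine ⟨P.subtype.comp (MonoidHom.ofInjective hφinj).symm.toMonoidHom, ⟨?_, ?_, n⁻¹,
      N.inv_mem hn, ?_⟩, ?_⟩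
    · rintro _ ⟨x, rfl⟩
      exact hφT x
    · intro y
      exact hP ((MonoidHom.ofInjective hφinj).symm y).2
    · rintro ⟨_, x, rfl⟩ hx hψ
      have e1 : (MonoidHom.ofInjective hφinj).symm ⟨φ x, ⟨x, rfl⟩⟩ = x := by
        have : (⟨φ x, ⟨x, rfl⟩⟩ : φ.range) = MonoidHom.ofInjective hφinj x := rfl
        rw [this, MulEquiv.symm_apply_apply]
      have h1 := hφ x (preN_le ι N (hP x.2)) hx
      show ι ⟨((MonoidHom.ofInjective hφinj).symm ⟨φ x, ⟨x, rfl⟩⟩ : P), _⟩ = _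
      have e2 : (⟨(((MonoidHom.ofInjective hφinj).symm ⟨φ x, ⟨x, rfl⟩⟩ : P) : Ω), hψ⟩ : S) =
          ⟨x, preN_le ι N (hP x.2)⟩ := by
        apply Subtype.ext
        show (((MonoidHom.ofInjective hφinj).symm ⟨φ x, ⟨x, rfl⟩⟩ : P) : Ω) = x
        rw [e1]
      rw [e2, h1, inv_inv]
      group
    · intro x
      show (((MonoidHom.ofInjective hφinj).symm ⟨φ x, ⟨x, rfl⟩⟩ : P) : Ω) = x
      have : (⟨φ x, ⟨x, rfl⟩⟩ : φ.range) = MonoidHom.ofInjective hφinj x := rfl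
      rw [this, MulEquiv.symm_apply_apply]

theorem mem_realSub {ι : S →* G} {hinj : Function.Injective ι} {N : Subgroup G} {P : Subgroup Ω}
    {φ : P →* Ω} : φ ∈ (realSub ι hinj N).Hom P ↔
      P ≤ preN ι N ∧ (∀ x : P, φ x ∈ preN ι N) ∧ ∃ n ∈ N,
        ∀ (x : P) (hx : (x : Ω) ∈ S) (hφ : φ x ∈ S), ι ⟨φ x, hφ⟩ = n * ι ⟨x, hx⟩ * n⁻¹ := Iff.rfl

/-- the isomorphism `ι⁻¹(N) ≃* ι(S) ∩ N` induced by `ι` -/
noncomputable def isoT (ι : S →* G) (hinj : Function.Injective ι) (N : Subgroup G) :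
    preN ι N ≃* ↥(ι.range ⊓ N) :=
  MulEquiv.ofBijective
    (MonoidHom.codRestrict (ι.comp (Subgroup.inclusion (preN_le ι N))) (ι.range ⊓ N)
      (fun x => ⟨⟨_, rfl⟩, preN_mem ι N x.2⟩))
    ⟨by
      intro a b hab
      have h1 : ι (Subgroup.inclusion (preN_le ι N) a) = ι (Subgroup.inclusion (preN_le ι N) b) :=
        congrArg Subtype.val hab
      exact Subgroup.inclusion_injective _ (hinj h1),
     by
      rintro ⟨y, ⟨s, rfl⟩, hyN⟩
      exact ⟨⟨s, mem_preN.mpr ⟨s.2, hyN⟩⟩, Subtype.ext rfl⟩⟩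

theorem isoT_coe (ι : S →* G) (hinj : Function.Injective ι) (N : Subgroup G) (x : preN ι N) :
    ((isoT ι hinj N x : ↥(ι.range ⊓ N)) : G) = ι ⟨x, preN_le ι N x.2⟩ := rfl

theorem realSub_corresp (ι : S →* G) (hinj : Function.Injective ι) (N : Subgroup G) :
    Corresp (isoT ι hinj N) (realSub ι hinj N)
      (fusionSystemOfSubgroup N (ι.range ⊓ N) inf_le_right) := by
  intro P hP φ hφ
  constructor
  · rintro ⟨-, -, n, hn, h⟩
    refine ⟨imE_le _ P, pushE_mem _ hP φ hφ, n, hn, fun y => ?_⟩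
    obtain ⟨x, rfl⟩ := (isoE (isoT ι hinj N) hP).surjective y
    rw [pushE_apply, isoE_coe, isoT_coe, isoT_coe]
    exact h x (preN_le ι N (hP x.2)) (preN_le ι N (hφ x))
  · rintro ⟨-, -, n, hn, h⟩
    refine ⟨hP, hφ, n, hn, fun x hx hφx => ?_⟩
    have h1 := h (isoE (isoT ι hinj N) hP x)
    rw [pushE_apply, isoE_coe, isoT_coe, isoT_coe] at h1
    exact h1

theorem realSub_isSaturated [Finite S] [Finite G] {p : ℕ} [Fact p.Prime] (ι : S →* G)
    (hinj : Function.Injective ι) (Tsyl : Sylow p G) (hT : (Tsyl : Subgroup G) = ι.range)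
    (N : Subgroup G) [hN : N.Normal] : (realSub ι hinj N).IsSaturated p := by
  have hfin : Finite (preN ι N) :=
    Finite.of_injective _ (Subgroup.inclusion_injective (preN_le ι N))
  apply (realSub_corresp ι hinj N).isSaturated
  apply Cfsg.Agent.Lib.Helper85.fusionSystemOfSubgroup_isSaturated
  have h1 : SylIn p ι.range ⊤ := hT ▸ sylIn_top Tsyl
  apply Cfsg.Agent.Lib.Helper85.SylIn.inf_normal h1 le_top le_top
  intro g _
  rw [Subgroup.mem_normalizer_iff]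
  intro x
  constructor
  · intro hx
    exact hN.conj_mem x hx g
  · intro hx
    have := hN.conj_mem _ hx g⁻¹
    have e : g⁻¹ * (g * x * g⁻¹) * g⁻¹⁻¹ = x := by group
    rwa [e] at this

end Cfsg.Agent.Lib.Helper88
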