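import Cfsg.Agent.Lib.Helper87.Alperin

set_option autoImplicit false

namespace Cfsg.Agent.Lib.Helper88

open Cfsg Cfsg.FusionSystem Cfsg.Agent.Lib.Helper87

variable {Ω : Type*} [Group Ω] {S : Subgroup Ω} [Finite S] {p : ℕ} [Fact p.Prime]

/-- In a saturated fusion system, fully centralized subgroups are receptive. -/
theorem receptive_of_fullyCentralized (hS : IsPGroup p S) (F : FusionSystem S) (hF : F.IsSaturated p)
    {P : Subgroup Ω} (hP : F.IsFullyCentralized P) : F.IsReceptive P := by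
  have hPS : P ≤ S := hP.1
  refine ⟨hPS, ?_⟩
  obtain ⟨Q, ⟨φ, hφ, hφr⟩, hfa, hrec⟩ := hF P hPS
  have hQS : Q ≤ S := hfa.1
  obtain ⟨β, hβ, ψ₀, hψ₀, hψ₀x⟩ := exists_extension_normalizer hS F hφ hφr hfa hrec
  have hφQ : ∀ x : P, φ x ∈ Q := fun x => hφr ▸ ⟨x, rfl⟩
  have hPN : P ≤ normalizerIn S P := le_normalizerIn hPS
  have hψ₀inj := F.injective_of_mem hψ₀
  -- ψ₀ on P
  have hψ₀P : ∀ x : P, ψ₀ ⟨x, hPN x.2⟩ = ((β ⟨φ x, hφQ x⟩ : Q) : Ω) := fun x => hψ₀x x (hPN x.2) (hφQ x)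
  have hψ₀PQ : ∀ x : P, ψ₀ ⟨x, hPN x.2⟩ ∈ Q := fun x => by rw [hψ₀P]; exact (β _).2
  -- every element of Q is ψ₀ of an element of P
  have hQsurj : ∀ q ∈ Q, ∃ x : P, ψ₀ ⟨x, hPN x.2⟩ = q := by
    intro q hq
    have h1 : ((β.symm ⟨q, hq⟩ : Q) : Ω) ∈ φ.range := by rw [hφr]; exact (β.symm ⟨q, hq⟩).2
    obtain ⟨x, hx⟩ := h1
    refine ⟨x, ?_⟩
    rw [hψ₀P]
    have : (⟨φ x, hφQ x⟩ : Q) = β.symm ⟨q, hq⟩ := Subtype.ext hx
    rw [this]
    simp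
  -- ψ₀ maps C_S(P) onto C_S(Q)
  have hCN : centralizerIn S P ≤ normalizerIn S P := by
    intro c hc
    refine ⟨hc.1, Subgroup.mem_normalizer_iff.mpr ?_⟩
    intro n
    have hcomm : ∀ x ∈ P, c * x * c⁻¹ = x := by
      intro x hx
      have := hc.2 x hx
      calc c * x * c⁻¹ = x * c * c⁻¹ := by rw [this]
        _ = x := by group
    constructor
    · intro hn
      rw [hcomm n hn]; exact hn
    · intro hn
      have h1 := hcomm _ hn
      have h3 : c * n * c⁻¹ = n := mul_left_cancel (mul_right_cancel h1)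
      rw [← h3]; exact hn
  have hCmap : ∀ c : centralizerIn S P, ψ₀ ⟨c, hCN c.2⟩ ∈ centralizerIn S Q := by
    intro c
    refine ⟨hom_mem_S F hψ₀ _, Subgroup.mem_centralizer_iff.mpr ?_⟩
    intro q hq
    obtain ⟨x, rfl⟩ := hQsurj q hq
    rw [← map_mul, ← map_mul]
    congr 1
    apply Subtype.ext
    exact c.2.2 x x.2
  have hCfinQ : Finite (centralizerIn S Q) :=
    Finite.of_injective _ (Subgroup.inclusion_injective (inf_le_left : centralizerIn S Q ≤ S))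
  have hCfinP : Finite (centralizerIn S P) :=
    Finite.of_injective _ (Subgroup.inclusion_injective (inf_le_left : centralizerIn S P ≤ S))
  let cmap : centralizerIn S P → centralizerIn S Q := fun c => ⟨ψ₀ ⟨c, hCN c.2⟩, hCmap c⟩
  have hcinj : Function.Injective cmap := by
    intro a b hab
    have h1 : ψ₀ ⟨a, hCN a.2⟩ = ψ₀ ⟨b, hCN b.2⟩ := congrArg (fun z : centralizerIn S Q => (z : Ω)) hab
    have h2 := hψ₀inj h1
    exact Subtype.ext (congrArg (fun z : normalizerIn S P => (z : Ω)) h2)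
  have hcsurj : Function.Surjective cmap := by
    have hcard : Nat.card (centralizerIn S Q) ≤ Nat.card (centralizerIn S P) := hP.2 Q ⟨φ, hφ, hφr⟩
    have hbij := (Nat.bijective_iff_injective_and_card cmap).mpr
      ⟨hcinj, le_antisymm (Nat.card_le_card_of_injective cmap hcinj) hcard⟩
    exact hbij.2
  -- main
  intro P' θ hθ hθr
  have hP'S : P' ≤ S := hom_le F hθ
  have hθP : ∀ x : P', θ x ∈ P := fun x => hθr ▸ ⟨x, rfl⟩
  have hθN : ∀ x : P', θ x ∈ normalizerIn S P := fun x => hPN (hθP x)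
  -- ω = ψ₀ ∘ θ
  have hω := F.comp_mem hθ hψ₀ hθN
  set ω := ψ₀.comp (θ.codRestrict _ hθN) with hωdef
  have hωx : ∀ x : P', ω x = ψ₀ ⟨θ x, hθN x⟩ := fun x => rfl
  have hωr : ω.range = Q := by
    apply le_antisymm
    · rintro _ ⟨x, rfl⟩
      exact hψ₀PQ ⟨θ x, hθP x⟩
    · intro q hq
      obtain ⟨y, hy⟩ := hQsurj q hq
      have hyθ : (y : Ω) ∈ θ.range := by rw [hθr]; exact y.2
      obtain ⟨x, hx⟩ := hyθ
      refine ⟨x, ?_⟩
      rw [hωx, ← hy]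
      congr 1
      exact Subtype.ext hx
  -- generators of the extender of θ are generators of the extender of ω, with good images
  obtain ⟨ωt, hωt, hωtx⟩ := hrec.2 P' ω hω hωr
  have hgen : ∀ g : Ω, (g ∈ S ∧ g ∈ Subgroup.normalizer (P' : Set Ω) ∧
      ∃ h ∈ S, ∀ (x : P') (hx : g * (x : Ω) * g⁻¹ ∈ P'), θ ⟨g * x * g⁻¹, hx⟩ = h * θ x * h⁻¹) →
      ∃ hg : g ∈ extender S P' ω, ωt ⟨g, hg⟩ ∈ ψ₀.range := by
    rintro g ⟨hgS, hgN, h, hhS, hh⟩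
    have hgx : ∀ x : P', g * (x : Ω) * g⁻¹ ∈ P' := fun x =>
      (Subgroup.mem_normalizer_iff.mp hgN _).mp x.2
    -- h normalizes P
    have hhP : ∀ y ∈ P, h * y * h⁻¹ ∈ P := by
      intro y hy
      have hyθ : y ∈ θ.range := by rw [hθr]; exact hy
      obtain ⟨x, rfl⟩ := hyθ
      rw [← hh x (hgx x)]
      exact hθP _
    have hPfin : Finite P := Finite.of_injective _ (Subgroup.inclusion_injective hPS)
    have hhN : h ∈ normalizerIn S P := by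
      refine ⟨hhS, Subgroup.mem_normalizer_iff.mpr ?_⟩
      intro y
      constructor
      · exact hhP y
      · intro hy
        -- conjugation by h is an injective self-map of the finite set P, hence surjective
        let f : P → P := fun y => ⟨h * y * h⁻¹, hhP y y.2⟩
        have hfinj : Function.Injective f := by
          intro a b hab
          have h1 : h * (a : Ω) * h⁻¹ = h * (b : Ω) * h⁻¹ := congrArg (fun z : P => (z : Ω)) hab
          exact Subtype.ext (mul_left_cancel (mul_right_cancel h1))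
        have hfsurj := Finite.injective_iff_surjective.mp hfinj
        obtain ⟨a, ha⟩ := hfsurj ⟨h * y * h⁻¹, hy⟩
        have h1 : h * (a : Ω) * h⁻¹ = h * y * h⁻¹ := congrArg (fun z : P => (z : Ω)) ha
        have h2 : (a : Ω) = y := mul_left_cancel (mul_right_cancel h1)
        rw [← h2]
        exact a.2
    -- the key conjugation formula for ω
    have hωconj : ∀ (x : P') (hx : g * (x : Ω) * g⁻¹ ∈ P'),
        ω ⟨g * x * g⁻¹, hx⟩ = ψ₀ ⟨h, hhN⟩ * ω x * (ψ₀ ⟨h, hhN⟩)⁻¹ := by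
      intro x hx
      rw [hωx, hωx, ← map_inv, ← map_mul, ← map_mul]
      congr 1
      apply Subtype.ext
      exact hh x hx
    have hg_ext : g ∈ extender S P' ω :=
      Subgroup.subset_closure ⟨hgS, hgN, ψ₀ ⟨h, hhN⟩, hom_mem_S F hψ₀ _, hωconj⟩
    refine ⟨hg_ext, ?_⟩
    -- ψ₀(h)⁻¹ ωt(g) centralizes Q
    have hP'ext : P' ≤ extender S P' ω := self_le_extender F hω
    have hcentr : (ψ₀ ⟨h, hhN⟩)⁻¹ * ωt ⟨g, hg_ext⟩ ∈ centralizerIn S Q := by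
      refine ⟨S.mul_mem (S.inv_mem (hom_mem_S F hψ₀ _)) (hom_mem_S F hωt _),
        Subgroup.mem_centralizer_iff.mpr ?_⟩
      intro q hq
      have hqω : q ∈ ω.range := by rw [hωr]; exact hq
      obtain ⟨x, rfl⟩ := hqω
      have h1 : ωt ⟨g * (x : Ω) * g⁻¹, hP'ext (hgx x)⟩ = ω ⟨g * x * g⁻¹, hgx x⟩ :=
        hωtx _ (hgx x) (hP'ext (hgx x))
      have h2 : ωt ⟨x, hP'ext x.2⟩ = ω x := hωtx x x.2 (hP'ext x.2)
      have h3 : (⟨g * (x : Ω) * g⁻¹, hP'ext (hgx x)⟩ : extender S P' ω) =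
          ⟨g, hg_ext⟩ * ⟨x, hP'ext x.2⟩ * ⟨g, hg_ext⟩⁻¹ := Subtype.ext rfl
      rw [h3, map_mul, map_mul, map_inv, h2, hωconj x (hgx x)] at h1
      -- h1 : ωt g * ω x * (ωt g)⁻¹ = ψ₀ h * ω x * (ψ₀ h)⁻¹
      calc ω x * ((ψ₀ ⟨h, hhN⟩)⁻¹ * ωt ⟨g, hg_ext⟩)
          = (ψ₀ ⟨h, hhN⟩)⁻¹ * (ψ₀ ⟨h, hhN⟩ * ω x * (ψ₀ ⟨h, hhN⟩)⁻¹) * ωt ⟨g, hg_ext⟩ := by group
        _ = (ψ₀ ⟨h, hhN⟩)⁻¹ * (ωt ⟨g, hg_ext⟩ * ω x * (ωt ⟨g, hg_ext⟩)⁻¹) * ωt ⟨g, hg_ext⟩ := by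
            rw [h1]
        _ = (ψ₀ ⟨h, hhN⟩)⁻¹ * ωt ⟨g, hg_ext⟩ * ω x := by group
    obtain ⟨c, hc⟩ := hcsurj ⟨_, hcentr⟩
    have hc' : ψ₀ ⟨c, hCN c.2⟩ = (ψ₀ ⟨h, hhN⟩)⁻¹ * ωt ⟨g, hg_ext⟩ :=
      congrArg (fun z : centralizerIn S Q => (z : Ω)) hc
    refine ⟨⟨h, hhN⟩ * ⟨c, hCN c.2⟩, ?_⟩
    rw [map_mul, hc', mul_inv_cancel_left]
  -- N ≤ extender of ω, and ωt maps N into the range of ψ₀
  have hNle : extender S P' θ ≤ ((ψ₀.range.comap ωt).map (extender S P' ω).subtype) := by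
    apply (Subgroup.closure_le _).mpr
    intro g hg
    obtain ⟨hg_ext, hgr⟩ := hgen g hg
    exact ⟨⟨g, hg_ext⟩, hgr, rfl⟩
  have hNext : extender S P' θ ≤ extender S P' ω := by
    intro g hg
    obtain ⟨g', -, rfl⟩ := hNle hg
    exact g'.2
  have hNrange : ∀ g : extender S P' θ, ωt (Subgroup.inclusion hNext g) ∈ ψ₀.range := by
    intro g
    obtain ⟨g', hg', hgg'⟩ := hNle g.2
    have : Subgroup.inclusion hNext g = g' := Subtype.ext hgg'.symm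
    rw [this]
    exact hg'
  have hωtN : ωt.comp (Subgroup.inclusion hNext) ∈ F.Hom (extender S P' θ) := restrict_mem F hωt hNext
  obtain ⟨ρ, hρ, hρinv⟩ := F.inv_mem hψ₀
  have hfinal := F.comp_mem hωtN hρ hNrange
  refine ⟨_, hfinal, ?_⟩
  intro x hxP' hxN
  show ρ ⟨ωt (Subgroup.inclusion hNext ⟨x, hxN⟩), _⟩ = θ ⟨x, hxP'⟩
  have h1 : ωt (Subgroup.inclusion hNext ⟨x, hxN⟩) = ω ⟨x, hxP'⟩ := hωtx x hxP' (hNext hxN)
  have h2 : (⟨ωt (Subgroup.inclusion hNext ⟨x, hxN⟩), hNrange ⟨x, hxN⟩⟩ : ψ₀.range) =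
      ⟨ψ₀ ⟨θ ⟨x, hxP'⟩, hθN ⟨x, hxP'⟩⟩, ⟨_, rfl⟩⟩ := Subtype.ext (h1.trans (hωx _))
  rw [h2, hρinv]

end Cfsg.Agent.Lib.Helper88
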