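import Cfsg.Agent.Lib.Helper88.PFree
import Cfsg.Agent.Lib.Helper87.AutTransport
import Cfsg.Agent.Lib.Helper85.FullyNormalized
import Cfsg.Agent.Lib.Helper84.NormalizerSystem

set_option autoImplicit false

/-!
# Reduction, step 1: a subgroup normal in `S` with a non-inner normalizer system
-/

namespace Cfsg.Agent.Lib.Helper88

open Cfsg Cfsg.FusionSystem
open Cfsg.Agent.Lib.Helper87 (hom_le hom_mem_S subtype_mem inv_exists mem_autGroup_iff finite_of_le
  isConj_refl isConj_symm card_eq_of_isConj)

variable {Ω : Type*} [Group Ω] {S : Subgroup Ω}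

/-- transport of an automorphism of the system along a map of the system -/
theorem transport_aut (F : FusionSystem S) {P : Subgroup Ω} {χ : P →* Ω} (hχ : χ ∈ F.Hom P)
    {β : MulAut P} (hβ : β ∈ F.autGroup P) :
    ∃ β' : MulAut χ.range, β' ∈ F.autGroup χ.range ∧ orderOf β' = orderOf β ∧ (β' = 1 → β = 1) ∧
      ∀ x : P, ((β' ⟨χ x, ⟨x, rfl⟩⟩ : χ.range) : Ω) = χ (β x) := by
  have hinj : Function.Injective χ := F.injective_of_mem hχ
  let e : P ≃* χ.range := Cfsg.Agent.Lib.Helper87.isoOfHom χ hinj rfl
  have he : ∀ x : P, ((e x : χ.range) : Ω) = χ x := fun x => rfl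
  refine ⟨MulAut.congr e β, Cfsg.Agent.Lib.Helper87.autGroup_congr_mem F hχ rfl e he hβ, ?_, ?_, ?_⟩
  · exact orderOf_injective (MulAut.congr e).toMonoidHom (MulAut.congr e).injective β
  · intro h1
    have h2 : MulAut.congr e β = MulAut.congr e 1 := by rw [h1, map_one]
    exact (MulAut.congr e).injective h2
  · intro x
    have h1 : (⟨χ x, ⟨x, rfl⟩⟩ : χ.range) = e x := rfl
    rw [h1]
    show ((e (β (e.symm (e x))) : χ.range) : Ω) = χ (β x)
    rw [MulEquiv.symm_apply_apply]
    rfl

/-- **Step 1.** If every saturated non-inner system over a smaller subgroup `R` has a nontrivial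
automorphism of order prime to `p` normalizing a nontrivial subgroup normalized by the normalizer of `R`,
then a saturated system with a nontrivial automorphism of order prime to `p` has a nontrivial subgroup,
normal in `S`, whose normalizer system has such an automorphism. -/
theorem exists_normal_not_nFree [Finite S] {p : ℕ} [Fact p.Prime] (hS : IsPGroup p S)
    (F : FusionSystem S) (hF : F.IsSaturated p) (hnot : ¬ PFree F p)
    (hW : ∀ (R : Subgroup Ω) (E : FusionSystem R), R ≤ S → Nat.card R < Nat.card S →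
      E.IsSaturated p → ¬ PFree E p →
      ∃ (W P : Subgroup Ω) (β : MulAut P), W ≠ ⊥ ∧ W ≤ P ∧ P ≤ R ∧ β ∈ E.autGroup P ∧
        (orderOf β).Coprime p ∧ β ≠ 1 ∧ (∀ x : P, (x : Ω) ∈ W → ((β x : P) : Ω) ∈ W) ∧
        Subgroup.normalizer (R : Set Ω) ≤ Subgroup.normalizer (W : Set Ω)) :
    ∃ U : Subgroup Ω, U ≠ ⊥ ∧ U ≤ S ∧ S ≤ Subgroup.normalizer (U : Set Ω) ∧ ¬ NFree F p U := by
  -- transport of a witness to a fully normalized conjugate
  have htr : ∀ (W P : Subgroup Ω) (β : MulAut P), W ≠ ⊥ → W ≤ P → P ≤ normalizerIn S W →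
      β ∈ F.autGroup P → (orderOf β).Coprime p → β ≠ 1 →
      (∀ x : P, (x : Ω) ∈ W → ((β x : P) : Ω) ∈ W) →
      ∃ W' : Subgroup Ω, F.IsFullyNormalized W' ∧ W' ≠ ⊥ ∧ ¬ NFree F p W' ∧
        Nat.card (normalizerIn S W) ≤ Nat.card (normalizerIn S W') := by
    intro W P β hW1 hWP hPN hβ hcop hβ1 hβW
    have hWS : W ≤ S := hWP.trans (hPN.trans inf_le_left)
    obtain ⟨W', hc, hfn⟩ := Cfsg.Agent.Lib.Helper87.exists_fullyNormalized_conj F hWS
    obtain ⟨χ, hχ, hχN, hχW, hχsurj⟩ :=
      Cfsg.Agent.Lib.Helper85.exists_hom_normalizer_of_fullyNormalized hS F hF hfn hc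
    have hχinj : Function.Injective χ := F.injective_of_mem hχ
    have hfinN : Finite (normalizerIn S W') := finite_of_le inf_le_left
    refine ⟨W', hfn, ?_, ?_, ?_⟩
    · intro h0
      have h1 := card_eq_of_isConj F hc
      rw [h0, Subgroup.card_bot] at h1
      exact hW1 (Subgroup.card_eq_one.mp h1)
    · -- the transported automorphism
      have hχ₂ : χ.comp (Subgroup.inclusion hPN) ∈ F.Hom P :=
        Cfsg.Agent.Lib.Helper87.restrict_mem F hχ hPN
      obtain ⟨β', hβ', hord, hone, hval⟩ := transport_aut F hχ₂ hβ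
      intro hfree
      have hWP' : W' ≤ (χ.comp (Subgroup.inclusion hPN)).range := by
        intro y hy
        obtain ⟨x, hxW, hxy⟩ := hχsurj y hy
        exact ⟨⟨x, hWP hxW⟩, hxy⟩
      have hPN' : (χ.comp (Subgroup.inclusion hPN)).range ≤ normalizerIn S W' := by
        rintro _ ⟨x, rfl⟩
        exact hχN _
      have hβ'W : ∀ y : (χ.comp (Subgroup.inclusion hPN)).range, (y : Ω) ∈ W' →
          ((β' y : (χ.comp (Subgroup.inclusion hPN)).range) : Ω) ∈ W' := by
        rintro ⟨_, x, rfl⟩ hy
        rw [hval x]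
        -- `x ∈ W`
        obtain ⟨x', hx'W, hx'⟩ := hχsurj _ hy
        have hxx' : x' = Subgroup.inclusion hPN x := hχinj hx'
        have hxW : (x : Ω) ∈ W := by
          have : (x' : Ω) = (x : Ω) := by rw [hxx']; rfl
          rw [← this]
          exact hx'W
        exact hχW (Subgroup.inclusion hPN (β x)) (hβW x hxW)
      have h1 := hfree _ hWP' hPN' β' hβ' hβ'W (hord ▸ hcop)
      exact hβ1 (hone h1)
    · exact Nat.card_le_card_of_injective (fun x => (⟨χ x, hχN x⟩ : normalizerIn S W'))
        (fun a b hab => hχinj (congrArg Subtype.val hab))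
  -- the main induction
  have key : ∀ m : ℕ, ∀ U : Subgroup Ω, F.IsFullyNormalized U → U ≠ ⊥ → ¬ NFree F p U →
      Nat.card S - Nat.card (normalizerIn S U) = m →
      ∃ U : Subgroup Ω, U ≠ ⊥ ∧ U ≤ S ∧ S ≤ Subgroup.normalizer (U : Set Ω) ∧ ¬ NFree F p U := by
    intro m
    induction m using Nat.strong_induction_on with
    | _ m ih =>
      intro U hfn hU1 hUfree hm
      have hUS : U ≤ S := hfn.1
      by_cases hN : normalizerIn S U = S
      · refine ⟨U, hU1, hUS, ?_, hUfree⟩
        intro s hs
        have : s ∈ normalizerIn S U := by rw [hN]; exact hs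
        exact this.2
      · -- the normalizer system
        set R := normalizerIn S U with hR
        have hRS : R ≤ S := inf_le_left
        have hcard : Nat.card R < Nat.card S := by
          have h1 : Nat.card R ≤ Nat.card S := Subgroup.card_le_of_le hRS
          rcases Nat.lt_or_ge (Nat.card R) (Nat.card S) with h | h
          · exact h
          · exact absurd (Subgroup.eq_of_le_of_card_ge hRS h) hN
        let E := Cfsg.Agent.Lib.Helper84.normalizerSystem F U hUS
        have hE : F.IsNormalizerSystem U E := Cfsg.Agent.Lib.Helper84.normalizerSystem_spec F U hUS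
        have hEsat : E.IsSaturated p :=
          Cfsg.Agent.Lib.Helper84.KN.normalizerSystem_isSaturated hS F hF hfn hE
        have hEnot : ¬ PFree E p := by
          intro hEfree
          apply hUfree
          intro P hUP hPN α hα hαU hcop
          exact hEfree P hPN α (mem_autGroup_normalizerSystem F hE hUP hPN hα hαU) hcop
        obtain ⟨W, P, β, hW1, hWP, hPR, hβ, hcop, hβ1, hβW, hnorm⟩ :=
          hW R E hRS hcard hEsat hEnot
        have hβF : β ∈ F.autGroup P := autGroup_normalizerSystem_le F hE P hβ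
        have hRN : R ≤ Subgroup.normalizer (R : Set Ω) := Subgroup.le_normalizer
        have hPN : P ≤ normalizerIn S W := fun x hx => ⟨hRS (hPR hx), hnorm (hRN (hPR hx))⟩
        obtain ⟨W', hfn', hW'1, hW'free, hcardW⟩ := htr W P β hW1 hWP hPN hβF hcop hβ1 hβW
        -- the normalizer of `W` is larger than `R`
        have h1 : Nat.card R < Nat.card (normalizerIn S R) :=
          Cfsg.Agent.Lib.Helper87.card_lt_card_normalizerIn hS hRS hN
        have h2 : normalizerIn S R ≤ normalizerIn S W := fun x hx => ⟨hx.1, hnorm hx.2⟩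
        have hfinW : Finite (normalizerIn S W) := finite_of_le inf_le_left
        have h3 : Nat.card (normalizerIn S R) ≤ Nat.card (normalizerIn S W) :=
          Subgroup.card_le_of_le h2
        have hfinW' : Finite (normalizerIn S W') := finite_of_le inf_le_left
        have h4 : Nat.card (normalizerIn S W') ≤ Nat.card S := Subgroup.card_le_of_le inf_le_left
        exact ih (Nat.card S - Nat.card (normalizerIn S W')) (by omega) W' hfn' hW'1 hW'free rfl
  -- a witness
  have hex : ∃ (P : Subgroup Ω), P ≤ S ∧ ∃ α ∈ F.autGroup P, (orderOf α).Coprime p ∧ α ≠ 1 := by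
    by_contra hcon
    apply hnot
    intro P hP α hα hcop
    by_contra h1
    exact hcon ⟨P, hP, α, hα, hcop, h1⟩
  obtain ⟨P, hP, α, hα, hcop, hα1⟩ := hex
  have hP1 : P ≠ ⊥ := by
    intro h0
    apply hα1
    ext x
    have hbot : ∀ y : P, (y : Ω) = 1 := by
      intro y
      have h1 : (y : Ω) ∈ (⊥ : Subgroup Ω) := h0 ▸ y.2
      exact Subgroup.mem_bot.mp h1
    have hx : (x : Ω) = 1 := hbot x
    have hx' : ((α x : P) : Ω) = 1 := hbot _
    rw [MulAut.one_apply, hx, hx']
  have hPN : P ≤ normalizerIn S P := fun x hx => ⟨hP hx, Subgroup.le_normalizer hx⟩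
  obtain ⟨W', hfn', hW'1, hW'free, -⟩ := htr P P α hP1 le_rfl hPN hα hcop hα1 (fun x _ => (α x).2)
  exact key _ W' hfn' hW'1 hW'free rfl

end Cfsg.Agent.Lib.Helper88
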