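import Cfsg.Agent.Lib.Helper88.Reduction4

set_option autoImplicit false

/-!
# The reduction to constrained systems, inside a class of fusion systems

The reduction of `Reduction4`, for the saturated systems of a class `Cls` closed under normalizer systems of
fully normalized subgroups and under factor systems modulo normal subgroups.
-/

namespace Cfsg.Agent.Lib.Helper88

open Cfsg Cfsg.FusionSystem
open Cfsg.Agent.Lib.Helper87 (hom_le hom_mem_S subtype_mem inv_exists mem_autGroup_iff finite_of_le
  isConj_refl isConj_symm card_eq_of_isConj)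

universe u

section step1

variable {Ω : Type*} [Group Ω] {S : Subgroup Ω}

/-- **Step 1**, with a hypothesis on normalizer systems only. -/
theorem exists_normal_not_nFree' [Finite S] {p : ℕ} [Fact p.Prime] (hS : IsPGroup p S)
    (F : FusionSystem S) (hF : F.IsSaturated p) (hnot : ¬ PFree F p)
    (hW : ∀ (U : Subgroup Ω), F.IsFullyNormalized U → Nat.card (normalizerIn S U) < Nat.card S →
      ∀ E : FusionSystem (normalizerIn S U), F.IsNormalizerSystem U E → E.IsSaturated p →
      ¬ PFree E p →
      ∃ (W P : Subgroup Ω) (β : MulAut P), W ≠ ⊥ ∧ W ≤ P ∧ P ≤ normalizerIn S U ∧ β ∈ E.autGroup P ∧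
        (orderOf β).Coprime p ∧ β ≠ 1 ∧ (∀ x : P, (x : Ω) ∈ W → ((β x : P) : Ω) ∈ W) ∧
        Subgroup.normalizer (normalizerIn S U : Set Ω) ≤ Subgroup.normalizer (W : Set Ω)) :
    ∃ U : Subgroup Ω, U ≠ ⊥ ∧ U ≤ S ∧ S ≤ Subgroup.normalizer (U : Set Ω) ∧ ¬ NFree F p U := by
  -- transport of a witness to a fully normalized conjugate
  have htr : ∀ (W P : Subgroup Ω) (β : MulAut P), W ≠ ⊥ → W ≤ P → P ≤ normalizerIn S W →
      β ∈ F.autGroup P → (orderOf β).Coprime p → β ≠ 1 →
      (∀ x : P, (x : Ω) ∈ W → ((β x : P) : Ω) ∈ W) →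
      ∃ W' : Subgroup Ω, F.IsFullyNormalized W' ∧ W' ≠ ⊥ ∧ ¬ NFree F p W' ∧
        Nat.card (normalizerIn S W) ≤ Nat.card (normalizerIn S W') := by
    intro W P β hW1 hWP hPN hβ hcop hβ1 hβW
    have hWS : W ≤ S := hWP.trans (hPN.trans inf_le_left)
    obtain ⟨W', hc, hfn⟩ := Cfsg.Agent.Lib.Helper87.exists_fullyNormalized_conj F hWS
    obtain ⟨χ, hχ, hχN, hχW, hχsurj⟩ :=
      Cfsg.Agent.Lib.Helper85.exists_hom_normalizer_of_fullyNormalized hS F hF hfn hc
    have hχinj : Function.Injective χ := F.injective_of_mem hχ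
    have hfinN : Finite (normalizerIn S W') := finite_of_le inf_le_left
    refine ⟨W', hfn, ?_, ?_, ?_⟩
    · intro h0
      have h1 := card_eq_of_isConj F hc
      rw [h0, Subgroup.card_bot] at h1
      exact hW1 (Subgroup.card_eq_one.mp h1)
    · -- the transported automorphism
      have hχ₂ : χ.comp (Subgroup.inclusion hPN) ∈ F.Hom P :=
        Cfsg.Agent.Lib.Helper87.restrict_mem F hχ hPN
      obtain ⟨β', hβ', hord, hone, hval⟩ := transport_aut F hχ₂ hβ
      intro hfree
      have hWP' : W' ≤ (χ.comp (Subgroup.inclusion hPN)).range := by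
        intro y hy
        obtain ⟨x, hxW, hxy⟩ := hχsurj y hy
        exact ⟨⟨x, hWP hxW⟩, hxy⟩
      have hPN' : (χ.comp (Subgroup.inclusion hPN)).range ≤ normalizerIn S W' := by
        rintro _ ⟨x, rfl⟩
        exact hχN _
      have hβ'W : ∀ y : (χ.comp (Subgroup.inclusion hPN)).range, (y : Ω) ∈ W' →
          ((β' y : (χ.comp (Subgroup.inclusion hPN)).range) : Ω) ∈ W' := by
        rintro ⟨_, x, rfl⟩ hy
        rw [hval x]
        -- `x ∈ W`
        obtain ⟨x', hx'W, hx'⟩ := hχsurj _ hy
        have hxx' : x' = Subgroup.inclusion hPN x := hχinj hx'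
        have hxW : (x : Ω) ∈ W := by
          have : (x' : Ω) = (x : Ω) := by rw [hxx']; rfl
          rw [← this]
          exact hx'W
        exact hχW (Subgroup.inclusion hPN (β x)) (hβW x hxW)
      have h1 := hfree _ hWP' hPN' β' hβ' hβ'W (hord ▸ hcop)
      exact hβ1 (hone h1)
    · exact Nat.card_le_card_of_injective (fun x => (⟨χ x, hχN x⟩ : normalizerIn S W'))
        (fun a b hab => hχinj (congrArg Subtype.val hab))
  -- the main induction
  have key : ∀ m : ℕ, ∀ U : Subgroup Ω, F.IsFullyNormalized U → U ≠ ⊥ → ¬ NFree F p U →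
      Nat.card S - Nat.card (normalizerIn S U) = m →
      ∃ U : Subgroup Ω, U ≠ ⊥ ∧ U ≤ S ∧ S ≤ Subgroup.normalizer (U : Set Ω) ∧ ¬ NFree F p U := by
    intro m
    induction m using Nat.strong_induction_on with
    | _ m ih =>
      intro U hfn hU1 hUfree hm
      have hUS : U ≤ S := hfn.1
      by_cases hN : normalizerIn S U = S
      · refine ⟨U, hU1, hUS, ?_, hUfree⟩
        intro s hs
        have : s ∈ normalizerIn S U := by rw [hN]; exact hs
        exact this.2
      · -- the normalizer system
        have hRS : normalizerIn S U ≤ S := inf_le_left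
        have hcard : Nat.card (normalizerIn S U) < Nat.card S := by
          have h1 : Nat.card (normalizerIn S U) ≤ Nat.card S := Subgroup.card_le_of_le hRS
          rcases Nat.lt_or_ge (Nat.card (normalizerIn S U)) (Nat.card S) with h | h
          · exact h
          · exact absurd (Subgroup.eq_of_le_of_card_ge hRS h) hN
        let E := Cfsg.Agent.Lib.Helper84.normalizerSystem F U hUS
        have hE : F.IsNormalizerSystem U E := Cfsg.Agent.Lib.Helper84.normalizerSystem_spec F U hUS
        have hEsat : E.IsSaturated p :=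
          Cfsg.Agent.Lib.Helper84.KN.normalizerSystem_isSaturated hS F hF hfn hE
        have hEnot : ¬ PFree E p := by
          intro hEfree
          apply hUfree
          intro P hUP hPN α hα hαU hcop
          exact hEfree P hPN α (mem_autGroup_normalizerSystem F hE hUP hPN hα hαU) hcop
        obtain ⟨W, P, β, hW1, hWP, hPR, hβ, hcop, hβ1, hβW, hnorm⟩ :=
          hW U hfn hcard E hE hEsat hEnot
        have hβF : β ∈ F.autGroup P := autGroup_normalizerSystem_le F hE P hβ
        have hRN : normalizerIn S U ≤ Subgroup.normalizer (normalizerIn S U : Set Ω) :=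
          Subgroup.le_normalizer
        have hPN : P ≤ normalizerIn S W := fun x hx => ⟨hRS (hPR hx), hnorm (hRN (hPR hx))⟩
        obtain ⟨W', hfn', hW'1, hW'free, hcardW⟩ := htr W P β hW1 hWP hPN hβF hcop hβ1 hβW
        -- the normalizer of `W` is larger than `R`
        have h1 : Nat.card (normalizerIn S U) < Nat.card (normalizerIn S (normalizerIn S U)) :=
          Cfsg.Agent.Lib.Helper87.card_lt_card_normalizerIn hS hRS hN
        have h2 : normalizerIn S (normalizerIn S U) ≤ normalizerIn S W :=
          fun x hx => ⟨hx.1, hnorm hx.2⟩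
        have hfinW : Finite (normalizerIn S W) := finite_of_le inf_le_left
        have h3 : Nat.card (normalizerIn S (normalizerIn S U)) ≤ Nat.card (normalizerIn S W) :=
          Subgroup.card_le_of_le h2
        have hfinW' : Finite (normalizerIn S W') := finite_of_le inf_le_left
        have h4 : Nat.card (normalizerIn S W') ≤ Nat.card S := Subgroup.card_le_of_le inf_le_left
        exact ih (Nat.card S - Nat.card (normalizerIn S W')) (by omega) W' hfn' hW'1 hW'free rfl
  -- a witness
  have hex : ∃ (P : Subgroup Ω), P ≤ S ∧ ∃ α ∈ F.autGroup P, (orderOf α).Coprime p ∧ α ≠ 1 := by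
    by_contra hcon
    apply hnot
    intro P hP α hα hcop
    by_contra h1
    exact hcon ⟨P, hP, α, hα, hcop, h1⟩
  obtain ⟨P, hP, α, hα, hcop, hα1⟩ := hex
  have hP1 : P ≠ ⊥ := by
    intro h0
    apply hα1
    ext x
    have hbot : ∀ y : P, (y : Ω) = 1 := by
      intro y
      have h1 : (y : Ω) ∈ (⊥ : Subgroup Ω) := h0 ▸ y.2
      exact Subgroup.mem_bot.mp h1
    have hx : (x : Ω) = 1 := hbot x
    have hx' : ((α x : P) : Ω) = 1 := hbot _
    rw [MulAut.one_apply, hx, hx']
  have hPN : P ≤ normalizerIn S P := fun x hx => ⟨hP hx, Subgroup.le_normalizer hx⟩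
  obtain ⟨W', hfn', hW'1, hW'free, -⟩ := htr P P α hP1 le_rfl hPN hα hcop hα1 (fun x _ => (α x).2)
  exact key _ W' hfn' hW'1 hW'free rfl

end step1

/-- the system contains a constrained subsystem over `S`, in the class, with a nontrivial automorphism of
order prime to `p` -/
def ConclC (Cls : ∀ (Ω : Type u) [Group Ω] (S : Subgroup Ω), FusionSystem S → Prop)
    {Ω : Type u} [Group Ω] {S : Subgroup Ω} (F : FusionSystem S) (p : ℕ) : Prop :=
  ∃ (T : Subgroup Ω) (E : FusionSystem T), T = S ∧ (∀ P : Subgroup Ω, E.Hom P ⊆ F.Hom P) ∧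
    E.IsConstrained p ∧ Cls Ω T E ∧ ¬ PFree E p

section

variable (p : ℕ) [Fact p.Prime]
  (Cls : ∀ (Ω : Type u) [Group Ω] (S : Subgroup Ω), FusionSystem S → Prop)
  (hCn : ∀ (Ω : Type u) [Group Ω] (S : Subgroup Ω) (F : FusionSystem S), Finite S → IsPGroup p S →
    F.IsSaturated p → Cls Ω S F → ∀ U : Subgroup Ω, F.IsFullyNormalized U →
    ∀ N : FusionSystem (normalizerIn S U), F.IsNormalizerSystem U N → Cls Ω (normalizerIn S U) N)
  (hCf : ∀ (Ω : Type u) [Group Ω] (S : Subgroup Ω) (F : FusionSystem S), Finite S → IsPGroup p S →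
    F.IsSaturated p → Cls Ω S F → ∀ Q : Subgroup Ω, F.IsNormal Q →
    ∀ (Ω' : Type u) [Group Ω'] (S' : Subgroup Ω') (θ : S →* Ω') (E : FusionSystem S'),
      F.IsFactorSystem Q θ E → Cls Ω' S' E)
  (Bad : ∀ (Ω : Type u) [Group Ω] (S P : Subgroup Ω), MulAut P → Prop)
  (hloc : ∀ (Ω : Type u) [Group Ω] (S P : Subgroup Ω) (α : MulAut P), Finite S → IsPGroup p S →
    P ≤ S → α ≠ 1 → Bad Ω S P α →
    ∃ W : Subgroup Ω, W ≠ ⊥ ∧ W ≤ P ∧ (∀ x : P, (x : Ω) ∈ W → ((α x : P) : Ω) ∈ W) ∧
      Subgroup.normalizer (S : Set Ω) ≤ Subgroup.normalizer (W : Set Ω))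
  (hgrp : ∀ (Ω : Type u) [Group Ω] (S : Subgroup Ω) (F : FusionSystem S), Finite S → IsPGroup p S →
    F.IsConstrained p → Cls Ω S F → Hyp Bad F p → PFree F p)

include hloc hgrp in
/-- a constrained subsystem in the class with a nontrivial automorphism of order prime to `p` gives a
nontrivial automorphism of order prime to `p` normalizing a nontrivial normal subgroup -/
theorem witness_of_conclC {Ω : Type u} [Group Ω] {S : Subgroup Ω} (F : FusionSystem S)
    (hfin : Finite S) (hS : IsPGroup p S) (hc : ConclC Cls F p) :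
    ∃ (W P : Subgroup Ω) (β : MulAut P), W ≠ ⊥ ∧ W ≤ P ∧ P ≤ S ∧ β ∈ F.autGroup P ∧
      (orderOf β).Coprime p ∧ β ≠ 1 ∧ (∀ x : P, (x : Ω) ∈ W → ((β x : P) : Ω) ∈ W) ∧
      Subgroup.normalizer (S : Set Ω) ≤ Subgroup.normalizer (W : Set Ω) := by
  obtain ⟨T, E, hT, hsub, hcon, hcls, hnot⟩ := hc
  subst hT
  have h1 : ¬ Hyp Bad E p := fun h => hnot (hgrp Ω T E hfin hS hcon hcls h)
  have h2 : ∃ P : Subgroup Ω, P ≤ T ∧ ∃ α ∈ E.autGroup P, (orderOf α).Coprime p ∧ Bad Ω T P α ∧
      α ≠ 1 := by
    by_contra hcon'
    apply h1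
    intro P hP α hα hcop hbad
    by_contra hne
    exact hcon' ⟨P, hP, α, hα, hcop, hbad, hne⟩
  obtain ⟨P, hP, α, hα, hcop, hbad, hne⟩ := h2
  obtain ⟨W, hW1, hWP, hαW, hnorm⟩ := hloc Ω T P α hfin hS hP hne hbad
  exact ⟨W, P, α, hW1, hWP, hP, autGroup_mono hsub P hα, hcop, hne, hαW, hnorm⟩

include hCn hCf hloc hgrp in
/-- **The reduction**, inside the class. -/
theorem reduction_main_cls : ∀ (n k : ℕ) (Ω : Type u) [Group Ω] (S : Subgroup Ω)
    (F : FusionSystem S) (Q : Subgroup Ω), Finite S → IsPGroup p S → Nat.card S = n →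
    F.IsSaturated p → Cls Ω S F → ¬ PFree F p → F.IsNormal Q → Nat.card S - Nat.card Q = k →
    ConclC Cls F p := by
  intro n
  induction n using Nat.strong_induction_on with
  | _ n ihn =>
    intro k
    induction k using Nat.strong_induction_on with
    | _ k ihk =>
      intro Ω _ S F Q hfin hS hn hF hcls hnot hQn hk
      have hQS : Q ≤ S := hQn.1
      have hsc : F.StronglyClosed Q := Cfsg.Agent.Lib.Helper87.stronglyClosed_of_isNormal F hQn
      have hSN : S ≤ Subgroup.normalizer (Q : Set Ω) :=
        Cfsg.Agent.Lib.Helper87.stronglyClosed_le_normalizer F hsc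
      by_cases hcen : centralizerIn S Q ≤ Q
      · -- the constrained case
        exact ⟨S, F, rfl, fun P => subset_rfl,
          ⟨hF, Q, hQn, Cfsg.Agent.Lib.Helper87.isCentric_of_stronglyClosed F hsc hcen⟩, hcls, hnot⟩
      · -- a larger subgroup normal in `S` with a non-inner normalizer system
        have hV : ∃ V : Subgroup Ω, Q ≤ V ∧ V ≠ Q ∧ V ≤ S ∧ S ≤ Subgroup.normalizer (V : Set Ω) ∧
            ¬ NFree F p V := by
          by_cases hR : NFree F p (Q ⊔ centralizerIn S Q)
          · have hAutQ := aut_free_of_nFree_sup_centralizer hS F hF hQn hR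
            by_cases hQ1 : Q = ⊥
            · -- step 1
              have hW : ∀ (U : Subgroup Ω), F.IsFullyNormalized U →
                  Nat.card (normalizerIn S U) < Nat.card S →
                  ∀ E : FusionSystem (normalizerIn S U), F.IsNormalizerSystem U E →
                  E.IsSaturated p → ¬ PFree E p →
                  ∃ (W P : Subgroup Ω) (β : MulAut P), W ≠ ⊥ ∧ W ≤ P ∧ P ≤ normalizerIn S U ∧
                    β ∈ E.autGroup P ∧ (orderOf β).Coprime p ∧ β ≠ 1 ∧
                    (∀ x : P, (x : Ω) ∈ W → ((β x : P) : Ω) ∈ W) ∧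
                    Subgroup.normalizer (normalizerIn S U : Set Ω) ≤
                      Subgroup.normalizer (W : Set Ω) := by
                intro U hUfn hcard E hE hEsat hEnot
                have hRS : normalizerIn S U ≤ S := inf_le_left
                have hfinR : Finite (normalizerIn S U) := finite_of_le hRS
                have hRp : IsPGroup p (normalizerIn S U) := hS.to_le hRS
                have hEcls : Cls Ω (normalizerIn S U) E := hCn Ω S F hfin hS hF hcls U hUfn E hE
                have hc := ihn (Nat.card (normalizerIn S U)) (hn ▸ hcard) _ Ω (normalizerIn S U) E ⊥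
                  hfinR hRp rfl hEsat hEcls hEnot (isNormal_bot E) rfl
                exact witness_of_conclC p Cls Bad hloc hgrp E hfinR hRp hc
              obtain ⟨U, hU1, hUS, hSU, hUfree⟩ := exists_normal_not_nFree' hS F hF hnot hW
              exact ⟨U, hQ1 ▸ bot_le, fun h => hU1 (h.trans hQ1), hUS, hSU, hUfree⟩
            · -- the factor system
              have : (Q.subgroupOf S).Normal := by
                constructor
                intro x hx s
                rw [Subgroup.mem_subgroupOf] at hx ⊢
                exact (Subgroup.mem_normalizer_iff.mp (hSN s.2) _).mp hx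
              obtain ⟨E', hE'⟩ := Cfsg.Agent.S5132.result p hS F Q hsc
              have hsur := Cfsg.Agent.S5134.result p hS F hF Q hsc _ E' hE'
              have hE'sat := Cfsg.Agent.S5133.result p hS F hF E' _ hsur
              have hE'cls : Cls (S ⧸ Q.subgroupOf S) ⊤ E' :=
                hCf Ω S F hfin hS hF hcls Q hQn _ _ _ E' hE'
              have hE'not : ¬ PFree E' p := fun h =>
                hnot (pFree_of_pFree_factor hS F E' _ hsur hQn (fun s hs => (hE'.2.1 s).mp hs)
                  hAutQ h)
              -- the factor group is smaller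
              have hfin' : Finite (⊤ : Subgroup (S ⧸ Q.subgroupOf S)) := inferInstance
              have hp' : IsPGroup p (⊤ : Subgroup (S ⧸ Q.subgroupOf S)) :=
                (hS.to_quotient (Q.subgroupOf S)).to_subgroup ⊤
              have hcard' : Nat.card (⊤ : Subgroup (S ⧸ Q.subgroupOf S)) < n := by
                rw [Subgroup.card_top, ← hn]
                have h1 := Subgroup.card_eq_card_quotient_mul_card_subgroup (Q.subgroupOf S)
                have h2 : 1 < Nat.card (Q.subgroupOf S) := by
                  rw [Subgroup.one_lt_card_iff_ne_bot]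
                  intro h0
                  apply hQ1
                  rw [eq_bot_iff]
                  intro x hx
                  have : (⟨x, hQS hx⟩ : S) ∈ Q.subgroupOf S := Subgroup.mem_subgroupOf.mpr hx
                  rw [h0, Subgroup.mem_bot] at this
                  rw [Subgroup.mem_bot]
                  exact congrArg Subtype.val this
                have h3 : 0 < Nat.card (S ⧸ Q.subgroupOf S) := Nat.card_pos
                nlinarith
              have hc := ihn _ hcard' _ _ (⊤ : Subgroup (S ⧸ Q.subgroupOf S)) E' ⊥ hfin' hp' rfl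
                hE'sat hE'cls hE'not (isNormal_bot E') rfl
              obtain ⟨W', P', β', hW'1, hW'P', hP'S', hβ', hcop', hβ'1, hβ'W', hnorm'⟩ :=
                witness_of_conclC p Cls Bad hloc hgrp E' hfin' hp' hc
              exact exists_not_nFree_of_factor hS F E' _ hsur hQS hE'.2.1 W' P' β' hW'1 hW'P' hP'S'
                hβ' hcop' hβ'1 hβ'W' (Subgroup.le_normalizer.trans hnorm')
          · refine ⟨Q ⊔ centralizerIn S Q, le_sup_left, ?_, sup_le hQS inf_le_left,
              le_normalizer_sup_centralizerIn hSN, hR⟩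
            intro h0
            exact hcen (le_sup_right.trans h0.le)
        obtain ⟨V, hQV, hVQ, hVS, hSV, hVfree⟩ := hV
        -- the normalizer system of `V`
        let F₁ := Cfsg.Agent.Lib.Helper84.normalizerSystem F V hVS
        have hF₁ : F.IsNormalizerSystem V F₁ :=
          Cfsg.Agent.Lib.Helper84.normalizerSystem_spec F V hVS
        have hS₁ : normalizerIn S V = S := normalizerIn_eq_of_le_normalizer hSV
        have hfin₁ : Finite (normalizerIn S V) := finite_of_le inf_le_left
        have hp₁ : IsPGroup p (normalizerIn S V) := hS.to_le inf_le_left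
        have hfn : F.IsFullyNormalized V :=
          Cfsg.Agent.Lib.Helper87.fullyNormalized_of_le_normalizer F hVS hSV
        have hsat₁ : F₁.IsSaturated p :=
          Cfsg.Agent.Lib.Helper84.KN.normalizerSystem_isSaturated hS F hF hfn hF₁
        have hcls₁ : Cls Ω (normalizerIn S V) F₁ := hCn Ω S F hfin hS hF hcls V hfn F₁ hF₁
        have hnot₁ : ¬ PFree F₁ p := by
          intro hfree
          apply hVfree
          intro P hVP hPN α hα hαV hcop
          exact hfree P hPN α (mem_autGroup_normalizerSystem F hF₁ hVP hPN hα hαV) hcop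
        have hVn : F₁.IsNormal V := Cfsg.Agent.Lib.Helper87.normalizerSystem_isNormal F hVS hF₁
        have hcardS₁ : Nat.card (normalizerIn S V) = n := by rw [hS₁]; exact hn
        -- the measure decreases
        have hfinV : Finite V := finite_of_le hVS
        have hlt : Nat.card Q < Nat.card V := by
          rcases Nat.lt_or_ge (Nat.card Q) (Nat.card V) with h | h
          · exact h
          · exact absurd (Subgroup.eq_of_le_of_card_ge hQV h).symm hVQ
        have hle : Nat.card V ≤ Nat.card S := Subgroup.card_le_of_le hVS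
        have hk' : Nat.card (normalizerIn S V) - Nat.card V < k := by
          rw [hcardS₁]
          omega
        obtain ⟨T, E, hT, hsub, hcon, hEcls, hEnot⟩ :=
          ihk _ hk' Ω (normalizerIn S V) F₁ V hfin₁ hp₁ hcardS₁ hsat₁ hcls₁ hnot₁ hVn rfl
        refine ⟨T, E, hT.trans hS₁, fun P φ hφ => ?_, hcon, hEcls, hEnot⟩
        have h1 := hsub P hφ
        rw [hF₁ P] at h1
        exact h1.1

include hgrp in
omit [Fact p.Prime] in
theorem not_hyp_of_conclC {Ω : Type u} [Group Ω] {S : Subgroup Ω} (F : FusionSystem S)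
    (hfin : Finite S) (hS : IsPGroup p S) (hc : ConclC Cls F p) : ¬ Hyp Bad F p := by
  obtain ⟨T, E, hT, hsub, hcon, hcls, hnot⟩ := hc
  subst hT
  intro hyp
  apply hnot
  apply hgrp Ω T E hfin hS hcon hcls
  intro P hP α hα hcop hbad
  exact hyp P hP α (autGroup_mono hsub P hα) hcop hbad

include hCn hCf hloc hgrp in
/-- a saturated system in the class without nontrivial `Bad` automorphisms of order prime to `p` has no
nontrivial automorphisms of order prime to `p` -/
theorem pFree_of_hyp_cls {Ω : Type u} [Group Ω] {S : Subgroup Ω} (F : FusionSystem S)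
    (hfin : Finite S) (hS : IsPGroup p S) (hF : F.IsSaturated p) (hcls : Cls Ω S F)
    (hyp : Hyp Bad F p) : PFree F p := by
  by_contra hnot
  exact not_hyp_of_conclC p Cls Bad hgrp F hfin hS
    (reduction_main_cls p Cls hCn hCf Bad hloc hgrp _ _ Ω S F ⊥ hfin hS rfl hF hcls hnot
      (isNormal_bot F) rfl) hyp

end

end Cfsg.Agent.Lib.Helper88
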