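import Cfsg.Agent.Lib.Helper38.RhDefsB

/-! Rh hive (helper38), PART B, leaf RH-K1 `hall_k1` (helper88): core lemma `k1_core` with RH-K1EX as a hypothesis (wrapper: RhK1.lean). -/

set_option autoImplicit false

namespace Cfsg.Agent.Lib.Helper38.Rh

open Cfsg.Agent.Lib.Helper12.Rt

section aux
variable {G : Type*} [Group G]

/-- the normaliser of a subgroup normalises its centraliser -/
theorem k1_normalizer_le (A : Subgroup G) :
    Subgroup.normalizer (A : Set G) ≤
      Subgroup.normalizer ((Subgroup.centralizer (A : Set G) : Subgroup G) : Set G) := by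
  rw [Subgroup.le_normalizer_iff]
  intro g hg c hc
  rw [Subgroup.mem_centralizer_iff] at hc ⊢
  intro a ha
  have hg' : g⁻¹ ∈ Subgroup.normalizer (A : Set G) := inv_mem hg
  have ha' : g⁻¹ * a * g ∈ (A : Set G) := by
    have := (Subgroup.mem_normalizer_iff.mp hg' a).mp ha
    rwa [inv_inv] at this
  have h1 := hc _ ha'
  calc a * (g * c * g⁻¹) = g * (g⁻¹ * a * g * c) * g⁻¹ := by group
    _ = g * (c * (g⁻¹ * a * g)) * g⁻¹ := by rw [h1]
    _ = g * c * g⁻¹ * a := by group

/-- centraliser of `zpowers y` -/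
theorem k1_centralizer_zpowers (y : G) :
    Subgroup.centralizer ((Subgroup.zpowers y : Subgroup G) : Set G) = Subgroup.centralizer ({y} : Set G) := by
  ext c
  simp only [Subgroup.mem_centralizer_iff, Set.mem_singleton_iff, forall_eq, SetLike.mem_coe]
  constructor
  · intro h
    exact h y (Subgroup.mem_zpowers y)
  · intro h x hx
    obtain ⟨n, rfl⟩ := Subgroup.mem_zpowers_iff.mp hx
    have : Commute y c := h
    exact (this.zpow_left n).eq

/-- in an abelian group of order `4 k`, `k` odd, a subgroup of order `k` contains all solutions of `x ^ k = 1` -/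
theorem k1_unique_odd [Finite G] (C A : Subgroup G) (hcomm : ∀ x ∈ C, ∀ z ∈ C, x * z = z * x)
    (hAC : A ≤ C) (k : ℕ) (hk : Odd k) (hA : Nat.card ↥A = k) (hC : Nat.card ↥C = 4 * k) :
    ∀ x ∈ C, x ^ k = 1 → x ∈ A := by
  let K : Subgroup G :=
    { carrier := {x | x ∈ C ∧ x ^ k = 1}
      mul_mem' := by
        rintro x z ⟨hx, hxk⟩ ⟨hz, hzk⟩
        refine ⟨C.mul_mem hx hz, ?_⟩
        have : Commute x z := hcomm x hx z hz
        rw [this.mul_pow, hxk, hzk, one_mul]
      one_mem' := ⟨C.one_mem, one_pow k⟩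
      inv_mem' := by
        rintro x ⟨hx, hxk⟩
        exact ⟨C.inv_mem hx, by rw [inv_pow, hxk, inv_one]⟩ }
  have hAK : A ≤ K := by
    intro a ha
    refine ⟨hAC ha, ?_⟩
    have h1 : (⟨a, ha⟩ : ↥A) ^ Nat.card ↥A = 1 := pow_card_eq_one'
    have h2 := congrArg Subtype.val h1
    rw [SubmonoidClass.coe_pow, hA] at h2
    exact h2
  have hKC : K ≤ C := fun x hx => hx.1
  have hdvd : Nat.card ↥K ∣ 4 * k := hC ▸ Subgroup.card_dvd_of_le hKC
  have hodd : ¬ 2 ∣ Nat.card ↥K := by
    intro h2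
    haveI : Fact (Nat.Prime 2) := ⟨Nat.prime_two⟩
    obtain ⟨x, hx⟩ := exists_prime_orderOf_dvd_card' (G := ↥K) 2 h2
    have hxk : (x : G) ^ k = 1 := x.2.2
    have : orderOf (x : G) ∣ k := orderOf_dvd_of_pow_eq_one hxk
    rw [Subgroup.orderOf_coe, hx] at this
    exact (Nat.not_even_iff_odd.mpr hk) (even_iff_two_dvd.mpr this)
  have hcop : Nat.Coprime (Nat.card ↥K) 4 := by
    have : Nat.Coprime (Nat.card ↥K) 2 := (Nat.coprime_comm.mp ((Nat.Prime.coprime_iff_not_dvd Nat.prime_two).mpr hodd))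
    have h4 : (4 : ℕ) = 2 ^ 2 := by norm_num
    rw [h4]
    exact Nat.Coprime.pow_right 2 this
  have hKk : Nat.card ↥K ∣ k := hcop.dvd_of_dvd_mul_left hdvd
  have hkpos : 0 < k := hk.pos
  have hle : Nat.card ↥K ≤ Nat.card ↥A := by rw [hA]; exact Nat.le_of_dvd hkpos hKk
  have hEq : A = K := Subgroup.eq_of_le_of_card_ge hAK hle
  intro x hx hxk
  rw [hEq]
  exact ⟨hx, hxk⟩

/-- in a finite cyclic group, membership in a subgroup is detected by its order -/
theorem k1_mem_iff_pow_card {Z : Type*} [Group Z] [Finite Z] [IsCyclic Z] (C : Subgroup Z) (z : Z) :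
    z ∈ C ↔ z ^ Nat.card ↥C = 1 := by
  classical
  have := Fintype.ofFinite Z
  constructor
  · intro hz
    have h1 : (⟨z, hz⟩ : ↥C) ^ Nat.card ↥C = 1 := pow_card_eq_one'
    have h2 := congrArg Subtype.val h1
    rw [SubmonoidClass.coe_pow] at h2
    exact h2
  · intro hz
    have hpos : 0 < Nat.card ↥C := Nat.card_pos
    have hle := IsCyclic.card_pow_eq_one_le (α := Z) hpos
    have hsub : (Finset.univ.filter (fun x : Z => x ∈ C)) ⊆
        Finset.univ.filter (fun x : Z => x ^ Nat.card ↥C = 1) := by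
      intro x hx
      simp only [Finset.mem_filter, Finset.mem_univ, true_and] at hx ⊢
      have h1 : (⟨x, hx⟩ : ↥C) ^ Nat.card ↥C = 1 := pow_card_eq_one'
      have h2 := congrArg Subtype.val h1
      rw [SubmonoidClass.coe_pow] at h2
      exact h2
    have hcard : (Finset.univ.filter (fun x : Z => x ∈ C)).card = Nat.card ↥C := by
      rw [Nat.card_eq_fintype_card, Fintype.card_subtype]
    have heq := Finset.eq_of_subset_of_card_le hsub (by rw [hcard]; exact hle)
    have hz' : z ∈ Finset.univ.filter (fun x : Z => x ^ Nat.card ↥C = 1) :=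
      Finset.mem_filter.2 ⟨Finset.mem_univ _, hz⟩
    rw [← heq] at hz'
    exact (Finset.mem_filter.1 hz').2

/-- two subgroups of the same order inside a cyclic subgroup coincide -/
theorem k1_eq_of_le_cyclic {G : Type*} [Group G] [Finite G] (Z : Subgroup G) (hZ : IsCyclic ↥Z)
    (A B : Subgroup G) (hA : A ≤ Z) (hB : B ≤ Z) (h : Nat.card ↥A = Nat.card ↥B) : A = B := by
  have h1 : Nat.card ↥(A.subgroupOf Z) = Nat.card ↥(B.subgroupOf Z) := by
    rw [Nat.card_congr (Subgroup.subgroupOfEquivOfLe hA).toEquiv,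
      Nat.card_congr (Subgroup.subgroupOfEquivOfLe hB).toEquiv, h]
  have h2 : A.subgroupOf Z = B.subgroupOf Z := by
    ext z
    rw [k1_mem_iff_pow_card (A.subgroupOf Z), k1_mem_iff_pow_card (B.subgroupOf Z), h1]
  rw [Subgroup.subgroupOf_inj, inf_eq_left.2 hA, inf_eq_left.2 hB] at h2
  exact h2

end aux

section partB
variable {K : Type*} [Field K] [Fintype K] {G : Type*} [Group G] {m : ℕ} (D : RtData K G m)

include D

/-- RH-K1 core: RH-K1EX as a hypothesis. -/
theorem k1_core (hm : 1 ≤ m)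
    (h6 : ∀ C : Subgroup G, IsC1 m C → Nat.card ↥(Subgroup.normalizer (C : Set G)) = 6 * (qq m + 1))
    (hex : ∃ A : Subgroup G, IsCyclic ↥A ∧ Nat.card ↥A = (qq m + 1) / 4) :
    ∃ A : Subgroup G, IsCyclic ↥A ∧ Nat.card ↥A = (qq m + 1) / 4 ∧
      Nat.card ↥(Subgroup.normalizer (A : Set G)) = 6 * (qq m + 1) ∧
      ∀ A₀ : Subgroup G, A₀ ≤ A → A₀ ≠ ⊥ →
        Subgroup.normalizer (A₀ : Set G) = Subgroup.normalizer (A : Set G) := by
  have := D.finite
  obtain ⟨A, hcyc, hcard⟩ := hex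
  have hqq : qq m = 3 ^ (2 * m + 1) := rfl
  have hq8 := q_mod8 m
  have hq27 : 27 ≤ 3 ^ (2 * m + 1) := by
    calc 27 = 3 ^ 3 := by norm_num
      _ ≤ 3 ^ (2 * m + 1) := Nat.pow_le_pow_right (by norm_num) (by omega)
  rw [hqq] at hcard
  set q : ℕ := 3 ^ (2 * m + 1) with hq
  set k : ℕ := (q + 1) / 4 with hk
  have hk4 : q + 1 = 4 * k := by omega
  have hkodd : Odd k := by
    rw [Nat.odd_iff]; omega
  have hk1 : 1 < k := by omega
  obtain ⟨hCcomm, hCcard, -, hCeq⟩ := D.nonsplit_part hm A hcyc hcard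
  set C : Subgroup G := Subgroup.centralizer (A : Set G) with hC
  have hcommC : ∀ x ∈ C, ∀ z ∈ C, x * z = z * x := by
    intro x hx z hz
    have := mul_comm' (⟨x, hx⟩ : ↥C) ⟨z, hz⟩
    exact congrArg Subtype.val this
  -- `A ≤ C`
  have hAC : A ≤ C := by
    intro a ha
    rw [hC, Subgroup.mem_centralizer_iff]
    intro b hb
    have : IsMulCommutative ↥A := hcyc.isMulCommutative
    have := mul_comm' (⟨b, hb⟩ : ↥A) ⟨a, ha⟩
    exact congrArg Subtype.val this
  -- `C` is a `(q+1)`-torus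
  have hC1 : IsC1 m C := by
    obtain ⟨ℓ, hℓ, hℓk⟩ := Nat.exists_prime_and_dvd (show k ≠ 1 by omega)
    have hℓ2 : ℓ ≠ 2 := by
      rintro rfl
      exact (Nat.not_even_iff_odd.mpr hkodd) (even_iff_two_dvd.mpr hℓk)
    have hℓq : ℓ ∣ qq m + 1 := by
      rw [hqq, hk4]; exact hℓk.mul_left 4
    haveI : Fact ℓ.Prime := ⟨hℓ⟩
    obtain ⟨y, hy⟩ := exists_prime_orderOf_dvd_card' (G := ↥A) ℓ (hcard ▸ hℓk)
    have hyo : orderOf (y : G) = ℓ := by rw [Subgroup.orderOf_coe]; exact hy
    have hy1 : (y : G) ≠ 1 := by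
      intro h0
      rw [h0, orderOf_one] at hyo
      exact hℓ.one_lt.ne hyo
    have hzA : Subgroup.zpowers (y : G) ≤ A := by
      rw [Subgroup.zpowers_le]; exact y.2
    have hzne : Subgroup.zpowers (y : G) ≠ ⊥ := by
      rw [Ne, Subgroup.zpowers_eq_bot]; exact hy1
    have := hCeq _ hzA hzne
    rw [k1_centralizer_zpowers] at this
    exact ⟨(y : G), ℓ, hℓ, hℓ2, hℓq, hyo, this.symm⟩
  have hNC : Nat.card ↥(Subgroup.normalizer (C : Set G)) = 6 * (qq m + 1) := h6 C hC1
  -- `N(A) = N(C)`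
  have hCcard' : Nat.card ↥C = 4 * k := by rw [hCcard, hk4]
  have huniq := k1_unique_odd C A hcommC hAC k hkodd hcard hCcard'
  have hNA : Subgroup.normalizer (A : Set G) = Subgroup.normalizer (C : Set G) := by
    apply le_antisymm
    · exact k1_normalizer_le A
    · rw [Subgroup.le_normalizer_iff]
      intro g hg a ha
      have h1 : g * a * g⁻¹ ∈ C := (Subgroup.mem_normalizer_iff.mp hg a).mp (hAC ha)
      have h2 : (g * a * g⁻¹) ^ k = 1 := by
        have h3 : (⟨a, ha⟩ : ↥A) ^ Nat.card ↥A = 1 := pow_card_eq_one'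
        have h4 := congrArg Subtype.val h3
        rw [SubmonoidClass.coe_pow, hcard] at h4
        rw [conj_pow, show a ^ k = 1 from h4]
        group
      exact huniq _ h1 h2
  refine ⟨A, hcyc, by rw [hqq]; exact hcard, by rw [hNA]; exact hNC, ?_⟩
  intro A₀ hA₀ hne
  apply le_antisymm
  · calc Subgroup.normalizer (A₀ : Set G)
        ≤ Subgroup.normalizer ((Subgroup.centralizer (A₀ : Set G) : Subgroup G) : Set G) :=
          k1_normalizer_le A₀
      _ = Subgroup.normalizer (C : Set G) := by rw [hCeq A₀ hA₀ hne]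
      _ = Subgroup.normalizer (A : Set G) := hNA.symm
  · intro g hg
    rw [Subgroup.mem_normalizer_iff_map_conj_eq]
    have hle : A₀.map (MulAut.conj g).toMonoidHom ≤ A := by
      rintro x ⟨a, ha, rfl⟩
      exact (Subgroup.mem_normalizer_iff.mp hg a).mp (hA₀ ha)
    have hc : Nat.card ↥(A₀.map (MulAut.conj g).toMonoidHom) = Nat.card ↥A₀ :=
      Subgroup.card_map_of_injective (MulAut.conj g).injective
    exact k1_eq_of_le_cyclic A hcyc _ _ hle hA₀ hc

end partB

end Cfsg.Agent.Lib.Helper38.Rh
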