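import Cfsg.Agent.Lib.Helper88.ParkBiset
import Cfsg.Agent.Lib.Helper88.ProdTransport
import Cfsg.Agent.Lib.Helper88.FixCong
import Cfsg.Agent.Lib.Helper87.Lemma26

set_option autoImplicit false

/-!
# The congruence for the marks of graphs in a saturated fusion system

If the marks of a generated biset are stable on the graphs of order `> k`, then the mark of a graph `D'` of
order `k` is congruent, modulo `|N(D') : D'|`, to the mark of the diagonal of a fully automized receptive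
conjugate of its source.
-/

namespace Cfsg.Agent.Lib.Helper88

open Cfsg Cfsg.FusionSystem MulAction
open Cfsg.Agent.Lib.Helper87 (restrict_mem hom_le hom_mem_S isConj_refl isConj_symm isConj_trans
  card_eq_of_isConj subtype_mem inv_exists comp_mem' exists_normalizer_map le_normalizerIn)

variable {Ω : Type*} [Group Ω] {S : Subgroup Ω}

/-- the diagonal of `P ≤ S` -/
def dg (P : Subgroup Ω) (hP : P ≤ S) : Subgroup (S × S) := tw P.subtype hP (fun x => hP x.2)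

theorem isGraphOf_dg (P : Subgroup Ω) (hP : P ≤ S) : IsGraphOf (dg P hP) P.subtype :=
  isGraphOf_tw _ _ _

theorem inTw_dg (F : FusionSystem S) (P : Subgroup Ω) (hP : P ≤ S) : InTw F (dg P hP) :=
  ⟨P, P.subtype, subtype_mem F hP, isGraphOf_dg P hP⟩

theorem pr1_dg (P : Subgroup Ω) (hP : P ≤ S) : pr1 (dg P hP) = P :=
  (isGraphOf_dg P hP).pr1_eq hP (fun x => hP x.2)

/-- elements of the normalizer of a graph -/
theorem normalizer_graph {D : Subgroup (S × S)} {Q : Subgroup Ω} {φ : Q →* Ω}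
    (hD : IsGraphOf D φ) (hQS : Q ≤ S) (hφS : ∀ x, φ x ∈ S) {g : S × S}
    (hg : g ∈ Subgroup.normalizer (D : Set (S × S))) (x : Q) :
    ∃ hx : (g.1 : Ω) * x * (g.1 : Ω)⁻¹ ∈ Q,
      φ ⟨(g.1 : Ω) * x * (g.1 : Ω)⁻¹, hx⟩ = (g.2 : Ω) * φ x * (g.2 : Ω)⁻¹ := by
  have h1 : ((⟨x, hQS x.2⟩, ⟨φ x, hφS x⟩) : S × S) ∈ D := (hD _).mpr ⟨x, rfl, rfl⟩
  have h2 := (Subgroup.mem_normalizer_iff.mp hg _).mp h1
  obtain ⟨q, hq1, hq2⟩ := (hD _).mp h2
  have hq1' : (q : Ω) = (g.1 : Ω) * x * (g.1 : Ω)⁻¹ := hq1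
  have hx : (g.1 : Ω) * x * (g.1 : Ω)⁻¹ ∈ Q := by
    rw [← hq1']
    exact q.2
  refine ⟨hx, ?_⟩
  have e : (⟨(g.1 : Ω) * x * (g.1 : Ω)⁻¹, hx⟩ : Q) = q := Subtype.ext hq1'.symm
  rw [e, hq2]
  rfl

theorem normalizer_graph_fst {D : Subgroup (S × S)} {Q : Subgroup Ω} {φ : Q →* Ω}
    (hD : IsGraphOf D φ) (hQS : Q ≤ S) (hφS : ∀ x, φ x ∈ S) {g : S × S}
    (hg : g ∈ Subgroup.normalizer (D : Set (S × S))) :
    (g.1 : Ω) ∈ normalizerIn S Q := by
  refine ⟨g.1.2, ?_⟩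
  show (g.1 : Ω) ∈ Subgroup.normalizer (Q : Set Ω)
  rw [Subgroup.mem_normalizer_iff]
  intro h
  constructor
  · intro hh
    exact (normalizer_graph hD hQS hφS hg ⟨h, hh⟩).1
  · intro hh
    have hg' : g⁻¹ ∈ Subgroup.normalizer (D : Set (S × S)) := Subgroup.inv_mem _ hg
    obtain ⟨hx, -⟩ := normalizer_graph hD hQS hφS hg' ⟨_, hh⟩
    have e : ((g⁻¹).1 : Ω) * ((g.1 : Ω) * h * (g.1 : Ω)⁻¹) * ((g⁻¹).1 : Ω)⁻¹ = h := by
      show ((g.1 : Ω)⁻¹) * ((g.1 : Ω) * h * (g.1 : Ω)⁻¹) * ((g.1 : Ω)⁻¹)⁻¹ = h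
      group
    rw [← e]
    exact hx

theorem normalizer_graph_snd {D : Subgroup (S × S)} {Q : Subgroup Ω} {φ : Q →* Ω}
    (hD : IsGraphOf D φ) (hQS : Q ≤ S) (hφS : ∀ x, φ x ∈ S) {g : S × S}
    (hg : g ∈ Subgroup.normalizer (D : Set (S × S))) :
    (g.2 : Ω) ∈ Subgroup.normalizer (φ.range : Set Ω) := by
  have key : ∀ g : S × S, g ∈ Subgroup.normalizer (D : Set (S × S)) → ∀ h ∈ φ.range,
      (g.2 : Ω) * h * (g.2 : Ω)⁻¹ ∈ φ.range := by
    rintro g hg _ ⟨x, rfl⟩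
    obtain ⟨hx, hx2⟩ := normalizer_graph hD hQS hφS hg x
    rw [← hx2]
    exact ⟨_, rfl⟩
  rw [Subgroup.mem_normalizer_iff]
  intro h
  constructor
  · exact key g hg h
  · intro hh
    have hg' : g⁻¹ ∈ Subgroup.normalizer (D : Set (S × S)) := Subgroup.inv_mem _ hg
    have := key g⁻¹ hg' _ hh
    have e : ((g⁻¹).2 : Ω) * ((g.2 : Ω) * h * (g.2 : Ω)⁻¹) * ((g⁻¹).2 : Ω)⁻¹ = h := by
      show ((g.2 : Ω)⁻¹) * ((g.2 : Ω) * h * (g.2 : Ω)⁻¹) * ((g.2 : Ω)⁻¹)⁻¹ = h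
      group
    rw [← e]
    exact this

/-- **The congruence.** -/
theorem mark_modEq [Finite S] {p : ℕ} [Fact p.Prime] (hS : IsPGroup p S) (F : FusionSystem S)
    {m : Subgroup (S × S) → ℕ} {k : ℕ} (hgen : Gen F m) (hstab : StabGe F m (k + 1))
    {D' : Subgroup (S × S)} (hD' : InTw F D') (hk : Nat.card D' = k) {P : Subgroup Ω}
    (hfa : F.IsFullyAutomized p P) (hrec : F.IsReceptive P) (hc : F.IsConj (pr1 D') P) :
    mark m D' ≡ mark m (dg P hrec.1) [MOD fixq D' D'] := by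
  obtain ⟨Q, φ, hφ, hD⟩ := hD'
  have hQS := hom_le F hφ
  have hφS := hom_mem_S F hφ
  have hpr : pr1 D' = Q := hD.pr1_eq hQS hφS
  rw [hpr] at hc
  have hPS : P ≤ S := hrec.1
  -- the map of normalizers
  obtain ⟨a, ha, -, haP, haonto⟩ := exists_normalizer_map hS F hfa hrec hc
  have haS := hom_mem_S F ha
  have hQN : Q ≤ normalizerIn S Q := le_normalizerIn hQS
  -- the inverse of `φ`
  obtain ⟨ρ, hρ, hρinv, hρr⟩ := inv_exists F hφ rfl
  have hρQ : ∀ y, ρ y ∈ Q := fun y => hρr.le ⟨y, rfl⟩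
  have ha₀ : a.comp (Subgroup.inclusion hQN) ∈ F.Hom Q := restrict_mem F ha hQN
  obtain ⟨β, hβ, hβe⟩ := comp_mem' F hρ ha₀ hρQ
  have hβφ : ∀ x : Q, β ⟨φ x, ⟨x, rfl⟩⟩ = a ⟨x, hQN x.2⟩ := by
    intro x
    rw [hβe]
    show a (Subgroup.inclusion hQN ⟨ρ ⟨φ x, _⟩, _⟩) = _
    congr 1
    apply Subtype.ext
    exact hρinv x ⟨x, rfl⟩
  have hβr : β.range = P := by
    apply le_antisymm
    · rintro _ ⟨⟨_, x, rfl⟩, rfl⟩
      rw [hβφ]
      exact haP _ x.2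
    · intro q hq
      obtain ⟨x, hx, hxq⟩ := haonto q hq
      refine ⟨⟨φ ⟨x, hx⟩, ⟨_, rfl⟩⟩, ?_⟩
      rw [hβφ, ← hxq]
  obtain ⟨b, hb, hbe⟩ := hrec.2 φ.range β hβ hβr
  have hbS := hom_mem_S F hb
  -- the normalizer of `D'` lies in the product of the sources of `a` and `b`
  have hN1 : ∀ g : S × S, g ∈ Subgroup.normalizer (D' : Set (S × S)) →
      (g.1 : Ω) ∈ normalizerIn S Q := fun g hg => normalizer_graph_fst hD hQS hφS hg
  have hN2 : ∀ g : S × S, g ∈ Subgroup.normalizer (D' : Set (S × S)) →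
      (g.2 : Ω) ∈ extender S φ.range β := by
    intro g hg
    apply Subgroup.subset_closure
    refine ⟨g.2.2, normalizer_graph_snd hD hQS hφS hg, a ⟨g.1, hN1 g hg⟩, haS _, ?_⟩
    rintro ⟨_, x, rfl⟩ hy
    obtain ⟨hx, hx2⟩ := normalizer_graph hD hQS hφS hg x
    have e1 : (⟨(g.2 : Ω) * φ x * (g.2 : Ω)⁻¹, hy⟩ : φ.range) =
        ⟨φ ⟨(g.1 : Ω) * x * (g.1 : Ω)⁻¹, hx⟩, ⟨_, rfl⟩⟩ := Subtype.ext hx2.symm
    show β ⟨(g.2 : Ω) * φ x * (g.2 : Ω)⁻¹, hy⟩ = _ * β ⟨φ x, ⟨x, rfl⟩⟩ * _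
    rw [e1, hβφ, hβφ]
    have e2 : (⟨(g.1 : Ω) * x * (g.1 : Ω)⁻¹, hQN hx⟩ : normalizerIn S Q) =
        ⟨g.1, hN1 g hg⟩ * ⟨x, hQN x.2⟩ * ⟨g.1, hN1 g hg⟩⁻¹ := Subtype.ext rfl
    rw [e2, map_mul, map_mul, map_inv]
  have hle : Subgroup.normalizer (D' : Set (S × S)) ≤
      prodSub S (normalizerIn S Q) (extender S φ.range β) := fun g hg =>
    mem_prodSub.mpr ⟨hN1 g hg, hN2 g hg⟩
  -- the two homomorphisms
  let j₁ : ↥(Subgroup.normalizer (D' : Set (S × S))) →* S × S :=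
    (prodSub S (normalizerIn S Q) (extender S φ.range β)).subtype.comp (Subgroup.inclusion hle)
  let j₂ : ↥(Subgroup.normalizer (D' : Set (S × S))) →* S × S :=
    (prodHom a b haS hbS).comp (Subgroup.inclusion hle)
  have hj₁ : ∀ d, j₁ d = d.1 := fun d => rfl
  have hj₁inj : Function.Injective j₁ := fun d d' h => Subtype.ext h
  have hj₂1 : ∀ d : ↥(Subgroup.normalizer (D' : Set (S × S))),
      (((j₂ d).1 : S) : Ω) = a ⟨d.1.1, hN1 d.1 d.2⟩ := fun d => rfl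
  have hj₂2 : ∀ d : ↥(Subgroup.normalizer (D' : Set (S × S))),
      (((j₂ d).2 : S) : Ω) = b ⟨d.1.2, hN2 d.1 d.2⟩ := fun d => rfl
  have hDN : D' ≤ Subgroup.normalizer (D' : Set (S × S)) := Subgroup.le_normalizer
  have hmap₁ : (D'.subgroupOf (Subgroup.normalizer (D' : Set (S × S)))).map j₁ = D' := by
    ext g
    constructor
    · rintro ⟨d, hd, rfl⟩
      exact Subgroup.mem_subgroupOf.mp hd
    · intro hg
      exact ⟨⟨g, hDN hg⟩, Subgroup.mem_subgroupOf.mpr hg, rfl⟩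
  have hmap₂ : (D'.subgroupOf (Subgroup.normalizer (D' : Set (S × S)))).map j₂ = dg P hPS := by
    ext g
    rw [isGraphOf_dg P hPS g]
    constructor
    · rintro ⟨d, hd, rfl⟩
      obtain ⟨q, hq1, hq2⟩ := (hD _).mp (Subgroup.mem_subgroupOf.mp hd)
      have e1 : (⟨d.1.1, hN1 d.1 d.2⟩ : normalizerIn S Q) = ⟨q, hQN q.2⟩ := Subtype.ext hq1.symm
      refine ⟨⟨a ⟨q, hQN q.2⟩, haP _ q.2⟩, ?_, ?_⟩
      · rw [hj₂1, e1]
      · rw [hj₂2]
        have e2 : (⟨d.1.2, hN2 d.1 d.2⟩ : extender S φ.range β) =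
            ⟨φ q, by rw [hq2]; exact hN2 d.1 d.2⟩ := Subtype.ext hq2.symm
        rw [e2, hbe (φ q) ⟨q, rfl⟩, hβφ]
        rfl
    · rintro ⟨y, hy1, hy2⟩
      obtain ⟨x, hx, hxy⟩ := haonto y y.2
      have hmem : ((⟨x, hQS hx⟩, ⟨φ ⟨x, hx⟩, hφS _⟩) : S × S) ∈ D' :=
        (hD _).mpr ⟨⟨x, hx⟩, rfl, rfl⟩
      refine ⟨⟨_, hDN hmem⟩, Subgroup.mem_subgroupOf.mpr hmem, ?_⟩
      apply Prod.ext
      · apply Subtype.ext
        rw [hj₂1, ← hy1, ← hxy]
      · apply Subtype.ext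
        rw [hj₂2, ← hy2]
        show b ⟨φ ⟨x, hx⟩, _⟩ = y
        rw [hbe (φ ⟨x, hx⟩) ⟨⟨x, hx⟩, rfl⟩, hβφ, ← hxy]
  -- the marks of the larger subgroups agree
  have hmarks : ∀ V : Subgroup ↥(Subgroup.normalizer (D' : Set (S × S))),
      D'.subgroupOf (Subgroup.normalizer (D' : Set (S × S))) < V →
      mkCount (V.map j₁) (OrbSum m) = mkCount (V.map j₂) (OrbSum m) := by
    intro V hV
    have e₁ : V.map j₁ = (V.map (Subgroup.inclusion hle)).map
        (prodSub S (normalizerIn S Q) (extender S φ.range β)).subtype :=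
      (Subgroup.map_map _ _ _).symm
    have e₂ : V.map j₂ = (V.map (Subgroup.inclusion hle)).map (prodHom a b haS hbS) :=
      (Subgroup.map_map _ _ _).symm
    have hcard : k + 1 ≤ Nat.card (V.map j₁) := by
      by_contra hlt
      have h1 : D' ≤ V.map j₁ := hmap₁.symm.le.trans (Subgroup.map_mono hV.le)
      have h2 : D' = V.map j₁ := Subgroup.eq_of_le_of_card_ge h1 (by omega)
      have h3 : D'.subgroupOf (Subgroup.normalizer (D' : Set (S × S))) = V := by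
        apply Subgroup.map_injective hj₁inj
        exact hmap₁.trans h2
      exact hV.ne h3
    by_cases h1 : InTw F (V.map j₁)
    · have h1' := h1
      rw [e₁] at h1'
      obtain ⟨h2, h3⟩ := transport_map F ha hb _ h1'
      rw [← e₁, ← e₂] at h3
      rw [← e₂] at h2
      exact hstab _ _ h1 h2 hcard h3
    · have h2 : ¬ InTw F (V.map j₂) := by
        intro h2
        apply h1
        rw [e₁]
        rw [e₂] at h2
        exact transport_map_inv F ha hb _ h2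
      have z1 : mark m (V.map j₁) = 0 := by
        by_contra hne
        exact h1 (inTw_of_mark_ne_zero hgen hne)
      have z2 : mark m (V.map j₂) = 0 := by
        by_contra hne
        exact h2 (inTw_of_mark_ne_zero hgen hne)
      exact z1.trans z2.symm
  have hmain := mkCount_map_modEq (X := OrbSum m) j₁ j₂
    (D'.subgroupOf (Subgroup.normalizer (D' : Set (S × S)))) hmarks
  rw [hmap₁, hmap₂] at hmain
  have hcardD : Nat.card (D'.subgroupOf (Subgroup.normalizer (D' : Set (S × S)))) = Nat.card D' :=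
    Nat.card_congr (Subgroup.subgroupOfEquivOfLe hDN).toEquiv
  have hfix : Nat.card ↥(Subgroup.normalizer (D' : Set (S × S))) /
      Nat.card (D'.subgroupOf (Subgroup.normalizer (D' : Set (S × S)))) = fixq D' D' := by
    rw [hcardD]
    exact Nat.div_eq_of_eq_mul_left Nat.card_pos (fixq_self D').symm
  rw [hfix] at hmain
  exact hmain

end Cfsg.Agent.Lib.Helper88
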