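import Cfsg.Agent.Lib.Helper88.SatCong

set_option autoImplicit false

/-!
# Stabilising a generated biset of a saturated fusion system below the top level
-/

namespace Cfsg.Agent.Lib.Helper88

open Cfsg Cfsg.FusionSystem MulAction
open Cfsg.Agent.Lib.Helper87 (restrict_mem hom_le hom_mem_S isConj_refl isConj_symm isConj_trans
  card_eq_of_isConj subtype_mem)

variable {Ω : Type*} [Group Ω] {S : Subgroup Ω}

/-- one step for a saturated fusion system: no replication is needed -/
theorem exists_sat_step [Finite S] {p : ℕ} [Fact p.Prime] (hS : IsPGroup p S) (F : FusionSystem S)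
    (hF : F.IsSaturated p) (m : Subgroup (S × S) → ℕ) (k : ℕ) (hgen : Gen F m)
    (hstab : StabGe F m (k + 1)) :
    ∃ m' : Subgroup (S × S) → ℕ, Gen F m' ∧ StabGe F m' k ∧
      (∀ H : Subgroup (S × S), Nat.card H ≠ k → m' H = m H) ∧
      (∀ H : Subgroup (S × S), m H ≤ m' H) ∧
      (∀ V : Subgroup (S × S), k < Nat.card V → mark m' V = mark m V) := by
  classical
  have := Fintype.ofFinite (Subgroup (S × S))
  apply exists_step F m k hgen hstab
  intro D hD hDk
  obtain ⟨P, hcP, hfa, hrec⟩ := hF (pr1 D) (pr1_le D)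
  refine ⟨mark m (dg P hrec.1) + Nat.card (S × S) * ∑ V : Subgroup (S × S), mark m V,
    fun D' hD' => ?_⟩
  have hcard : Nat.card D' = k := (card_eq_of_mem_twClass hD hD').trans hDk
  have hc' : F.IsConj (pr1 D') P := isConj_trans F (isConj_symm F hD'.2) hcP
  have cong := mark_modEq hS F hgen hstab hD'.1 hcard hfa hrec hc'
  have hle : mark m D' ≤ ∑ V : Subgroup (S × S), mark m V :=
    Finset.single_le_sum (f := fun V => mark m V) (fun _ _ => Nat.zero_le _) (Finset.mem_univ D')
  have hpos : 0 < Nat.card (S × S) := Nat.card_pos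
  have hle2 : mark m D' ≤ mark m (dg P hrec.1) +
      Nat.card (S × S) * ∑ V : Subgroup (S × S), mark m V := by
    have : (∑ V : Subgroup (S × S), mark m V) ≤
        Nat.card (S × S) * ∑ V : Subgroup (S × S), mark m V := Nat.le_mul_of_pos_left _ hpos
    omega
  refine ⟨hle2, ?_⟩
  rw [← Nat.modEq_iff_dvd' hle2]
  have h0 : Nat.card (S × S) * ∑ V : Subgroup (S × S), mark m V ≡ 0 [MOD fixq D' D'] :=
    Nat.modEq_zero_iff_dvd.mpr (Dvd.dvd.mul_right (fixq_self_dvd D') _)
  have h1 := Nat.ModEq.add_left (mark m (dg P hrec.1)) h0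
  rw [add_zero] at h1
  exact cong.trans h1.symm

/-- stabilising below the top level -/
theorem exists_sat_below [Finite S] {p : ℕ} [Fact p.Prime] (hS : IsPGroup p S) (F : FusionSystem S)
    (hF : F.IsSaturated p) (m₀ : Subgroup (S × S) → ℕ) (hgen₀ : Gen F m₀)
    (hstab₀ : StabGe F m₀ (Nat.card S)) (j : ℕ) :
    ∃ m : Subgroup (S × S) → ℕ, Gen F m ∧ StabGe F m (Nat.card S - j) ∧
      ∀ H : Subgroup (S × S), Nat.card S ≤ Nat.card H → m H = m₀ H := by
  induction j with
  | zero => exact ⟨m₀, hgen₀, hstab₀, fun _ _ => rfl⟩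
  | succ j ih =>
    obtain ⟨m, hgen, hstab, htop⟩ := ih
    rcases Nat.eq_zero_or_pos (Nat.card S - j) with h0 | hpos
    · refine ⟨m, hgen, ?_, htop⟩
      have : Nat.card S - (j + 1) = Nat.card S - j := by omega
      rw [this]
      exact hstab
    · have hk : Nat.card S - (j + 1) + 1 = Nat.card S - j := by omega
      rw [← hk] at hstab
      obtain ⟨m', hgen', hstab', hsame, -, -⟩ :=
        exists_sat_step hS F hF m (Nat.card S - (j + 1)) hgen hstab
      refine ⟨m', hgen', hstab', fun H hH => ?_⟩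
      rw [hsame H (by omega)]
      exact htop H hH

/-- a biset stable at the top level can be completed to a stable biset, keeping the top level -/
theorem exists_sat_stable [Finite S] {p : ℕ} [Fact p.Prime] (hS : IsPGroup p S) (F : FusionSystem S)
    (hF : F.IsSaturated p) (m₀ : Subgroup (S × S) → ℕ) (hgen₀ : Gen F m₀)
    (hstab₀ : StabGe F m₀ (Nat.card S)) :
    ∃ m : Subgroup (S × S) → ℕ, Gen F m ∧ StabGe F m 0 ∧
      ∀ H : Subgroup (S × S), Nat.card S ≤ Nat.card H → m H = m₀ H := by
  obtain ⟨m, h1, h2, h3⟩ := exists_sat_below hS F hF m₀ hgen₀ hstab₀ (Nat.card S)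
  refine ⟨m, h1, ?_, h3⟩
  rwa [Nat.sub_self] at h2

end Cfsg.Agent.Lib.Helper88
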