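import Cfsg.Agent.Lib.Helper88.Stn_NPHNORMcore
import Cfsg.Agent.Lib.Helper97.Stn_WHH

/-!
# Stn hive (S2401), sub-hive NPERM, leaf NP-HNORM: `N` normalises `H`.
-/

set_option autoImplicit false

namespace Cfsg.Agent.Lib.Helper41.Stn

open Matrix

variable {K : Type*} [Field K] {n : ℕ}

/-- NP-HNORM. -/
theorem HH_conj_mem (hn : 3 ≤ n) {ν h : St K n} (hν : ν ∈ NN K n) (hh : h ∈ HH K n) :
    ν * h * ν⁻¹ ∈ HH K n :=
  nphnorm_core (fun hij _ ht _ _ hkl _ hu => ww_conj_hh hn hij ht hkl hu) hν hh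

end Cfsg.Agent.Lib.Helper41.Stn
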