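import Cfsg.Agent.Lib.Helper41.StnDefs
import Cfsg.Agent.Lib.Helper13.Stn_WINV

/-!
# Stn hive (S2401), sub-hive NPERM, leaf NP-HNORM (core): `N` normalises `H`, with the Layer-A rule
`ww_conj_hh` as a hypothesis (so that this file does not wait for it).
-/

set_option autoImplicit false

namespace Cfsg.Agent.Lib.Helper41.Stn

open Matrix

variable {K : Type*} [Field K] {n : ℕ}

theorem nphnorm_mu_ne_zero (i j : Fin n) {t : K} (ht : t ≠ 0) (a : Fin n) : mu i j t a ≠ 0 := by
  unfold mu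
  split_ifs
  · exact neg_ne_zero.mpr (inv_ne_zero ht)
  · exact ht
  · exact one_ne_zero

/-- conjugation by a generator `w_ij(t)` of `N` maps `H` into `H` -/
theorem nphnorm_gen
    (hwhh : ∀ {i j : Fin n}, i ≠ j → ∀ {t : K}, t ≠ 0 → ∀ {k l : Fin n}, k ≠ l → ∀ {u : K}, u ≠ 0 →
      ww i j t * hh k l u * (ww i j t)⁻¹ =
        hh (Equiv.swap i j k) (Equiv.swap i j l) (mu i j t k / mu i j t l * u) *
          (hh (Equiv.swap i j k) (Equiv.swap i j l) (mu i j t k / mu i j t l))⁻¹)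
    {i j : Fin n} (hij : i ≠ j) {t : K} (ht : t ≠ 0) {h : St K n} (hh' : h ∈ HH K n) :
    ww i j t * h * (ww i j t)⁻¹ ∈ HH K n := by
  unfold HH at hh'
  induction hh' using Subgroup.closure_induction with
  | mem x hx =>
    obtain ⟨k, l, u, hkl, hu, rfl⟩ := hx
    rw [hwhh hij ht hkl hu]
    have hne : Equiv.swap i j k ≠ Equiv.swap i j l := fun h => hkl ((Equiv.swap i j).injective h)
    have hc : mu i j t k / mu i j t l ≠ 0 :=
      div_ne_zero (nphnorm_mu_ne_zero i j ht k) (nphnorm_mu_ne_zero i j ht l)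
    apply Subgroup.mul_mem
    · exact Subgroup.subset_closure ⟨_, _, _, hne, mul_ne_zero hc hu, rfl⟩
    · apply Subgroup.inv_mem
      exact Subgroup.subset_closure ⟨_, _, _, hne, hc, rfl⟩
  | one =>
    rw [mul_one, mul_inv_cancel]
    exact Subgroup.one_mem _
  | mul x y _ _ hx hy =>
    have : ww i j t * (x * y) * (ww i j t)⁻¹ =
        (ww i j t * x * (ww i j t)⁻¹) * (ww i j t * y * (ww i j t)⁻¹) := by group
    rw [this]
    exact Subgroup.mul_mem _ hx hy
  | inv x _ hx =>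
    have : ww i j t * x⁻¹ * (ww i j t)⁻¹ = (ww i j t * x * (ww i j t)⁻¹)⁻¹ := by group
    rw [this]
    exact Subgroup.inv_mem _ hx

/-- NP-HNORM with `ww_conj_hh` as a hypothesis -/
theorem nphnorm_core
    (hwhh : ∀ {i j : Fin n}, i ≠ j → ∀ {t : K}, t ≠ 0 → ∀ {k l : Fin n}, k ≠ l → ∀ {u : K}, u ≠ 0 →
      ww i j t * hh k l u * (ww i j t)⁻¹ =
        hh (Equiv.swap i j k) (Equiv.swap i j l) (mu i j t k / mu i j t l * u) *
          (hh (Equiv.swap i j k) (Equiv.swap i j l) (mu i j t k / mu i j t l))⁻¹)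
    {ν h : St K n} (hν : ν ∈ NN K n) (hh' : h ∈ HH K n) : ν * h * ν⁻¹ ∈ HH K n := by
  have hle : NN K n ≤ Subgroup.normalizer (HH K n : Set (St K n)) := by
    unfold NN
    rw [Subgroup.closure_le]
    rintro _ ⟨i, j, t, hij, ht, rfl⟩
    rw [SetLike.mem_coe, Subgroup.mem_normalizer_iff]
    intro x
    constructor
    · intro hx
      exact nphnorm_gen hwhh hij ht hx
    · intro hx
      have h1 := nphnorm_gen hwhh hij (neg_ne_zero.mpr ht) hx
      rw [← ww_inv, inv_inv] at h1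
      have h2 : (ww i j t)⁻¹ * (ww i j t * x * (ww i j t)⁻¹) * ww i j t = x := by group
      rwa [h2] at h1
  exact (Subgroup.mem_normalizer_iff.mp (hle hν) h).mp hh'

end Cfsg.Agent.Lib.Helper41.Stn
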