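import Cfsg.Agent.Lib.Helper88.GTConstrained
import Cfsg.Agent.Lib.Helper88.Reduction5
import Cfsg.Agent.Lib.Helper88.ModelFree
import Cfsg.Agent.S2800

set_option autoImplicit false

/-!
# Thompson's normal `p`-complement theorem for constrained systems
-/

namespace Cfsg.Agent.Lib.Helper88

open Cfsg Cfsg.FusionSystem
open Cfsg.Agent.Lib.Helper51 (zIn mem_zIn zIn_le thompsonAOf_le thompsonAOf_map
  normalizer_le_normalizer_thompsonAOf normalizer_le_normalizer_zIn)
open Cfsg.Agent.Lib.Helper87 (hom_le hom_mem_S subtype_mem inv_exists mem_autGroup_iff finite_of_le)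
open Cfsg.Agent.S5132 (mem_pre pre_le)

universe u

section generic

variable {Ω : Type*} [Group Ω] {S : Subgroup Ω} {G : Type*} [Group G]

/-- **Frobenius' criterion in a subgroup** containing the Sylow subgroup `T` and normalizing `Z ≤ T`, in
terms of the realized system. -/
theorem npc_of_local [Finite G] [Finite S] {p : ℕ} [Fact p.Prime] (F : FusionSystem S)
    (ι : S →* G) (hreal : F.IsRealizedBy ι) (T : Sylow p G) (hT : (T : Subgroup G) = ι.range)
    (H Z : Subgroup G) (hTH : (T : Subgroup G) ≤ H) (hZT : Z ≤ (T : Subgroup G))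
    (hHZ : H ≤ Subgroup.normalizer (Z : Set G))
    (hyp : ∀ Q₂ : Subgroup G, Z ≤ Q₂ → Q₂ ≤ ι.range → ∀ g ∈ H,
      ∀ γ : MulAut (preimageAlong ι Q₂), γ ∈ F.autGroup (preimageAlong ι Q₂) →
      (orderOf γ).Coprime p → RealizesAut ι (pre_le ι Q₂) γ g → γ = 1) :
    HasNormalPComplement p H := by
  have hinj : Function.Injective ι := hreal.1
  let TH : Sylow p H := T.subtype hTH
  have hTHcoe : (TH : Subgroup H) = (T : Subgroup G).subgroupOf H := Sylow.coe_subtype _ _
  rw [Cfsg.Agent.Lib.Helper2.hasNormalPComplement_iff TH, Cfsg.Agent.S0071.result TH]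
  intro Q₁ hQ₁ g hg hcop
  -- pass to the group `G`
  have hQ₁T : ∀ q ∈ Q₁, ((q : H) : G) ∈ (T : Subgroup G) := by
    intro q hq
    have := hQ₁ hq
    rw [hTHcoe] at this
    exact Subgroup.mem_subgroupOf.mp this
  set Q₂ := Q₁.map H.subtype ⊔ Z with hQ₂def
  have hQ₂ : Q₂ ≤ ι.range := by
    rw [← hT]
    apply sup_le
    · rintro _ ⟨q, hq, rfl⟩
      exact hQ₁T q hq
    · exact hZT
  have hgN1 : (g : G) ∈ Subgroup.normalizer ((Q₁.map H.subtype : Subgroup G) : Set G) := by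
    rw [Subgroup.mem_normalizer_iff]
    intro y
    rw [Subgroup.mem_normalizer_iff] at hg
    constructor
    · rintro ⟨q, hq, rfl⟩
      exact ⟨g * q * g⁻¹, (hg q).mp hq, rfl⟩
    · rintro ⟨q, hq, hqy⟩
      have hy : y ∈ H := by
        have h1 : (g : G)⁻¹ * ((g : G) * y * (g : G)⁻¹) * (g : G) ∈ H :=
          H.mul_mem (H.mul_mem (H.inv_mem g.2) (hqy ▸ q.2)) g.2
        have e : (g : G)⁻¹ * ((g : G) * y * (g : G)⁻¹) * (g : G) = y := by group
        rwa [e] at h1
      refine ⟨⟨y, hy⟩, (hg ⟨y, hy⟩).mpr ?_, rfl⟩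
      have : g * ⟨y, hy⟩ * g⁻¹ = q := Subtype.ext hqy.symm
      rw [this]
      exact hq
  have hgN : (g : G) ∈ Subgroup.normalizer (Q₂ : Set G) := mem_normalizer_sup' hgN1 (hHZ g.2)
  obtain ⟨γ, hγ, hγg⟩ := exists_aut_of_mem_normalizer F ι hreal Q₂ hQ₂ (g : G) hgN
  have hγcop : (orderOf γ).Coprime p := by
    have h1 := hγg.orderOf_dvd hinj
    rw [Subgroup.orderOf_coe] at h1
    exact Nat.Coprime.coprime_dvd_left h1 hcop
  have hPS : preimageAlong ι Q₂ ≤ S := pre_le ι Q₂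
  have hγ1 : γ = 1 := hyp Q₂ le_sup_right hQ₂ (g : G) g.2 γ hγ hγcop hγg
  rw [Subgroup.mem_centralizer_iff]
  intro q hq
  apply Subtype.ext
  show (q : G) * (g : G) = (g : G) * (q : G)
  -- `q = ι s`
  have hqQ₂ : (q : G) ∈ Q₂ := (le_sup_left : Q₁.map H.subtype ≤ Q₂) ⟨q, hq, rfl⟩
  obtain ⟨s, hs⟩ := hQ₂ hqQ₂
  have hsP : (s : Ω) ∈ preimageAlong ι Q₂ := mem_pre.mpr ⟨s.2, by rw [hs]; exact hqQ₂⟩
  have h1 := hγg ⟨s, hsP⟩
  rw [hγ1] at h1
  have h2 : ι s = (g : G) * ι s * (g : G)⁻¹ := h1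
  rw [hs] at h2
  calc (q : G) * (g : G) = ((g : G) * (q : G) * (g : G)⁻¹) * (g : G) := by rw [← h2]
    _ = (g : G) * (q : G) := by group

/-- `J` of the image of an injective homomorphism defined on `S` -/
theorem thompsonSubgroupAOf_range {Ω : Type*} [Group Ω] {G' : Type*} [Group G'] {S : Subgroup Ω}
    (ι : S →* G') (hinj : Function.Injective ι) :
    thompsonSubgroupAOf ι.range = ((thompsonSubgroupAOf S).subgroupOf S).map ι := by
  have h1 : thompsonSubgroupAOf S = (thompsonSubgroupAOf (⊤ : Subgroup S)).map S.subtype := by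
    rw [thompsonAOf_map S.subtype ⊤ (fun x _ hx => Subtype.ext hx), ← MonoidHom.range_eq_map,
      Subgroup.range_subtype]
  have h2 : (thompsonSubgroupAOf S).subgroupOf S = thompsonSubgroupAOf (⊤ : Subgroup S) := by
    rw [h1]
    ext x
    rw [Subgroup.mem_subgroupOf]
    constructor
    · rintro ⟨y, hy, hyx⟩
      have : y = x := Subtype.ext hyx
      exact this ▸ hy
    · intro hx
      exact ⟨x, hx, rfl⟩
  rw [h2, thompsonAOf_map ι ⊤ (fun x _ hx => hinj (hx.trans (map_one ι).symm)),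
    ← MonoidHom.range_eq_map]

/-- the centre of the image of an injective homomorphism defined on `S` -/
theorem zIn_range {Ω : Type*} [Group Ω] {G' : Type*} [Group G'] {S : Subgroup Ω}
    (ι : S →* G') (hinj : Function.Injective ι) :
    zIn ι.range = ((zIn S).subgroupOf S).map ι := by
  ext y
  rw [mem_zIn]
  constructor
  · rintro ⟨⟨s, rfl⟩, hc⟩
    refine ⟨s, Subgroup.mem_subgroupOf.mpr (mem_zIn.mpr ⟨s.2, fun t ht => ?_⟩), rfl⟩
    have h1 := hc (ι ⟨t, ht⟩) ⟨_, rfl⟩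
    rw [← map_mul, ← map_mul] at h1
    exact congrArg (fun z : S => (z : Ω)) (hinj h1)
  · rintro ⟨s, hs, rfl⟩
    obtain ⟨-, hc⟩ := mem_zIn.mp (Subgroup.mem_subgroupOf.mp hs)
    refine ⟨⟨s, rfl⟩, ?_⟩
    rintro _ ⟨t, rfl⟩
    rw [← map_mul, ← map_mul]
    congr 1
    exact Subtype.ext (hc t t.2)

/-- the Thompson subgroup of a nontrivial finite subgroup is nontrivial -/
theorem thompsonSubgroupAOf_ne_bot' {G : Type*} [Group G] {P : Subgroup G} [Finite P] (hP : P ≠ ⊥) :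
    thompsonSubgroupAOf P ≠ ⊥ := by
  have h1 : thompsonSubgroupAOf P = (thompsonSubgroupAOf (⊤ : Subgroup P)).map P.subtype := by
    rw [thompsonAOf_map P.subtype ⊤ (fun x _ hx => Subtype.ext hx), ← MonoidHom.range_eq_map,
      Subgroup.range_subtype]
  have h2 : thompsonSubgroupAOf (⊤ : Subgroup P) ≠ ⊥ := by
    apply Cfsg.Agent.Lib.Helper51.thompsonAOf_ne_bot
    intro h0
    apply hP
    rw [eq_bot_iff]
    intro x hx
    have : (⟨x, hx⟩ : P) ∈ (⊤ : Subgroup P) := Subgroup.mem_top _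
    rw [h0, Subgroup.mem_bot] at this
    rw [Subgroup.mem_bot]
    exact congrArg Subtype.val this
  rw [h1]
  intro h0
  apply h2
  rw [eq_bot_iff]
  intro x hx
  have : (x : G) ∈ (thompsonSubgroupAOf (⊤ : Subgroup P)).map P.subtype := ⟨x, hx, rfl⟩
  rw [h0, Subgroup.mem_bot] at this
  rw [Subgroup.mem_bot]
  exact Subtype.ext this

end generic

/-- the automorphisms of subgroups containing `J(S)` that normalize `J(S)`, and those of subgroups
containing `Z(S)` that centralize `Z(S)` -/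
def ThBad (Ω : Type u) [Group Ω] (S P : Subgroup Ω) (α : MulAut P) : Prop :=
  (thompsonSubgroupAOf S ≤ P ∧ ∀ x : P, (x : Ω) ∈ thompsonSubgroupAOf S →
    ((α x : P) : Ω) ∈ thompsonSubgroupAOf S) ∨
  (zIn S ≤ P ∧ ∀ x : P, (x : Ω) ∈ zIn S → α x = x)

theorem thBad_loc (p : ℕ) [Fact p.Prime] (Ω : Type u) [Group Ω] (S P : Subgroup Ω) (α : MulAut P)
    (hfin : Finite S) (hS : IsPGroup p S) (hP : P ≤ S) (hα1 : α ≠ 1) (hbad : ThBad Ω S P α) :
    ∃ W : Subgroup Ω, W ≠ ⊥ ∧ W ≤ P ∧ (∀ x : P, (x : Ω) ∈ W → ((α x : P) : Ω) ∈ W) ∧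
      Subgroup.normalizer (S : Set Ω) ≤ Subgroup.normalizer (W : Set Ω) := by
  have hS1 : S ≠ ⊥ := by
    intro h0
    apply hα1
    have hbot : ∀ y : P, (y : Ω) = 1 := by
      intro y
      have h1 : (y : Ω) ∈ (⊥ : Subgroup Ω) := h0 ▸ hP y.2
      exact Subgroup.mem_bot.mp h1
    ext x
    rw [MulAut.one_apply, hbot x, hbot (α x)]
  rcases hbad with ⟨h1, h2⟩ | ⟨h1, h2⟩
  · exact ⟨thompsonSubgroupAOf S, thompsonSubgroupAOf_ne_bot' hS1, h1, h2,
      normalizer_le_normalizer_thompsonAOf S⟩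
  · refine ⟨zIn S, zIn_ne_bot' hS hS1, h1, fun x hx => ?_, normalizer_le_normalizer_zIn S⟩
    rw [h2 x hx]
    exact hx

/-- the class of systems for Thompson's theorem -/
def ThCls (p : ℕ) (Ω : Type u) [Group Ω] (S : Subgroup Ω) (F : FusionSystem S) : Prop :=
  p ≠ 2 ∨ F.IsSectionFree p (Equiv.Perm (Fin 4))

/-- **Thompson's theorem for constrained systems.** -/
theorem thBad_grp (p : ℕ) [Fact p.Prime] (Ω : Type u) [Group Ω] (S : Subgroup Ω)
    (F : FusionSystem S) (hfin : Finite S) (hS : IsPGroup p S) (hcon : F.IsConstrained p)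
    (hcls : ThCls p Ω S F) (hyp : Hyp ThBad F p) : PFree F p := by
  have hmodel : ∃ (G : Type u) (_ : Group G) (ι : S →* G), F.IsModel p G ι ∧
      (p ≠ 2 ∨ ¬ Involves (Equiv.Perm (Fin 4)) G) := by
    rcases hcls with h | h
    · obtain ⟨G, _, ι, hG⟩ := exists_model hS F hcon
      exact ⟨G, inferInstance, ι, hG, Or.inl h⟩
    · obtain ⟨G, _, ι, hG, hfree⟩ := exists_model_not_involves hS F hcon _ h
      exact ⟨G, inferInstance, ι, hG, Or.inr hfree⟩
  obtain ⟨G, _, ι, ⟨hfinG, hreal, ⟨T, hT⟩, -⟩, hG⟩ := hmodel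
  have hinj : Function.Injective ι := hreal.1
  -- the Thompson subgroup
  have hJ : thompsonSubgroupAOf (T : Subgroup G) = ((thompsonSubgroupAOf S).subgroupOf S).map ι := by
    rw [hT]
    exact thompsonSubgroupAOf_range ι hinj
  have hZ : zIn (T : Subgroup G) = ((zIn S).subgroupOf S).map ι := by
    rw [hT]
    exact zIn_range ι hinj
  have hnpcN : HasNormalPComplement p
      ↥(Subgroup.normalizer ((thompsonSubgroupAOf (T : Subgroup G)) : Set G)) := by
    apply npc_of_local F ι hreal T hT _ (thompsonSubgroupAOf (T : Subgroup G))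
      (Subgroup.le_normalizer.trans (normalizer_le_normalizer_thompsonAOf (T : Subgroup G)))
      (thompsonAOf_le _) le_rfl
    intro Q₂ hZQ₂ hQ₂ g hg γ hγ hγcop hγg
    have hPS : preimageAlong ι Q₂ ≤ S := pre_le ι Q₂
    apply hyp _ hPS γ hγ hγcop
    left
    constructor
    · intro x hx
      have hxS : x ∈ S := thompsonAOf_le S hx
      refine mem_pre.mpr ⟨hxS, ?_⟩
      apply hZQ₂
      rw [hJ]
      exact ⟨⟨x, hxS⟩, Subgroup.mem_subgroupOf.mpr hx, rfl⟩
    · intro x hx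
      have h1 := hγg x
      have h2 : ι ⟨x, hPS x.2⟩ ∈ thompsonSubgroupAOf (T : Subgroup G) := by
        rw [hJ]
        exact ⟨⟨x, hPS x.2⟩, Subgroup.mem_subgroupOf.mpr hx, rfl⟩
      have h3 : g * ι ⟨x, hPS x.2⟩ * g⁻¹ ∈ thompsonSubgroupAOf (T : Subgroup G) :=
        (Subgroup.mem_normalizer_iff.mp hg _).mp h2
      rw [← h1, hJ] at h3
      obtain ⟨z, hz, hzx⟩ := h3
      have h4 := hinj hzx
      have h5 : (z : Ω) ∈ thompsonSubgroupAOf S := Subgroup.mem_subgroupOf.mp hz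
      rw [h4] at h5
      exact h5
  have hnpcC : HasNormalPComplement p
      ↥(Subgroup.centralizer (((T : Subgroup G) ⊓ Subgroup.centralizer ((T : Subgroup G) : Set G) :
        Subgroup G) : Set G)) := by
    apply npc_of_local F ι hreal T hT _ (zIn (T : Subgroup G)) ?_ (zIn_le _)
      (Subgroup.centralizer_le_normalizer _)
    · intro Q₂ hZQ₂ hQ₂ g hg γ hγ hγcop hγg
      have hPS : preimageAlong ι Q₂ ≤ S := pre_le ι Q₂
      apply hyp _ hPS γ hγ hγcop
      right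
      constructor
      · intro x hx
        have hxS : x ∈ S := zIn_le S hx
        refine mem_pre.mpr ⟨hxS, ?_⟩
        apply hZQ₂
        rw [hZ]
        exact ⟨⟨x, hxS⟩, Subgroup.mem_subgroupOf.mpr hx, rfl⟩
      · intro x hx
        have h1 := hγg x
        have h2 : ι ⟨x, hPS x.2⟩ ∈ zIn (T : Subgroup G) := by
          rw [hZ]
          exact ⟨⟨x, hPS x.2⟩, Subgroup.mem_subgroupOf.mpr hx, rfl⟩
        have h3 : ι ⟨x, hPS x.2⟩ * g = g * ι ⟨x, hPS x.2⟩ :=
          (Subgroup.mem_centralizer_iff.mp hg) _ h2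
        have h4 : g * ι ⟨x, hPS x.2⟩ * g⁻¹ = ι ⟨x, hPS x.2⟩ := by
          rw [← h3]
          group
        rw [h4] at h1
        exact Subtype.ext (congrArg (fun z : S => (z : Ω)) (hinj h1))
    · intro t ht
      rw [Subgroup.mem_centralizer_iff]
      intro z hz
      exact ((mem_zIn.mp hz).2 t ht).symm
  have hnpcG : HasNormalPComplement p G := Cfsg.Agent.S2800.result T hG hnpcC hnpcN
  rw [Cfsg.Agent.Lib.Helper2.hasNormalPComplement_iff T, Cfsg.Agent.S0071.result T] at hnpcG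
  exact pFree_of_realized F ι hreal (fun Q₁ hQ₁ => hnpcG Q₁ (hT ▸ hQ₁))

end Cfsg.Agent.Lib.Helper88
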