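import Cfsg.Agent.Lib.Helper88.TopLevel

set_option autoImplicit false

/-!
# The number of orbits at the top level is the index of `Inn(S)` in `Aut_F(S)`
-/

namespace Cfsg.Agent.Lib.Helper88

open Cfsg Cfsg.FusionSystem MulAction
open Cfsg.Agent.Lib.Helper87 (restrict_mem hom_le hom_mem_S isConj_refl isConj_symm isConj_trans
  card_eq_of_isConj subtype_mem mem_autGroup_iff mem_autInducedBy_iff)

variable {Ω : Type*} [Group Ω] {S : Subgroup Ω}

/-- the property of being a representative at the top level -/
def IsTopRep (F : FusionSystem S) (H : Subgroup (S × S)) : Prop :=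
  InTw F H ∧ Nat.card H = Nat.card S ∧ rep H = H

theorem isTopRep_rep_twA [Finite S] (F : FusionSystem S) (α : F.autGroup S) :
    IsTopRep F (rep (twA (α : MulAut S))) := by
  have h1 : InTw F (twA (α : MulAut S)) := (inTw_twA_iff F α).mpr α.2
  exact ⟨(rep_mem_twClass h1).1, by rw [card_rep, card_twA], rep_rep _⟩

theorem twA_mul_conj (α : MulAut S) (s : S) :
    twA (α * MulAut.conj s) = cjs ((s⁻¹, 1) : S × S) (twA α) := by
  rw [cjs_twA]
  congr 1
  simp

/-- the map from cosets to representatives -/
noncomputable def topMap [Finite S] (F : FusionSystem S) :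
    (F.autGroup S ⧸ (autInducedBy S S).subgroupOf (F.autGroup S)) →
      {H : Subgroup (S × S) // IsTopRep F H} :=
  Quotient.lift (fun α : F.autGroup S => ⟨rep (twA (α : MulAut S)), isTopRep_rep_twA F α⟩) (by
    intro α β hαβ
    have h1 : α⁻¹ * β ∈ (autInducedBy S S).subgroupOf (F.autGroup S) :=
      QuotientGroup.leftRel_apply.mp hαβ
    rw [Subgroup.mem_subgroupOf, mem_autInducedBy_iff] at h1
    obtain ⟨s, hs, hsx⟩ := h1
    have h2 : (β : MulAut S) = (α : MulAut S) * MulAut.conj (⟨s, hs⟩ : S) := by
      ext x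
      have h3 := hsx x
      have h4 : ((α⁻¹ * β : F.autGroup S) : MulAut S) x = MulAut.conj (⟨s, hs⟩ : S) x :=
        Subtype.ext h3
      have h5 : ((α⁻¹ * β : F.autGroup S) : MulAut S) x = (α : MulAut S)⁻¹ ((β : MulAut S) x) := rfl
      rw [h5] at h4
      have h6 : (β : MulAut S) x = (α : MulAut S) (MulAut.conj (⟨s, hs⟩ : S) x) := by
        rw [← h4]
        simp
      rw [h6]
      rfl
    apply Subtype.ext
    show rep (twA (α : MulAut S)) = rep (twA (β : MulAut S))
    rw [h2, twA_mul_conj]
    exact (rep_eq_of_conj _ rfl).symm)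

theorem topMap_mk [Finite S] (F : FusionSystem S) (α : F.autGroup S) :
    ((topMap F (QuotientGroup.mk α) : {H : Subgroup (S × S) // IsTopRep F H}) :
      Subgroup (S × S)) = rep (twA (α : MulAut S)) := rfl

theorem topMap_bijective [Finite S] (F : FusionSystem S) : Function.Bijective (topMap F) := by
  constructor
  · intro a b
    induction a using QuotientGroup.induction_on with
    | H α =>
    induction b using QuotientGroup.induction_on with
    | H β =>
    intro h
    have h1 : rep (twA (α : MulAut S)) = rep (twA (β : MulAut S)) := by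
      rw [← topMap_mk, ← topMap_mk, h]
    obtain ⟨g₁, hg₁⟩ := rep_spec (twA (α : MulAut S))
    obtain ⟨g₂, hg₂⟩ := rep_spec (twA (β : MulAut S))
    have e1 : rep (twA (α : MulAut S)) = cjs g₁⁻¹ (twA (α : MulAut S)) := by
      have := congrArg (cjs g₁⁻¹) hg₁
      rw [← cjs_mul, inv_mul_cancel, cjs_one] at this
      exact this.symm
    have h2 : twA (β : MulAut S) = cjs (g₂ * g₁⁻¹) (twA (α : MulAut S)) := by
      rw [cjs_mul, ← e1, h1]
      exact hg₂
    rw [cjs_twA] at h2
    have h3 := twA_injective h2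
    rw [QuotientGroup.eq, Subgroup.mem_subgroupOf, mem_autInducedBy_iff]
    set g := g₂ * g₁⁻¹ with hg
    refine ⟨(((α : MulAut S)⁻¹ g.2 * g.1⁻¹ : S) : Ω), (_ : S).2, fun x => ?_⟩
    have h5 : ((α⁻¹ * β : F.autGroup S) : MulAut S) x = (α : MulAut S)⁻¹ ((β : MulAut S) x) := rfl
    rw [h5, h3]
    simp only [MulAut.mul_apply, MulAut.conj_apply, MulAut.conj_inv_apply, map_mul, map_inv]
    simp only [MulAut.inv_apply_self, Subgroup.coe_mul, Subgroup.coe_inv]
    group
  · rintro ⟨H, hH⟩
    obtain ⟨α, hα, hHα⟩ := exists_twA_of_top F hH.1 hH.2.1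
    refine ⟨QuotientGroup.mk ⟨α, hα⟩, ?_⟩
    apply Subtype.ext
    rw [topMap_mk]
    show rep (twA α) = H
    rw [← hHα]
    exact hH.2.2

theorem card_isTopRep [Finite S] (F : FusionSystem S) :
    Nat.card {H : Subgroup (S × S) // IsTopRep F H} =
      ((autInducedBy S S).subgroupOf (F.autGroup S)).index := by
  rw [Subgroup.index_eq_card]
  exact (Nat.card_congr (Equiv.ofBijective _ (topMap_bijective F))).symm

theorem sum_topOrb [Finite S] [Fintype (Subgroup (S × S))] (F : FusionSystem S) :
    ∑ H : Subgroup (S × S), topOrb F H =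
      ((autInducedBy S S).subgroupOf (F.autGroup S)).index := by
  classical
  rw [← card_isTopRep, Nat.card_eq_fintype_card, Fintype.card_subtype, Finset.card_filter]
  refine Finset.sum_congr rfl fun H _ => ?_
  unfold topOrb IsTopRep
  congr

end Cfsg.Agent.Lib.Helper88
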