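import Cfsg.Agent.Lib.Helper88.SatStep
import Cfsg.Agent.Lib.Helper88.Abelian

set_option autoImplicit false

/-!
# The top level of the characteristic biset: graphs of automorphisms of `S`
-/

namespace Cfsg.Agent.Lib.Helper88

open Cfsg Cfsg.FusionSystem MulAction
open Cfsg.Agent.Lib.Helper87 (restrict_mem hom_le hom_mem_S isConj_refl isConj_symm isConj_trans
  card_eq_of_isConj subtype_mem mem_autGroup_iff mem_autInducedBy_iff)

variable {Ω : Type*} [Group Ω] {S : Subgroup Ω}

/-- the graph of an automorphism of `S` -/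
def twA (α : MulAut S) : Subgroup (S × S) :=
  tw (S.subtype.comp α.toMonoidHom) (le_refl S) (fun x => (α x).2)

theorem isGraphOf_twA (α : MulAut S) : IsGraphOf (twA α) (S.subtype.comp α.toMonoidHom) :=
  isGraphOf_tw _ _ _

theorem mem_twA {α : MulAut S} {g : S × S} : g ∈ twA α ↔ g.2 = α g.1 := by
  rw [isGraphOf_twA α g]
  constructor
  · rintro ⟨q, h1, h2⟩
    have e : q = g.1 := Subtype.ext h1
    rw [← e]
    exact Subtype.ext h2.symm
  · intro h
    exact ⟨g.1, rfl, congrArg (fun s : S => (s : Ω)) h.symm⟩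

theorem card_twA [Finite S] (α : MulAut S) : Nat.card (twA α) = Nat.card S :=
  (isGraphOf_twA α).card_eq (le_refl S) (fun x => (α x).2)

theorem pr1_twA (α : MulAut S) : pr1 (twA α) = S :=
  (isGraphOf_twA α).pr1_eq (le_refl S) (fun x => (α x).2)

theorem twA_injective : Function.Injective (twA : MulAut S → Subgroup (S × S)) := by
  intro α β h
  ext x
  have h1 : ((x, α x) : S × S) ∈ twA α := mem_twA.mpr rfl
  rw [h] at h1
  have h2 := mem_twA.mp h1
  exact congrArg (fun s : S => (s : Ω)) h2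

theorem inTw_twA_iff (F : FusionSystem S) (α : MulAut S) :
    InTw F (twA α) ↔ α ∈ F.autGroup S := by
  rw [mem_autGroup_iff F (le_refl S)]
  constructor
  · rintro ⟨Q, ψ, hψ, hD⟩
    have hQ : Q = S := by
      rw [← hD.pr1_eq (hom_le F hψ) (hom_mem_S F hψ), pr1_twA]
    obtain ⟨ψ', hψ', hψe⟩ := hom_cast F hQ hψ
    have e : S.subtype.comp α.toMonoidHom = ψ' := by
      ext x
      have h1 : ((x, α x) : S × S) ∈ twA α := mem_twA.mpr rfl
      obtain ⟨q, hq1, hq2⟩ := (hD _).mp h1
      have e1 : q = ⟨x, hQ ▸ x.2⟩ := Subtype.ext hq1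
      rw [e1] at hq2
      have := hψe x (hQ ▸ x.2) x.2
      rw [this]
      exact hq2.symm
    rw [e]
    exact hψ'
  · intro h
    exact ⟨S, _, h, isGraphOf_twA α⟩

theorem exists_twA_of_top [Finite S] (F : FusionSystem S) {D : Subgroup (S × S)} (hD : InTw F D)
    (hcard : Nat.card D = Nat.card S) : ∃ α : MulAut S, α ∈ F.autGroup S ∧ D = twA α := by
  obtain ⟨Q, ψ, hψ, hD⟩ := hD
  have hQS := hom_le F hψ
  have hQ : Q = S := by
    apply Subgroup.eq_of_le_of_card_ge hQS
    rw [← hD.card_eq hQS (hom_mem_S F hψ), hcard]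
  obtain ⟨ψ', hψ', hψe⟩ := hom_cast F hQ hψ
  obtain ⟨α, hα⟩ := aut_of_hom_top F hψ'
  refine ⟨α, ?_, ?_⟩
  · rw [mem_autGroup_iff F (le_refl S), hα]
    exact hψ'
  · ext g
    rw [hD g, isGraphOf_twA α g, hα]
    constructor
    · rintro ⟨q, h1, h2⟩
      refine ⟨⟨q, hQS q.2⟩, h1, ?_⟩
      rw [hψe q q.2 (hQS q.2)]
      exact h2
    · rintro ⟨q, h1, h2⟩
      refine ⟨⟨q, hQ ▸ q.2⟩, h1, ?_⟩
      rw [← hψe q (hQ ▸ q.2) q.2]
      exact h2

theorem cjs_twA (g : S × S) (α : MulAut S) :
    cjs g (twA α) = twA (MulAut.conj g.2 * α * (MulAut.conj g.1)⁻¹) := by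
  ext y
  rw [mem_cjs, mem_twA, mem_twA]
  simp only [Prod.snd_mul, Prod.snd_inv, Prod.fst_mul, Prod.fst_inv, MulAut.mul_apply,
    MulAut.conj_apply, MulAut.conj_inv_apply]
  constructor
  · intro h
    rw [← h]
    group
  · intro h
    rw [h]
    group

/-- the normalizers of all graphs of automorphisms have the same order -/
theorem card_normalizer_twA [Finite S] (α : MulAut S) :
    Nat.card (Subgroup.normalizer ((twA α : Subgroup (S × S)) : Set (S × S))) =
      Nat.card (Subgroup.normalizer ((twA (1 : MulAut S) : Subgroup (S × S)) : Set (S × S))) := by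
  let e : (S × S) ≃* (S × S) := MulEquiv.prodCongr (MulEquiv.refl S) α
  have h1 : (twA (1 : MulAut S)).map e.toMonoidHom = twA α := by
    ext g
    constructor
    · rintro ⟨d, hd, rfl⟩
      have hd' : d ∈ twA (1 : MulAut S) := hd
      rw [mem_twA] at hd' ⊢
      show α d.2 = α d.1
      rw [hd']
      rfl
    · intro hg
      rw [mem_twA] at hg
      refine ⟨(g.1, g.1), mem_twA.mpr rfl, ?_⟩
      apply Prod.ext
      · rfl
      · exact hg.symm
  have h2 := Subgroup.map_equiv_normalizer_eq (twA (1 : MulAut S)) e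
  rw [h1] at h2
  rw [← h2]
  exact (Nat.card_congr (Subgroup.equivMapOfInjective _ _ e.injective).toEquiv).symm

/-- the top level: one orbit for each class of graphs of automorphisms of the system -/
noncomputable def topOrb (F : FusionSystem S) (H : Subgroup (S × S)) : ℕ := by
  classical
  exact if InTw F H ∧ Nat.card H = Nat.card S ∧ rep H = H then 1 else 0

theorem topOrb_ne_zero {F : FusionSystem S} {H : Subgroup (S × S)} (h : topOrb F H ≠ 0) :
    InTw F H ∧ Nat.card H = Nat.card S ∧ rep H = H := by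
  unfold topOrb at h
  by_contra hne
  rw [if_neg hne] at h
  exact h rfl

theorem topOrb_eq_one {F : FusionSystem S} {H : Subgroup (S × S)}
    (h : InTw F H ∧ Nat.card H = Nat.card S ∧ rep H = H) : topOrb F H = 1 := by
  unfold topOrb
  rw [if_pos h]

theorem gen_topOrb (F : FusionSystem S) : Gen F (topOrb F) := fun _ hH => (topOrb_ne_zero hH).1

theorem mark_topOrb [Finite S] (F : FusionSystem S) {V : Subgroup (S × S)} (hV : InTw F V)
    (hcard : Nat.card V = Nat.card S) :
    mark (topOrb F) V * Nat.card S =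
      Nat.card (Subgroup.normalizer ((twA (1 : MulAut S) : Subgroup (S × S)) : Set (S × S))) := by
  classical
  have := Fintype.ofFinite (Subgroup (S × S))
  obtain ⟨g₀, hg₀⟩ := rep_spec V
  have hfix : fixq (rep V) V = fixq (rep V) (rep V) :=
    calc fixq (rep V) V = fixq (rep V) (cjs g₀ (rep V)) := by rw [← hg₀]
      _ = fixq (rep V) (rep V) := mkCount_cjs g₀ (rep V) ((S × S) ⧸ rep V)
  have hrepV : rep V ∈ twClass F V := rep_mem_twClass hV
  have hrep : InTw F (rep V) ∧ Nat.card (rep V) = Nat.card S ∧ rep (rep V) = rep V :=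
    ⟨hrepV.1, by rw [card_rep, hcard], rep_rep V⟩
  have hsum : mark (topOrb F) V = fixq (rep V) (rep V) := by
    rw [mark_eq_sum, Finset.sum_eq_single (rep V)]
    · rw [hfix, topOrb_eq_one hrep, one_mul]
    · intro H _ hH
      by_contra hne
      have h1 : topOrb F H ≠ 0 := fun h0 => hne (by rw [h0, zero_mul])
      have h2 : fixq H V ≠ 0 := fun h0 => hne (by rw [h0, mul_zero])
      obtain ⟨-, hHk, hHrep⟩ := topOrb_ne_zero h1
      obtain ⟨g, hg⟩ := eq_conj_of_fixq_ne_zero (hHk.trans hcard.symm) h2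
      apply hH
      rw [← hHrep]
      exact (rep_eq_of_conj g hg).symm
    · intro h
      exact absurd (Finset.mem_univ _) h
  obtain ⟨α, -, hα⟩ := exists_twA_of_top F hrep.1 hrep.2.1
  rw [hsum, ← hrep.2.1, fixq_self, hα, card_normalizer_twA]

theorem stabGe_topOrb [Finite S] (F : FusionSystem S) : StabGe F (topOrb F) (Nat.card S) := by
  intro D D' hD hD' hk hc
  have h1 : Nat.card D = Nat.card S := le_antisymm hD.card_le hk
  have h2 : Nat.card D' = Nat.card S := by
    rw [hD'.card_eq, ← card_eq_of_isConj F hc, ← hD.card_eq, h1]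
  have e1 := mark_topOrb F hD h1
  have e2 := mark_topOrb F hD' h2
  have hpos : 0 < Nat.card S := Nat.card_pos
  exact Nat.eq_of_mul_eq_mul_right hpos (e1.trans e2.symm)

end Cfsg.Agent.Lib.Helper88
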