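import Mathlib

set_option autoImplicit false

namespace Cfsg.Agent.Lib.Helper88

open scoped BigOperators

variable {A V : Type*} [Group A] [CommGroup V]

/-- the elements of `V` fixed by the subgroup `B` -/
def fixedSub (ρ : A →* MulAut V) (B : Subgroup A) : Subgroup V where
  carrier := {v | ∀ b ∈ B, ρ b v = v}
  one_mem' := fun b _ => map_one _
  mul_mem' := by
    intro x y hx hy b hb
    rw [map_mul, hx b hb, hy b hb]
  inv_mem' := by
    intro x hx b hb
    rw [map_inv, hx b hb]

theorem mem_fixedSub {ρ : A →* MulAut V} {B : Subgroup A} {v : V} :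
    v ∈ fixedSub ρ B ↔ ∀ b ∈ B, ρ b v = v := Iff.rfl

/-- `a ↦ ρ a v` on left cosets of `B`, for `v` fixed by `B` -/
def traceFun (ρ : A →* MulAut V) (B : Subgroup A) (v : fixedSub ρ B) : A ⧸ B → V :=
  Quotient.lift (fun a : A => ρ a (v : V)) (by
    intro a a' h
    have h1 : a⁻¹ * a' ∈ B := QuotientGroup.leftRel_apply.mp h
    have h2 := v.2 _ h1
    show ρ a (v : V) = ρ a' (v : V)
    have e : a' = a * (a⁻¹ * a') := by group
    rw [e, map_mul, MulAut.mul_apply, h2])

theorem traceFun_mk (ρ : A →* MulAut V) (B : Subgroup A) (v : fixedSub ρ B) (a : A) :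
    traceFun ρ B v (a : A ⧸ B) = ρ a (v : V) := rfl

theorem traceFun_smul (ρ : A →* MulAut V) (B : Subgroup A) (v : fixedSub ρ B) (a : A) (c : A ⧸ B) :
    traceFun ρ B v (a • c) = ρ a (traceFun ρ B v c) := by
  induction c using QuotientGroup.induction_on with
  | H a' =>
    show traceFun ρ B v ((a * a' : A) : A ⧸ B) = _
    rw [traceFun_mk, traceFun_mk, map_mul, MulAut.mul_apply]

/-- the relative trace `V^B → V^A` -/
noncomputable def trace (ρ : A →* MulAut V) (B : Subgroup A) [Fintype (A ⧸ B)] :
    fixedSub ρ B →* V :=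
  MonoidHom.mk' (fun v => ∏ c : A ⧸ B, traceFun ρ B v c) (by
    intro v w
    rw [← Finset.prod_mul_distrib]
    apply Finset.prod_congr rfl
    intro c _
    induction c using QuotientGroup.induction_on with
    | H a =>
      rw [traceFun_mk, traceFun_mk, traceFun_mk]
      show ρ a ((v : V) * (w : V)) = _
      rw [map_mul])

theorem trace_apply (ρ : A →* MulAut V) (B : Subgroup A) [Fintype (A ⧸ B)] (v : fixedSub ρ B) :
    trace ρ B v = ∏ c : A ⧸ B, traceFun ρ B v c := rfl

/-- the trace is fixed by all of `A` -/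
theorem trace_fixed (ρ : A →* MulAut V) (B : Subgroup A) [Fintype (A ⧸ B)] (v : fixedSub ρ B) (a : A) :
    ρ a (trace ρ B v) = trace ρ B v := by
  rw [trace_apply, map_prod]
  have h : ∀ c : A ⧸ B, ρ a (traceFun ρ B v c) = traceFun ρ B v (MulAction.toPerm a c) := by
    intro c
    rw [MulAction.toPerm_apply, traceFun_smul]
  simp_rw [h]
  exact Equiv.prod_comp (MulAction.toPerm a) (traceFun ρ B v)

/-- on elements fixed by all of `A` the trace is the power by the index -/
theorem trace_of_fixed (ρ : A →* MulAut V) (B : Subgroup A) [Fintype (A ⧸ B)] (v : fixedSub ρ B)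
    (hv : ∀ a : A, ρ a (v : V) = v) : trace ρ B v = (v : V) ^ Fintype.card (A ⧸ B) := by
  rw [trace_apply]
  have h : ∀ c : A ⧸ B, traceFun ρ B v c = (v : V) := by
    intro c
    induction c using QuotientGroup.induction_on with
    | H a => rw [traceFun_mk, hv]
  simp_rw [h]
  rw [Finset.prod_const, Finset.card_univ]

end Cfsg.Agent.Lib.Helper88
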