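import Cfsg.Agent.Lib.Helper88.TrsDefs
import Cfsg.Agent.Lib.Helper85.Realized
import Cfsg.Agent.Lib.Helper76.PSolvable
import Cfsg.Agent.Lib.Helper83.TrsK1
import Cfsg.Agent.Lib.Helper73.TrsG3
import Cfsg.Agent.Lib.Helper95.TrsF7
import Cfsg.Agent.Lib.Helper87.NormalChain
import Cfsg.Agent.S5090

/-!
# TRS-M: the model bridge for S5156

`m_core` is TRS-M with TRS-F7 passed as a hypothesis.
-/

set_option autoImplicit false
set_option linter.style.haveILetI false

namespace Cfsg.Agent.Lib.Helper88.Trs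

open Cfsg Cfsg.FusionSystem
open Cfsg.Agent.Lib.Helper88 (preN preN_le)

universe u

variable {p : ℕ} [Fact p.Prime]

/-- TRS-M with TRS-F7 as a hypothesis. -/
theorem m_core {Ω : Type u} [Group Ω] {S : Subgroup Ω} [Finite S] (hS : IsPGroup p S)
    (F : FusionSystem S) (hF : F.IsSaturated p)
    (hF7 : ∀ {Q R : Subgroup Ω}, Q ≤ R → R ≤ S → F.StronglyClosed Q →
      (∀ B : Subgroup (MulAut R), B ≤ F.autGroup R →
        (∀ β ∈ B, ∀ x : R, (x : Ω) ∈ Q → β x = x) → IsPGroup p B) →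
      IsPSolvable p ↥(F.autGroup Q) → IsPSolvable p ↥(F.autGroup R)) :
    PS p F ↔ (F.IsConstrained p ∧ ∀ (G : Type u) [Group G] (ι : S →* G),
      F.IsModel p G ι → IsPSolvable p G) := by
  constructor
  · rintro ⟨Q, hQn, hQc, hQs⟩
    refine ⟨⟨hF, Q, hQn, hQc⟩, ?_⟩
    intro G _ ι hm
    obtain ⟨hfin, hR, ⟨T, hT⟩, hcen⟩ := id hm
    haveI : Finite G := hfin
    haveI hNn : (pCore p G).Normal := Cfsg.Agent.Lib.Helper22.pCore_normal' p G
    have hNr : pCore p G ≤ ι.range := hT ▸ Cfsg.Agent.Lib.Helper11.pCore_le_sylow T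
    have hcore : F.core = preN ι (pCore p G) := Cfsg.Agent.Lib.Helper85.Rz.core_eq_of_isModel hm
    have hQR : Q ≤ preN ι (pCore p G) := by
      rw [← hcore]
      exact le_sSup hQn
    have hRS : preN ι (pCore p G) ≤ S := preN_le ι _
    have hc : centralizerIn S Q ≤ Q := hQc.2 Q (Cfsg.Agent.Lib.Helper87.isConj_refl F hQc.1)
    have hAR : IsPSolvable p ↥(F.autGroup (preN ι (pCore p G))) :=
      hF7 hQR hRS (Cfsg.Agent.Lib.Helper87.stronglyClosed_of_isNormal F hQn)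
        (fun B _ hfix => isPGroup_of_fix_centric hS hQR hRS hc B hfix) hQs
    refine isPSolvable_of_ker (Cfsg.Agent.Lib.Helper85.Rz.autHom hR (pCore p G) hNr) hAR ?_
    have hle : (Cfsg.Agent.Lib.Helper85.Rz.autHom hR (pCore p G) hNr).ker ≤ pCore p G :=
      (Cfsg.Agent.Lib.Helper85.Rz.autHom_ker_le hR (pCore p G) hNr).trans hcen
    exact (Cfsg.Agent.Lib.Helper22.pCore_isPGroup' p G).to_le hle
  · rintro ⟨hcon, hmod⟩
    obtain ⟨G, hG, ι, hm⟩ := Cfsg.Agent.S5090.result p hS F hcon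
    have hGs : IsPSolvable p G := hmod G ι hm
    obtain ⟨hfin, hR, ⟨T, hT⟩, hcen⟩ := id hm
    haveI : Finite G := hfin
    haveI hNn : (pCore p G).Normal := Cfsg.Agent.Lib.Helper22.pCore_normal' p G
    have hNr : pCore p G ≤ ι.range := hT ▸ Cfsg.Agent.Lib.Helper11.pCore_le_sylow T
    refine ⟨preN ι (pCore p G), Cfsg.Agent.Lib.Helper85.Rz.preN_isNormal hR _ hNn hNr,
      Cfsg.Agent.Lib.Helper85.Rz.preN_isCentric hR _ hNn hNr hcen, ?_⟩
    exact Cfsg.Agent.Lib.Helper76.isPSolvable_of_surjective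
      (Cfsg.Agent.Lib.Helper85.Rz.autHom hR (pCore p G) hNr)
      (Cfsg.Agent.Lib.Helper85.Rz.autHom_surjective hR (pCore p G) hNr) hGs

/-- **TRS-M** (model bridge). -/
theorem ps_iff_model {Ω : Type u} [Group Ω] {S : Subgroup Ω} [Finite S] (hS : IsPGroup p S)
    (F : FusionSystem S) (hF : F.IsSaturated p) :
    PS p F ↔ (F.IsConstrained p ∧ ∀ (G : Type u) [Group G] (ι : S →* G),
      F.IsModel p G ι → IsPSolvable p G) :=
  m_core hS F hF (fun hQR hRS hQ hker h => isPSolvable_autGroup_of_ker hS F hQR hRS hQ hker h)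

end Cfsg.Agent.Lib.Helper88.Trs
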