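import Cfsg.Agent.Lib.Helper88.TrsDefs
import Cfsg.Agent.Lib.Helper88.TrsM
import Cfsg.Agent.Lib.Helper88.CsMain
import Cfsg.Agent.Lib.Helper85.Realized
import Cfsg.Agent.Lib.Helper76.PSolvable
import Cfsg.Agent.Lib.Helper54.PSolvExt
import Cfsg.Agent.Lib.Helper53.SolvPSolv
import Cfsg.Agent.S5086
import Cfsg.Agent.S5088
import Cfsg.Agent.S5090
import Cfsg.Agent.S5106
import Cfsg.Agent.S5113
import Cfsg.Agent.S5120
import Cfsg.Agent.S5124
import Cfsg.Agent.S5140
import Cfsg.Agent.S5141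
import Cfsg.Agent.S5145
import Cfsg.Agent.S5243
import Cfsg.Agent.S5290
import Cfsg.Agent.S5291
import Cfsg.Agent.Lib.Helper1.TrsH4
import Cfsg.Agent.Lib.Helper13.TrsF9
import Cfsg.Agent.Lib.Helper13.TrsF10
import Cfsg.Agent.Lib.Helper13.TrsF11
import Cfsg.Agent.Lib.Helper20.TrsF13
import Cfsg.Agent.Lib.Helper20.TrsH2
import Cfsg.Agent.Lib.Helper20.TrsK3
import Cfsg.Agent.Lib.Helper47.TrsF3
import Cfsg.Agent.Lib.Helper68.TrsF1
import Cfsg.Agent.Lib.Helper68.TrsF5
import Cfsg.Agent.Lib.Helper73.TrsG3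
import Cfsg.Agent.Lib.Helper73.TrsG4
import Cfsg.Agent.Lib.Helper73.TrsG5
import Cfsg.Agent.Lib.Helper73.TrsG6
import Cfsg.Agent.Lib.Helper83.TrsK1
import Cfsg.Agent.Lib.Helper83.TrsK2
import Cfsg.Agent.Lib.Helper87.TrsF12
import Cfsg.Agent.Lib.Helper87.TrsH1
import Cfsg.Agent.Lib.Helper95.TrsF7
import Cfsg.Agent.Lib.Helper95.TrsF8
import Cfsg.Agent.Lib.Helper95.TrsG1
import Cfsg.Agent.Lib.Helper95.TrsG2

/-!
# S5156: terminating residual series iff constrained with `p`-solvable models (assembly)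
-/

set_option autoImplicit false
set_option linter.style.haveILetI false

namespace Cfsg.Agent.Lib.Helper88.Trs

open Cfsg Cfsg.FusionSystem

universe u

variable {Ω : Type*} [Group Ω] {S : Subgroup Ω} {p : ℕ} [Fact p.Prime]

/-! ## assemblies (helper88) -/

/-- Lemma C, up. -/
theorem ps_of_residual [Finite S] (hS : IsPGroup p S) (F E : FusionSystem S) (hF : F.IsSaturated p)
    (hE : F.IsPPrimeResidual p E) (h : PS p E) : PS p F := by
  obtain ⟨Q, hQn, hQc, hQs⟩ := h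
  have hEn : E.IsNormalIn F p :=
    Cfsg.Agent.S5141.result p hS F hF F (isWeaklyNormalIn_self F hF) E hE
  have hEsat : E.IsSaturated p := hE.1
  set Qs : Subgroup Ω := Subgroup.closure {x : Ω | ∃ φ ∈ F.Hom Q, ∃ r : Q, x = φ r} with hQs_def
  have hQsn : F.IsNormal Qs := Cfsg.Agent.S5291.result p hS F hF E hEn.1 Q hQn
  have hQsS : Qs ≤ S := hQsn.1
  have hQQs : Q ≤ Qs := by
    intro x hx
    refine Subgroup.subset_closure ⟨Q.subtype, ?_, ⟨x, hx⟩, rfl⟩
    exact Cfsg.Agent.Lib.Helper87.subtype_mem F hQn.1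
  have hQsE : E.IsNormal Qs :=
    isNormal_of_subsystem hS F hF le_rfl E hEsat hE.2.1.1 hQsS hQsn
  have hQsc : E.StronglyClosed Q := stronglyClosed_of_isNormal E hQn
  have hcQ : centralizerIn S Q ≤ Q := hQc.2 Q ⟨Q.subtype, Cfsg.Agent.Lib.Helper87.subtype_mem E hQn.1,
    Subgroup.range_subtype Q⟩
  have h1 : IsPSolvable p ↥(E.autGroup Qs) :=
    isPSolvable_autGroup_of_ker hS E hQQs hQsS hQsc
      (fun B _ hfix => isPGroup_of_fix_centric hS hQQs hQsS hcQ B hfix) hQs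
  have h2 : IsPSolvable p ↥(F.autGroup Qs) :=
    isPSolvable_autGroup_of_primeToP F E hE.2.1 hQsS h1
  refine ⟨Qs, hQsn, isCentric_of_stronglyClosed F (stronglyClosed_of_isNormal F hQsn) ?_, h2⟩
  intro x hx
  exact hQQs (hcQ ⟨hx.1, Subgroup.centralizer_le (show (Q : Set Ω) ⊆ Qs from hQQs) hx.2⟩)

/-- Lemma C, down. -/
theorem ps_residual_of_ps [Finite S] (hS : IsPGroup p S) (F E : FusionSystem S)
    (hF : F.IsSaturated p) (hE : F.IsPPrimeResidual p E) (h : PS p F) : PS p E := by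
  obtain ⟨Q, hQn, hQc, hQs⟩ := h
  have hQE : E.IsNormal Q := isNormal_of_subsystem hS F hF le_rfl E hE.1 hE.2.1.1 hQn.1 hQn
  have hcQ : centralizerIn S Q ≤ Q := hQc.2 Q ⟨Q.subtype, Cfsg.Agent.Lib.Helper87.subtype_mem F hQn.1,
    Subgroup.range_subtype Q⟩
  exact ⟨Q, hQE, isCentric_of_stronglyClosed E (stronglyClosed_of_isNormal E hQE) hcQ,
    isPSolvable_autGroup_of_subsystem E F hE.2.1.1 Q hQs⟩


/-- Lemma D, up. -/
theorem ps_of_pResidual [Finite S] (hS : IsPGroup p S) (E : FusionSystem S) (hE : E.IsSaturated p)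
    (D : FusionSystem (E.hyperfocalSubgroup p)) (hD : E.IsPResidual p D) (h : PS p D) : PS p E := by
  obtain ⟨Q, hQn, hQc, hQs⟩ := h
  have hT : E.StronglyClosed (E.hyperfocalSubgroup p) := Cfsg.Agent.S5124.result p hS E hE
  have hTS : E.hyperfocalSubgroup p ≤ S := hT.1
  haveI : Finite ↥(E.hyperfocalSubgroup p) := Cfsg.Agent.Lib.Helper87.finite_of_le hTS
  have hTp : IsPGroup p ↥(E.hyperfocalSubgroup p) := hS.to_le hTS
  haveI := hyperfocal_normal hS E hE
  have hDn : D.IsNormalIn E p :=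
    Cfsg.Agent.S5120.result p hS E hE _ hTS inferInstance le_rfl D hD.1 hD.2
  have hDE : D.IsSubsystemOf E := hD.2.1
  have hQT : Q ≤ E.hyperfocalSubgroup p := hQn.1
  set Qs : Subgroup Ω := Subgroup.closure {x : Ω | ∃ φ ∈ E.Hom Q, ∃ r : Q, x = φ r} with hQs_def
  have hQsn : E.IsNormal Qs := Cfsg.Agent.S5291.result p hS E hE D hDn.1 Q hQn
  have hQsS : Qs ≤ S := hQsn.1
  have hQQs : Q ≤ Qs := by
    intro x hx
    refine Subgroup.subset_closure ⟨Q.subtype, ?_, ⟨x, hx⟩, rfl⟩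
    exact Cfsg.Agent.Lib.Helper87.subtype_mem E (hQT.trans hTS)
  have hQsT : Qs ≤ E.hyperfocalSubgroup p := by
    rw [hQs_def, Subgroup.closure_le]
    rintro _ ⟨φ, hφ, r, rfl⟩
    exact hT.2 Q hQT φ hφ r
  have hQsD : D.IsNormal Qs := isNormal_of_subsystem hS E hE hTS D hD.1 hDE hQsT hQsn
  have hcQ : centralizerIn (E.hyperfocalSubgroup p) Q ≤ Q :=
    hQc.2 Q ⟨Q.subtype, Cfsg.Agent.Lib.Helper87.subtype_mem D hQT, Subgroup.range_subtype Q⟩
  have hcQs : centralizerIn (E.hyperfocalSubgroup p) Qs ≤ Qs := by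
    intro x hx
    exact hQQs (hcQ ⟨hx.1, Subgroup.centralizer_le (show (Q : Set Ω) ⊆ Qs from hQQs) hx.2⟩)
  have h1 : IsPSolvable p ↥(D.autGroup Qs) :=
    isPSolvable_autGroup_of_ker hTp D hQQs hQsT (stronglyClosed_of_isNormal D hQn)
      (fun B _ hfix => isPGroup_of_fix_centric hTp hQQs hQsT hcQ B hfix) hQs
  have h2 : IsPSolvable p ↥(E.autGroup Qs) :=
    isPSolvable_autGroup_of_pPower E D hD.2 hQsT hQsS h1
  have hker : ∀ L : Subgroup Ω, Qs ≤ L → L ≤ S → ∀ B : Subgroup (MulAut L), B ≤ E.autGroup L →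
      (∀ β ∈ B, ∀ x : L, (x : Ω) ∈ Qs → β x = x) → IsPGroup p B :=
    fun L hQL hLS B hB hfix => isPGroup_of_fix_hyp hS E hQsT hcQs hQL hLS B hB hfix
  have hRn : E.IsNormal (Qs ⊔ centralizerIn S Qs) := sup_centralizer_isNormal hS E hE hQsn hker
  have hRS : Qs ⊔ centralizerIn S Qs ≤ S := hRn.1
  have h3 : IsPSolvable p ↥(E.autGroup (Qs ⊔ centralizerIn S Qs)) :=
    isPSolvable_autGroup_of_ker hS E le_sup_left hRS (stronglyClosed_of_isNormal E hQsn)
      (fun B hB hfix => hker _ le_sup_left hRS B hB hfix) h2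
  refine ⟨_, hRn, isCentric_of_stronglyClosed E (stronglyClosed_of_isNormal E hRn) ?_, h3⟩
  intro x hx
  exact le_sup_right (a := Qs)
    ⟨hx.1, Subgroup.centralizer_le (show (Qs : Set Ω) ⊆ ↑(Qs ⊔ centralizerIn S Qs) from
      (le_sup_left : Qs ≤ Qs ⊔ centralizerIn S Qs)) hx.2⟩

/-- Lemma D, down. -/
theorem ps_pResidual_of_ps [Finite S] (hS : IsPGroup p S) (E : FusionSystem S) (hE : E.IsSaturated p)
    (D : FusionSystem (E.hyperfocalSubgroup p)) (hD : E.IsPResidual p D) (h : PS p E) : PS p D := by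
  obtain ⟨Q, hQn, hQc, hQs⟩ := h
  have hT : E.StronglyClosed (E.hyperfocalSubgroup p) := Cfsg.Agent.S5124.result p hS E hE
  have hTS : E.hyperfocalSubgroup p ≤ S := hT.1
  haveI : Finite ↥(E.hyperfocalSubgroup p) := Cfsg.Agent.Lib.Helper87.finite_of_le hTS
  have hTp : IsPGroup p ↥(E.hyperfocalSubgroup p) := hS.to_le hTS
  have hDE : D.IsSubsystemOf E := hD.2.1
  have hcQ : centralizerIn S Q ≤ Q := hQc.2 Q ⟨Q.subtype, Cfsg.Agent.Lib.Helper87.subtype_mem E hQn.1,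
    Subgroup.range_subtype Q⟩
  have hQ0E : E.IsNormal (Q ⊓ E.hyperfocalSubgroup p) := isNormal_inf hS E hE hQn hT
  have hQ0T : Q ⊓ E.hyperfocalSubgroup p ≤ E.hyperfocalSubgroup p := inf_le_right
  have hQ0D : D.IsNormal (Q ⊓ E.hyperfocalSubgroup p) :=
    isNormal_of_subsystem hS E hE hTS D hD.1 hDE hQ0T hQ0E
  have h1 : IsPSolvable p ↥(E.autGroup (Q ⊓ E.hyperfocalSubgroup p)) :=
    isPSolvable_autGroup_of_surj E inf_le_left hQn (stronglyClosed_of_isNormal E hQ0E) hQs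
  have h2 : IsPSolvable p ↥(D.autGroup (Q ⊓ E.hyperfocalSubgroup p)) :=
    isPSolvable_autGroup_of_subsystem D E hDE _ h1
  have hker : ∀ L : Subgroup Ω, Q ⊓ E.hyperfocalSubgroup p ≤ L → L ≤ E.hyperfocalSubgroup p →
      ∀ B : Subgroup (MulAut L), B ≤ D.autGroup L →
      (∀ β ∈ B, ∀ x : L, (x : Ω) ∈ Q ⊓ E.hyperfocalSubgroup p → β x = x) → IsPGroup p B :=
    fun L hQL hL B hB hfix => isPGroup_of_fix_inter hS E hE D hDE hQn hcQ hQL hL B hB hfix
  have hRn := sup_centralizer_isNormal hTp D hD.1 hQ0D hker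
  have hRT := hRn.1
  have h3 := isPSolvable_autGroup_of_ker hTp D le_sup_left hRT (stronglyClosed_of_isNormal D hQ0D)
      (fun B hB hfix => hker _ le_sup_left hRT B hB hfix) h2
  refine ⟨_, hRn, isCentric_of_stronglyClosed D (stronglyClosed_of_isNormal D hRn) ?_, h3⟩
  intro x hx
  exact le_sup_right (a := Q ⊓ E.hyperfocalSubgroup p)
    ⟨hx.1, Subgroup.centralizer_le (show ((Q ⊓ E.hyperfocalSubgroup p : Subgroup Ω) : Set Ω) ⊆
      ↑((Q ⊓ E.hyperfocalSubgroup p) ⊔ centralizerIn (E.hyperfocalSubgroup p)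
        (Q ⊓ E.hyperfocalSubgroup p)) from
      (le_sup_left : Q ⊓ E.hyperfocalSubgroup p ≤ _)) hx.2⟩

/-- Lemma H. -/
theorem hyperfocal_ne [Finite S] (hS : IsPGroup p S) (E : FusionSystem S) (hE : E.IsSaturated p)
    (hSne : S ≠ ⊥) (hself : E.IsPPrimeResidual p E) (h : PS p E) : E.hyperfocalSubgroup p ≠ S := by
  intro hyp
  obtain ⟨Q, hQn, hQc, hQs⟩ := h
  haveI : Finite ↥Q := Cfsg.Agent.Lib.Helper87.finite_of_le hQn.1
  have hA : Subsingleton ↥(E.autGroup Q) :=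
    subsingleton_of_perfect hQs (pResidual_autGroup_eq_top hS E hE hQn hyp)
      (pElements_autGroup_eq_top hS E hE hself hQn)
  have := hyperfocal_eq_bot_of_subsingleton hS E hE hQn hQc hA
  exact hSne (hyp ▸ this)


/-- main, forward. -/
theorem ps_of_series {S : Subgroup Ω} (F : FusionSystem S) (q : ℕ)
    (h : F.HasTerminatingResidualSeries q) :
    ∀ [Fact q.Prime] [Finite S], IsPGroup q S → F.IsSaturated q → PS q F := by
  induction h with
  | trivial F q hS =>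
    intro _ _ _ _
    exact ps_of_eq_bot F hS
  | step F E q D hE hD _ ih =>
    intro _ _ hS hF
    have hTS : E.hyperfocalSubgroup q ≤ _ := (Cfsg.Agent.S5124.result q hS E hE.1).1
    haveI : Finite ↥(E.hyperfocalSubgroup q) := Cfsg.Agent.Lib.Helper87.finite_of_le hTS
    have hPD : PS q D := ih (hS.to_le hTS) hD.1
    exact ps_of_residual hS F E hF hE (ps_of_pResidual hS E hE.1 D hD hPD)

/-- main, backward. -/
theorem series_of_ps (n : ℕ) : ∀ {S : Subgroup Ω} [Finite S], Nat.card S = n → IsPGroup p S →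
    ∀ F : FusionSystem S, F.IsSaturated p → PS p F → F.HasTerminatingResidualSeries p := by
  induction n using Nat.strong_induction_on with
  | _ n ih =>
    intro S _ hn hS F hF hP
    by_cases hbot : S = ⊥
    · exact HasTerminatingResidualSeries.trivial F p hbot
    obtain ⟨E, hE⟩ := Cfsg.Agent.S5140.result p hS F hF
    have hT := Cfsg.Agent.S5124.result p hS E hE.1
    have hTS : E.hyperfocalSubgroup p ≤ S := hT.1
    obtain ⟨D, ⟨hDs, hDi⟩, -⟩ :=
      Cfsg.Agent.S5113.result p hS E hE.1 (E.hyperfocalSubgroup p) hTS le_rfl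
    have hD : E.IsPResidual p D := ⟨hDs, hDi⟩
    have hPE : PS p E := ps_residual_of_ps hS F E hF hE hP
    have hPD : PS p D := ps_pResidual_of_ps hS E hE.1 D hD hPE
    have hne : E.hyperfocalSubgroup p ≠ S :=
      hyperfocal_ne hS E hE.1 hbot (residual_self F E hE) hPE
    haveI : Finite ↥(E.hyperfocalSubgroup p) := Cfsg.Agent.Lib.Helper87.finite_of_le hTS
    have hlt : Nat.card ↥(E.hyperfocalSubgroup p) < n := by
      rw [← hn]
      exact lt_of_not_ge (fun hge => hne (Subgroup.eq_of_le_of_card_ge hTS hge))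
    exact HasTerminatingResidualSeries.step F E p D hE hD
      (ih _ hlt rfl (hS.to_le hTS) D hDs hPD)


/-- S5156 -/
theorem trs_main {Ω : Type u} [Group Ω] {S : Subgroup Ω} [Finite S] (p : ℕ) [Fact p.Prime]
    (hS : IsPGroup p S) (F : Cfsg.FusionSystem S) (hF : F.IsSaturated p) :
    F.HasTerminatingResidualSeries p ↔ (F.IsConstrained p ∧
      ∀ (G : Type u) [Group G] (ι : S →* G), F.IsModel p G ι → Cfsg.IsPSolvable p G) := by
  rw [← ps_iff_model hS F hF]
  exact ⟨fun h => ps_of_series F p h hS hF, fun h => series_of_ps _ rfl hS F hF h⟩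

end Cfsg.Agent.Lib.Helper88.Trs
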