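import Cfsg.Prelude.Def_FusionSystem
import Cfsg.Agent.Lib.Helper87.FusionBasic
import Cfsg.Agent.Lib.Helper88.OrbitSum

set_option autoImplicit false

/-!
# Twisted diagonal subgroups of `S × S`

The graph of a map `ψ : Q → S` of a fusion system over `S` is a subgroup of `S × S`; these are the
point stabilizers of the bisets generated by the fusion system.
-/

namespace Cfsg.Agent.Lib.Helper88

open Cfsg Cfsg.FusionSystem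
open Cfsg.Agent.Lib.Helper87 (restrict_mem hom_le hom_mem_S isConj_refl isConj_symm isConj_trans
  inv_exists comp_mem')

variable {Ω : Type*} [Group Ω] {S : Subgroup Ω}

/-- `D ≤ S × S` is the graph of `ψ : Q →* Ω` -/
def IsGraphOf (D : Subgroup (S × S)) {Q : Subgroup Ω} (ψ : Q →* Ω) : Prop :=
  ∀ g : S × S, g ∈ D ↔ ∃ q : Q, (q : Ω) = g.1 ∧ ψ q = g.2

/-- the first projection of `D ≤ S × S`, as a subgroup of `Ω` -/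
def pr1 (D : Subgroup (S × S)) : Subgroup Ω := (D.map (MonoidHom.fst S S)).map S.subtype

theorem mem_pr1 {D : Subgroup (S × S)} {x : Ω} : x ∈ pr1 D ↔ ∃ g ∈ D, ((g : S × S).1 : Ω) = x := by
  constructor
  · rintro ⟨_, ⟨g, hg, rfl⟩, rfl⟩
    exact ⟨g, hg, rfl⟩
  · rintro ⟨g, hg, rfl⟩
    exact ⟨_, ⟨g, hg, rfl⟩, rfl⟩

theorem pr1_le (D : Subgroup (S × S)) : pr1 D ≤ S := by
  intro x hx
  obtain ⟨g, -, rfl⟩ := mem_pr1.mp hx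
  exact g.1.2

theorem pr1_mono {D D' : Subgroup (S × S)} (h : D ≤ D') : pr1 D ≤ pr1 D' := by
  intro x hx
  obtain ⟨g, hg, rfl⟩ := mem_pr1.mp hx
  exact mem_pr1.mpr ⟨g, h hg, rfl⟩

theorem IsGraphOf.pr1_eq {D : Subgroup (S × S)} {Q : Subgroup Ω} {ψ : Q →* Ω}
    (h : IsGraphOf D ψ) (hQ : Q ≤ S) (hψ : ∀ x, ψ x ∈ S) : pr1 D = Q := by
  ext x
  rw [mem_pr1]
  constructor
  · rintro ⟨g, hg, rfl⟩
    obtain ⟨q, hq, -⟩ := (h g).mp hg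
    rw [← hq]
    exact q.2
  · intro hx
    exact ⟨(⟨x, hQ hx⟩, ⟨ψ ⟨x, hx⟩, hψ _⟩), (h _).mpr ⟨⟨x, hx⟩, rfl, rfl⟩, rfl⟩

/-- the graph of `ψ` -/
def tw {Q : Subgroup Ω} (ψ : Q →* Ω) (hQ : Q ≤ S) (hψ : ∀ x, ψ x ∈ S) : Subgroup (S × S) :=
  ((Subgroup.inclusion hQ).prod (ψ.codRestrict S hψ)).range

theorem isGraphOf_tw {Q : Subgroup Ω} (ψ : Q →* Ω) (hQ : Q ≤ S) (hψ : ∀ x, ψ x ∈ S) :
    IsGraphOf (tw ψ hQ hψ) ψ := by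
  intro g
  constructor
  · rintro ⟨q, rfl⟩
    exact ⟨q, rfl, rfl⟩
  · rintro ⟨q, h1, h2⟩
    refine ⟨q, ?_⟩
    apply Prod.ext
    · exact Subtype.ext h1
    · exact Subtype.ext h2

/-- `D` is the graph of a map of the fusion system -/
def InTw (F : FusionSystem S) (D : Subgroup (S × S)) : Prop :=
  ∃ (Q : Subgroup Ω) (ψ : Q →* Ω), ψ ∈ F.Hom Q ∧ IsGraphOf D ψ

theorem inTw_tw (F : FusionSystem S) {Q : Subgroup Ω} {ψ : Q →* Ω} (hψ : ψ ∈ F.Hom Q) :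
    InTw F (tw ψ (hom_le F hψ) (hom_mem_S F hψ)) :=
  ⟨Q, ψ, hψ, isGraphOf_tw ψ _ _⟩

theorem IsGraphOf.card_eq {D : Subgroup (S × S)} {Q : Subgroup Ω} {ψ : Q →* Ω}
    (h : IsGraphOf D ψ) (hQ : Q ≤ S) (hψ : ∀ x, ψ x ∈ S) : Nat.card D = Nat.card Q := by
  have hmem : ∀ g : D, ((g.1.1 : S) : Ω) ∈ Q := by
    intro g
    obtain ⟨q, hq, -⟩ := (h g.1).mp g.2
    rw [← hq]
    exact q.2
  refine Nat.card_congr ⟨fun g => ⟨g.1.1, hmem g⟩, fun q => ⟨(⟨q, hQ q.2⟩, ⟨ψ q, hψ q⟩), ?_⟩,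
    fun g => ?_, fun q => ?_⟩
  · exact (h _).mpr ⟨q, rfl, rfl⟩
  · obtain ⟨q, hq1, hq2⟩ := (h g.1).mp g.2
    have e : (⟨g.1.1, hmem g⟩ : Q) = q := Subtype.ext hq1.symm
    apply Subtype.ext
    apply Prod.ext
    · rfl
    · apply Subtype.ext
      show ψ ⟨g.1.1, hmem g⟩ = g.1.2
      rw [e]
      exact hq2
  · rfl

theorem InTw.card_eq {F : FusionSystem S} {D : Subgroup (S × S)} (h : InTw F D) :
    Nat.card D = Nat.card (pr1 D) := by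
  obtain ⟨Q, ψ, hψ, hD⟩ := h
  rw [hD.pr1_eq (hom_le F hψ) (hom_mem_S F hψ)]
  exact hD.card_eq (hom_le F hψ) (hom_mem_S F hψ)

/-- subgroups of graphs are graphs -/
theorem InTw.mono {F : FusionSystem S} {D D₀ : Subgroup (S × S)} (h : InTw F D) (hle : D₀ ≤ D) :
    InTw F D₀ := by
  obtain ⟨Q, ψ, hψ, hD⟩ := h
  have hQ := hom_le F hψ
  have hle' : pr1 D₀ ≤ Q := by
    rw [← hD.pr1_eq hQ (hom_mem_S F hψ)]
    exact pr1_mono hle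
  refine ⟨pr1 D₀, ψ.comp (Subgroup.inclusion hle'), restrict_mem F hψ hle', fun g => ?_⟩
  constructor
  · intro hg
    obtain ⟨q, hq1, hq2⟩ := (hD g).mp (hle hg)
    have hq0 : (q : Ω) ∈ pr1 D₀ := mem_pr1.mpr ⟨g, hg, hq1.symm⟩
    refine ⟨⟨q, hq0⟩, hq1, ?_⟩
    rw [← hq2]
    rfl
  · rintro ⟨q, hq1, hq2⟩
    obtain ⟨g₀, hg₀, hg₀1⟩ := mem_pr1.mp q.2
    obtain ⟨q', hq'1, hq'2⟩ := (hD g₀).mp (hle hg₀)
    have e1 : q' = Subgroup.inclusion hle' q := Subtype.ext (by rw [hq'1, hg₀1]; rfl)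
    have e2 : g = g₀ := by
      apply Prod.ext
      · exact Subtype.ext (by rw [← hq1, hg₀1])
      · apply Subtype.ext
        rw [← hq2, ← hq'2, e1]
        rfl
    rw [e2]
    exact hg₀

/-- transport of a graph along two maps of the system -/
theorem InTw.transport (F : FusionSystem S) {D D' : Subgroup (S × S)} {Q : Subgroup Ω}
    {ψ : Q →* Ω} (hψ : ψ ∈ F.Hom Q) (hD : IsGraphOf D ψ) {A B : Subgroup Ω} {α : A →* Ω}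
    {β : B →* Ω} (hα : α ∈ F.Hom A) (hβ : β ∈ F.Hom B) (hQA : Q ≤ A) (hQB : ∀ q : Q, ψ q ∈ B)
    (hD' : ∀ g' : S × S, g' ∈ D' ↔
      ∃ q : Q, α ⟨q, hQA q.2⟩ = g'.1 ∧ β ⟨ψ q, hQB q⟩ = g'.2) :
    InTw F D' ∧ F.IsConj (pr1 D) (pr1 D') := by
  have hα₀ : α.comp (Subgroup.inclusion hQA) ∈ F.Hom Q := restrict_mem F hα hQA
  obtain ⟨ρ, hρ, hρinv, hρr⟩ := inv_exists F hα₀ rfl
  have hρQ : ∀ y, ρ y ∈ Q := fun y => hρr.le ⟨y, rfl⟩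
  obtain ⟨χ₁, hχ₁, hχ₁e⟩ := comp_mem' F hρ hψ hρQ
  have hχ₁B : ∀ y, χ₁ y ∈ B := fun y => by rw [hχ₁e]; exact hQB _
  obtain ⟨χ₂, hχ₂, hχ₂e⟩ := comp_mem' F hχ₁ hβ hχ₁B
  have key : ∀ q : Q, χ₂ ⟨α ⟨q, hQA q.2⟩, ⟨q, rfl⟩⟩ = β ⟨ψ q, hQB q⟩ := by
    intro q
    rw [hχ₂e]
    congr 1
    apply Subtype.ext
    show χ₁ _ = ψ q
    rw [hχ₁e]
    congr 1
    apply Subtype.ext
    exact hρinv q ⟨q, rfl⟩
  have hgraph : IsGraphOf D' χ₂ := by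
    intro g'
    rw [hD']
    constructor
    · rintro ⟨q, h1, h2⟩
      exact ⟨⟨α ⟨q, hQA q.2⟩, ⟨q, rfl⟩⟩, h1, by rw [key]; exact h2⟩
    · rintro ⟨⟨_, q, rfl⟩, h1, h2⟩
      exact ⟨q, h1, by rw [← key]; exact h2⟩
  refine ⟨⟨_, χ₂, hχ₂, hgraph⟩, ?_⟩
  rw [hD.pr1_eq (hom_le F hψ) (hom_mem_S F hψ), hgraph.pr1_eq (hom_le F hχ₂) (hom_mem_S F hχ₂)]
  exact ⟨_, hα₀, rfl⟩

/-- conjugates of graphs are graphs -/
theorem InTw.conj {F : FusionSystem S} {D : Subgroup (S × S)} (h : InTw F D) (g : S × S) :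
    InTw F (cjs g D) ∧ F.IsConj (pr1 D) (pr1 (cjs g D)) := by
  obtain ⟨Q, ψ, hψ, hD⟩ := h
  have hQ := hom_le F hψ
  have hψS := hom_mem_S F hψ
  refine InTw.transport F hψ hD (F.conj_mem (le_refl S) g.1.2) (F.conj_mem (le_refl S) g.2.2) hQ hψS
    fun g' => ?_
  rw [mem_cjs, hD]
  constructor
  · rintro ⟨q, h1, h2⟩
    refine ⟨q, ?_, ?_⟩
    · show (g.1 : Ω) * q * (g.1 : Ω)⁻¹ = g'.1
      rw [h1]
      show (g.1 : Ω) * ((g.1 : Ω)⁻¹ * g'.1 * g.1) * (g.1 : Ω)⁻¹ = g'.1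
      group
    · show (g.2 : Ω) * ψ q * (g.2 : Ω)⁻¹ = g'.2
      rw [h2]
      show (g.2 : Ω) * ((g.2 : Ω)⁻¹ * g'.2 * g.2) * (g.2 : Ω)⁻¹ = g'.2
      group
  · rintro ⟨q, h1, h2⟩
    refine ⟨q, ?_, ?_⟩
    · show (q : Ω) = (g.1 : Ω)⁻¹ * g'.1 * g.1
      rw [← h1]
      show (q : Ω) = (g.1 : Ω)⁻¹ * ((g.1 : Ω) * q * (g.1 : Ω)⁻¹) * g.1
      group
    · show ψ q = (g.2 : Ω)⁻¹ * g'.2 * g.2
      rw [← h2]
      show ψ q = (g.2 : Ω)⁻¹ * ((g.2 : Ω) * ψ q * (g.2 : Ω)⁻¹) * g.2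
      group

end Cfsg.Agent.Lib.Helper88
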