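import Cfsg.Agent.Lib.Helper88.PowerTrick

set_option autoImplicit false

/-!
# Averaging a map of bisets to a homomorphism

Let `S` be a finite `p`-group with homomorphisms `ι₁ : S → G₁` and `ι₂ : S → G₂`, the image of `ι₁` of index
prime to `p`.  Let `N₁`, `N₂` be normal subgroups inside the images of `S` which correspond to each other, with
`C_{G₂}(N₂) ≤ N₂`.  A map `σ : G₁ → G₂` with `σ(ι₁(a) g ι₁(b)) = ι₂(a) σ(g) ι₂(b)` is averaged to a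
homomorphism `φ : G₁ → G₂` with `φ ∘ ι₁ = ι₂`.
-/

namespace Cfsg.Agent.Lib.Helper88

open scoped BigOperators

section

variable {S G₁ G₂ : Type*} [Group S] [Group G₁] [Group G₂]
  (ι₁ : S →* G₁) (ι₂ : S →* G₂)
  (N₁ : Subgroup G₁) [hN₁n : N₁.Normal] (N₂ : Subgroup G₂) [hN₂n : N₂.Normal]
  (hN₁ : N₁ ≤ ι₁.range) (hN₂ : N₂ ≤ ι₂.range)
  (hN : ∀ s : S, ι₁ s ∈ N₁ ↔ ι₂ s ∈ N₂)
  (σ : G₁ → G₂) (hσ : ∀ (a b : S) (g : G₁), σ (ι₁ a * g * ι₁ b) = ι₂ a * σ g * ι₂ b)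

include hσ in
theorem sigma_left (a : S) (g : G₁) : σ (ι₁ a * g) = ι₂ a * σ g := by
  have h := hσ a 1 g
  rwa [map_one, map_one, mul_one, mul_one] at h

include hσ in
theorem sigma_right (b : S) (g : G₁) : σ (g * ι₁ b) = σ g * ι₂ b := by
  have h := hσ 1 b g
  rwa [map_one, map_one, one_mul, one_mul] at h

omit hN₂n in
include hN₁n hN₁ hN hσ in
/-- `σ(y)` acts on `N₂` as `y` acts on `N₁` -/
theorem sigma_conj (y : G₁) (s : S) (hs : ι₂ s ∈ N₂) :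
    ∃ s' : S, ι₂ s' ∈ N₂ ∧ y * ι₁ s' = ι₁ s * y ∧ σ y * ι₂ s' = ι₂ s * σ y := by
  have h1 : ι₁ s ∈ N₁ := (hN s).mpr hs
  have h2 : y⁻¹ * ι₁ s * y⁻¹⁻¹ ∈ N₁ := hN₁n.conj_mem _ h1 y⁻¹
  obtain ⟨s', hs'⟩ := hN₁ h2
  have h3 : y * ι₁ s' = ι₁ s * y := by
    rw [hs']
    group
  refine ⟨s', (hN s').mp (hs' ▸ h2), h3, ?_⟩
  rw [← sigma_right ι₁ ι₂ σ hσ, ← sigma_left ι₁ ι₂ σ hσ, h3]

/-- the defect of `σ` -/
def kap (x g : G₁) : G₂ := σ (x * g) * (σ g)⁻¹ * (σ x)⁻¹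

include hσ in
theorem kap_right (x g : G₁) (s : S) : kap σ x (g * ι₁ s) = kap σ x g := by
  unfold kap
  rw [← mul_assoc, sigma_right ι₁ ι₂ σ hσ, sigma_right ι₁ ι₂ σ hσ]
  group

include hN₁n hN₁ hN₂ hN hσ in
theorem kap_mem (x g : G₁) : kap σ x g ∈ Subgroup.centralizer (N₂ : Set G₂) := by
  rw [Subgroup.mem_centralizer_iff]
  intro n hn
  obtain ⟨s, rfl⟩ := hN₂ hn
  obtain ⟨s₁, hs₁, h1, h1'⟩ := sigma_conj ι₁ ι₂ N₁ N₂ hN₁ hN σ hσ x s hn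
  obtain ⟨s₂, hs₂, h2, h2'⟩ := sigma_conj ι₁ ι₂ N₁ N₂ hN₁ hN σ hσ g s₁ hs₁
  have h3 : σ (x * g) * ι₂ s₂ = ι₂ s * σ (x * g) := by
    rw [← sigma_right ι₁ ι₂ σ hσ, ← sigma_left ι₁ ι₂ σ hσ]
    congr 1
    rw [mul_assoc, h2, ← mul_assoc, h1, mul_assoc]
  unfold kap
  have e1 : (σ g)⁻¹ * ι₂ s₁ = ι₂ s₂ * (σ g)⁻¹ := by
    rw [eq_mul_inv_iff_mul_eq, mul_assoc, ← h2', ← mul_assoc, inv_mul_cancel, one_mul]
  have e2 : (σ x)⁻¹ * ι₂ s = ι₂ s₁ * (σ x)⁻¹ := by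
    rw [eq_mul_inv_iff_mul_eq, mul_assoc, ← h1', ← mul_assoc, inv_mul_cancel, one_mul]
  calc ι₂ s * (σ (x * g) * (σ g)⁻¹ * (σ x)⁻¹)
      = (ι₂ s * σ (x * g)) * (σ g)⁻¹ * (σ x)⁻¹ := by group
    _ = σ (x * g) * (ι₂ s₂ * (σ g)⁻¹) * (σ x)⁻¹ := by rw [← h3]; group
    _ = σ (x * g) * (σ g)⁻¹ * (ι₂ s₁ * (σ x)⁻¹) := by rw [← e1]; group
    _ = σ (x * g) * (σ g)⁻¹ * (σ x)⁻¹ * ι₂ s := by rw [← e2]; group

theorem kap_mul (x y g : G₁) :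
    kap σ (x * y) g = kap σ x (y * g) * (σ x * kap σ y g * (σ x)⁻¹) * (kap σ x y)⁻¹ := by
  unfold kap
  rw [mul_assoc x y g]
  group

end

section main

variable {S G₁ G₂ : Type*} [Group S] [Group G₁] [Group G₂] [Finite S] [Finite G₁]

/-- **Averaging.** -/
theorem exists_hom_of_bisetMap {p : ℕ} [Fact p.Prime] (hS : IsPGroup p S)
    (ι₁ : S →* G₁) (ι₂ : S →* G₂) (hidx : ¬ p ∣ ι₁.range.index)
    (N₁ : Subgroup G₁) [hN₁n : N₁.Normal] (N₂ : Subgroup G₂) [hN₂n : N₂.Normal]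
    (hN₁ : N₁ ≤ ι₁.range) (hN₂ : N₂ ≤ ι₂.range)
    (hN : ∀ s : S, ι₁ s ∈ N₁ ↔ ι₂ s ∈ N₂)
    (hc₂ : Subgroup.centralizer (N₂ : Set G₂) ≤ N₂)
    (σ : G₁ → G₂) (hσ : ∀ (a b : S) (g : G₁), σ (ι₁ a * g * ι₁ b) = ι₂ a * σ g * ι₂ b) :
    ∃ φ : G₁ →* G₂, (∀ s : S, φ (ι₁ s) = ι₂ s) ∧
      ∀ g : G₁, ∃ z ∈ Subgroup.centralizer (N₂ : Set G₂), φ g = z * σ g := by
  classical
  have hp : p.Prime := Fact.out
  set Z : Subgroup G₂ := Subgroup.centralizer (N₂ : Set G₂) with hZdef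
  have hZn : Z.Normal := Subgroup.normal_centralizer
  letI instZ : CommGroup Z :=
    { (inferInstance : Group Z) with
      mul_comm := by
        intro a b
        apply Subtype.ext
        have ha : (a : G₂) ∈ Subgroup.centralizer (N₂ : Set G₂) := a.2
        rw [Subgroup.mem_centralizer_iff] at ha
        exact (ha b (hc₂ b.2)).symm }
  -- exponent of `Z`
  have hexp : ∀ z : Z, z ^ Nat.card S = 1 := by
    intro z
    obtain ⟨s, hs⟩ := hN₂ (hc₂ z.2)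
    apply Subtype.ext
    rw [Subgroup.coe_pow, ← hs, ← map_pow, pow_card_eq_one', map_one]
    rfl
  set n := ι₁.range.index with hn
  have hcop : n.Coprime (Nat.card S) := by
    obtain ⟨k, hk⟩ := IsPGroup.iff_card.mp hS
    rw [hk]
    exact Nat.Coprime.pow_right k ((Nat.Prime.coprime_iff_not_dvd hp).mpr hidx).symm
  obtain ⟨m, hm⟩ : ∃ m : ℕ, n * m ≡ 1 [MOD Nat.card S] := by
    by_cases h1 : Nat.card S = 1
    · rw [h1]
      exact ⟨0, Nat.modEq_one⟩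
    · have h2 : 1 < Nat.card S := by
        have := Nat.card_pos (α := S)
        omega
      obtain ⟨m, hm⟩ := Nat.exists_mul_mod_eq_one_of_coprime hcop h2
      refine ⟨m, ?_⟩
      show n * m % Nat.card S = 1 % Nat.card S
      rw [hm.2, Nat.mod_eq_of_lt h2]
  have hpow : ∀ z : Z, z ^ (n * m) = z := fun z => pow_eq_self_of_modEq (hexp z) hm
  -- the defect, with values in `Z`
  let κ : G₁ → G₁ → Z := fun x g => ⟨kap σ x g, kap_mem ι₁ ι₂ N₁ N₂ hN₁ hN₂ hN σ hσ x g⟩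
  letI : Fintype (G₁ ⧸ ι₁.range) := Fintype.ofFinite _
  let K : G₁ → Z := fun x => ∏ q : G₁ ⧸ ι₁.range, κ x q.out
  have hκr : ∀ (x g : G₁) (s : S), κ x (g * ι₁ s) = κ x g := fun x g s =>
    Subtype.ext (kap_right ι₁ ι₂ σ hσ x g s)
  -- reindexing
  have hre : ∀ x y : G₁, ∏ q : G₁ ⧸ ι₁.range, κ x (y * q.out) = K x := by
    intro x y
    show _ = ∏ q : G₁ ⧸ ι₁.range, κ x q.out
    rw [← Equiv.prod_comp (MulAction.toPerm y : Equiv.Perm (G₁ ⧸ ι₁.range))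
      (fun q : G₁ ⧸ ι₁.range => κ x q.out)]
    apply Finset.prod_congr rfl
    intro q _
    have hq : (MulAction.toPerm y : Equiv.Perm (G₁ ⧸ ι₁.range)) q =
        ((y * q.out : G₁) : G₁ ⧸ ι₁.range) := by
      show y • q = _
      conv_lhs => rw [← QuotientGroup.out_eq' q]
      rfl
    obtain ⟨t, ht⟩ := QuotientGroup.mk_out_eq_mul ι₁.range (y * q.out)
    obtain ⟨s, hs⟩ := t.2
    rw [hq, ht, ← hs, hκr]
  have hcard : Fintype.card (G₁ ⧸ ι₁.range) = n := by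
    rw [hn, Subgroup.index, Nat.card_eq_fintype_card]
  have hKmul : ∀ x y : G₁, K (x * y) =
      K x * MulAut.conjNormal (σ x) (K y) * ((κ x y)⁻¹) ^ n := by
    intro x y
    have h1 : ∀ q : G₁ ⧸ ι₁.range, κ (x * y) q.out =
        κ x (y * q.out) * MulAut.conjNormal (σ x) (κ y q.out) * (κ x y)⁻¹ := by
      intro q
      apply Subtype.ext
      exact kap_mul σ x y q.out
    show ∏ q : G₁ ⧸ ι₁.range, κ (x * y) q.out = _
    rw [Finset.prod_congr rfl (fun q _ => h1 q), Finset.prod_mul_distrib, Finset.prod_mul_distrib,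
      hre x y, Finset.prod_const, Finset.card_univ, hcard, map_prod]
  -- the homomorphism
  have hφmul : ∀ x y : G₁, (((K (x * y)) ^ m : Z) : G₂) * σ (x * y) =
      ((((K x) ^ m : Z) : G₂) * σ x) * ((((K y) ^ m : Z) : G₂) * σ y) := by
    intro x y
    have h2 : (K (x * y)) ^ m = (K x) ^ m * MulAut.conjNormal (σ x) ((K y) ^ m) * (κ x y)⁻¹ := by
      rw [hKmul, mul_pow, mul_pow, ← pow_mul, hpow, map_pow]
    rw [h2]
    have h3 : (((K x) ^ m * MulAut.conjNormal (σ x) ((K y) ^ m) * (κ x y)⁻¹ : Z) : G₂) =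
        (((K x) ^ m : Z) : G₂) * (σ x * (((K y) ^ m : Z) : G₂) * (σ x)⁻¹) *
          (σ (x * y) * (σ y)⁻¹ * (σ x)⁻¹)⁻¹ := rfl
    rw [h3]
    group
  let φ : G₁ →* G₂ := MonoidHom.mk' (fun x => (((K x) ^ m : Z) : G₂) * σ x) hφmul
  refine ⟨φ, ?_, fun g => ⟨(((K g) ^ m : Z) : G₂), ((K g) ^ m : Z).2, rfl⟩⟩
  intro s
  -- the value on `S`
  have h1 : ∀ g : G₁, kap σ (ι₁ s) g = ι₂ s * (σ (ι₁ s))⁻¹ := by
    intro g
    unfold kap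
    rw [sigma_left ι₁ ι₂ σ hσ]
    group
  have hz : ι₂ s * (σ (ι₁ s))⁻¹ ∈ Z := by
    rw [← h1 1]
    exact kap_mem ι₁ ι₂ N₁ N₂ hN₁ hN₂ hN σ hσ _ _
  have h2 : K (ι₁ s) = (⟨ι₂ s * (σ (ι₁ s))⁻¹, hz⟩ : Z) ^ n := by
    show ∏ q : G₁ ⧸ ι₁.range, κ (ι₁ s) q.out = _
    rw [← hcard, ← Finset.card_univ, ← Finset.prod_const]
    apply Finset.prod_congr rfl
    intro q _
    exact Subtype.ext (h1 q.out)
  show (((K (ι₁ s)) ^ m : Z) : G₂) * σ (ι₁ s) = ι₂ s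
  rw [h2, ← pow_mul, hpow]
  show ι₂ s * (σ (ι₁ s))⁻¹ * σ (ι₁ s) = ι₂ s
  group

end main

end Cfsg.Agent.Lib.Helper88
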